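import Mathlib.GroupTheory.Sylow
import Mathlib.GroupTheory.Index
import Mathlib.Algebra.Group.End

set_option autoImplicit false

namespace Cfsg.Agent.Lib.Helper33

open scoped Pointwise

variable {G : Type*} [Group G]

/-- The conjugate subgroup `g H g⁻¹`, in the form used by the statements. -/
def cj (g : G) (H : Subgroup G) : Subgroup G := H.map (MulAut.conj g).toMonoidHom

theorem cj_def (g : G) (H : Subgroup G) : cj g H = H.map (MulAut.conj g).toMonoidHom := rfl

theorem mem_cj' {g x : G} {H : Subgroup G} : x ∈ cj g H ↔ ∃ h ∈ H, g * h * g⁻¹ = x := by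
  simp [cj, Subgroup.mem_map]

theorem mem_cj {g x : G} {H : Subgroup G} : x ∈ cj g H ↔ g⁻¹ * x * g ∈ H := by
  rw [mem_cj']
  constructor
  · rintro ⟨h, hh, rfl⟩
    simpa [mul_assoc] using hh
  · intro h
    exact ⟨_, h, by group⟩

theorem conj_mem_cj {g h : G} {H : Subgroup G} (hh : h ∈ H) : g * h * g⁻¹ ∈ cj g H :=
  mem_cj'.mpr ⟨h, hh, rfl⟩

theorem conj_mem_cj_iff {g h : G} {H : Subgroup G} : g * h * g⁻¹ ∈ cj g H ↔ h ∈ H := by
  rw [mem_cj]
  simp [mul_assoc]

@[simp] theorem cj_one (H : Subgroup G) : cj 1 H = H := by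
  ext x; simp [mem_cj]

theorem cj_mul (g h : G) (H : Subgroup G) : cj (g * h) H = cj g (cj h H) := by
  ext x; simp [mem_cj, mul_assoc]

@[simp] theorem cj_inv_cj (g : G) (H : Subgroup G) : cj g⁻¹ (cj g H) = H := by
  rw [← cj_mul]; simp

@[simp] theorem cj_cj_inv (g : G) (H : Subgroup G) : cj g (cj g⁻¹ H) = H := by
  rw [← cj_mul]; simp

theorem cj_mono {g : G} {H K : Subgroup G} (h : H ≤ K) : cj g H ≤ cj g K :=
  Subgroup.map_mono h

theorem cj_le_cj_iff {g : G} {H K : Subgroup G} : cj g H ≤ cj g K ↔ H ≤ K := by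
  constructor
  · intro h
    have := cj_mono (g := g⁻¹) h
    rwa [cj_inv_cj, cj_inv_cj] at this
  · exact cj_mono

theorem cj_le_iff {g : G} {H K : Subgroup G} : cj g H ≤ K ↔ H ≤ cj g⁻¹ K := by
  rw [← cj_le_cj_iff (g := g⁻¹), cj_inv_cj]

theorem le_cj_iff {g : G} {H K : Subgroup G} : H ≤ cj g K ↔ cj g⁻¹ H ≤ K := by
  rw [← cj_le_cj_iff (g := g⁻¹), cj_inv_cj]

theorem cj_lt_cj_iff {g : G} {H K : Subgroup G} : cj g H < cj g K ↔ H < K := by
  rw [lt_iff_le_not_ge, lt_iff_le_not_ge, cj_le_cj_iff, cj_le_cj_iff]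

theorem cj_injective (g : G) : Function.Injective (cj g : Subgroup G → Subgroup G) := by
  intro H K h
  have := congrArg (cj g⁻¹) h
  rwa [cj_inv_cj, cj_inv_cj] at this

theorem cj_eq_iff {g : G} {H K : Subgroup G} : cj g H = K ↔ H = cj g⁻¹ K := by
  constructor
  · rintro rfl; rw [cj_inv_cj]
  · rintro rfl; rw [cj_cj_inv]

theorem cj_eq_smul (g : G) (H : Subgroup G) : cj g H = MulAut.conj g • H := by
  ext x
  rw [mem_cj', Subgroup.mem_pointwise_smul_iff_inv_smul_mem]
  constructor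
  · rintro ⟨h, hh, rfl⟩
    simpa [MulAut.smul_def, mul_assoc] using hh
  · intro h
    refine ⟨_, h, ?_⟩
    simp [MulAut.smul_def, mul_assoc]

theorem cj_eq_self_iff {g : G} {H : Subgroup G} :
    cj g H = H ↔ g ∈ Subgroup.normalizer (H : Set G) := by
  rw [Subgroup.mem_normalizer_iff_map_conj_eq]
  rfl

theorem cj_eq_self_of_mem {g : G} {H : Subgroup G} (hg : g ∈ H) : cj g H = H :=
  cj_eq_self_iff.mpr (Subgroup.le_normalizer hg)

@[simp] theorem cj_bot (g : G) : cj g (⊥ : Subgroup G) = ⊥ := Subgroup.map_bot _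

theorem cj_eq_bot_iff {g : G} {H : Subgroup G} : cj g H = ⊥ ↔ H = ⊥ := by
  rw [cj_eq_iff, cj_bot]

@[simp] theorem cj_top (g : G) : cj g (⊤ : Subgroup G) = ⊤ := by
  ext x; simp [mem_cj]

theorem cj_inf (g : G) (H K : Subgroup G) : cj g (H ⊓ K) = cj g H ⊓ cj g K := by
  ext x; simp only [mem_cj, Subgroup.mem_inf]

theorem cj_sup (g : G) (H K : Subgroup G) : cj g (H ⊔ K) = cj g H ⊔ cj g K :=
  Subgroup.map_sup _ _ _

/-- conjugation as an isomorphism `H ≃* g H g⁻¹`. -/
noncomputable def cjEquiv (g : G) (H : Subgroup G) : H ≃* cj g H :=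
  H.equivMapOfInjective (MulAut.conj g).toMonoidHom
    (show Function.Injective ((MulAut.conj g).toMonoidHom : G → G) from (MulAut.conj g).injective)

theorem coe_cjEquiv (g : G) (H : Subgroup G) (h : H) : (cjEquiv g H h : G) = g * h * g⁻¹ := by
  rfl

theorem card_cj (g : G) (H : Subgroup G) : Nat.card (cj g H) = Nat.card H :=
  (Nat.card_congr (cjEquiv g H).toEquiv).symm

theorem isPGroup_cj {p : ℕ} {g : G} {H : Subgroup G} (h : IsPGroup p H) : IsPGroup p (cj g H) :=
  h.map _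

theorem isPGroup_cj_iff {p : ℕ} {g : G} {H : Subgroup G} : IsPGroup p (cj g H) ↔ IsPGroup p H := by
  constructor
  · intro h
    have := isPGroup_cj (g := g⁻¹) h
    rwa [cj_inv_cj] at this
  · exact isPGroup_cj

theorem normalizer_cj (g : G) (H : Subgroup G) :
    Subgroup.normalizer ((cj g H : Subgroup G) : Set G) = cj g (Subgroup.normalizer (H : Set G)) := by
  ext x
  rw [mem_cj, ← cj_eq_self_iff, ← cj_eq_self_iff]
  rw [show g⁻¹ * x * g = g⁻¹ * (x * g) by group, cj_mul, cj_mul]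
  rw [cj_eq_iff (g := g⁻¹), inv_inv]

theorem centralizer_cj (g : G) (H : Subgroup G) :
    Subgroup.centralizer ((cj g H : Subgroup G) : Set G) = cj g (Subgroup.centralizer (H : Set G)) := by
  ext x
  rw [mem_cj, Subgroup.mem_centralizer_iff, Subgroup.mem_centralizer_iff]
  constructor
  · intro h y hy
    have := h (g * y * g⁻¹) (conj_mem_cj hy)
    calc y * (g⁻¹ * x * g) = g⁻¹ * ((g * y * g⁻¹) * x) * g := by group
      _ = g⁻¹ * (x * (g * y * g⁻¹)) * g := by rw [this]
      _ = g⁻¹ * x * g * y := by group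
  · intro h y hy
    have hy' : g⁻¹ * y * g ∈ H := mem_cj.mp hy
    have := h _ hy'
    calc y * x = g * ((g⁻¹ * y * g) * (g⁻¹ * x * g)) * g⁻¹ := by group
      _ = g * ((g⁻¹ * x * g) * (g⁻¹ * y * g)) * g⁻¹ := by rw [this]
      _ = x * y := by group

theorem relIndex_cj (g : G) (H K : Subgroup G) : (cj g H).relIndex (cj g K) = H.relIndex K := by
  unfold cj
  exact Subgroup.relIndex_map_map_of_injective H K (MulAut.conj g).injective

theorem index_cj (g : G) (H : Subgroup G) : (cj g H).index = H.index := by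
  have := relIndex_cj g H ⊤
  rwa [cj_top, Subgroup.relIndex_top_right, Subgroup.relIndex_top_right] at this

theorem sylow_coe_smul {p : ℕ} (g : G) (P : Sylow p G) :
    ((g • P : Sylow p G) : Subgroup G) = cj g (P : Subgroup G) := by
  rw [cj_eq_smul]
  rfl

theorem sylow_exists_cj {p : ℕ} [Fact p.Prime] [Finite (Sylow p G)] (P Q : Sylow p G) :
    ∃ g : G, cj g (P : Subgroup G) = (Q : Subgroup G) := by
  obtain ⟨g, hg⟩ := MulAction.exists_smul_eq G P Q
  exact ⟨g, by rw [← sylow_coe_smul, hg]⟩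

end Cfsg.Agent.Lib.Helper33
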