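import Mathlib.GroupTheory.Sylow
import Mathlib.GroupTheory.Nilpotent
import Cfsg.Agent.Lib.Helper33.Conj

set_option autoImplicit false

namespace Cfsg.Agent.Lib.Helper33

variable {G : Type*} [Group G]

/-- In a finite `p`-group, proper subgroups grow in their normalizer (inside an ambient group). -/
theorem normalizer_growth [Finite G] {p : ℕ} [Fact p.Prime] {S T : Subgroup G} (hS : IsPGroup p S)
    (hlt : T < S) : T < S ⊓ Subgroup.normalizer (T : Set G) := by
  have hle : T ≤ S := hlt.le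
  have hnil : Group.IsNilpotent S := hS.isNilpotent
  have hnc : NormalizerCondition S := Group.normalizerCondition_of_isNilpotent
  have h1 : T.subgroupOf S < ⊤ := by
    rw [lt_top_iff_ne_top, Ne, Subgroup.subgroupOf_eq_top]
    exact not_le_of_gt hlt
  have h2 := hnc _ h1
  rw [← Subgroup.subgroupOf_normalizer_eq hle] at h2
  refine lt_of_le_of_ne (le_inf hle Subgroup.le_normalizer) ?_
  intro heq
  have h3 : (Subgroup.normalizer (T : Set G)).subgroupOf S ≤ T.subgroupOf S := by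
    intro x hx
    rw [Subgroup.mem_subgroupOf] at hx ⊢
    have : (x : G) ∈ S ⊓ Subgroup.normalizer (T : Set G) := ⟨x.2, hx⟩
    rw [← heq] at this
    exact this
  exact (not_le_of_gt h2) h3

/-- Sylow's theorem relative to a subgroup `K`: a `p`-subgroup `H` of `K` is `K`-conjugate into
any `p`-subgroup `P` of `K` of index prime to `p`. -/
theorem sylow_sub [Finite G] {p : ℕ} [Fact p.Prime] {K P H : Subgroup G} (hPK : P ≤ K)
    (hP : IsPGroup p P) (hPi : ¬ p ∣ P.relIndex K) (hHK : H ≤ K) (hH : IsPGroup p H) :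
    ∃ c ∈ K, cj c H ≤ P := by
  have hP' : IsPGroup p (P.subgroupOf K) := hP.comap_subtype
  have hH' : IsPGroup p (H.subgroupOf K) := hH.comap_subtype
  let P' : Sylow p K := hP'.toSylow hPi
  obtain ⟨Q, hQ⟩ := hH'.exists_le_sylow
  obtain ⟨c, hc⟩ := MulAction.exists_smul_eq K Q P'
  refine ⟨c, c.2, ?_⟩
  intro x hx
  rw [mem_cj] at hx
  -- the element c⁻¹ x c of H lies in Q
  have hxK : (c : G)⁻¹ * x * c ∈ K := hHK hx
  have hmemQ : (⟨(c : G)⁻¹ * x * c, hxK⟩ : K) ∈ Q := hQ (Subgroup.mem_subgroupOf.mpr hx)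
  have hcoe : cj c (Q : Subgroup K) = (P' : Subgroup K) := by
    rw [← sylow_coe_smul, hc]
  have hmemP : c * (⟨(c : G)⁻¹ * x * c, hxK⟩ : K) * c⁻¹ ∈ (P' : Subgroup K) := by
    rw [← hcoe]
    exact conj_mem_cj hmemQ
  have hmemP' : ((c * (⟨(c : G)⁻¹ * x * c, hxK⟩ : K) * c⁻¹ : K) : G) ∈ P :=
    Subgroup.mem_subgroupOf.mp hmemP
  have e : ((c * (⟨(c : G)⁻¹ * x * c, hxK⟩ : K) * c⁻¹ : K) : G) = x := by
    simp [mul_assoc]
  rwa [e] at hmemP'

end Cfsg.Agent.Lib.Helper33
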