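import Cfsg.Prelude.Def_ConjugacyFunctors
import Cfsg.Agent.Lib.Helper33.SylowSub

set_option autoImplicit false

namespace Cfsg.Agent.Lib.Helper33

variable {G : Type*} [Group G]

/-- Right conjugation of a set: `g⁻¹ A g`. -/
def rc (g : G) (A : Set G) : Set G := (fun a => g⁻¹ * a * g) '' A

theorem rc_def (g : G) (A : Set G) : rc g A = (fun a => g⁻¹ * a * g) '' A := rfl

theorem mem_rc {g x : G} {A : Set G} : x ∈ rc g A ↔ g * x * g⁻¹ ∈ A := by
  unfold rc
  constructor
  · rintro ⟨a, ha, rfl⟩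
    simpa [mul_assoc] using ha
  · intro h
    exact ⟨_, h, by group⟩

theorem conj_mem_rc {g a : G} {A : Set G} (ha : a ∈ A) : g⁻¹ * a * g ∈ rc g A := ⟨a, ha, rfl⟩

@[simp] theorem rc_one (A : Set G) : rc 1 A = A := by
  ext x; simp [mem_rc]

theorem rc_mul (g h : G) (A : Set G) : rc (g * h) A = rc h (rc g A) := by
  ext x; simp [mem_rc, mul_assoc]

theorem rc_mono {g : G} {A B : Set G} (h : A ⊆ B) : rc g A ⊆ rc g B := Set.image_mono h

theorem rc_coe (g : G) (H : Subgroup G) : rc g (H : Set G) = ((cj g⁻¹ H : Subgroup G) : Set G) := by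
  ext x
  rw [mem_rc, SetLike.mem_coe, SetLike.mem_coe, mem_cj, inv_inv]

theorem rc_subset_of_mem_normalizer {x : G} {T : Subgroup G} {A : Set G}
    (hx : x ∈ Subgroup.normalizer (T : Set G)) (hA : A ⊆ T) : rc x A ⊆ T := by
  intro y hy
  rw [mem_rc] at hy
  have h1 : x * y * x⁻¹ ∈ T := hA hy
  have := (Subgroup.mem_normalizer_iff.mp hx y).mpr h1
  exact this

theorem closure_rc (g : G) (A : Set G) :
    Subgroup.closure (rc g A) = cj g⁻¹ (Subgroup.closure A) := by
  rw [cj_def, MonoidHom.map_closure]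
  congr 1
  ext x
  simp [rc]

/-- `Reach 𝓕 A g`: the right conjugation of `A` by `g` can be performed step by step inside
normalizers of members of `𝓕`. -/
inductive Reach (𝓕 : Set (Subgroup G)) : Set G → G → Prop
  | nil (A : Set G) : Reach 𝓕 A 1
  | cons (A : Set G) (T : Subgroup G) (x g : G) : T ∈ 𝓕 → x ∈ Subgroup.normalizer (T : Set G) →
      A ⊆ T → Reach 𝓕 (rc x A) g → Reach 𝓕 A (x * g)

variable {𝓕 : Set (Subgroup G)}

theorem Reach.mono {A B : Set G} {g : G} (h : Reach 𝓕 A g) (hBA : B ⊆ A) : Reach 𝓕 B g := by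
  induction h generalizing B with
  | nil A => exact Reach.nil B
  | cons A T x g hT hx hA _ ih =>
    exact Reach.cons B T x g hT hx (hBA.trans hA) (ih (rc_mono hBA))

theorem Reach.single {A : Set G} {T : Subgroup G} {x : G} (hT : T ∈ 𝓕)
    (hx : x ∈ Subgroup.normalizer (T : Set G)) (hA : A ⊆ T) : Reach 𝓕 A x := by
  have := Reach.cons A T x 1 hT hx hA (Reach.nil _)
  simpa using this

theorem Reach.trans {A : Set G} {g h : G} (h1 : Reach 𝓕 A g) (h2 : Reach 𝓕 (rc g A) h) :
    Reach 𝓕 A (g * h) := by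
  induction h1 generalizing h with
  | nil A => simpa using h2
  | cons A T x g hT hx hA _ ih =>
    rw [mul_assoc]
    apply Reach.cons A T x (g * h) hT hx hA
    apply ih
    rwa [rc_mul] at h2

theorem Reach.symm {A : Set G} {g : G} (h1 : Reach 𝓕 A g) : Reach 𝓕 (rc g A) g⁻¹ := by
  induction h1 with
  | nil A => simpa using Reach.nil (𝓕 := 𝓕) A
  | cons A T x g hT hx hA _ ih =>
    rw [mul_inv_rev, rc_mul]
    apply Reach.trans ih
    rw [← rc_mul, mul_inv_cancel, rc_one]
    exact Reach.single hT (inv_mem hx) (rc_subset_of_mem_normalizer hx hA)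

theorem Reach.cast {A B : Set G} {g h : G} (h1 : Reach 𝓕 A g) (hAB : A = B) (hgh : g = h) :
    Reach 𝓕 B h := by
  subst hAB; subst hgh; exact h1

/-- Conversion of `Reach` to the format of `Cfsg.IsConjugationFamily`. -/
theorem Reach.toFin {A : Set G} {g : G} (h : Reach 𝓕 A g) :
    ∃ (n : ℕ) (T : Fin n → Subgroup G) (x : Fin n → G), (List.ofFn x).prod = g ∧
      (∀ i, T i ∈ 𝓕) ∧ (∀ i, x i ∈ Subgroup.normalizer ((T i : Subgroup G) : Set G)) ∧
      (∀ h : 0 < n, A ⊆ T ⟨0, h⟩) ∧
      ∀ (i : Fin n) (h : i.val + 1 < n),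
        (fun a => (((List.ofFn x).take (i.val + 1)).prod)⁻¹ * a * ((List.ofFn x).take (i.val + 1)).prod) '' A ⊆
          T ⟨i.val + 1, h⟩ := by
  induction h with
  | nil A =>
    refine ⟨0, Fin.elim0, Fin.elim0, by simp, fun i => i.elim0, fun i => i.elim0, ?_, fun i => i.elim0⟩
    intro h; exact absurd h (lt_irrefl 0)
  | cons A T0 x0 g hT hx hA _ ih =>
    obtain ⟨n, T, x, hprod, hTm, hxm, h0, hstep⟩ := ih
    refine ⟨n + 1, Fin.cons T0 T, Fin.cons x0 x, ?_, ?_, ?_, ?_, ?_⟩
    · rw [List.ofFn_cons, List.prod_cons, hprod]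
    · intro i
      refine Fin.cases ?_ ?_ i
      · simpa using hT
      · intro j; simpa using hTm j
    · intro i
      refine Fin.cases ?_ ?_ i
      · simpa using hx
      · intro j; simpa using hxm j
    · intro _
      exact hA
    · intro i hi
      rw [List.ofFn_cons, List.take_succ_cons, List.prod_cons]
      rcases i with ⟨i, hi'⟩
      cases i with
      | zero =>
        have hn : 0 < n := by simpa using hi
        have := h0 hn
        simp only [List.take_zero, List.prod_nil, mul_one]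
        have e : (⟨0 + 1, hi⟩ : Fin (n + 1)) = Fin.succ ⟨0, hn⟩ := rfl
        rw [e, Fin.cons_succ]
        exact this
      | succ j =>
        have hj : j + 1 < n := by simpa using hi
        have hj' : j < n := by omega
        have := hstep ⟨j, hj'⟩ hj
        have e : (⟨j + 1 + 1, hi⟩ : Fin (n + 1)) = Fin.succ ⟨j + 1, hj⟩ := rfl
        rw [e, Fin.cons_succ]
        rintro _ ⟨a, ha, rfl⟩
        apply this
        refine ⟨x0⁻¹ * a * x0, conj_mem_rc ha, ?_⟩
        simp only [mul_inv_rev, mul_assoc]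


/-- Key step: move `T` to a fully normalized conjugate `U`, carrying `N_S(T)` into `S`. -/
theorem exists_cj_normalizer_le [Finite G] {p : ℕ} [Fact p.Prime] (S : Sylow p G)
    {T U : Subgroup G} {k : G} (hk : cj k T = U)
    (hU : ¬ p ∣ ((S : Subgroup G) ⊓ Subgroup.normalizer (U : Set G)).relIndex
      (Subgroup.normalizer (U : Set G))) :
    ∃ k' : G, cj k' T = U ∧
      cj k' ((S : Subgroup G) ⊓ Subgroup.normalizer (T : Set G)) ≤ (S : Subgroup G) := by
  have hH : cj k ((S : Subgroup G) ⊓ Subgroup.normalizer (T : Set G)) ≤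
      Subgroup.normalizer (U : Set G) := by
    rw [cj_inf, ← normalizer_cj, hk]
    exact inf_le_right
  have hHp : IsPGroup p (cj k ((S : Subgroup G) ⊓ Subgroup.normalizer (T : Set G)) : Subgroup G) :=
    isPGroup_cj (S.isPGroup'.to_le inf_le_left)
  have hPp : IsPGroup p ((S : Subgroup G) ⊓ Subgroup.normalizer (U : Set G) : Subgroup G) :=
    S.isPGroup'.to_le inf_le_left
  obtain ⟨c, hc, hcH⟩ := sylow_sub (K := Subgroup.normalizer (U : Set G)) inf_le_right hPp hU hH hHp
  refine ⟨c * k, ?_, ?_⟩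
  · rw [cj_mul, hk]
    exact cj_eq_self_iff.mpr hc
  · rw [cj_mul]
    exact hcH.trans inf_le_left

/-- **Alperin–Goldschmidt**: if every subgroup of `S` is conjugate to a fully normalized member
of `𝓕`, every conjugation between subsets of `S` is reached through `𝓕`. -/
theorem reach_of_fullyNormalized [Finite G] {p : ℕ} [Fact p.Prime] (S : Sylow p G)
    (𝓕 : Set (Subgroup G)) (h𝓕 : ∀ U ∈ 𝓕, U ≤ (S : Subgroup G))
    (h : ∀ T : Subgroup G, T ≤ (S : Subgroup G) → ∃ U ∈ 𝓕, (∃ g : G, cj g T = U) ∧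
      ¬ p ∣ ((S : Subgroup G) ⊓ Subgroup.normalizer (U : Set G)).relIndex
        (Subgroup.normalizer (U : Set G)))
    (A : Set G) (g : G) (hA : A ⊆ (S : Subgroup G)) (hAg : rc g A ⊆ (S : Subgroup G)) :
    Reach 𝓕 A g := by
  obtain ⟨n, hn⟩ : ∃ n, Nat.card (S : Subgroup G) - Nat.card (Subgroup.closure A) = n := ⟨_, rfl⟩
  induction n using Nat.strong_induction_on generalizing A g with
  | _ n ih =>
  have hTS : Subgroup.closure A ≤ (S : Subgroup G) := (Subgroup.closure_le _).mpr hA
  have hT'S : cj g⁻¹ (Subgroup.closure A) ≤ (S : Subgroup G) := by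
    rw [← closure_rc]; exact (Subgroup.closure_le _).mpr hAg
  by_cases hTeq : Subgroup.closure A = (S : Subgroup G)
  · obtain ⟨U, hU, ⟨k, hk⟩, -⟩ := h S le_rfl
    have hUS : U = (S : Subgroup G) :=
      Subgroup.eq_of_le_of_card_ge (h𝓕 U hU) (by rw [← hk, card_cj])
    have hg : g ∈ Subgroup.normalizer ((S : Subgroup G) : Set G) := by
      rw [hTeq] at hT'S
      have : cj g⁻¹ (S : Subgroup G) = S :=
        Subgroup.eq_of_le_of_card_ge hT'S (by rw [card_cj])
      have := cj_eq_self_iff.mp this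
      simpa using inv_mem this
    exact Reach.single (hUS ▸ hU) hg hA
  · have hlt : Subgroup.closure A < (S : Subgroup G) := lt_of_le_of_ne hTS hTeq
    have hlt' : cj g⁻¹ (Subgroup.closure A) < (S : Subgroup G) := by
      refine lt_of_le_of_ne hT'S ?_
      intro heq
      have h1 : Nat.card (Subgroup.closure A) = Nat.card (S : Subgroup G) := by
        rw [← heq, card_cj]
      exact hTeq (Subgroup.eq_of_le_of_card_ge hTS h1.ge)
    obtain ⟨U, hU, ⟨k, hk⟩, hUsyl⟩ := h _ hTS
    obtain ⟨k1, hk1, hk1S⟩ := exists_cj_normalizer_le S hk hUsyl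
    have hk' : cj (k * g) (cj g⁻¹ (Subgroup.closure A)) = U := by
      rw [cj_mul, cj_cj_inv, hk]
    obtain ⟨k2, hk2, hk2S⟩ := exists_cj_normalizer_le S hk' hUsyl
    -- the induction hypothesis applies to the normalizers
    have key : ∀ (T : Subgroup G) (k0 : G), T < (S : Subgroup G) →
        Nat.card T = Nat.card (Subgroup.closure A) →
        cj k0 ((S : Subgroup G) ⊓ Subgroup.normalizer (T : Set G)) ≤ (S : Subgroup G) →
        Reach 𝓕 (((S : Subgroup G) ⊓ Subgroup.normalizer (T : Set G) : Subgroup G) : Set G) k0⁻¹ := by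
      intro T k0 hTlt hcard hk0
      have hgrow := normalizer_growth S.isPGroup' hTlt
      have hc1 : Nat.card T < Nat.card ((S : Subgroup G) ⊓ Subgroup.normalizer (T : Set G) : Subgroup G) :=
        Set.Finite.card_lt_card (Set.toFinite _) hgrow
      have hc2 : Nat.card ((S : Subgroup G) ⊓ Subgroup.normalizer (T : Set G) : Subgroup G) ≤
          Nat.card (S : Subgroup G) := Subgroup.card_le_of_le inf_le_left
      refine ih _ ?_ _ _ ?_ ?_ rfl
      · rw [Subgroup.closure_eq, ← hn]
        omega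
      · exact fun x hx => hx.1
      · rw [rc_coe, inv_inv]
        exact hk0
    have r1 := (key _ k1 hlt rfl hk1S).mono
      (show A ⊆ _ from fun a ha => ⟨hA ha, Subgroup.le_normalizer (Subgroup.subset_closure ha)⟩)
    have r2 := (key _ k2 hlt' (card_cj _ _) hk2S).mono
      (show rc g A ⊆ _ from fun a ha => by
        have : a ∈ cj g⁻¹ (Subgroup.closure A) := by
          rw [← closure_rc]; exact Subgroup.subset_closure ha
        exact ⟨hT'S this, Subgroup.le_normalizer this⟩)
    -- the middle step inside N(U)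
    have hm : k1 * g * k2⁻¹ ∈ Subgroup.normalizer (U : Set G) := by
      rw [← cj_eq_self_iff, cj_mul, cj_mul]
      have : cj k2⁻¹ U = cj g⁻¹ (Subgroup.closure A) := by
        rw [← hk2, cj_inv_cj]
      rw [this, cj_cj_inv, hk1]
    have hAU : rc k1⁻¹ A ⊆ U := by
      have : rc k1⁻¹ A ⊆ rc k1⁻¹ (Subgroup.closure A : Set G) := rc_mono Subgroup.subset_closure
      rw [rc_coe, inv_inv, hk1] at this
      exact this
    have r3 : Reach 𝓕 (rc k1⁻¹ A) (k1 * g * k2⁻¹) := Reach.single hU hm hAU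
    have r4 := r1.trans r3
    have r5 := r2.symm
    rw [inv_inv, ← rc_mul] at r5
    have e : g * k2⁻¹ = k1⁻¹ * (k1 * g * k2⁻¹) := by group
    rw [e] at r5
    have r6 := r4.trans r5
    exact r6.cast rfl (by group)

end Cfsg.Agent.Lib.Helper33
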