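import Cfsg.Prelude.Def_ConjugacyFunctors
import Cfsg.Agent.Lib.Helper33.SylowSub

set_option autoImplicit false

namespace Cfsg.Agent.Lib.Helper33

variable {G : Type*} [Group G]

/-- `U` is fully normalized in `S`: `N_S(U)` has index prime to `p` in `N_G(U)`. -/
def FN (p : ℕ) (S U : Subgroup G) : Prop :=
  ¬ p ∣ (S ⊓ Subgroup.normalizer (U : Set G)).relIndex (Subgroup.normalizer (U : Set G))

theorem exists_sylow_ge [Finite G] {p : ℕ} [Fact p.Prime] {K H : Subgroup G} (hHK : H ≤ K)
    (hH : IsPGroup p H) : ∃ R : Subgroup G, H ≤ R ∧ R ≤ K ∧ IsPGroup p R ∧ ¬ p ∣ R.relIndex K := by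
  have hH' : IsPGroup p (H.subgroupOf K) := hH.comap_subtype
  obtain ⟨Q, hQ⟩ := hH'.exists_le_sylow
  refine ⟨(Q : Subgroup K).map K.subtype, ?_, ?_, ?_, ?_⟩
  · intro x hx
    exact ⟨⟨x, hHK hx⟩, hQ (Subgroup.mem_subgroupOf.mpr hx), rfl⟩
  · rintro _ ⟨y, _, rfl⟩
    exact y.2
  · exact Q.isPGroup'.map _
  · have : ((Q : Subgroup K).map K.subtype).relIndex K = (Q : Subgroup K).index := by
      unfold Subgroup.relIndex
      congr 1
      ext y
      rw [Subgroup.mem_subgroupOf]
      constructor
      · rintro ⟨z, hz, hzy⟩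
        have : z = y := Subtype.ext hzy
        rwa [← this]
      · intro hy
        exact ⟨y, hy, rfl⟩
    rw [this]
    exact Q.not_dvd_index

theorem eq_of_le_pgroup_of_not_dvd [Finite G] {p : ℕ} [hp : Fact p.Prime] {Q P K : Subgroup G}
    (hQP : Q ≤ P) (hPK : P ≤ K) (hP : IsPGroup p P) (hQ : ¬ p ∣ Q.relIndex K) : Q = P := by
  apply le_antisymm hQP
  rw [← Subgroup.relIndex_eq_one]
  have hdvd : Q.relIndex P ∣ Q.relIndex K :=
    Dvd.intro _ (Subgroup.relIndex_mul_relIndex Q P K hQP hPK)
  obtain ⟨n, hn⟩ := hP.index (Q.subgroupOf P)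
  have hn' : Q.relIndex P = p ^ n := hn
  cases n with
  | zero => simpa using hn'
  | succ m =>
    exfalso
    apply hQ
    refine dvd_trans ?_ hdvd
    rw [hn']
    exact dvd_pow_self p (Nat.succ_ne_zero m)

theorem FN_cj {p : ℕ} {S U : Subgroup G} (g : G) (h : FN p S U) : FN p (cj g S) (cj g U) := by
  unfold FN at *
  rw [normalizer_cj, ← cj_inf, relIndex_cj]
  exact h

/-- Every subgroup of `S` has a fully normalized conjugate, with its `S`-normalizer carried
into `S`. -/
theorem exists_fn_conj [Finite G] {p : ℕ} [Fact p.Prime] (S : Sylow p G) (T : Subgroup G)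
    (hT : T ≤ (S : Subgroup G)) :
    ∃ c : G, cj c T ≤ (S : Subgroup G) ∧ FN p (S : Subgroup G) (cj c T) ∧
      cj c ((S : Subgroup G) ⊓ Subgroup.normalizer (T : Set G)) ≤ (S : Subgroup G) := by
  have hNS : IsPGroup p ((S : Subgroup G) ⊓ Subgroup.normalizer (T : Set G) : Subgroup G) :=
    S.isPGroup'.to_le inf_le_left
  obtain ⟨R, hR1, hR2, hRp, hRi⟩ := exists_sylow_ge (K := Subgroup.normalizer (T : Set G))
    inf_le_right hNS
  obtain ⟨c, -, hc⟩ := sylow_sub (K := (⊤ : Subgroup G)) (P := (S : Subgroup G)) le_top S.isPGroup'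
    (by rw [Subgroup.relIndex_top_right]; exact S.not_dvd_index) (le_top : R ≤ ⊤) hRp
  have hTR : T ≤ R := le_trans (le_inf hT Subgroup.le_normalizer) hR1
  refine ⟨c, le_trans (cj_mono hTR) hc, ?_, le_trans (cj_mono hR1) hc⟩
  unfold FN
  have h1 : cj c R ≤ (S : Subgroup G) ⊓ Subgroup.normalizer ((cj c T : Subgroup G) : Set G) := by
    refine le_inf hc ?_
    rw [normalizer_cj]
    exact cj_mono hR2
  intro hdvd
  apply hRi
  have h2 := Subgroup.relIndex_dvd_of_le_left (Subgroup.normalizer ((cj c T : Subgroup G) : Set G)) h1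
  have h3 := dvd_trans hdvd h2
  rwa [normalizer_cj, relIndex_cj] at h3

theorem tower_succ (W : Subgroup G → Subgroup G) (S T : Subgroup G) (i : ℕ) :
    Cfsg.functorTower W S T (i + 1) =
      Cfsg.functorTower W S (W (S ⊓ Subgroup.normalizer (T : Set G))) i := by
  induction i with
  | zero => rfl
  | succ k ih =>
    show W (S ⊓ Subgroup.normalizer ((Cfsg.functorTower W S T (k + 1) : Subgroup G) : Set G)) =
      W (S ⊓ Subgroup.normalizer ((Cfsg.functorTower W S _ k : Subgroup G) : Set G))
    rw [ih]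

theorem normalizer_le_normalizer_functor {p : ℕ} {W : Subgroup G → Subgroup G}
    (hW : Cfsg.IsConjugacyFunctor p W) {R : Subgroup G} (hR : IsPGroup p R) :
    Subgroup.normalizer (R : Set G) ≤ Subgroup.normalizer ((W R : Subgroup G) : Set G) := by
  intro g hg
  rw [← cj_eq_self_iff] at hg ⊢
  have := (hW R hR).2.2 g
  rw [← cj_def, ← cj_def, hg] at this
  exact this.symm

theorem functor_le {p : ℕ} {W : Subgroup G → Subgroup G}
    (hW : Cfsg.IsConjugacyFunctor p W) {R : Subgroup G} (hR : IsPGroup p R) : W R ≤ R :=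
  (hW R hR).1

theorem functor_cj {p : ℕ} {W : Subgroup G → Subgroup G}
    (hW : Cfsg.IsConjugacyFunctor p W) {R : Subgroup G} (hR : IsPGroup p R) (g : G) :
    W (cj g R) = cj g (W R) :=
  (hW R hR).2.2 g

theorem FN_of_sylow_le [Finite G] {p : ℕ} [Fact p.Prime] (S : Sylow p G) {U : Subgroup G}
    (h : (S : Subgroup G) ≤ Subgroup.normalizer (U : Set G)) : FN p (S : Subgroup G) U := by
  unfold FN
  rw [inf_of_le_left h]
  intro hdvd
  exact S.not_dvd_index (dvd_trans hdvd (Subgroup.relIndex_dvd_index_of_le h))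

/-- When `N_S(U) = S`, the tower of `U` is constant equal to `W S` from step one on. -/
theorem tower_of_normalizer_eq {p : ℕ} {W : Subgroup G → Subgroup G}
    (hW : Cfsg.IsConjugacyFunctor p W) {S U : Subgroup G} (hS : IsPGroup p S)
    (h : S ≤ Subgroup.normalizer (U : Set G)) (i : ℕ) :
    Cfsg.functorTower W S U (i + 1) = W S := by
  induction i with
  | zero =>
    show W (S ⊓ Subgroup.normalizer (U : Set G)) = W S
    rw [inf_of_le_left h]
  | succ k ih =>
    show W (S ⊓ Subgroup.normalizer ((Cfsg.functorTower W S U (k + 1) : Subgroup G) : Set G)) = W S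
    rw [ih, inf_of_le_left]
    exact le_trans Subgroup.le_normalizer (normalizer_le_normalizer_functor hW hS)

theorem wellPlaced_of_normalizer_eq [Finite G] {p : ℕ} [Fact p.Prime] {W : Subgroup G → Subgroup G}
    (hW : Cfsg.IsConjugacyFunctor p W) (S : Sylow p G) {U : Subgroup G} (hU : U ≤ (S : Subgroup G))
    (h : (S : Subgroup G) ≤ Subgroup.normalizer (U : Set G)) :
    Cfsg.IsWellPlaced p W (S : Subgroup G) U := by
  refine ⟨hU, ?_⟩
  intro i
  cases i with
  | zero => exact FN_of_sylow_le S h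
  | succ k =>
    rw [tower_of_normalizer_eq hW S.isPGroup' h k]
    exact FN_of_sylow_le S
      (le_trans Subgroup.le_normalizer (normalizer_le_normalizer_functor hW S.isPGroup'))

theorem wellPlaced_iff {p : ℕ} (W : Subgroup G → Subgroup G) (S T : Subgroup G)
    (hle : W (S ⊓ Subgroup.normalizer (T : Set G)) ≤ S) :
    Cfsg.IsWellPlaced p W S T ↔ T ≤ S ∧ FN p S T ∧
      Cfsg.IsWellPlaced p W S (W (S ⊓ Subgroup.normalizer (T : Set G))) := by
  constructor
  · rintro ⟨h1, h2⟩
    refine ⟨h1, h2 0, hle, ?_⟩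
    intro i
    rw [← tower_succ]
    exact h2 (i + 1)
  · rintro ⟨h1, h2, -, h3⟩
    refine ⟨h1, ?_⟩
    intro i
    cases i with
    | zero => exact h2
    | succ k =>
      rw [tower_succ]
      exact h3 k

theorem exists_wellPlaced_aux [Finite G] {p : ℕ} [Fact p.Prime] (S : Sylow p G)
    (W : Subgroup G → Subgroup G) (hW : Cfsg.IsConjugacyFunctor p W) (n : ℕ) :
    ∀ T : Subgroup G, T ≤ (S : Subgroup G) →
      Nat.card (S : Subgroup G) - Nat.card ((S : Subgroup G) ⊓ Subgroup.normalizer (T : Set G) : Subgroup G) = n →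
      ∃ g : G, Cfsg.IsWellPlaced p W (S : Subgroup G) (cj g T) ∧
        cj g ((S : Subgroup G) ⊓ Subgroup.normalizer (T : Set G)) ≤ (S : Subgroup G) := by
  induction n using Nat.strong_induction_on with
  | _ n ih =>
    intro T hT hn
    obtain ⟨c, hcT, hcFN, hcN⟩ := exists_fn_conj S T hT
    -- U = cj c T is fully normalized
    set U := cj c T with hUdef
    set R := (S : Subgroup G) ⊓ Subgroup.normalizer (U : Set G) with hRdef
    have hRp : IsPGroup p R := S.isPGroup'.to_le inf_le_left
    have hcNR : cj c ((S : Subgroup G) ⊓ Subgroup.normalizer (T : Set G)) ≤ R := by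
      refine le_inf hcN ?_
      rw [hUdef, normalizer_cj, cj_inf]
      exact inf_le_right
    by_cases hRS : R = (S : Subgroup G)
    · refine ⟨c, wellPlaced_of_normalizer_eq hW S hcT ?_, hcN⟩
      rw [← hRS]
      exact inf_le_right
    · have hRlt : R < (S : Subgroup G) := lt_of_le_of_ne inf_le_left hRS
      set V := W R with hVdef
      have hVR : V ≤ R := functor_le hW hRp
      have hVS : V ≤ (S : Subgroup G) := le_trans hVR inf_le_left
      have hgrow := normalizer_growth S.isPGroup' hRlt
      have hNV : (S : Subgroup G) ⊓ Subgroup.normalizer (R : Set G) ≤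
          (S : Subgroup G) ⊓ Subgroup.normalizer (V : Set G) :=
        inf_le_inf_left _ (normalizer_le_normalizer_functor hW hRp)
      have hlt : R < (S : Subgroup G) ⊓ Subgroup.normalizer (V : Set G) := lt_of_lt_of_le hgrow hNV
      have hc1 : Nat.card R < Nat.card ((S : Subgroup G) ⊓ Subgroup.normalizer (V : Set G) : Subgroup G) :=
        Set.Finite.card_lt_card (Set.toFinite _) hlt
      have hc2 : Nat.card ((S : Subgroup G) ⊓ Subgroup.normalizer (V : Set G) : Subgroup G) ≤
          Nat.card (S : Subgroup G) := Subgroup.card_le_of_le inf_le_left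
      have hc3 : Nat.card ((S : Subgroup G) ⊓ Subgroup.normalizer (T : Set G) : Subgroup G) ≤ Nat.card R := by
        rw [← card_cj c]
        exact Subgroup.card_le_of_le hcNR
      obtain ⟨g, hgWP, hgN⟩ := ih _ (by omega) V hVS rfl
      have hgR : cj g R ≤ (S : Subgroup G) := le_trans (cj_mono hlt.le) hgN
      -- the S-normalizer of cj g U is cj g R
      have hNU : (S : Subgroup G) ⊓ Subgroup.normalizer ((cj g U : Subgroup G) : Set G) = cj g R := by
        symm
        apply eq_of_le_pgroup_of_not_dvd (p := p) (K := Subgroup.normalizer ((cj g U : Subgroup G) : Set G))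
        · refine le_inf hgR ?_
          rw [normalizer_cj]
          exact cj_mono inf_le_right
        · exact inf_le_right
        · exact S.isPGroup'.to_le inf_le_left
        · rw [normalizer_cj, relIndex_cj]
          exact hcFN
      refine ⟨g * c, ?_, ?_⟩
      · rw [cj_mul, ← hUdef]
        rw [wellPlaced_iff]
        · refine ⟨le_trans (cj_mono (le_trans (le_inf hcT Subgroup.le_normalizer) le_rfl)) hgR, ?_, ?_⟩
          · unfold FN
            rw [hNU, normalizer_cj, relIndex_cj]
            exact hcFN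
          · rw [hNU, functor_cj hW hRp]
            exact hgWP
        · rw [hNU, functor_cj hW hRp]
          exact le_trans (cj_mono hVR) hgR
      · rw [cj_mul]
        exact le_trans (cj_mono hcNR) hgR

theorem exists_wellPlaced [Finite G] {p : ℕ} [Fact p.Prime] (S : Sylow p G)
    (W : Subgroup G → Subgroup G) (hW : Cfsg.IsConjugacyFunctor p W) (T : Subgroup G)
    (hT : T ≤ (S : Subgroup G)) :
    ∃ g : G, Cfsg.IsWellPlaced p W (S : Subgroup G) (cj g T) ∧
      cj g ((S : Subgroup G) ⊓ Subgroup.normalizer (T : Set G)) ≤ (S : Subgroup G) :=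
  exists_wellPlaced_aux S W hW _ T hT rfl

end Cfsg.Agent.Lib.Helper33
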