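import Cfsg.Prelude.Def_ConjugacyFunctors
import Cfsg.Agent.Lib.Helper33.WellPlaced
import Cfsg.Agent.Lib.Helper33.Alperin

set_option autoImplicit false

namespace Cfsg.Agent.Lib.Helper33

variable {G : Type*} [Group G]

/-- Two Sylow subgroups (in the relIndex sense) of `H` are `H`-conjugate. -/
theorem sylow_sub_eq [Finite G] {p : ℕ} [Fact p.Prime] {H T0 T1 : Subgroup G}
    (h0 : T0 ≤ H) (h0p : IsPGroup p T0) (h0i : ¬ p ∣ T0.relIndex H)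
    (h1 : T1 ≤ H) (h1p : IsPGroup p T1) (h1i : ¬ p ∣ T1.relIndex H) :
    ∃ c ∈ H, cj c T0 = T1 := by
  obtain ⟨c, hc, hle⟩ := sylow_sub h1 h1p h1i h0 h0p
  refine ⟨c, hc, ?_⟩
  have hcH : cj c H = H := cj_eq_self_of_mem hc
  apply eq_of_le_pgroup_of_not_dvd (p := p) (K := H) hle h1 h1p
  have := relIndex_cj c T0 H
  rw [hcH] at this
  rw [this]
  exact h0i

/-- Control of strong fusion, with respect to a prescribed Sylow subgroup `T1` of `H`, in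
right-conjugation form. -/
theorem csf_transport [Finite G] {p : ℕ} [Fact p.Prime] {W : Subgroup G → Subgroup G}
    (hW : Cfsg.IsConjugacyFunctor p W) {H : Subgroup G}
    (hctl : Cfsg.ControlsStrongFusionIn p W H) {T1 : Subgroup G} (h1 : T1 ≤ H)
    (h1p : IsPGroup p T1) (h1i : ¬ p ∣ T1.relIndex H) :
    ∀ (A : Set G) (g : G), g ∈ H → A ⊆ T1 → rc g A ⊆ T1 →
      ∃ x ∈ H ⊓ Subgroup.normalizer ((W T1 : Subgroup G) : Set G), ∀ a ∈ A, x⁻¹ * a * x = g⁻¹ * a * g := by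
  obtain ⟨T0, h0, h0p, h0i, hc0⟩ := hctl
  obtain ⟨c, hcH, hc⟩ := sylow_sub_eq h0 h0p h0i h1 h1p h1i
  intro A g hg hA hAg
  -- move to T0 by c⁻¹ (left), i.e. A' = c⁻¹ A c = rc c A
  have hA' : rc c A ⊆ T0 := by
    intro a ha
    rw [mem_rc] at ha
    have := hA ha
    rw [SetLike.mem_coe, ← hc, conj_mem_cj_iff] at this
    exact this
  have hAh' : (fun a => (c⁻¹ * g⁻¹ * c) * a * (c⁻¹ * g⁻¹ * c)⁻¹) '' (rc c A) ⊆ T0 := by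
    rintro _ ⟨a, ha, rfl⟩
    rw [mem_rc] at ha
    have h2 : g⁻¹ * (c * a * c⁻¹) * g ∈ T1 := hAg (conj_mem_rc ha)
    rw [← hc, mem_cj] at h2
    show (c⁻¹ * g⁻¹ * c) * a * (c⁻¹ * g⁻¹ * c)⁻¹ ∈ T0
    have e : (c⁻¹ * g⁻¹ * c) * a * (c⁻¹ * g⁻¹ * c)⁻¹ = c⁻¹ * (g⁻¹ * (c * a * c⁻¹) * g) * c := by group
    rw [e]; exact h2
  have hmem : c⁻¹ * g⁻¹ * c ∈ H := H.mul_mem (H.mul_mem (H.inv_mem hcH) (H.inv_mem hg)) hcH
  obtain ⟨x, hx, hxa⟩ := hc0 _ _ hmem hA' hAh'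
  refine ⟨c * x⁻¹ * c⁻¹, ⟨?_, ?_⟩, ?_⟩
  · exact H.mul_mem (H.mul_mem hcH (H.inv_mem hx.1)) (H.inv_mem hcH)
  · rw [← hc, functor_cj hW h0p, normalizer_cj]
    exact conj_mem_cj (inv_mem hx.2)
  · intro a ha
    have ha' : c⁻¹ * a * c ∈ rc c A := conj_mem_rc ha
    have := hxa _ ha'
    calc (c * x⁻¹ * c⁻¹)⁻¹ * a * (c * x⁻¹ * c⁻¹) = c * (x * (c⁻¹ * a * c) * x⁻¹) * c⁻¹ := by group
      _ = c * ((c⁻¹ * g⁻¹ * c) * (c⁻¹ * a * c) * (c⁻¹ * g⁻¹ * c)⁻¹) * c⁻¹ := by rw [this]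
      _ = g⁻¹ * a * g := by group

end Cfsg.Agent.Lib.Helper33
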