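import Mathlib.GroupTheory.Focal
import Cfsg.Prelude.Def_ConjugacyFunctors
import Cfsg.Agent.Lib.Helper33.Control

set_option autoImplicit false

namespace Cfsg.Agent.Lib.Helper33

open scoped commutatorElement

variable {G : Type*} [Group G]

theorem cj_commutator (c : G) (H K : Subgroup G) : cj c ⁅H, K⁆ = ⁅cj c H, cj c K⁆ := by
  unfold cj
  exact Subgroup.map_commutator H K _

/-- Control of transfer with respect to a prescribed Sylow subgroup `T1` of `H`. -/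
theorem ct_transport [Finite G] {p : ℕ} [Fact p.Prime] {W : Subgroup G → Subgroup G}
    (hW : Cfsg.IsConjugacyFunctor p W) {H : Subgroup G}
    (hctl : Cfsg.ControlsTransferIn p W H) {T1 : Subgroup G} (h1 : T1 ≤ H)
    (h1p : IsPGroup p T1) (h1i : ¬ p ∣ T1.relIndex H) :
    T1 ⊓ ⁅H, H⁆ = T1 ⊓ ⁅H ⊓ Subgroup.normalizer ((W T1 : Subgroup G) : Set G),
      H ⊓ Subgroup.normalizer ((W T1 : Subgroup G) : Set G)⁆ := by
  obtain ⟨T0, h0, h0p, h0i, hc0⟩ := hctl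
  obtain ⟨c, hcH, hc⟩ := sylow_sub_eq h0 h0p h0i h1 h1p h1i
  have hH : cj c H = H := cj_eq_self_of_mem hcH
  have := congrArg (cj c) hc0
  rw [cj_inf, cj_inf, cj_commutator, cj_commutator, cj_inf, hH, hc, ← normalizer_cj,
    ← functor_cj hW h0p, hc] at this
  exact this

/-- Every commutator `a⁻¹ (g⁻¹ a g)` with `a` and `g⁻¹ a g` in the Sylow subgroup `S` lies in a
subgroup `F0` as soon as this holds for single steps through a conjugation family. -/
def GoodT (F0 : Subgroup G) (A : Set G) (g : G) : Prop :=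
  ∀ a ∈ A, a⁻¹ * (g⁻¹ * a * g) ∈ F0

theorem GoodT.one (F0 : Subgroup G) (A : Set G) : GoodT F0 A 1 := by
  intro a _
  simp

theorem GoodT.trans {F0 : Subgroup G} {A : Set G} {g h : G} (h1 : GoodT F0 A g)
    (h2 : GoodT F0 (rc g A) h) : GoodT F0 A (g * h) := by
  intro a ha
  have e1 := h1 a ha
  have e2 := h2 _ (conj_mem_rc (g := g) ha)
  have : a⁻¹ * ((g * h)⁻¹ * a * (g * h)) =
      (a⁻¹ * (g⁻¹ * a * g)) * ((g⁻¹ * a * g)⁻¹ * (h⁻¹ * (g⁻¹ * a * g) * h)) := by group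
  rw [this]
  exact F0.mul_mem e1 e2

theorem GoodT.mono {F0 : Subgroup G} {A B : Set G} {g : G} (h1 : GoodT F0 A g) (hBA : B ⊆ A) :
    GoodT F0 B g := fun a ha => h1 a (hBA ha)

theorem GoodT.symm {F0 : Subgroup G} {A : Set G} {g : G} (h1 : GoodT F0 A g) :
    GoodT F0 (rc g A) g⁻¹ := by
  rintro _ ⟨a, ha, rfl⟩
  have e1 := F0.inv_mem (h1 a ha)
  have : (g⁻¹ * a * g)⁻¹ * (g⁻¹⁻¹ * (g⁻¹ * a * g) * g⁻¹) = (a⁻¹ * (g⁻¹ * a * g))⁻¹ := by group
  rw [this]
  exact e1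

theorem GoodT.cast {F0 : Subgroup G} {A B : Set G} {g h : G} (h1 : GoodT F0 A g) (hAB : A = B)
    (hgh : g = h) : GoodT F0 B h := by
  subst hAB; subst hgh; exact h1

theorem goodT_of_reach {F0 : Subgroup G} {𝓕 : Set (Subgroup G)}
    (hstep : ∀ (T : Subgroup G) (x : G) (A : Set G), T ∈ 𝓕 → x ∈ Subgroup.normalizer (T : Set G) →
      A ⊆ T → GoodT F0 A x) {A : Set G} {g : G} (h : Reach 𝓕 A g) : GoodT F0 A g := by
  induction h with
  | nil A => exact GoodT.one F0 A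
  | cons A T x g hT hx hA _ ih => exact (hstep T x A hT hx hA).trans ih

/-- A commutator `a⁻¹ x⁻¹ a x` with `a ∈ T`, `x ∈ N(T)` lies in `N_S(T) ⊓ N(T)'`. -/
theorem comm_mem_inf_commutator {S T : Subgroup G} (hTS : T ≤ S) {a x : G} (ha : a ∈ T)
    (hx : x ∈ Subgroup.normalizer (T : Set G)) :
    a⁻¹ * (x⁻¹ * a * x) ∈ (S ⊓ Subgroup.normalizer (T : Set G)) ⊓
      ⁅Subgroup.normalizer (T : Set G), Subgroup.normalizer (T : Set G)⁆ := by
  have hxa : x⁻¹ * a * x ∈ T := (Subgroup.mem_normalizer_iff''.mp hx a).mp ha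
  refine Subgroup.mem_inf.mpr ⟨?_, ?_⟩
  · have : a⁻¹ * (x⁻¹ * a * x) ∈ T := T.mul_mem (T.inv_mem ha) hxa
    exact Subgroup.mem_inf.mpr ⟨hTS this, Subgroup.le_normalizer this⟩
  · have e : a⁻¹ * (x⁻¹ * a * x) = ⁅a⁻¹, x⁻¹⁆ := by
      rw [commutatorElement_def]; group
    rw [e]
    exact Subgroup.commutator_mem_commutator (Subgroup.le_normalizer (T.inv_mem ha)) (inv_mem hx)

end Cfsg.Agent.Lib.Helper33
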