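import Cfsg.Agent.Lib.Helper33.SecMaster
import Cfsg.Agent.Lib.Helper33.Transfer
import Cfsg.Agent.S1960

set_option autoImplicit false
set_option linter.style.haveILetI false
set_option linter.unusedSectionVars false

universe u

namespace Cfsg.Agent.Lib.Helper33

open Cfsg Subgroup
open scoped commutatorElement

section general

variable {X : Type*} [Group X]

/-- The subgroup generated by the `P ∩ N(W P)'`, `W ∈ 𝓦`. -/
def FocW (𝓦 : Set (Subgroup X → Subgroup X)) (P : Subgroup X) : Subgroup X :=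
  ⨆ W ∈ 𝓦, P ⊓ ⁅⊤ ⊓ normalizer ((W P : Subgroup X) : Set X), ⊤ ⊓ normalizer ((W P : Subgroup X) : Set X)⁆

theorem focW_le (𝓦 : Set (Subgroup X → Subgroup X)) (P : Subgroup X) : FocW 𝓦 P ≤ P :=
  iSup₂_le (fun _ _ => inf_le_left)

theorem focW_le_commutator (𝓦 : Set (Subgroup X → Subgroup X)) (P : Subgroup X) :
    FocW 𝓦 P ≤ ⁅(⊤ : Subgroup X), ⊤⁆ :=
  iSup₂_le (fun _ _ => inf_le_right.trans (Subgroup.commutator_mono le_top le_top))

theorem le_focW {𝓦 : Set (Subgroup X → Subgroup X)} {W : Subgroup X → Subgroup X} (hW : W ∈ 𝓦)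
    (P : Subgroup X) :
    P ⊓ ⁅normalizer ((W P : Subgroup X) : Set X), normalizer ((W P : Subgroup X) : Set X)⁆ ≤
      FocW 𝓦 P := by
  have := le_iSup₂ (f := fun (W : Subgroup X → Subgroup X) (_ : W ∈ 𝓦) =>
    P ⊓ ⁅⊤ ⊓ normalizer ((W P : Subgroup X) : Set X), ⊤ ⊓ normalizer ((W P : Subgroup X) : Set X)⁆)
    W hW
  rw [top_inf_eq] at this
  exact this

/-- From the lattice form to family control of transfer. -/
theorem fct_of_focLe {p : ℕ} {𝓦 : Set (Subgroup X → Subgroup X)} {P : Subgroup X}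
    (hP : IsPGroup p P) (hPi : ¬ p ∣ P.index) (h : P ⊓ ⁅(⊤ : Subgroup X), ⊤⁆ ≤ FocW 𝓦 P) :
    FamilyControlsTransferIn p 𝓦 ⊤ := by
  refine ⟨P, le_top, hP, by rwa [Subgroup.relIndex_top_right], ?_⟩
  apply le_antisymm h
  refine iSup₂_le ?_
  intro W _
  exact inf_le_inf_left _ (Subgroup.commutator_mono le_top le_top)

/-- From family control of transfer in `H` to the lattice form, for a prescribed Sylow subgroup. -/
theorem focLe_of_fct [Finite X] {p : ℕ} [Fact p.Prime] {𝓦 : Set (Subgroup X → Subgroup X)}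
    (h𝓦 : ∀ W ∈ 𝓦, IsConjugacyFunctor p W) {H : Subgroup X}
    (h : FamilyControlsTransferIn p 𝓦 H) {P : Subgroup X} (hPH : P ≤ H) (hP : IsPGroup p P)
    (hPi : ¬ p ∣ P.relIndex H) : P ⊓ ⁅H, H⁆ ≤ FocW 𝓦 P := by
  rw [Cfsg.Agent.S1960.fct_transport h𝓦 h hPH hP hPi]
  refine iSup₂_le ?_
  intro W hW
  refine le_trans ?_ (le_focW hW P)
  exact inf_le_inf_left _ (Subgroup.commutator_mono inf_le_right inf_le_right)

/-- From the elementwise form to the lattice form (focal subgroup theorem). -/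
theorem focLe_of_goodT [Finite X] {p : ℕ} [Fact p.Prime] (P : Sylow p X) (F : Subgroup X)
    (h : ∀ (A : Set X) (g : X), A ⊆ (P : Subgroup X) → rc g A ⊆ (P : Subgroup X) → GoodT F A g) :
    (P : Subgroup X) ⊓ ⁅(⊤ : Subgroup X), ⊤⁆ ≤ F := by
  have hfoc : (P : Subgroup X) ⊓ ⁅(⊤ : Subgroup X), ⊤⁆ = (P : Subgroup X).focalSubgroup := by
    rw [inf_comm]
    exact Subgroup.commutator_inf_eq_focalSubgroup P
  rw [hfoc, Subgroup.focalSubgroup_def, Subgroup.closure_le]
  rintro g ⟨hgS, x, hxS, u, rfl⟩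
  have hux : u * x⁻¹ * u⁻¹ ∈ (P : Subgroup X) := by
    have e : u * x⁻¹ * u⁻¹ = x⁻¹ * ⁅x, u⁆ := by rw [commutatorElement_def]; group
    rw [e]
    exact Subgroup.mul_mem _ (Subgroup.inv_mem _ hxS) hgS
  have hA : ({x⁻¹} : Set X) ⊆ (P : Subgroup X) := by
    intro a ha
    rw [Set.mem_singleton_iff] at ha
    subst ha
    exact Subgroup.inv_mem _ hxS
  have hAg : rc u⁻¹ ({x⁻¹} : Set X) ⊆ (P : Subgroup X) := by
    rintro _ ⟨a, ha, rfl⟩
    rw [Set.mem_singleton_iff] at ha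
    subst ha
    show u⁻¹⁻¹ * x⁻¹ * u⁻¹ ∈ (P : Subgroup X)
    rw [inv_inv]
    exact hux
  have := h _ u⁻¹ hA hAg x⁻¹ rfl
  have e : ⁅x, u⁆ = x⁻¹⁻¹ * (u⁻¹⁻¹ * x⁻¹ * u⁻¹) := by rw [commutatorElement_def]; group
  rw [SetLike.mem_coe, e]
  exact this

theorem goodT_of_le {F H P : Subgroup X} (hPH : P ≤ H) (h : P ⊓ ⁅H, H⁆ ≤ F) {A : Set X} {g : X}
    (hg : g ∈ H) (hA : A ⊆ P) (hAg : rc g A ⊆ P) : GoodT F A g := by
  intro a ha
  apply h
  refine ⟨P.mul_mem (P.inv_mem (hA ha)) (hAg (conj_mem_rc ha)), ?_⟩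
  have e : a⁻¹ * (g⁻¹ * a * g) = ⁅a⁻¹, g⁻¹⁆ := by rw [commutatorElement_def]; group
  rw [e]
  exact Subgroup.commutator_mem_commutator (H.inv_mem (hPH (hA ha))) (H.inv_mem hg)

theorem GoodT.cent {F : Subgroup X} {A : Set X} {c : X} (hc : c ∈ centralizer A) :
    GoodT F A c := by
  intro a ha
  have h := Subgroup.mem_centralizer_iff.mp hc a ha
  have e : a⁻¹ * (c⁻¹ * a * c) = 1 := by
    calc a⁻¹ * (c⁻¹ * a * c) = a⁻¹ * (c⁻¹ * (a * c)) := by group
      _ = a⁻¹ * (c⁻¹ * (c * a)) := by rw [h]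
      _ = 1 := by group
  rw [e]; exact F.one_mem

theorem map_normalizer_of_injective {Y : Type*} [Group Y] (f : Y →* X)
    (hf : Function.Injective f) (V : Subgroup Y) :
    (normalizer (V : Set Y)).map f = f.range ⊓ normalizer ((V.map f : Subgroup X) : Set X) := by
  apply le_antisymm
  · exact le_inf (by rw [MonoidHom.range_eq_map]; exact Subgroup.map_mono le_top)
      (Subgroup.le_normalizer_map f)
  · rintro x ⟨⟨y, rfl⟩, hx⟩
    refine ⟨y, ?_, rfl⟩
    rw [SetLike.mem_coe, Subgroup.mem_normalizer_iff]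
    intro v
    have := (Subgroup.mem_normalizer_iff.mp hx) (f v)
    rw [Subgroup.mem_map_iff_mem hf, ← map_inv, ← map_mul, ← map_mul,
      Subgroup.mem_map_iff_mem hf] at this
    exact this

end general

section transport

variable {p : ℕ} [Fact p.Prime] {𝓦 : Set (∀ (Q : Type u) [Group Q], Subgroup Q)}

/-- Transport of family control of transfer along an injective homomorphism. -/
theorem fct_map_of_injective {Y X : Type u} [Group Y] [Group X] [Finite Y]
    (h𝓦 : ∀ W ∈ 𝓦, IsCharPFunctor.{u} p W) (f : Y →* X) (hf : Function.Injective f)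
    (h : FamilyControlsTransferIn p (indFam 𝓦 Y) ⊤) :
    FamilyControlsTransferIn p (indFam 𝓦 X) f.range := by
  obtain ⟨T₀, -, hT₀p, hT₀i, hctl⟩ := h
  have hrange : f.range = (⊤ : Subgroup Y).map f := MonoidHom.range_eq_map f
  refine ⟨T₀.map f, ?_, hT₀p.map f, ?_, ?_⟩
  · rw [hrange]; exact Subgroup.map_mono le_top
  · rw [hrange, Subgroup.relIndex_map_map_of_injective _ _ hf]
    exact hT₀i
  · have h1 := congrArg (Subgroup.map f) hctl
    rw [Subgroup.map_inf _ _ f hf, Subgroup.map_commutator, ← hrange] at h1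
    rw [h1]
    unfold indFam
    rw [iSup_image, iSup_image, Subgroup.map_iSup]
    refine iSup_congr fun W => ?_
    rw [Subgroup.map_iSup]
    refine iSup_congr fun hW => ?_
    haveI : Finite ↥T₀ := inferInstance
    rw [Subgroup.map_inf _ _ f hf, Subgroup.map_commutator, top_inf_eq,
      map_normalizer_of_injective f hf, induced_map_of_injective (h𝓦 W hW) f hf T₀ hT₀p]

theorem fct_of_equiv {Y X : Type u} [Group Y] [Group X] [Finite Y]
    (h𝓦 : ∀ W ∈ 𝓦, IsCharPFunctor.{u} p W) (e : Y ≃* X)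
    (h : FamilyControlsTransferIn p (indFam 𝓦 Y) ⊤) :
    FamilyControlsTransferIn p (indFam 𝓦 X) ⊤ := by
  have := fct_map_of_injective h𝓦 e.toMonoidHom e.injective h
  have hr : e.toMonoidHom.range = ⊤ := MonoidHom.range_eq_top.mpr e.surjective
  rwa [hr] at this

theorem fct_subgroup {X : Type u} [Group X] [Finite X]
    (h𝓦 : ∀ W ∈ 𝓦, IsCharPFunctor.{u} p W) (H : Subgroup X)
    (h : FamilyControlsTransferIn p (indFam 𝓦 ↥H) ⊤) :
    FamilyControlsTransferIn p (indFam 𝓦 X) H := by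
  have := fct_map_of_injective h𝓦 H.subtype (Subgroup.subtype_injective H) h
  rwa [Subgroup.range_subtype] at this

end transport

end Cfsg.Agent.Lib.Helper33
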