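import Cfsg.Prelude.Def_Transfer
import Mathlib.GroupTheory.Transfer
import Mathlib.GroupTheory.SchurZassenhaus

set_option autoImplicit false

namespace Cfsg.Agent.Lib.Helper33

variable {H : Type*} [Group H]

/-- The `p`-power of an element killing its `p`-part has order prime to `p`. -/
theorem exists_pow_coprime_order [Finite H] {p : ℕ} [hp : Fact p.Prime] (g : H) :
    ∃ e : ℕ, (orderOf (g ^ (p ^ e))).Coprime p := by
  have h0 : orderOf g ≠ 0 := (orderOf_pos g).ne'
  obtain ⟨e, m, hm, hem⟩ := Nat.exists_eq_pow_mul_and_not_dvd h0 p hp.out.ne_one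
  refine ⟨e, ?_⟩
  have h1 : (g ^ (p ^ e)) ^ m = 1 := by
    rw [← pow_mul, ← hem, pow_orderOf_eq_one]
  have h2 : orderOf (g ^ (p ^ e)) ∣ m := orderOf_dvd_of_pow_eq_one h1
  have h3 : m.Coprime p := ((Nat.Prime.coprime_iff_not_dvd hp.out).mpr hm).symm
  exact Nat.Coprime.coprime_dvd_left h2 h3

/-- A normal subgroup of order prime to `p` and index a power of `p` is the set of `p'`-elements. -/
theorem mem_iff_coprime_of_normal_hall [Finite H] {p : ℕ} [Fact p.Prime] (K : Subgroup H)
    [K.Normal] (hK : (Nat.card K).Coprime p) {n : ℕ} (hidx : K.index = p ^ n) (x : H) :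
    x ∈ K ↔ (orderOf x).Coprime p := by
  constructor
  · intro hx
    have h1 : orderOf (⟨x, hx⟩ : K) ∣ Nat.card K := orderOf_dvd_natCard _
    have h2 : orderOf (⟨x, hx⟩ : K) = orderOf x := by
      rw [← Subgroup.orderOf_coe]
    rw [h2] at h1
    exact Nat.Coprime.coprime_dvd_left h1 hK
  · intro hx
    have h1 : orderOf ((QuotientGroup.mk x : H ⧸ K)) ∣ orderOf x :=
      orderOf_dvd_of_pow_eq_one (by rw [← QuotientGroup.mk_pow, pow_orderOf_eq_one]; rfl)
    have h2 : orderOf ((QuotientGroup.mk x : H ⧸ K)) ∣ p ^ n := by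
      rw [← hidx, Subgroup.index_eq_card]
      exact orderOf_dvd_natCard _
    have h3 : (orderOf ((QuotientGroup.mk x : H ⧸ K))).Coprime (p ^ n) :=
      Nat.Coprime.coprime_dvd_left h1 (Nat.Coprime.pow_right n hx)
    have h4 : orderOf ((QuotientGroup.mk x : H ⧸ K)) = 1 :=
      Nat.Coprime.eq_one_of_dvd h3 h2
    rw [orderOf_eq_one_iff] at h4
    exact (QuotientGroup.eq_one_iff x).mp h4

/-- If the `p'`-elements of a finite group form a subgroup, it is a normal `p`-complement. -/
theorem hasNormalPComplement_of_coprime_elements [Finite H] {p : ℕ} [hp : Fact p.Prime]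
    (K : Subgroup H) (hK : ∀ x : H, x ∈ K ↔ (orderOf x).Coprime p) :
    Cfsg.HasNormalPComplement p H := by
  have hnorm : K.Normal := by
    constructor
    intro x hx g
    rw [hK] at hx ⊢
    have : orderOf (g * x * g⁻¹) = orderOf x := by
      have := orderOf_injective (MulAut.conj g).toMonoidHom (MulAut.conj g).injective x
      simpa using this
    rwa [this]
  have hcard : (Nat.card K).Coprime p := by
    rw [Nat.coprime_comm, Nat.Prime.coprime_iff_not_dvd hp.out]
    intro hdvd
    obtain ⟨y, hy⟩ := exists_prime_orderOf_dvd_card' (G := K) p hdvd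
    have h1 : orderOf (y : H) = p := by rw [Subgroup.orderOf_coe]; exact hy
    have h2 := (hK (y : H)).mp y.2
    rw [h1] at h2
    exact hp.out.ne_one ((Nat.coprime_self p).mp h2)
  have hquot : IsPGroup p (H ⧸ K) := by
    intro q
    obtain ⟨g, rfl⟩ := QuotientGroup.mk_surjective q
    obtain ⟨e, he⟩ := exists_pow_coprime_order (p := p) g
    refine ⟨e, ?_⟩
    rw [← QuotientGroup.mk_pow]
    exact (QuotientGroup.eq_one_iff _).mpr ((hK _).mpr he)
  obtain ⟨n, hn⟩ := IsPGroup.iff_card.mp hquot
  have hidx : K.index = p ^ n := by rw [Subgroup.index_eq_card]; exact hn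
  have hcop : Nat.Coprime (Nat.card K) K.index := by
    rw [hidx]; exact Nat.Coprime.pow_right n hcard
  obtain ⟨Q, hQ⟩ := Subgroup.exists_right_complement'_of_coprime hcop
  have hQcard : Nat.card Q = p ^ n := by
    have := hQ.symm.index_eq_card
    rw [← this, hidx]
  have hQp : IsPGroup p Q := IsPGroup.of_card hQcard
  have hQidx : ¬ p ∣ Q.index := by
    rw [hQ.index_eq_card]
    exact (Nat.Prime.coprime_iff_not_dvd hp.out).mp hcard.symm
  refine ⟨hQp.toSylow hQidx, K, hnorm, ?_⟩
  rw [IsPGroup.toSylow_coe]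
  exact hQ

end Cfsg.Agent.Lib.Helper33
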