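import Mathlib.GroupTheory.Transfer
import Mathlib.GroupTheory.Index
import Cfsg.Prelude.Def_Solvable

set_option autoImplicit false

namespace Cfsg.Agent.Lib.Helper33

variable {G : Type*} [Group G]

theorem card_mul_relIndex_eq' {K L : Subgroup G} (h : K ≤ L) :
    Nat.card K * K.relIndex L = Nat.card L := by
  have := Subgroup.relIndex_mul_relIndex (⊥ : Subgroup G) K L bot_le h
  rwa [Subgroup.relIndex_bot_left, Subgroup.relIndex_bot_left] at this

theorem card_sup_dvd_mul' (H K : Subgroup G) [K.Normal] :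
    Nat.card (H ⊔ K : Subgroup G) ∣ Nat.card H * Nat.card K := by
  rw [← card_mul_relIndex_eq' (le_sup_right : K ≤ H ⊔ K), Subgroup.relIndex_sup_right, mul_comm]
  exact Nat.mul_dvd_mul_right (Subgroup.relIndex_dvd_card K H) _

/-- The `p'`-core of a finite group has order prime to `p`. -/
theorem pPrimeCore_card_coprime' [Finite G] (p : ℕ) :
    (Nat.card (Cfsg.pPrimeCore p G)).Coprime p := by
  classical
  obtain ⟨S, hS⟩ : ∃ S : Set (Subgroup G), S = {N : Subgroup G | N.Normal ∧ (Nat.card N).Coprime p} :=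
    ⟨_, rfl⟩
  have hne : S.Nonempty := ⟨⊥, by rw [hS]; exact ⟨inferInstance, by simp⟩⟩
  obtain ⟨M, hM⟩ := (Set.toFinite S).exists_maximal hne
  have hMS : M ∈ S := hM.prop
  have hMS' : M.Normal ∧ (Nat.card M).Coprime p := by rw [hS] at hMS; exact hMS
  have hle : ∀ N ∈ S, N ≤ M := by
    intro N hN
    have hN' : N.Normal ∧ (Nat.card N).Coprime p := by rw [hS] at hN; exact hN
    have : N.Normal := hN'.1
    have : M.Normal := hMS'.1
    have hsup : M ⊔ N ∈ S := by
      rw [hS]
      refine ⟨inferInstance, ?_⟩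
      exact Nat.Coprime.coprime_dvd_left (card_sup_dvd_mul' M N) (Nat.Coprime.mul_left hMS'.2 hN'.2)
    have := hM.le_of_ge hsup le_sup_left
    exact le_sup_right.trans this
  have : Cfsg.pPrimeCore p G = M := by
    apply le_antisymm
    · apply sSup_le
      intro N hN
      exact hle N (by rw [hS]; exact hN)
    · apply le_sSup
      exact hMS'
  rw [this]
  exact hMS'.2

theorem pPrimeCore_normal (p : ℕ) (G : Type*) [Group G] : (Cfsg.pPrimeCore p G).Normal :=
  Subgroup.sSup_normal _ (fun _ h => h.1)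

/-- Burnside's normal `p`-complement theorem, phrased with the `p'`-core of the prelude. -/
theorem pPrimeCore_eq_ker_transferSylow' {T : Type*} [Group T] [Finite T] {p : ℕ} [Fact p.Prime]
    (P : Sylow p T)
    (hP : Subgroup.normalizer ((P : Subgroup T) : Set T) ≤ Subgroup.centralizer ((P : Subgroup T) : Set T)) :
    Cfsg.pPrimeCore p T = (MonoidHom.transferSylow P hP).ker := by
  have hp : p.Prime := Fact.out
  apply le_antisymm
  · apply sSup_le
    rintro N ⟨hNn, hNc⟩
    intro n hn
    rw [MonoidHom.mem_ker]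
    obtain ⟨t, ht⟩ : ∃ t, t = MonoidHom.transferSylow P hP n := ⟨_, rfl⟩
    rw [← ht]
    obtain ⟨k, hk⟩ := P.isPGroup' t
    have h1 : t ^ Nat.card N = 1 := by
      have : (⟨n, hn⟩ : N) ^ Nat.card N = 1 := pow_card_eq_one'
      have h2 : n ^ Nat.card N = 1 := by
        have h5 : ((⟨n, hn⟩ : N) ^ Nat.card N : N).1 = (1 : N).1 := congrArg Subtype.val this
        rw [SubgroupClass.coe_pow] at h5
        exact h5
      rw [ht, ← map_pow, h2, map_one]
    have h3 : orderOf t ∣ Nat.gcd (p ^ k) (Nat.card N) :=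
      Nat.dvd_gcd (orderOf_dvd_of_pow_eq_one hk) (orderOf_dvd_of_pow_eq_one h1)
    have h4 : Nat.gcd (p ^ k) (Nat.card N) = 1 := by
      apply Nat.Coprime.pow_left
      exact hNc.symm
    rw [h4, Nat.dvd_one, orderOf_eq_one_iff] at h3
    exact h3
  · apply le_sSup
    refine ⟨MonoidHom.normal_ker _, ?_⟩
    have := MonoidHom.not_dvd_card_ker_transferSylow P hP
    exact ((Nat.Prime.coprime_iff_not_dvd hp).mpr this).symm

theorem pPrimeCore_isComplement'' {T : Type*} [Group T] [Finite T] {p : ℕ} [Fact p.Prime]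
    (P : Sylow p T)
    (hP : Subgroup.normalizer ((P : Subgroup T) : Set T) ≤ Subgroup.centralizer ((P : Subgroup T) : Set T)) :
    Subgroup.IsComplement' (Cfsg.pPrimeCore p T) (P : Subgroup T) := by
  rw [pPrimeCore_eq_ker_transferSylow' P hP]
  exact MonoidHom.ker_transferSylow_isComplement' P hP

end Cfsg.Agent.Lib.Helper33
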