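import Cfsg.Agent.Lib.Helper33.Goldschmidt
import Cfsg.Agent.Lib.Helper54.PConstr4

set_option autoImplicit false
set_option linter.style.haveILetI false
set_option linter.unusedSectionVars false

namespace Cfsg.Agent.Lib.Helper33

open Cfsg Subgroup

variable {G : Type*} [Group G]

/-- if all steps lie in a subgroup `K`, so does the product -/
theorem SReach.mem_of_step {St : Subgroup G → G → Prop} (K : Subgroup G)
    (h : ∀ T x, St T x → x ∈ K) {A : Set G} {r : G} (hr : SReach St A r) : r ∈ K := by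
  induction hr with
  | nil A => exact K.one_mem
  | cons A T x g hT _ _ ih => exact K.mul_mem (h T x hT) ih

theorem cj_eq_of_le [Finite G] {g : G} {H : Subgroup G} (h : cj g H ≤ H) : cj g H = H :=
  Subgroup.eq_of_le_of_card_ge h (by rw [card_cj])

section

variable [Finite G] {p : ℕ} [Fact p.Prime] (P : Sylow p G) {U : Subgroup G}

/-- For a member `U` of the Alperin–Goldschmidt family, `P ∩ O_{p',p}(N_G(U)) = U`. -/
theorem inf_lG_le (hU : U ∈ agFamily P) : (P : Subgroup G) ⊓ lG p U ≤ U := by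
  obtain ⟨hUP, hfn, hcent, hk, hUl, hcomm, hbot, hsup⟩ := hU
  have hUp : IsPGroup p U := P.isPGroup'.to_le hUP
  have hU' : IsPGroup p (U.subgroupOf (normalizer (U : Set G))) := hUp.comap_subtype
  have h1 := Cfsg.Agent.Lib.Helper32.not_dvd_relIndex_pPrimeCore_sup hU'
  have h2 : ¬ p ∣ U.relIndex (lG p U) := by
    have h3 := Subgroup.relIndex_map_map_of_injective (U.subgroupOf (normalizer (U : Set G)))
      (pPrimeCore p ↥(normalizer (U : Set G)) ⊔ U.subgroupOf (normalizer (U : Set G)))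
      (Subgroup.subtype_injective (normalizer (U : Set G)))
    rw [Subgroup.map_sup, Subgroup.map_subgroupOf_eq_of_le Subgroup.le_normalizer] at h3
    have h4 : (pPrimeCore p ↥(normalizer (U : Set G))).map (normalizer (U : Set G)).subtype ⊔ U =
        lG p U := hsup
    rw [h4] at h3
    rw [h3]; exact h1
  have h5 := Cfsg.Agent.Lib.Helper32.eq_of_isPGroup_of_not_dvd_relIndex (H := U)
    (K := (P : Subgroup G) ⊓ lG p U) (R := lG p U) (le_inf hUP hUl) inf_le_right
    (P.isPGroup'.to_le inf_le_left) h2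
  exact h5.le

/-- **Radical property** of the Alperin–Goldschmidt family: a subgroup `D`, normal in a normal
subgroup `N₁` of `N_G(U)` and acting on `U` as a `p`-group, lies in `O_{p',p}(N_G(U))`. -/
theorem le_lG_of_subnormal (hU : U ∈ agFamily P) (N₁ D : Subgroup G)
    (hN₁ : N₁ ≤ normalizer (U : Set G)) (hN₁n : normalizer (U : Set G) ≤ normalizer (N₁ : Set G))
    (hD : D ≤ N₁) (hDn : N₁ ≤ normalizer (D : Set G))
    (hpow : ∀ d ∈ D, ∃ k : ℕ, d ^ (p ^ k) ∈ centralizer (U : Set G)) : D ≤ lG p U := by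
  obtain ⟨hUP, hfn, hcent, -⟩ := hU
  haveI hKn : (pPrimeCore p ↥(normalizer (U : Set G))).Normal :=
    Cfsg.Agent.Lib.Helper55.pPrimeCore_normal' p
  obtain ⟨π, hπ⟩ : ∃ π : ↥(normalizer (U : Set G)) →*
      ↥(normalizer (U : Set G)) ⧸ pPrimeCore p ↥(normalizer (U : Set G)),
      π = QuotientGroup.mk' (pPrimeCore p ↥(normalizer (U : Set G))) := ⟨_, rfl⟩
  have hπs : Function.Surjective π := by rw [hπ]; exact QuotientGroup.mk'_surjective _
  obtain ⟨D', hD'⟩ : ∃ D' : Subgroup ↥(normalizer (U : Set G)),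
      D' = D.subgroupOf (normalizer (U : Set G)) := ⟨_, rfl⟩
  obtain ⟨N₁', hN₁'⟩ : ∃ N₁' : Subgroup ↥(normalizer (U : Set G)),
      N₁' = N₁.subgroupOf (normalizer (U : Set G)) := ⟨_, rfl⟩
  have hD'N : D' ≤ N₁' := by
    rw [hD', hN₁']
    intro x hx
    rw [Subgroup.mem_subgroupOf] at hx ⊢
    exact hD hx
  haveI hN₁'n : N₁'.Normal := by
    rw [hN₁']
    constructor
    intro n hn g
    rw [Subgroup.mem_subgroupOf] at hn ⊢
    have := hN₁n g.2
    rw [Subgroup.mem_normalizer_iff] at this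
    have h2 := (this (n : G)).mp hn
    simpa using h2
  haveI hNbar : (N₁'.map π).Normal := Subgroup.Normal.map hN₁'n π hπs
  -- `D̄` is a `p`-group
  have hDbar : IsPGroup p (D'.map π) := by
    rintro ⟨x, hx⟩
    obtain ⟨d, hd, rfl⟩ := hx
    rw [hD', SetLike.mem_coe, Subgroup.mem_subgroupOf] at hd
    obtain ⟨k, hk⟩ := hpow _ hd
    have hk' : d ^ (p ^ k) ∈ pPrimePCore p ↥(normalizer (U : Set G)) := by
      have h1 := hcent hk
      unfold lG at h1
      obtain ⟨y, hy, hye⟩ := h1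
      have : y = d ^ (p ^ k) := by
        apply Subtype.ext
        rw [Subgroup.coe_pow]
        exact hye
      rw [← this]; exact hy
    obtain ⟨j, hj⟩ := Cfsg.Agent.Lib.Helper54.exists_pow_mem_pPrimeCore p hk'
    refine ⟨k + j, ?_⟩
    apply Subtype.ext
    simp only [Subgroup.coe_pow, Subgroup.coe_one]
    rw [← map_pow, hπ, QuotientGroup.mk'_apply, QuotientGroup.eq_one_iff, pow_add, pow_mul]
    exact hj
  have hDbarN : D'.map π ≤ N₁'.map π := Subgroup.map_mono hD'N
  haveI hDbarn : ((D'.map π).subgroupOf (N₁'.map π)).Normal := by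
    constructor
    intro x hx n
    rw [Subgroup.mem_subgroupOf] at hx ⊢
    obtain ⟨d, hd, hde⟩ := hx
    obtain ⟨n', hn', hne⟩ := n.2
    refine ⟨n' * d * n'⁻¹, ?_, ?_⟩
    · rw [hD', SetLike.mem_coe, Subgroup.mem_subgroupOf] at hd ⊢
      rw [hN₁', SetLike.mem_coe, Subgroup.mem_subgroupOf] at hn'
      have := hDn hn'
      rw [Subgroup.mem_normalizer_iff] at this
      have h2 := (this (d : G)).mp hd
      simpa using h2
    · simp only [map_mul, map_inv, hde, hne, Subgroup.coe_mul, Subgroup.coe_inv]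
  have h1 : (D'.map π).subgroupOf (N₁'.map π) ≤ pCore p ↥(N₁'.map π) :=
    Cfsg.Agent.Lib.Helper55.le_pCore p _ hDbar.comap_subtype
  have h2 : D'.map π ≤ pCore p (↥(normalizer (U : Set G)) ⧸ pPrimeCore p ↥(normalizer (U : Set G))) := by
    have h3 := Subgroup.map_mono (f := (N₁'.map π).subtype) h1
    rw [Subgroup.map_subgroupOf_eq_of_le hDbarN] at h3
    exact h3.trans (Cfsg.Agent.Lib.Helper54.map_pCore_le_of_normal p (N₁'.map π))
  have h4 : D' ≤ pPrimePCore p ↥(normalizer (U : Set G)) := by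
    unfold pPrimePCore
    rw [← Subgroup.map_le_iff_le_comap, ← hπ]
    exact h2
  intro d hd
  have hdN : d ∈ normalizer (U : Set G) := hN₁ (hD hd)
  have : (⟨d, hdN⟩ : ↥(normalizer (U : Set G))) ∈ D' := by
    rw [hD', Subgroup.mem_subgroupOf]; exact hd
  exact ⟨⟨d, hdN⟩, h4 this, rfl⟩

/-- A strongly closed subgroup contained in every member of the Alperin–Goldschmidt family has a
normalizer controlling strong fusion. -/
theorem controls_of_le_agFamily (Q : Subgroup G)
    (hsc : ∀ x ∈ Q, ∀ g : G, g * x * g⁻¹ ∈ (P : Subgroup G) → g * x * g⁻¹ ∈ Q)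
    (hle : ∀ U ∈ agFamily P, Q ≤ U) (A : Set G) (g : G) (hA : A ⊆ (P : Subgroup G))
    (hAg : rc g A ⊆ (P : Subgroup G)) :
    ∃ c ∈ centralizer A, ∃ r ∈ normalizer (Q : Set G), g = c * r := by
  obtain ⟨c, r, hc, hr, hg⟩ := alperin_goldschmidt P A g hA hAg
  refine ⟨c, hc, r, ?_, hg⟩
  apply SReach.mem_of_step (normalizer (Q : Set G)) ?_ hr
  rintro T x ⟨hT, hx⟩
  rw [← cj_eq_self_iff]
  apply cj_eq_of_le
  intro y hy
  obtain ⟨q, hq, rfl⟩ := mem_cj'.mp hy
  apply hsc q hq x
  apply hT.1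
  have hqT : q ∈ T := hle T hT hq
  have := cj_eq_self_iff.mpr hx
  rw [← this]
  exact conj_mem_cj hqT

end

end Cfsg.Agent.Lib.Helper33
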