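import Mathlib
import Cfsg.Agent.Lib.Helper33.SylowSub

set_option autoImplicit false
set_option linter.unusedSectionVars false
set_option linter.unusedVariables false
set_option linter.style.haveILetI false

/-!
# General lemmas for the quotient form of `p`-stability
-/

namespace Cfsg.Agent.Lib.Helper33

open Cfsg Subgroup
open scoped commutatorElement

variable {G : Type*} [Group G]

/-- In a finite group, `g V g⁻¹ ≤ V` implies `g ∈ N(V)`. -/
theorem mem_normalizer_of_cj_le [Finite G] {g : G} {V : Subgroup G} (h : cj g V ≤ V) :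
    g ∈ normalizer (V : Set G) := by
  rw [← cj_eq_self_iff]
  apply Subgroup.eq_of_le_of_card_ge h
  rw [card_cj]

/-- The subgroup generated by two commuting elements of order dividing `n`. -/
theorem mem_closure_pair_pow {v w : G} {n : ℕ} (hn : 0 < n) (hvw : v * w = w * v)
    (hv : v ^ n = 1) (hw : w ^ n = 1) {z : G} (hz : z ∈ closure ({v, w} : Set G)) :
    ∃ k l : ℕ, z = v ^ k * w ^ l := by
  have hc : Commute v w := hvw
  induction hz using Subgroup.closure_induction with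
  | mem x hx =>
    rcases hx with rfl | hx
    · exact ⟨1, 0, by simp⟩
    · rw [Set.mem_singleton_iff] at hx
      subst hx
      exact ⟨0, 1, by simp⟩
  | one => exact ⟨0, 0, by simp⟩
  | mul x y _ _ hx hy =>
    obtain ⟨k, l, rfl⟩ := hx
    obtain ⟨k', l', rfl⟩ := hy
    refine ⟨k + k', l + l', ?_⟩
    have h1 : Commute (w ^ l) (v ^ k') := (hc.pow_pow k' l).symm
    calc v ^ k * w ^ l * (v ^ k' * w ^ l') = v ^ k * (w ^ l * v ^ k') * w ^ l' := by group
      _ = v ^ k * (v ^ k' * w ^ l) * w ^ l' := by rw [h1.eq]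
      _ = v ^ (k + k') * w ^ (l + l') := by rw [pow_add, pow_add]; group
  | inv x _ hx =>
    obtain ⟨k, l, rfl⟩ := hx
    refine ⟨k * (n - 1), l * (n - 1), ?_⟩
    have h1 : Commute (v ^ k) (w ^ l) := hc.pow_pow k l
    have hvk : v ^ k * v ^ (k * (n - 1)) = 1 := by
      rw [← pow_add]
      have : k + k * (n - 1) = n * k := by
        cases n with
        | zero => omega
        | succ m => simp only [Nat.add_sub_cancel]; ring
      rw [this, pow_mul, hv, one_pow]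
    have hwl : w ^ l * w ^ (l * (n - 1)) = 1 := by
      rw [← pow_add]
      have : l + l * (n - 1) = n * l := by
        cases n with
        | zero => omega
        | succ m => simp only [Nat.add_sub_cancel]; ring
      rw [this, pow_mul, hw, one_pow]
    have hvk' : v ^ (k * (n - 1)) = (v ^ k)⁻¹ := eq_inv_of_mul_eq_one_right hvk
    have hwl' : w ^ (l * (n - 1)) = (w ^ l)⁻¹ := eq_inv_of_mul_eq_one_right hwl
    rw [hvk', hwl', mul_inv_rev, h1.inv_inv.eq]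

/-- Relative Frattini argument. -/
theorem frattini_rel [Finite G] {q : ℕ} [Fact q.Prime] {L M I : Subgroup G} (hML : M ≤ L)
    (hLM : L ≤ normalizer (M : Set G)) (hIM : I ≤ M) (hI : IsPGroup q I)
    (hIs : ¬ q ∣ I.relIndex M) {l : G} (hl : l ∈ L) :
    ∃ m ∈ M, ∃ n ∈ L ⊓ normalizer (I : Set G), l = m * n := by
  have h1 : cj l I ≤ M := by
    have := cj_mono (g := l) hIM
    rwa [cj_eq_self_iff.mpr (hLM hl)] at this
  obtain ⟨c, hcM, hc⟩ := sylow_sub hIM hI hIs h1 (isPGroup_cj hI)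
  rw [← cj_mul] at hc
  have h2 : c * l ∈ normalizer (I : Set G) := mem_normalizer_of_cj_le hc
  refine ⟨c⁻¹, M.inv_mem hcM, c * l, ⟨L.mul_mem (hML hcM) hl, h2⟩, by group⟩

/-- An element of `p`-power order with `p` odd whose square lies in a subgroup lies in it. -/
theorem mem_of_sq_mem {p : ℕ} [hp : Fact p.Prime] (hp2 : p ≠ 2) {Z : Subgroup G} {r : G} {k : ℕ}
    (hr : r ^ p ^ k = 1) (h : r * r ∈ Z) : r ∈ Z := by
  have hodd : Odd (p ^ k) := ((Fact.out : p.Prime).odd_of_ne_two hp2).pow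
  obtain ⟨m, hm⟩ := hodd
  have h1 : r = (r * r) ^ (m + 1) * (r ^ p ^ k)⁻¹ := by
    rw [← pow_two, ← pow_mul, hm]
    have : 2 * (m + 1) = (2 * m + 1) + 1 := by ring
    rw [this, pow_succ]
    group
  rw [h1, hr, inv_one, mul_one]
  exact Z.pow_mem h _

/-- An element of `p`-power order with `p` odd whose square is trivial is trivial. -/
theorem eq_one_of_sq_eq_one {p : ℕ} [hp : Fact p.Prime] (hp2 : p ≠ 2) {r : G} {k : ℕ}
    (hr : r ^ p ^ k = 1) (h : r * r = 1) : r = 1 := by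
  have := mem_of_sq_mem (Z := (⊥ : Subgroup G)) hp2 hr (by rw [h]; exact Subgroup.one_mem _)
  exact Subgroup.mem_bot.mp this

section classTwo

variable {U Z : Subgroup G}

theorem comm_mem_of_mem {x y : G} (hx : x ∈ U) (hy : y ∈ U) : ⁅x, y⁆ ∈ U := by
  rw [commutatorElement_def]
  exact U.mul_mem (U.mul_mem (U.mul_mem hx hy) (U.inv_mem hx)) (U.inv_mem hy)

/-- Bilinearity of commutators modulo a central subgroup, left variable. -/
theorem comm_mul_left_of_central (hZ : Z ≤ centralizer (U : Set G))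
    (hUU : ∀ x ∈ U, ∀ y ∈ U, ⁅x, y⁆ ∈ Z) {x y z : G} (hx : x ∈ U) (hy : y ∈ U) (hz : z ∈ U) :
    ⁅x * y, z⁆ = ⁅x, z⁆ * ⁅y, z⁆ := by
  have h1 : ⁅y, z⁆ * x = x * ⁅y, z⁆ :=
    (Subgroup.mem_centralizer_iff.mp (hZ (hUU y hy z hz)) x hx).symm
  have h3 : ⁅y, z⁆ * ⁅x, z⁆ = ⁅x, z⁆ * ⁅y, z⁆ :=
    (Subgroup.mem_centralizer_iff.mp (hZ (hUU y hy z hz)) _ (comm_mem_of_mem hx hz)).symm
  have h2 : ⁅x * y, z⁆ = x * ⁅y, z⁆ * x⁻¹ * ⁅x, z⁆ := by
    simp only [commutatorElement_def]; group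
  rw [h2, ← h1, mul_inv_cancel_right, h3]

/-- Bilinearity of commutators modulo a central subgroup, right variable. -/
theorem comm_mul_right_of_central (hZ : Z ≤ centralizer (U : Set G))
    (hUU : ∀ x ∈ U, ∀ y ∈ U, ⁅x, y⁆ ∈ Z) {x y z : G} (hx : x ∈ U) (hy : y ∈ U) (hz : z ∈ U) :
    ⁅x, y * z⁆ = ⁅x, y⁆ * ⁅x, z⁆ := by
  have h1 : ⁅x, z⁆ * y = y * ⁅x, z⁆ :=
    (Subgroup.mem_centralizer_iff.mp (hZ (hUU x hx z hz)) y hy).symm
  have h2 : ⁅x, y * z⁆ = ⁅x, y⁆ * (y * ⁅x, z⁆ * y⁻¹) := by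
    simp only [commutatorElement_def]; group
  rw [h2, ← h1, mul_inv_cancel_right]

theorem comm_pow_left_of_central (hZ : Z ≤ centralizer (U : Set G))
    (hUU : ∀ x ∈ U, ∀ y ∈ U, ⁅x, y⁆ ∈ Z) {x z : G} (hx : x ∈ U) (hz : z ∈ U) (k : ℕ) :
    ⁅x ^ k, z⁆ = ⁅x, z⁆ ^ k := by
  induction k with
  | zero => simp [commutatorElement_def]
  | succ k ih =>
    rw [pow_succ, comm_mul_left_of_central hZ hUU (U.pow_mem hx k) hx hz, ih, pow_succ]

theorem comm_pow_right_of_central (hZ : Z ≤ centralizer (U : Set G))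
    (hUU : ∀ x ∈ U, ∀ y ∈ U, ⁅x, y⁆ ∈ Z) {x z : G} (hx : x ∈ U) (hz : z ∈ U) (k : ℕ) :
    ⁅x, z ^ k⁆ = ⁅x, z⁆ ^ k := by
  induction k with
  | zero => simp [commutatorElement_def]
  | succ k ih =>
    rw [pow_succ, comm_mul_right_of_central hZ hUU hx (U.pow_mem hz k) hz, ih, pow_succ]

theorem comm_eq_one_of_central_right (hZ : Z ≤ centralizer (U : Set G)) {x r : G} (hx : x ∈ U)
    (hr : r ∈ Z) : ⁅x, r⁆ = 1 := by
  rw [commutatorElement_eq_one_iff_mul_comm]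
  exact (Subgroup.mem_centralizer_iff.mp (hZ hr) x hx)

theorem comm_eq_one_of_central_left (hZ : Z ≤ centralizer (U : Set G)) {x r : G} (hx : x ∈ U)
    (hr : r ∈ Z) : ⁅r, x⁆ = 1 := by
  rw [commutatorElement_eq_one_iff_mul_comm]
  exact (Subgroup.mem_centralizer_iff.mp (hZ hr) x hx).symm

/-- All commutators of `U = ⟨a, b⟩ Z` (with `Z` central, `[U, U] ≤ Z`) are powers of `[a, b]`. -/
theorem comm_mem_zpowers_of_coords (hZ : Z ≤ centralizer (U : Set G)) (hZU : Z ≤ U)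
    (hUU : ∀ x ∈ U, ∀ y ∈ U, ⁅x, y⁆ ∈ Z) {a b : G} (ha : a ∈ U) (hb : b ∈ U)
    (hco : ∀ u ∈ U, ∃ k l : ℕ, ∃ r ∈ Z, u = a ^ k * b ^ l * r) {u u' : G} (hu : u ∈ U)
    (hu' : u' ∈ U) : ⁅u, u'⁆ ∈ zpowers ⁅a, b⁆ := by
  -- commutators with `a` and `b`
  have hA : ∀ w ∈ U, ⁅a, w⁆ ∈ zpowers ⁅a, b⁆ := by
    intro w hw
    obtain ⟨k, l, r, hr, rfl⟩ := hco w hw
    have hbl : b ^ l ∈ U := U.pow_mem hb l
    rw [mul_assoc, comm_mul_right_of_central hZ hUU ha (U.pow_mem ha k) (U.mul_mem hbl (hZU hr)),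
      comm_mul_right_of_central hZ hUU ha hbl (hZU hr),
      comm_pow_right_of_central hZ hUU ha ha, comm_pow_right_of_central hZ hUU ha hb,
      comm_eq_one_of_central_right hZ ha hr, commutatorElement_self, one_pow, one_mul, mul_one]
    exact Subgroup.pow_mem _ (Subgroup.mem_zpowers _) _
  have hB : ∀ w ∈ U, ⁅b, w⁆ ∈ zpowers ⁅a, b⁆ := by
    intro w hw
    obtain ⟨k, l, r, hr, rfl⟩ := hco w hw
    have hbl : b ^ l ∈ U := U.pow_mem hb l
    rw [mul_assoc, comm_mul_right_of_central hZ hUU hb (U.pow_mem ha k) (U.mul_mem hbl (hZU hr)),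
      comm_mul_right_of_central hZ hUU hb hbl (hZU hr),
      comm_pow_right_of_central hZ hUU hb ha, comm_pow_right_of_central hZ hUU hb hb,
      comm_eq_one_of_central_right hZ hb hr, commutatorElement_self, one_pow, mul_one, mul_one,
      ← commutatorElement_inv a b]
    exact Subgroup.pow_mem _ (Subgroup.inv_mem _ (Subgroup.mem_zpowers _)) _
  obtain ⟨k, l, r, hr, rfl⟩ := hco u hu
  have hbl : b ^ l ∈ U := U.pow_mem hb l
  rw [mul_assoc, comm_mul_left_of_central hZ hUU (U.pow_mem ha k) (U.mul_mem hbl (hZU hr)) hu',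
    comm_mul_left_of_central hZ hUU hbl (hZU hr) hu',
    comm_pow_left_of_central hZ hUU ha hu', comm_pow_left_of_central hZ hUU hb hu',
    comm_eq_one_of_central_left hZ hu' hr, mul_one]
  exact Subgroup.mul_mem _ (Subgroup.pow_mem _ (hA u' hu') _) (Subgroup.pow_mem _ (hB u' hu') _)

end classTwo

section transvections

variable {K : Type*} [Group K]

/-- the Weyl element `ω = φ φ'⁻¹ φ` of a pair of opposite transvections -/
theorem weyl_act (φ φ' : MulAut K) (v w : K) (hvw : v * w = w * v) (r1 : φ v = v)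
    (r2 : φ w = w * v) (r3 : φ' v = v * w) (r4 : φ' w = w) :
    (φ * φ'⁻¹ * φ) v = w⁻¹ ∧ (φ * φ'⁻¹ * φ) w = v := by
  have h1 : φ'⁻¹ v = v * w⁻¹ := by
    rw [MulAut.inv_apply, MulEquiv.symm_apply_eq, map_mul, map_inv, r3, r4, mul_inv_cancel_right]
  have h2 : φ'⁻¹ w = w := by
    rw [MulAut.inv_apply, MulEquiv.symm_apply_eq, r4]
  constructor
  · rw [MulAut.mul_apply, MulAut.mul_apply, r1, h1, map_mul, map_inv, r1, r2, mul_inv_rev,
      mul_inv_cancel_left]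
  · rw [MulAut.mul_apply, MulAut.mul_apply, r2, map_mul, h1, h2, ← mul_assoc, ← hvw,
      mul_inv_cancel_right, r1]

/-- the product `τ = φ (ω φ ω⁻¹) φ` of three conjugates of `φ` -/
theorem tau_act (φ φ' : MulAut K) (v w : K) (hvw : v * w = w * v) (r1 : φ v = v)
    (r2 : φ w = w * v) (r3 : φ' v = v * w) (r4 : φ' w = w) :
    (φ * ((φ * φ'⁻¹ * φ) * φ * (φ * φ'⁻¹ * φ)⁻¹) * φ) v = w⁻¹ ∧
      (φ * ((φ * φ'⁻¹ * φ) * φ * (φ * φ'⁻¹ * φ)⁻¹) * φ) w = v := by
  obtain ⟨ω, hω⟩ : ∃ ω : MulAut K, ω = φ * φ'⁻¹ * φ := ⟨_, rfl⟩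
  obtain ⟨ho1, ho2⟩ := weyl_act φ φ' v w hvw r1 r2 r3 r4
  rw [← hω] at ho1 ho2 ⊢
  have h1 : ω⁻¹ v = w := by
    rw [MulAut.inv_apply, MulEquiv.symm_apply_eq, ho2]
  have h2 : ω⁻¹ w = v⁻¹ := by
    rw [MulAut.inv_apply, MulEquiv.symm_apply_eq, map_inv, ho1, inv_inv]
  constructor
  · rw [MulAut.mul_apply, MulAut.mul_apply, MulAut.mul_apply, MulAut.mul_apply, r1, h1, r2,
      map_mul, ho1, ho2, map_mul, map_inv, r1, r2, mul_inv_rev, mul_inv_cancel_left]
  · rw [MulAut.mul_apply, MulAut.mul_apply, MulAut.mul_apply, MulAut.mul_apply, r2, map_mul, h1, h2,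
      map_mul, map_inv, r1, r2, ← mul_assoc]
    have h3 : v⁻¹ * w * v = w := by rw [mul_assoc, ← hvw, inv_mul_cancel_left]
    rw [h3, ho2, r1]

/-- an odd power of `τ` does not fix `v`. -/
theorem tau_pow_ne (φ φ' : MulAut K) (v w : K) (hvw : v * w = w * v) (r1 : φ v = v)
    (r2 : φ w = w * v) (r3 : φ' v = v * w) (r4 : φ' w = w) (hv : v ≠ 1) {n : ℕ} (hn : Odd n) :
    ((φ * ((φ * φ'⁻¹ * φ) * φ * (φ * φ'⁻¹ * φ)⁻¹) * φ) ^ n) v ≠ v := by
  obtain ⟨τ, hτ⟩ : ∃ τ : MulAut K, τ = φ * ((φ * φ'⁻¹ * φ) * φ * (φ * φ'⁻¹ * φ)⁻¹) * φ :=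
    ⟨_, rfl⟩
  obtain ⟨ht1, ht2⟩ := tau_act φ φ' v w hvw r1 r2 r3 r4
  rw [← hτ] at ht1 ht2 ⊢
  have e1 : τ w⁻¹ = v⁻¹ := by rw [map_inv, ht2]
  have e2 : τ v⁻¹ = w := by rw [map_inv, ht1, inv_inv]
  have h4v : (τ ^ 4) v = v := by
    have : τ ^ 4 = τ * τ * τ * τ := by rw [pow_succ, pow_succ, pow_succ, pow_one]
    rw [this, MulAut.mul_apply, MulAut.mul_apply, MulAut.mul_apply, ht1, e1, e2, ht2]
  have h4q : ∀ q : ℕ, ((τ ^ 4) ^ q) v = v := by
    intro q
    induction q with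
    | zero => simp
    | succ q ih => rw [pow_succ, MulAut.mul_apply, h4v, ih]
  -- the two bad cases
  have hc1 : w⁻¹ ≠ v := by
    intro h
    apply hv
    have h5 : φ (w⁻¹) = φ v := by rw [h]
    rw [map_inv, r2, r1, ← h, mul_inv_cancel, inv_one] at h5
    rw [← h]; exact h5.symm
  have hc2 : w ≠ v := by
    intro h
    apply hv
    have h5 : φ w = φ v := by rw [h]
    rw [r2, r1, h] at h5
    exact mul_left_cancel (h5.trans (mul_one v).symm)
  obtain ⟨m, hm⟩ := hn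
  rcases Nat.even_or_odd' m with ⟨q, hq | hq⟩
  · -- n = 4q + 1
    have : τ ^ n = τ * (τ ^ 4) ^ q := by
      rw [hm, hq, ← pow_mul]
      have : 2 * (2 * q) + 1 = 4 * q + 1 := by ring
      rw [this, pow_succ']
    rw [this, MulAut.mul_apply, h4q, ht1]
    exact hc1
  · -- n = 4q + 3
    have : τ ^ n = τ * τ * τ * (τ ^ 4) ^ q := by
      rw [hm, hq, ← pow_mul]
      have : 2 * (2 * q + 1) + 1 = 3 + 4 * q := by ring
      rw [this, pow_add, pow_succ, pow_succ, pow_one]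
    rw [this, MulAut.mul_apply, MulAut.mul_apply, MulAut.mul_apply, h4q, ht1, e1, e2]
    exact hc2

end transvections

end Cfsg.Agent.Lib.Helper33
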