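import Cfsg.Prelude.Def_ConjugacyFunctors
import Cfsg.Agent.Lib.Helper33.Control

set_option autoImplicit false

namespace Cfsg.Agent.Lib.Helper33

variable {G : Type*} [Group G]

/-- A Sylow subgroup `R` of `N` meets a subgroup `C` normalized by `N` in a Sylow subgroup of `C`. -/
theorem sylow_inf_normal [Finite G] {p : ℕ} [Fact p.Prime] {N R C : Subgroup G} (hRN : R ≤ N)
    (hRp : IsPGroup p R) (hRi : ¬ p ∣ R.relIndex N) (hCN : C ≤ N)
    (hnorm : N ≤ Subgroup.normalizer (C : Set G)) : ¬ p ∣ (R ⊓ C).relIndex C := by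
  have hp : IsPGroup p (R ⊓ C : Subgroup G) := hRp.to_le inf_le_left
  obtain ⟨C1, h1, h2, h3, h4⟩ := exists_sylow_ge (K := C) inf_le_right hp
  obtain ⟨n, hn, hle⟩ := sylow_sub hRN hRp hRi (le_trans h2 hCN) h3
  have hC : cj n C1 ≤ C := by
    have : cj n C = C := cj_eq_self_iff.mpr (hnorm hn)
    rw [← this]
    exact cj_mono h2
  have hle' : cj n C1 ≤ R ⊓ C := le_inf hle hC
  have hcard : Nat.card C1 ≤ Nat.card (R ⊓ C : Subgroup G) := by
    rw [← card_cj n C1]
    exact Subgroup.card_le_of_le hle'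
  have : (R ⊓ C : Subgroup G) = C1 := Subgroup.eq_of_le_of_card_ge h1 hcard
  rw [this]
  exact h4

/-- Frattini argument for the centralizer: an element of `N(T)` acts on `T` like an element that also
normalizes `C_P(T)`, when `T` is fully normalized. -/
theorem frattini_centralizer [Finite G] {p : ℕ} [Fact p.Prime] (P : Sylow p G) {T : Subgroup G}
    (hfn : FN p (P : Subgroup G) T) {x : G}
    (hx : x ∈ Subgroup.normalizer (T : Set G)) :
    ∃ y ∈ Subgroup.normalizer (T : Set G) ⊓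
        Subgroup.normalizer (((P : Subgroup G) ⊓ Subgroup.centralizer (T : Set G) : Subgroup G) : Set G),
      ∀ a ∈ T, y⁻¹ * a * y = x⁻¹ * a * x := by
  set N := Subgroup.normalizer (T : Set G) with hN
  set C := Subgroup.centralizer (T : Set G) with hC
  set R := (P : Subgroup G) ⊓ N with hR
  have hRp : IsPGroup p R := P.isPGroup'.to_le inf_le_left
  have hCN : C ≤ N := by
    intro c hc
    rw [hN, Subgroup.mem_normalizer_iff]
    intro h
    have hc' := Subgroup.mem_centralizer_iff.mp hc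
    constructor
    · intro hh
      have := hc' h hh
      have e : c * h * c⁻¹ = h := by rw [← this]; group
      rw [e]; exact hh
    · intro hh
      have := hc' _ hh
      have e : h = c * h * c⁻¹ := by
        have : c * (c * h * c⁻¹) = c * h := by rw [← this]; group
        have := mul_left_cancel this
        exact this.symm
      rw [e]; exact hh
  have hnorm : N ≤ Subgroup.normalizer (C : Set G) := by
    intro n hn
    rw [← cj_eq_self_iff, hC, ← centralizer_cj, cj_eq_self_iff.mpr hn]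
  have hsyl : ¬ p ∣ (R ⊓ C).relIndex C := sylow_inf_normal inf_le_right hRp hfn hCN hnorm
  have hRC : R ⊓ C = (P : Subgroup G) ⊓ C := by
    rw [hR, inf_assoc, inf_of_le_right hCN]
  rw [hRC] at hsyl
  have hPCp : IsPGroup p ((P : Subgroup G) ⊓ C : Subgroup G) := P.isPGroup'.to_le inf_le_left
  -- the conjugate of `P ⊓ C` by `x⁻¹` is another Sylow subgroup of `C`
  have hxC : cj x⁻¹ C = C := cj_eq_self_iff.mpr (hnorm (inv_mem hx))
  have h1 : cj x⁻¹ ((P : Subgroup G) ⊓ C) ≤ C :=
    le_trans (cj_mono inf_le_right) (le_of_eq hxC)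
  have h1i : ¬ p ∣ (cj x⁻¹ ((P : Subgroup G) ⊓ C)).relIndex C := by
    have := relIndex_cj x⁻¹ ((P : Subgroup G) ⊓ C) C
    rw [hxC] at this
    rw [this]; exact hsyl
  obtain ⟨c, hc, hcc⟩ := sylow_sub_eq h1 (isPGroup_cj hPCp) h1i inf_le_right hPCp hsyl
  rw [← cj_mul] at hcc
  refine ⟨(c * x⁻¹)⁻¹, Subgroup.mem_inf.mpr ⟨?_, ?_⟩, ?_⟩
  · exact inv_mem (N.mul_mem (hCN hc) (inv_mem hx))
  · exact inv_mem (cj_eq_self_iff.mp hcc)
  · intro a ha
    have hxa : x⁻¹ * a * x ∈ T := (Subgroup.mem_normalizer_iff''.mp hx a).mp ha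
    have hcomm := Subgroup.mem_centralizer_iff.mp hc _ hxa
    calc (c * x⁻¹)⁻¹⁻¹ * a * (c * x⁻¹)⁻¹ = c * (x⁻¹ * a * x) * c⁻¹ := by group
      _ = (x⁻¹ * a * x) * c * c⁻¹ := by rw [hcomm]
      _ = x⁻¹ * a * x := by group

end Cfsg.Agent.Lib.Helper33
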