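import Mathlib
import Cfsg.Prelude.Def_ClassicalGeometry
import Cfsg.Prelude.Def_GeometricClasses
import Cfsg.Agent.Lib.Helper5.HyDefs
import Cfsg.Agent.Lib.Helper14.FiniteQuad3
import Cfsg.Agent.Lib.Helper55.HySUP

/-! HY-T1 (plus_sup) of the S5992/S5993 hive (helper5): the type of an orthogonal sum is the product
of the types.  Uses helper14's classification of symmetric forms over finite fields
(`disc_of_lagrangian`, `exists_lagrangian_of_disc`, `disc_change`). -/

set_option autoImplicit false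

namespace Cfsg.Agent.Lib.Helper5.Hy

open Polynomial Module
open Cfsg.Agent.Lib.Helper2.BG Cfsg.Agent.Lib.Helper99 Cfsg.Agent.Lib.Helper48.Ti
open Cfsg.Agent.Lib.Helper67.Ts

section abstract

variable {F V : Type*} [Field F] [Fintype F] [AddCommGroup V] [Module F V] [FiniteDimensional F V]
variable {B : V →ₗ[F] V →ₗ[F] F}

/-- squares have index two in a finite field -/
theorem t1_isSquare_mul {x y : F} (hx : x ≠ 0) (hy : y ≠ 0) :
    IsSquare (x * y) ↔ (IsSquare x ↔ IsSquare y) := by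
  classical
  rw [← quadraticChar_one_iff_isSquare hx, ← quadraticChar_one_iff_isSquare hy,
    ← quadraticChar_one_iff_isSquare (mul_ne_zero hx hy), map_mul]
  rcases quadraticChar_dichotomy hx with h | h <;> rcases quadraticChar_dichotomy hy with h' | h' <;>
    rw [h, h'] <;> norm_num

/-- the restricted form is symmetric -/
theorem t1_restrict_symm (hs : ∀ u v, B u v = B v u) (W : Submodule F V) :
    (LinearMap.BilinForm.restrict B W).IsSymm :=
  ⟨fun x y => hs (x : V) (y : V)⟩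

/-- the restricted form is nondegenerate -/
theorem t1_restrict_nondegenerate (hs : ∀ u v, B u v = B v u) {W : Submodule F V} (hW : Nd B W) :
    (LinearMap.BilinForm.restrict B W).Nondegenerate := by
  have hsep : ∀ v : W, (∀ w : W, (LinearMap.BilinForm.restrict B W) v w = 0) → v = 0 := by
    intro v hv
    apply Subtype.ext
    exact hW v v.2 (fun w hw => hv ⟨w, hw⟩)
  refine ⟨fun v hv => hsep v hv, fun v hv => hsep v (fun w => ?_)⟩
  have h3 : B (w : V) (v : V) = 0 := hv w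
  show B (v : V) (w : V) = 0
  rw [hs, h3]

/-- `Plus` in terms of the restricted form -/
theorem t1_plus_iff_lagr (W : Submodule F V) (e : ℕ) (he : finrank F W = 2 * e) :
    Plus B W ↔ ∃ X : Submodule F W, finrank F X = e ∧
      ∀ x ∈ X, ∀ y ∈ X, (LinearMap.BilinForm.restrict B W) x y = 0 := by
  constructor
  · rintro ⟨U, hUW, hU, hdim⟩
    refine ⟨U.comap W.subtype, ?_, ?_⟩
    · rw [(Submodule.comapSubtypeEquivOfLe hUW).finrank_eq]
      omega
    · intro x hx y hy
      exact hU _ hx _ hy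
  · rintro ⟨X, hX, hti⟩
    refine ⟨X.map W.subtype, ?_, ?_, ?_⟩
    · rintro _ ⟨w, _, rfl⟩
      exact w.2
    · rintro _ ⟨a, ha, rfl⟩ _ ⟨b, hb, rfl⟩
      exact hti a ha b hb
    · rw [← (Submodule.equivMapOfInjective W.subtype W.injective_subtype X).finrank_eq, hX, he]

/-- `Plus` in terms of the discriminant -/
theorem t1_plus_iff_disc (h2 : (2 : F) ≠ 0) (hs : ∀ u v, B u v = B v u) {W : Submodule F V}
    (hW : Nd B W) (e : ℕ) (he1 : 1 ≤ e) (he : finrank F W = 2 * e)
    {ι : Type*} [Fintype ι] [DecidableEq ι] (b : Basis ι F W) :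
    Plus B W ↔ IsSquare ((LinearMap.BilinForm.toMatrix b (LinearMap.BilinForm.restrict B W)).det
      * (-1) ^ e) := by
  have hS := t1_restrict_symm hs W
  have hN := t1_restrict_nondegenerate hs hW
  have hcard : Fintype.card ι = 2 * e := by
    rw [← he, Module.finrank_eq_card_basis b]
  have hdet0 : (LinearMap.BilinForm.toMatrix b (LinearMap.BilinForm.restrict B W)).det ≠ 0 :=
    (LinearMap.BilinForm.nondegenerate_iff_det_ne_zero b).mp hN
  have hpm : ((-1 : F) ^ e) * (-1) ^ e = 1 := by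
    rw [← mul_pow]; simp
  rw [t1_plus_iff_lagr W e he]
  constructor
  · rintro ⟨X, hX, hti⟩
    obtain ⟨b₁, p, hp, hdet⟩ := Cfsg.Agent.Lib.Helper14.disc_of_lagrangian
      (LinearMap.BilinForm.restrict B W) hS hN e he X hX hti
    have hre := Cfsg.Agent.Lib.Helper14.det_toMatrix_reindex (LinearMap.BilinForm.restrict B W) b₁
      (b₁.indexEquiv b)
    have hch := Cfsg.Agent.Lib.Helper14.disc_change (LinearMap.BilinForm.restrict B W)
      (b₁.reindex (b₁.indexEquiv b)) b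
    rw [hre, hdet] at hch
    rw [hch]
    refine ⟨((b₁.reindex (b₁.indexEquiv b)).toMatrix b).det * p, ?_⟩
    linear_combination (((b₁.reindex (b₁.indexEquiv b)).toMatrix b).det ^ 2 * p ^ 2) * hpm
  · rintro ⟨s, hsq⟩
    have hs0 : s ≠ 0 := by
      rintro rfl
      rw [mul_zero] at hsq
      rcases mul_eq_zero.mp hsq with h | h
      · exact hdet0 h
      · exact pow_ne_zero e (neg_ne_zero.mpr one_ne_zero) h
    obtain ⟨X, hX, hti⟩ := Cfsg.Agent.Lib.Helper14.exists_lagrangian_of_disc h2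
      (LinearMap.BilinForm.restrict B W) hS hN e he1 b hcard s hs0 (by
        linear_combination ((-1 : F) ^ e) * hsq -
          (LinearMap.BilinForm.toMatrix b (LinearMap.BilinForm.restrict B W)).det * hpm)
    exact ⟨X, hX, hti⟩

/-- the sum map `W₀ × W₁ → W₀ ⊔ W₁` as a linear equivalence, for disjoint `W₀`, `W₁` -/
noncomputable def t1_sumEquiv (W₀ W₁ : Submodule F V) (hd : W₀ ⊓ W₁ = ⊥) :
    (W₀ × W₁) ≃ₗ[F] ↥(W₀ ⊔ W₁) :=
  LinearEquiv.ofBijective
    ((Submodule.inclusion (le_sup_left : W₀ ≤ W₀ ⊔ W₁)).coprod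
      (Submodule.inclusion (le_sup_right : W₁ ≤ W₀ ⊔ W₁)))
    (by
      constructor
      · rw [← LinearMap.ker_eq_bot, LinearMap.ker_eq_bot']
        rintro ⟨x, y⟩ hxy
        have h1 : (x : V) + (y : V) = 0 := by
          have := congrArg Subtype.val hxy
          simpa using this
        have hx : (x : V) ∈ W₀ ⊓ W₁ := by
          refine ⟨x.2, ?_⟩
          have : (x : V) = -(y : V) := eq_neg_of_add_eq_zero_left h1
          rw [this]
          exact W₁.neg_mem y.2
        rw [hd, Submodule.mem_bot] at hx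
        have hy : (y : V) = 0 := by rwa [hx, zero_add] at h1
        ext
        · exact hx
        · exact hy
      · rintro ⟨w, hw⟩
        obtain ⟨x, hx, y, hy, rfl⟩ := Submodule.mem_sup.mp hw
        refine ⟨(⟨x, hx⟩, ⟨y, hy⟩), ?_⟩
        apply Subtype.ext
        simp)

theorem t1_sumEquiv_apply (W₀ W₁ : Submodule F V) (hd : W₀ ⊓ W₁ = ⊥) (x : W₀) (y : W₁) :
    ((t1_sumEquiv W₀ W₁ hd (x, y) : ↥(W₀ ⊔ W₁)) : V) = (x : V) + (y : V) := by
  rfl

theorem t1_plus_bot : Plus B (⊥ : Submodule F V) := by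
  refine ⟨⊥, le_refl _, ?_, by simp⟩
  intro u hu v _
  rw [(Submodule.mem_bot F).mp hu, map_zero, LinearMap.zero_apply]

/-- HY-T1: the type of an orthogonal sum is the product of the types. -/
theorem plus_sup (h2 : (2 : F) ≠ 0) (hs : ∀ u v, B u v = B v u) {W₀ W₁ : Submodule F V}
    (h₀ : Nd B W₀) (h₁ : Nd B W₁) (ho : Orth B W₀ W₁) (he₀ : Even (finrank F W₀))
    (he₁ : Even (finrank F W₁)) :
    Plus B (W₀ ⊔ W₁) ↔ (Plus B W₀ ↔ Plus B W₁) := by
  classical
  obtain ⟨e₀, he₀⟩ := he₀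
  obtain ⟨e₁, he₁⟩ := he₁
  have hbot : Plus B (⊥ : Submodule F V) := t1_plus_bot
  rcases Nat.eq_zero_or_pos e₀ with h0 | h0pos
  · have hW : W₀ = ⊥ := by
      rw [← Submodule.finrank_eq_zero (R := F)]
      omega
    rw [hW, bot_sup_eq]
    constructor
    · intro h
      exact ⟨fun _ => h, fun _ => hbot⟩
    · intro h
      exact h.mp hbot
  rcases Nat.eq_zero_or_pos e₁ with h1 | h1pos
  · have hW : W₁ = ⊥ := by
      rw [← Submodule.finrank_eq_zero (R := F)]
      omega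
    rw [hW, sup_bot_eq]
    constructor
    · intro h
      exact ⟨fun _ => hbot, fun _ => h⟩
    · intro h
      exact h.mpr hbot
  obtain ⟨hnd, hd, hfr⟩ := nd_sup hs h₀ h₁ ho
  let b₀ : Basis (Fin (finrank F W₀)) F W₀ := Module.finBasis F W₀
  let b₁ : Basis (Fin (finrank F W₁)) F W₁ := Module.finBasis F W₁
  let b : Basis (Fin (finrank F W₀) ⊕ Fin (finrank F W₁)) F ↥(W₀ ⊔ W₁) :=
    (b₀.prod b₁).map (t1_sumEquiv W₀ W₁ hd)
  have hbl : ∀ i, ((b (Sum.inl i) : ↥(W₀ ⊔ W₁)) : V) = (b₀ i : V) := by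
    intro i
    have h1 : (b₀.prod b₁) (Sum.inl i) = (b₀ i, 0) := by
      ext
      · simp
      · simp
    show ((t1_sumEquiv W₀ W₁ hd ((b₀.prod b₁) (Sum.inl i)) : ↥(W₀ ⊔ W₁)) : V) = _
    rw [h1, t1_sumEquiv_apply]
    simp
  have hbr : ∀ j, ((b (Sum.inr j) : ↥(W₀ ⊔ W₁)) : V) = (b₁ j : V) := by
    intro j
    have h1 : (b₀.prod b₁) (Sum.inr j) = (0, b₁ j) := by
      ext
      · simp
      · simp
    show ((t1_sumEquiv W₀ W₁ hd ((b₀.prod b₁) (Sum.inr j)) : ↥(W₀ ⊔ W₁)) : V) = _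
    rw [h1, t1_sumEquiv_apply]
    simp
  have hM : LinearMap.BilinForm.toMatrix b (LinearMap.BilinForm.restrict B (W₀ ⊔ W₁)) =
      Matrix.fromBlocks (LinearMap.BilinForm.toMatrix b₀ (LinearMap.BilinForm.restrict B W₀)) 0 0
        (LinearMap.BilinForm.toMatrix b₁ (LinearMap.BilinForm.restrict B W₁)) := by
    ext i j
    rw [LinearMap.BilinForm.toMatrix_apply]
    show B ((b i : ↥(W₀ ⊔ W₁)) : V) ((b j : ↥(W₀ ⊔ W₁)) : V) = _
    rcases i with i | i <;> rcases j with j | j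
    · rw [hbl, hbl, Matrix.fromBlocks_apply₁₁, LinearMap.BilinForm.toMatrix_apply]
      rfl
    · rw [hbl, hbr, Matrix.fromBlocks_apply₁₂, Matrix.zero_apply]
      exact ho _ (b₀ i).2 _ (b₁ j).2
    · rw [hbr, hbl, Matrix.fromBlocks_apply₂₁, Matrix.zero_apply, hs]
      exact ho _ (b₀ j).2 _ (b₁ i).2
    · rw [hbr, hbr, Matrix.fromBlocks_apply₂₂, LinearMap.BilinForm.toMatrix_apply]
      rfl
  have hdet0 : (LinearMap.BilinForm.toMatrix b₀ (LinearMap.BilinForm.restrict B W₀)).det ≠ 0 :=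
    (LinearMap.BilinForm.nondegenerate_iff_det_ne_zero b₀).mp (t1_restrict_nondegenerate hs h₀)
  have hdet1 : (LinearMap.BilinForm.toMatrix b₁ (LinearMap.BilinForm.restrict B W₁)).det ≠ 0 :=
    (LinearMap.BilinForm.nondegenerate_iff_det_ne_zero b₁).mp (t1_restrict_nondegenerate hs h₁)
  have hm1 : ∀ e : ℕ, ((-1 : F)) ^ e ≠ 0 := fun e => pow_ne_zero e (neg_ne_zero.mpr one_ne_zero)
  rw [t1_plus_iff_disc h2 hs hnd (e₀ + e₁) (by omega) (by omega) b,
    t1_plus_iff_disc h2 hs h₀ e₀ h0pos (by omega) b₀,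
    t1_plus_iff_disc h2 hs h₁ e₁ h1pos (by omega) b₁, hM, Matrix.det_fromBlocks_zero₂₁]
  rw [← t1_isSquare_mul (mul_ne_zero hdet0 (hm1 e₀)) (mul_ne_zero hdet1 (hm1 e₁))]
  have : (LinearMap.BilinForm.toMatrix b₀ (LinearMap.BilinForm.restrict B W₀)).det *
      (LinearMap.BilinForm.toMatrix b₁ (LinearMap.BilinForm.restrict B W₁)).det * (-1) ^ (e₀ + e₁) =
      (LinearMap.BilinForm.toMatrix b₀ (LinearMap.BilinForm.restrict B W₀)).det * (-1) ^ e₀ *
      ((LinearMap.BilinForm.toMatrix b₁ (LinearMap.BilinForm.restrict B W₁)).det * (-1) ^ e₁) := by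
    rw [pow_add]; ring
  rw [this]

end abstract

end Cfsg.Agent.Lib.Helper5.Hy
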