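import Cfsg.Agent.Lib.Helper33.NormalFusion

set_option autoImplicit false
set_option linter.style.haveILetI false
set_option linter.unusedSectionVars false

namespace Cfsg.Agent.Lib.Helper33

open Cfsg Subgroup

variable {G : Type*} [Group G]

/-- Replace every step of an `SReach` chain by a good conjugation. -/
theorem SReach.good [Finite G] {St : Subgroup G → G → Prop} {Good : Set G → G → Prop}
    (hmono : ∀ {A B : Set G} {g : G}, Good A g → B ⊆ A → Good B g)
    (htrans : ∀ {A : Set G} {g h : G}, Good A g → Good (rc g A) h → Good A (g * h))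
    (hone : ∀ A : Set G, Good A 1) {k : ℕ}
    (hstep : ∀ T x, St T x → k ≤ Nat.card T → Good (T : Set G) x)
    {B : Set G} {r : G} (h : SReach St B r) (hk : k ≤ Nat.card (Subgroup.closure B)) :
    Good B r := by
  induction h with
  | nil A => exact hone A
  | cons A T x g hT hA _ ih =>
    have hle : Subgroup.closure A ≤ T := (Subgroup.closure_le T).mpr hA
    have hkT : k ≤ Nat.card T := le_trans hk (Subgroup.card_le_of_le hle)
    have h1 : Good A x := hmono (hstep T x hT hkT) hA
    apply htrans h1
    apply ih
    rw [closure_rc, card_cj]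
    exact hk

/-- **Induction principle through the Alperin–Goldschmidt family.** To prove that every conjugation
between subsets of `P` is good, it suffices to treat normalizers of members `U` of the family,
assuming the result for all subsets generating a subgroup of larger order than `U`. -/
theorem ag_induction [Finite G] {p : ℕ} [Fact p.Prime] (P : Sylow p G) (Good : Set G → G → Prop)
    (hmono : ∀ {A B : Set G} {g : G}, Good A g → B ⊆ A → Good B g)
    (htrans : ∀ {A : Set G} {g h : G}, Good A g → Good (rc g A) h → Good A (g * h))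
    (hcent : ∀ {A : Set G} {c : G}, c ∈ centralizer A → Good A c)
    (hstep : ∀ U ∈ agFamily P, ∀ x ∈ normalizer (U : Set G),
      (∀ (A : Set G) (g : G), A ⊆ (P : Subgroup G) → rc g A ⊆ (P : Subgroup G) →
        Nat.card U < Nat.card (Subgroup.closure A) → Good A g) → Good (U : Set G) x) :
    ∀ (A : Set G) (g : G), A ⊆ (P : Subgroup G) → rc g A ⊆ (P : Subgroup G) → Good A g := by
  intro A g hA hAg
  obtain ⟨d, hd⟩ : ∃ d, Nat.card (P : Subgroup G) - Nat.card (Subgroup.closure A) = d := ⟨_, rfl⟩
  induction d using Nat.strong_induction_on generalizing A g with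
  | _ d ih =>
  obtain ⟨c, r, hc, hr, rfl⟩ := alperin_goldschmidt P A g hA hAg
  have hone : ∀ B : Set G, Good B 1 := fun B => hcent (Subgroup.one_mem _)
  apply htrans (hcent hc)
  rw [rc_of_mem_centralizer hc]
  apply SReach.good (St := GStep P) (Good := Good) hmono htrans hone
    (k := Nat.card (Subgroup.closure A)) ?_ hr le_rfl
  rintro T x ⟨hT, hx⟩ hkT
  apply hstep T hT x hx
  intro A' g' hA' hAg' hlt
  have hA'P : Nat.card (Subgroup.closure A') ≤ Nat.card (P : Subgroup G) :=
    Subgroup.card_le_of_le ((Subgroup.closure_le _).mpr hA')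
  apply ih (Nat.card (P : Subgroup G) - Nat.card (Subgroup.closure A')) ?_ A' g' hA' hAg' rfl
  rw [← hd]
  omega

end Cfsg.Agent.Lib.Helper33
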