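import Cfsg.Agent.Lib.Helper33.NormalFusion

set_option autoImplicit false
set_option linter.style.haveILetI false
set_option linter.unusedSectionVars false

namespace Cfsg.Agent.Lib.Helper33

open Cfsg Subgroup

variable {G : Type*} [Group G]

/-- `𝒦` controls strong fusion in `S` with respect to `N`. -/
def Ctrl (N S 𝒦 : Subgroup G) : Prop :=
  ∀ A : Subgroup G, A ≤ S → ∀ n ∈ N, cj n A ≤ S →
    ∃ h ∈ 𝒦, ∃ c ∈ N ⊓ centralizer (A : Set G), n = h * c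

theorem Ctrl.mono {N S 𝒦 𝒦' : Subgroup G} (h : Ctrl N S 𝒦) (hle : 𝒦 ≤ 𝒦') : Ctrl N S 𝒦' := by
  intro A hA n hn hAn
  obtain ⟨k, hk, c, hc, e⟩ := h A hA n hn hAn
  exact ⟨k, hle hk, c, hc, e⟩

theorem ctrl_self (N S : Subgroup G) : Ctrl N S N := by
  intro A _ n hn _
  exact ⟨n, hn, 1, Subgroup.one_mem _, (mul_one n).symm⟩

/-- Transport of control under an element normalizing `N` and `S`. -/
theorem ctrl_conj {N S V : Subgroup G} [hN : N.Normal] (h : Ctrl N S (N ⊓ normalizer (V : Set G)))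
    {x : G} (hx : x ∈ normalizer (S : Set G)) :
    Ctrl N S (N ⊓ normalizer ((cj x V : Subgroup G) : Set G)) := by
  intro A hA n hn hAn
  have hxS : cj x⁻¹ S = S := cj_eq_self_iff.mpr (inv_mem hx)
  have hA' : cj x⁻¹ A ≤ S := by rw [← hxS]; exact cj_mono hA
  have hn' : x⁻¹ * n * x ∈ N := by
    have := hN.conj_mem n hn x⁻¹
    simpa using this
  have hAn' : cj (x⁻¹ * n * x) (cj x⁻¹ A) ≤ S := by
    rw [← cj_mul]
    have : x⁻¹ * n * x * x⁻¹ = x⁻¹ * n := by group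
    rw [this, cj_mul, ← hxS]
    exact cj_mono hAn
  obtain ⟨k, hk, c, hc, e⟩ := h _ hA' _ hn' hAn'
  refine ⟨x * k * x⁻¹, ⟨hN.conj_mem k hk.1 x, ?_⟩, x * c * x⁻¹, ⟨hN.conj_mem c hc.1 x, ?_⟩, ?_⟩
  · rw [normalizer_cj]
    exact conj_mem_cj hk.2
  · have h1 := conj_mem_cj (g := x) hc.2
    rw [← centralizer_cj, cj_cj_inv] at h1
    exact h1
  · have : n = x * (x⁻¹ * n * x) * x⁻¹ := by group
    rw [this, e]; group

/-- Intersecting a controlling subgroup with the normalizer of a further controlling normal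
subgroup of `S`. -/
theorem ctrl_inf {N S 𝒦 V₁ : Subgroup G} (h𝒦 : Ctrl N S 𝒦) (hV₁ : V₁ ≤ S)
    (h₁ : Ctrl N S (N ⊓ normalizer (V₁ : Set G))) :
    Ctrl N S (𝒦 ⊓ normalizer (V₁ : Set G)) := by
  intro A hA n hn hAn
  obtain ⟨h₁', hh₁, c₁, hc₁, e₁⟩ := h₁ A hA n hn hAn
  -- `cj h₁' A = cj n A`
  have hc₁A : cj c₁ A = A := cj_eq_self_iff.mpr (Subgroup.centralizer_le_normalizer _ hc₁.2)
  have hh₁A : cj h₁' A = cj n A := by rw [e₁, cj_mul, hc₁A]
  have hB : A ⊔ V₁ ≤ S := sup_le hA hV₁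
  have hBn : cj h₁' (A ⊔ V₁) ≤ S := by
    rw [cj_sup, hh₁A, cj_eq_self_iff.mpr hh₁.2]
    exact sup_le hAn hV₁
  obtain ⟨k, hk, c₂, hc₂, e₂⟩ := h𝒦 _ hB h₁' hh₁.1 hBn
  have hc₂A : c₂ ∈ centralizer (A : Set G) :=
    Subgroup.centralizer_le (by exact_mod_cast (le_sup_left : A ≤ A ⊔ V₁)) hc₂.2
  have hc₂V : c₂ ∈ normalizer (V₁ : Set G) :=
    Subgroup.centralizer_le_normalizer _
      (Subgroup.centralizer_le (by exact_mod_cast (le_sup_right : V₁ ≤ A ⊔ V₁)) hc₂.2)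
  refine ⟨k, ⟨hk, ?_⟩, c₂ * c₁, ⟨N.mul_mem hc₂.1 hc₁.1, Subgroup.mul_mem _ hc₂A hc₁.2⟩, ?_⟩
  · have : k = h₁' * c₂⁻¹ := by rw [e₂]; group
    rw [this]
    exact Subgroup.mul_mem _ hh₁.2 (Subgroup.inv_mem _ hc₂V)
  · rw [e₁, e₂]; group

/-- Descending to the intersection of a family of normalizers. -/
theorem ctrl_iInf [Finite G] {N S : Subgroup G} {ι : Type*} (V : ι → Subgroup G)
    (hV : ∀ i, V i ≤ S)
    (h : ∀ i, Ctrl N S (N ⊓ normalizer (V i : Set G))) :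
    Ctrl N S (N ⊓ ⨅ i, normalizer (V i : Set G)) := by
  have key : ∀ m : ℕ, ∀ 𝒦 : Subgroup G, Nat.card 𝒦 = m → 𝒦 ≤ N → Ctrl N S 𝒦 →
      ∃ 𝒦' : Subgroup G, 𝒦' ≤ N ⊓ ⨅ i, normalizer (V i : Set G) ∧ Ctrl N S 𝒦' := by
    intro m
    induction m using Nat.strong_induction_on with
    | _ m ih =>
    intro 𝒦 hm h𝒦N h𝒦
    by_cases hall : ∀ i, 𝒦 ≤ normalizer (V i : Set G)
    · exact ⟨𝒦, le_inf h𝒦N (le_iInf hall), h𝒦⟩
    · rw [not_forall] at hall
      obtain ⟨i, hi⟩ := hall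
      have hlt : 𝒦 ⊓ normalizer (V i : Set G) < 𝒦 := by
        apply lt_of_le_of_ne inf_le_left
        intro he
        apply hi
        rw [← he]; exact inf_le_right
      have hcard : Nat.card (𝒦 ⊓ normalizer (V i : Set G) : Subgroup G) < m := by
        rw [← hm]
        exact Set.Finite.card_lt_card (Set.toFinite _) hlt
      exact ih _ hcard _ rfl (inf_le_left.trans h𝒦N) (ctrl_inf h𝒦 (hV i) (h i))
  obtain ⟨𝒦', hle, hc⟩ := key _ N rfl le_rfl (ctrl_self N S)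
  exact hc.mono hle

section main

variable [Finite G] {p : ℕ} [Fact p.Prime] (N : Subgroup G) [hN : N.Normal] (P : Sylow p G)

/-- Frattini argument for `S = P ∩ N`. -/
theorem frattini_inf_normal (g : G) :
    ∃ y ∈ normalizer (((P : Subgroup G) ⊓ N : Subgroup G) : Set G), ∃ n ∈ N, g = y * n := by
  have hS : ¬ p ∣ ((P : Subgroup G) ⊓ N).relIndex N :=
    Cfsg.Agent.Lib.Helper32.not_dvd_relIndex_inf_normal P N
  have hSp : IsPGroup p ((P : Subgroup G) ⊓ N : Subgroup G) := P.isPGroup'.to_le inf_le_left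
  have hgN : cj g⁻¹ N = N := by
    apply cj_eq_self_iff.mpr
    rw [Subgroup.normalizer_eq_top]; exact Subgroup.mem_top _
  have h1 : cj g⁻¹ ((P : Subgroup G) ⊓ N) ≤ N := le_trans (cj_mono inf_le_right) hgN.le
  have h1i : ¬ p ∣ (cj g⁻¹ ((P : Subgroup G) ⊓ N)).relIndex N := by
    have := relIndex_cj g⁻¹ ((P : Subgroup G) ⊓ N) N
    rw [hgN] at this
    rw [this]; exact hS
  obtain ⟨c, hc, hcc⟩ := sylow_sub_eq h1 (isPGroup_cj hSp) h1i inf_le_right hSp hS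
  refine ⟨(c * g⁻¹)⁻¹, inv_mem (cj_eq_self_iff.mp (by rw [cj_mul]; exact hcc)), c, hc, by group⟩

variable (W : Subgroup G) (hWS : W ≤ (P : Subgroup G) ⊓ N)
  (hWn : normalizer (((P : Subgroup G) ⊓ N : Subgroup G) : Set G) ≤ normalizer (W : Set G))
  (hc : Ctrl N ((P : Subgroup G) ⊓ N) (N ⊓ normalizer (W : Set G)))

include hWS hWn hc

/-- `W` is strongly closed in `P` with respect to `G`. -/
theorem sc_of_ctrl : ∀ w ∈ W, ∀ g : G, g * w * g⁻¹ ∈ (P : Subgroup G) → g * w * g⁻¹ ∈ W := by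
  intro w hw g hg
  obtain ⟨y, hy, n, hn, rfl⟩ := frattini_inf_normal N P g
  have hwN : w ∈ N := (hWS hw).2
  have h1 : y * n * w * (y * n)⁻¹ ∈ (P : Subgroup G) ⊓ N := ⟨hg, hN.conj_mem w hwN _⟩
  have h2 : n * w * n⁻¹ ∈ (P : Subgroup G) ⊓ N := by
    have hyS : cj y⁻¹ ((P : Subgroup G) ⊓ N) = (P : Subgroup G) ⊓ N :=
      cj_eq_self_iff.mpr (inv_mem hy)
    rw [← hyS, mem_cj, inv_inv]
    have : y * (n * w * n⁻¹) * y⁻¹ = y * n * w * (y * n)⁻¹ := by group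
    rw [this]; exact h1
  obtain ⟨h, hh, c, hc', e⟩ := hc (Subgroup.zpowers w)
    (by rw [Subgroup.zpowers_le]; exact hWS hw) n hn (by
      rw [cj_def, MonoidHom.map_zpowers, Subgroup.zpowers_le]
      simpa using h2)
  have hcw : c * w * c⁻¹ = w := by
    have := Subgroup.mem_centralizer_iff.mp hc'.2 w (Subgroup.mem_zpowers w)
    rw [← this, mul_inv_cancel_right]
  have h3 : n * w * n⁻¹ = h * w * h⁻¹ := by
    rw [e]
    calc h * c * w * (h * c)⁻¹ = h * (c * w * c⁻¹) * h⁻¹ := by group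
      _ = h * w * h⁻¹ := by rw [hcw]
  have h4 : h * w * h⁻¹ ∈ W := by
    have := cj_eq_self_iff.mpr hh.2
    rw [← this]; exact conj_mem_cj hw
  have hyW : cj y W = W := cj_eq_self_iff.mpr (hWn hy)
  have : y * n * w * (y * n)⁻¹ = y * (n * w * n⁻¹) * y⁻¹ := by group
  rw [this, h3, ← hyW]; exact conj_mem_cj h4

omit hWS hWn hc in
/-- coprime stability: a `p'`-element stabilizing the chain `U ≥ U₀ ≥ 1` centralizes `U`. -/
theorem centralizes_of_stab {U U₀ : Subgroup G} (hU₀ : IsPGroup p U₀) {b : G} {m : ℕ}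
    (hm : m.Coprime p) (hbm : b ^ m = 1) (h1 : ∀ t ∈ U, b * t * b⁻¹ * t⁻¹ ∈ U₀)
    (h2 : ∀ z ∈ U₀, b * z * b⁻¹ = z) : b ∈ centralizer (U : Set G) := by
  rw [Subgroup.mem_centralizer_iff]
  intro t ht
  obtain ⟨z, hz⟩ : ∃ z, z = b * t * b⁻¹ * t⁻¹ := ⟨_, rfl⟩
  have hzU : z ∈ U₀ := by rw [hz]; exact h1 t ht
  have hbz : b * z * b⁻¹ = z := h2 z hzU
  have hbt : b * t * b⁻¹ = z * t := by rw [hz]; group
  have hbzi : ∀ i : ℕ, b * z ^ i * b⁻¹ = z ^ i := by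
    intro i
    induction i with
    | zero => simp
    | succ i ih =>
      calc b * z ^ (i + 1) * b⁻¹ = (b * z ^ i * b⁻¹) * (b * z * b⁻¹) := by rw [pow_succ]; group
        _ = z ^ (i + 1) := by rw [ih, hbz, pow_succ]
  have hpow : ∀ i : ℕ, b ^ i * t * (b ^ i)⁻¹ = z ^ i * t := by
    intro i
    induction i with
    | zero => simp
    | succ i ih =>
      calc b ^ (i + 1) * t * (b ^ (i + 1))⁻¹ = b * (b ^ i * t * (b ^ i)⁻¹) * b⁻¹ := by
            rw [pow_succ']; group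
        _ = b * (z ^ i * t) * b⁻¹ := by rw [ih]
        _ = (b * z ^ i * b⁻¹) * (b * t * b⁻¹) := by group
        _ = z ^ (i + 1) * t := by rw [hbzi, hbt, pow_succ]; group
  have hzm : z ^ m = 1 := by
    have := hpow m
    rw [hbm] at this
    simp only [one_mul, inv_one, mul_one] at this
    exact (mul_eq_right (a := z ^ m) (b := t)).mp this.symm
  obtain ⟨e, he⟩ := hU₀ ⟨z, hzU⟩
  have hze : z ^ (p ^ e) = 1 := by
    have := congrArg Subtype.val he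
    simpa using this
  have hz1 : z = 1 := by
    have hcop : Nat.Coprime m (p ^ e) := Nat.Coprime.pow_right e hm
    have h3 : orderOf z ∣ m := orderOf_dvd_of_pow_eq_one hzm
    have h4 : orderOf z ∣ p ^ e := orderOf_dvd_of_pow_eq_one hze
    have h5 : orderOf z = 1 := Nat.eq_one_of_dvd_coprimes hcop h3 h4
    exact orderOf_eq_one_iff.mp h5
  rw [hz1, one_mul] at hbt
  calc t * b = (b * t * b⁻¹) * b := by rw [hbt]
    _ = b * t := by group

/-- `W` lies in every member of the Alperin–Goldschmidt family. -/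
theorem le_of_mem_agFamily {U : Subgroup G} (hU : U ∈ agFamily P) : W ≤ U := by
  by_contra hWU
  have hUP : U ≤ (P : Subgroup G) := hU.1
  have hPS : (P : Subgroup G) ≤ normalizer (((P : Subgroup G) ⊓ N : Subgroup G) : Set G) := by
    intro x hx
    rw [← cj_eq_self_iff, cj_inf, cj_eq_self_of_mem hx]
    congr 1
    apply cj_eq_self_iff.mpr
    rw [Subgroup.normalizer_eq_top]; exact Subgroup.mem_top _
  have hPW : (P : Subgroup G) ≤ normalizer (W : Set G) := hPS.trans hWn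
  have hWP : W ≤ (P : Subgroup G) := hWS.trans inf_le_left
  have hWN : W ≤ N := hWS.trans inf_le_right
  -- (a) an element of `N_W(U)` outside `U`
  have hlt : U < U ⊔ W :=
    lt_of_le_of_ne le_sup_left (fun he => hWU (le_sup_right.trans he.symm.le))
  have hTp : IsPGroup p (U ⊔ W : Subgroup G) := P.isPGroup'.to_le (sup_le hUP hWP)
  have hg := normalizer_growth hTp hlt
  obtain ⟨z, hz, hzU⟩ := SetLike.exists_of_lt hg
  have hUW : U ≤ normalizer (W : Set G) := hUP.trans hPW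
  have hmul := Subgroup.coe_mul_of_left_le_normalizer_right U W hUW
  have hz1 : z ∈ ((U ⊔ W : Subgroup G) : Set G) := hz.1
  rw [hmul] at hz1
  obtain ⟨u, hu, w, hw, rfl⟩ := hz1
  have hu' : u ∈ U := hu
  have hw' : w ∈ W := hw
  have hwNU : w ∈ normalizer (U : Set G) := by
    have h1 : u⁻¹ * (u * w) ∈ normalizer (U : Set G) :=
      Subgroup.mul_mem _ (Subgroup.inv_mem _ (Subgroup.le_normalizer hu')) hz.2
    simpa using h1
  have hwU : w ∉ U := fun h => hzU (U.mul_mem hu' h)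
  -- (b) the subgroup `D`
  obtain ⟨N₁, hN₁⟩ : ∃ N₁ : Subgroup G, N₁ = N ⊓ normalizer (U : Set G) := ⟨_, rfl⟩
  obtain ⟨U₀, hU₀⟩ : ∃ U₀ : Subgroup G, U₀ = U ⊓ N := ⟨_, rfl⟩
  have hU₀S : U₀ ≤ (P : Subgroup G) ⊓ N := by rw [hU₀]; exact inf_le_inf_right N hUP
  have hU₀p : IsPGroup p U₀ := P.isPGroup'.to_le (hU₀S.trans inf_le_left)
  have hN₁U₀ : N₁ ≤ normalizer (U₀ : Set G) := by
    intro n hn
    rw [hN₁] at hn
    rw [← cj_eq_self_iff, hU₀, cj_inf, cj_eq_self_iff.mpr hn.2]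
    congr 1
    apply cj_eq_self_iff.mpr
    rw [Subgroup.normalizer_eq_top]; exact Subgroup.mem_top _
  have conj_mem_U₀ : ∀ {x : G}, x ∈ normalizer (U₀ : Set G) → ∀ {u : G}, u ∈ U₀ →
      x * u * x⁻¹ ∈ U₀ := by
    intro x hx u hu
    have := cj_eq_self_iff.mpr hx
    rw [← this]; exact conj_mem_cj hu
  have conj_mem_U₀' : ∀ {x : G}, x ∈ normalizer (U₀ : Set G) → ∀ {u : G}, u ∈ U₀ →
      x⁻¹ * u * x ∈ U₀ := by
    intro x hx u hu
    have := conj_mem_U₀ (Subgroup.inv_mem _ hx) hu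
    simpa using this
  let D : Subgroup G :=
    { carrier := {x | x ∈ N₁ ∧ ∃ w' ∈ W ⊓ normalizer (U₀ : Set G),
        ∀ u ∈ U₀, x * u * x⁻¹ = w' * u * w'⁻¹}
      one_mem' := ⟨N₁.one_mem, 1, Subgroup.one_mem _, fun u _ => by simp⟩
      mul_mem' := by
        rintro a b ⟨ha, wa, hwa, hact⟩ ⟨hb, wb, hwb, hbct⟩
        refine ⟨N₁.mul_mem ha hb, wa * wb, Subgroup.mul_mem _ hwa hwb, ?_⟩
        intro u hu
        have h1 : wb * u * wb⁻¹ ∈ U₀ := conj_mem_U₀ hwb.2 hu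
        calc a * b * u * (a * b)⁻¹ = a * (b * u * b⁻¹) * a⁻¹ := by group
          _ = a * (wb * u * wb⁻¹) * a⁻¹ := by rw [hbct u hu]
          _ = wa * (wb * u * wb⁻¹) * wa⁻¹ := hact _ h1
          _ = wa * wb * u * (wa * wb)⁻¹ := by group
      inv_mem' := by
        rintro a ⟨ha, wa, hwa, hact⟩
        refine ⟨N₁.inv_mem ha, wa⁻¹, Subgroup.inv_mem _ hwa, ?_⟩
        intro u hu
        have h1 : wa⁻¹ * u * wa ∈ U₀ := conj_mem_U₀' hwa.2 hu
        have h2 := hact _ h1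
        have h3 : a * (wa⁻¹ * u * wa) * a⁻¹ = u := by rw [h2]; group
        calc a⁻¹ * u * a⁻¹⁻¹ = a⁻¹ * (a * (wa⁻¹ * u * wa) * a⁻¹) * a := by rw [h3]; group
          _ = wa⁻¹ * u * wa⁻¹⁻¹ := by group }
  have hDmem : ∀ x, x ∈ D ↔ x ∈ N₁ ∧ ∃ w' ∈ W ⊓ normalizer (U₀ : Set G),
      ∀ u ∈ U₀, x * u * x⁻¹ = w' * u * w'⁻¹ := fun x => Iff.rfl
  have hDN₁ : D ≤ N₁ := fun x hx => ((hDmem x).mp hx).1
  have hN₁U : N₁ ≤ normalizer (U : Set G) := by rw [hN₁]; exact inf_le_right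
  have hN₁N : N₁ ≤ N := by rw [hN₁]; exact inf_le_left
  have hN₁n : normalizer (U : Set G) ≤ normalizer (N₁ : Set G) := by
    intro g hg
    rw [← cj_eq_self_iff, hN₁, cj_inf, ← normalizer_cj, cj_eq_self_iff.mpr hg]
    congr 1
    apply cj_eq_self_iff.mpr
    rw [Subgroup.normalizer_eq_top]; exact Subgroup.mem_top _
  have hDn : N₁ ≤ normalizer (D : Set G) := by
    intro n hn
    rw [← cj_eq_self_iff]
    apply cj_eq_of_le
    intro y hy
    obtain ⟨x, hx, rfl⟩ := mem_cj'.mp hy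
    obtain ⟨hx1, w', hw', hact⟩ := (hDmem x).mp hx
    have hnU₀ : n ∈ normalizer (U₀ : Set G) := hN₁U₀ hn
    obtain ⟨h, hh, c, hcc, e⟩ := hc U₀ hU₀S n (hN₁N hn) (by
      rw [cj_eq_self_iff.mpr hnU₀]; exact hU₀S)
    have hcU₀ : c ∈ normalizer (U₀ : Set G) := Subgroup.centralizer_le_normalizer _ hcc.2
    have hhU₀ : h ∈ normalizer (U₀ : Set G) := by
      have : h = n * c⁻¹ := by rw [e]; group
      rw [this]; exact Subgroup.mul_mem _ hnU₀ (Subgroup.inv_mem _ hcU₀)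
    have hccomm : ∀ v ∈ U₀, c * v * c⁻¹ = v := by
      intro v hv
      have := Subgroup.mem_centralizer_iff.mp hcc.2 v hv
      rw [← this, mul_inv_cancel_right]
    have hccomm' : ∀ v ∈ U₀, c⁻¹ * v * c = v := by
      intro v hv
      have := hccomm v hv
      calc c⁻¹ * v * c = c⁻¹ * (c * v * c⁻¹) * c := by rw [this]
        _ = v := by group
    rw [hDmem]
    refine ⟨N₁.mul_mem (N₁.mul_mem hn hx1) (N₁.inv_mem hn), h * w' * h⁻¹, ⟨?_, ?_⟩, ?_⟩
    · have := cj_eq_self_iff.mpr hh.2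
      rw [← this]; exact conj_mem_cj hw'.1
    · exact Subgroup.mul_mem _ (Subgroup.mul_mem _ hhU₀ hw'.2) (Subgroup.inv_mem _ hhU₀)
    · intro u hu
      have hu₁ : h⁻¹ * u * h ∈ U₀ := conj_mem_U₀' hhU₀ hu
      have e1 : n⁻¹ * u * n = h⁻¹ * u * h := by
        rw [e]
        calc (h * c)⁻¹ * u * (h * c) = c⁻¹ * (h⁻¹ * u * h) * c := by group
          _ = h⁻¹ * u * h := hccomm' _ hu₁
      have hu₂ : w' * (h⁻¹ * u * h) * w'⁻¹ ∈ U₀ := conj_mem_U₀ hw'.2 hu₁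
      calc n * x * n⁻¹ * u * (n * x * n⁻¹)⁻¹ = n * (x * (n⁻¹ * u * n) * x⁻¹) * n⁻¹ := by group
        _ = n * (x * (h⁻¹ * u * h) * x⁻¹) * n⁻¹ := by rw [e1]
        _ = n * (w' * (h⁻¹ * u * h) * w'⁻¹) * n⁻¹ := by rw [hact _ hu₁]
        _ = h * (c * (w' * (h⁻¹ * u * h) * w'⁻¹) * c⁻¹) * h⁻¹ := by rw [e]; group
        _ = h * (w' * (h⁻¹ * u * h) * w'⁻¹) * h⁻¹ := by rw [hccomm _ hu₂]
        _ = h * w' * h⁻¹ * u * (h * w' * h⁻¹)⁻¹ := by group
  have hpow : ∀ d ∈ D, ∃ k : ℕ, d ^ (p ^ k) ∈ centralizer (U : Set G) := by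
    intro d hd
    obtain ⟨hd1, w', hw', hact⟩ := (hDmem d).mp hd
    -- powers act like powers
    have hactpow : ∀ i : ℕ, ∀ u ∈ U₀, d ^ i * u * (d ^ i)⁻¹ = w' ^ i * u * (w' ^ i)⁻¹ := by
      intro i
      induction i with
      | zero => intro u _; simp
      | succ i ih =>
        intro u hu
        have h1 : w' ^ i * u * (w' ^ i)⁻¹ ∈ U₀ :=
          conj_mem_U₀ (Subgroup.pow_mem _ hw'.2 i) hu
        calc d ^ (i + 1) * u * (d ^ (i + 1))⁻¹ = d * (d ^ i * u * (d ^ i)⁻¹) * d⁻¹ := by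
              rw [pow_succ']; group
          _ = d * (w' ^ i * u * (w' ^ i)⁻¹) * d⁻¹ := by rw [ih u hu]
          _ = w' * (w' ^ i * u * (w' ^ i)⁻¹) * w'⁻¹ := hact _ h1
          _ = w' ^ (i + 1) * u * (w' ^ (i + 1))⁻¹ := by rw [pow_succ']; group
    obtain ⟨j, hj⟩ := (P.isPGroup'.to_le hWP) ⟨w', hw'.1⟩
    have hj' : w' ^ (p ^ j) = 1 := by
      have := congrArg Subtype.val hj
      simpa using this
    have hd0 : orderOf d ≠ 0 := (orderOf_pos d).ne'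
    obtain ⟨a, m, hpm, hom⟩ := Nat.exists_eq_pow_mul_and_not_dvd hd0 p (Fact.out : p.Prime).ne_one
    refine ⟨a + j, ?_⟩
    have hmc : m.Coprime p := ((Nat.Prime.coprime_iff_not_dvd Fact.out).mpr hpm).symm
    apply centralizes_of_stab (U := U) (U₀ := U₀) hU₀p hmc
    · rw [← pow_mul]
      have : p ^ (a + j) * m = orderOf d * p ^ j := by rw [hom, pow_add]; ring
      rw [this, pow_mul, pow_orderOf_eq_one, one_pow]
    · intro t ht
      have hb1 : d ^ (p ^ (a + j)) ∈ N₁ := N₁.pow_mem hd1 _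
      rw [hU₀]
      refine ⟨?_, ?_⟩
      · have h1 : d ^ (p ^ (a + j)) * t * (d ^ (p ^ (a + j)))⁻¹ ∈ U := by
          have := cj_eq_self_iff.mpr (hN₁U hb1)
          rw [← this]; exact conj_mem_cj ht
        exact U.mul_mem h1 (U.inv_mem ht)
      · have h1 : t * (d ^ (p ^ (a + j)))⁻¹ * t⁻¹ ∈ N :=
          hN.conj_mem _ (N.inv_mem (hN₁N hb1)) t
        have h2 := N.mul_mem (hN₁N hb1) h1
        have e : d ^ (p ^ (a + j)) * (t * (d ^ (p ^ (a + j)))⁻¹ * t⁻¹) =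
            d ^ (p ^ (a + j)) * t * (d ^ (p ^ (a + j)))⁻¹ * t⁻¹ := by group
        rw [e] at h2; exact h2
    · intro z hz
      rw [hactpow _ z hz]
      have : w' ^ (p ^ (a + j)) = 1 := by
        rw [add_comm, pow_add, pow_mul, hj', one_pow]
      rw [this]; simp
  have hDl : D ≤ lG p U := le_lG_of_subnormal P hU N₁ D hN₁U hN₁n hDN₁ hDn hpow
  -- (c) contradiction
  have hwD : w ∈ D := by
    rw [hDmem]
    have hwN₁ : w ∈ N₁ := by rw [hN₁]; exact ⟨hWN hw', hwNU⟩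
    exact ⟨hwN₁, w, ⟨hw', hN₁U₀ hwN₁⟩, fun u _ => rfl⟩
  exact hwU (inf_lG_le P hU ⟨hWP hw', hDl hwD⟩)

/-- **Control of strong fusion lifts from a normal subgroup.** -/
theorem normal_lift_controls (A : Subgroup G) (hA : A ≤ (P : Subgroup G)) (g : G)
    (hAg : cj g A ≤ (P : Subgroup G)) :
    ∃ h ∈ normalizer (W : Set G), ∃ c ∈ centralizer (A : Set G), g = h * c := by
  have := controls_of_le_agFamily P W (sc_of_ctrl N P W hWS hWn hc)
    (fun U hU => le_of_mem_agFamily N P W hWS hWn hc hU) (A : Set G) g⁻¹ hA (by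
      rw [rc_coe, inv_inv]; exact hAg)
  obtain ⟨c, hcc, r, hr, e⟩ := this
  refine ⟨r⁻¹, inv_mem hr, c⁻¹, inv_mem hcc, ?_⟩
  rw [← inv_inv g, e]; group

end main

end Cfsg.Agent.Lib.Helper33
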