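import Cfsg.Agent.Lib.Helper33.SecCtl
import Cfsg.Agent.Lib.Helper33.AGInduction
import Cfsg.Agent.Lib.Helper33.NormalLift

set_option autoImplicit false
set_option linter.style.haveILetI false
set_option linter.unusedSectionVars false

namespace Cfsg.Agent.Lib.Helper33

open Cfsg Subgroup

section basic

variable {X : Type*} [Group X]

theorem card_lt_of_lt [Finite X] {H K : Subgroup X} (h : H < K) : Nat.card H < Nat.card K := by
  by_contra hc
  have hge : Nat.card K ≤ Nat.card H := Nat.le_of_not_lt hc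
  exact (ne_of_lt h) (Subgroup.eq_of_le_of_card_ge h.le hge)

theorem GoodF.cent {𝓦 : Set (Subgroup X → Subgroup X)} {S : Subgroup X} {A : Set X} {c : X}
    (hc : c ∈ centralizer A) : GoodF 𝓦 S A c := by
  refine (GoodF.one A).of_eq ?_
  intro a ha
  have h := Subgroup.mem_centralizer_iff.mp hc a ha
  calc (1 : X)⁻¹ * a * 1 = c⁻¹ * (c * a) := by group
    _ = c⁻¹ * a * c := by rw [← h]; group

/-- General Frattini argument. -/
theorem frattini_gen [Finite X] {p : ℕ} [Fact p.Prime] {H M R : Subgroup X}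
    (hHM : H ≤ normalizer (M : Set X)) (hMH : M ≤ H) (hRM : R ≤ M) (hRp : IsPGroup p R)
    (hRi : ¬ p ∣ R.relIndex M) {x : X} (hx : x ∈ H) :
    ∃ x₁ ∈ M, ∃ y ∈ H ⊓ normalizer (R : Set X), x = x₁ * y := by
  have hxM : cj x M = M := cj_eq_self_iff.mpr (hHM hx)
  have h1 : cj x R ≤ M := le_trans (cj_mono hRM) hxM.le
  have h1i : ¬ p ∣ (cj x R).relIndex M := by
    have := relIndex_cj x R M
    rw [hxM] at this
    rw [this]; exact hRi
  obtain ⟨c, hc, hcc⟩ := sylow_sub_eq h1 (isPGroup_cj hRp) h1i hRM hRp hRi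
  have hn : c * x ∈ normalizer (R : Set X) := cj_eq_self_iff.mp (by rw [cj_mul]; exact hcc)
  exact ⟨c⁻¹, inv_mem hc, c * x, ⟨H.mul_mem (hMH hc) hx, hn⟩, by group⟩

/-- If a Sylow `p`-subgroup of a normal subgroup `Cn` is central in `Cn` and `O_{p'}(X) = 1`,
then `Cn` is a `p`-group. -/
theorem le_sylow_of_central_sylow [Finite X] {p : ℕ} [Fact p.Prime] (P : Sylow p X)
    (hK : pPrimeCore p X = ⊥) (Cn : Subgroup X) [hCn : Cn.Normal]
    (hcomm : ∀ z ∈ (P : Subgroup X) ⊓ Cn, ∀ c ∈ Cn, c * z = z * c) : Cn ≤ (P : Subgroup X) := by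
  have hsyl : ¬ p ∣ ((P : Subgroup X) ⊓ Cn).relIndex Cn :=
    Cfsg.Agent.Lib.Helper32.not_dvd_relIndex_inf_normal P Cn
  have hZp : IsPGroup p (((P : Subgroup X) ⊓ Cn).subgroupOf Cn) :=
    IsPGroup.comap_subtype (P.isPGroup'.to_le inf_le_left)
  obtain ⟨Z', hZ'⟩ : ∃ Z' : Sylow p ↥Cn, Z' = hZp.toSylow hsyl := ⟨_, rfl⟩
  have hZmem : ∀ z : ↥Cn, z ∈ Z' → (z : X) ∈ (P : Subgroup X) ⊓ Cn := by
    intro z hz
    rw [hZ'] at hz
    have hz' := (IsPGroup.mem_toSylow _ _).mp hz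
    exact Subgroup.mem_subgroupOf.mp hz'
  have hZc : (Z' : Subgroup ↥Cn) ≤ Subgroup.center ↥Cn := by
    intro z hz
    rw [Subgroup.mem_center_iff]
    intro y
    have := hcomm _ (hZmem z hz) y y.2
    apply Subtype.ext
    simp only [Subgroup.coe_mul]
    exact this
  obtain ⟨KC, hKCn, hKCc, hKCsup, hKCmem⟩ :=
    Cfsg.Agent.Lib.Helper32.exists_normal_pComplement_of_le_center Z' hZc
  obtain ⟨K₁, hK₁⟩ : ∃ K₁ : Subgroup X, K₁ = KC.map Cn.subtype := ⟨_, rfl⟩
  have hK₁card : Nat.card K₁ = Nat.card KC := by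
    rw [hK₁]; exact Subgroup.card_map_of_injective (Subgroup.subtype_injective _)
  haveI hK₁n : K₁.Normal := by
    constructor
    intro k hk n
    rw [hK₁] at hk ⊢
    obtain ⟨kc, hkc, hkc'⟩ := hk
    have hmem : n * (kc : X) * n⁻¹ ∈ Cn := hCn.conj_mem _ kc.2 n
    refine ⟨⟨_, hmem⟩, ?_, ?_⟩
    · rw [SetLike.mem_coe, hKCmem, Subgroup.orderOf_mk]
      have h3 : orderOf (n * (kc : X) * n⁻¹) = orderOf (kc : X) := by
        have := (MulAut.conj n).orderOf_eq (kc : X)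
        rwa [MulAut.conj_apply] at this
      rw [h3, Subgroup.orderOf_coe]
      exact (hKCmem kc).mp hkc
    · simp only [Subgroup.coe_subtype]
      rw [← hkc']
      rfl
  have hK₁bot : K₁ = ⊥ := by
    rw [eq_bot_iff, ← hK]
    apply Cfsg.Agent.Lib.Helper55.le_pPrimeCore p
    rw [hK₁card]; exact hKCc
  have hKCbot : KC = ⊥ := by
    rw [eq_bot_iff]
    intro k hk
    have : (k : X) ∈ K₁ := by rw [hK₁]; exact ⟨k, hk, rfl⟩
    rw [hK₁bot, Subgroup.mem_bot] at this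
    rw [Subgroup.mem_bot]
    exact Subtype.ext this
  rw [hKCbot, bot_sup_eq] at hKCsup
  intro c hc
  have : (⟨c, hc⟩ : ↥Cn) ∈ (Z' : Subgroup ↥Cn) := by rw [hKCsup]; exact Subgroup.mem_top _
  exact (hZmem _ this).1

end basic

end Cfsg.Agent.Lib.Helper33
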