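import Cfsg.Prelude.Def_ConjugacyFunctors
import Cfsg.Agent.Lib.Helper33.Control

set_option autoImplicit false

namespace Cfsg.Agent.Lib.Helper33

variable {G : Type*} [Group G]

/-- `Chain 𝓦 H T0 A g`: the right conjugation of `A` by `g` is a composite of conjugations by
elements of the groups `N_H(W T0)`, `W ∈ 𝓦`, all intermediate sets staying in `T0`. -/
inductive Chain (𝓦 : Set (Subgroup G → Subgroup G)) (H T0 : Subgroup G) : Set G → G → Prop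
  | nil (A : Set G) : Chain 𝓦 H T0 A 1
  | cons (A : Set G) (y g : G) :
      (∃ W ∈ 𝓦, y ∈ H ⊓ Subgroup.normalizer ((W T0 : Subgroup G) : Set G)) →
      rc y A ⊆ T0 → Chain 𝓦 H T0 (rc y A) g → Chain 𝓦 H T0 A (y * g)

variable {𝓦 : Set (Subgroup G → Subgroup G)} {H T0 : Subgroup G}

theorem Chain.cast {A B : Set G} {g h : G} (h1 : Chain 𝓦 H T0 A g) (hAB : A = B) (hgh : g = h) :
    Chain 𝓦 H T0 B h := by
  subst hAB; subst hgh; exact h1

theorem Chain.mono {A B : Set G} {g : G} (h : Chain 𝓦 H T0 A g) (hBA : B ⊆ A) :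
    Chain 𝓦 H T0 B g := by
  induction h generalizing B with
  | nil A => exact Chain.nil B
  | cons A y g hy hA _ ih =>
    exact Chain.cons B y g hy ((rc_mono hBA).trans hA) (ih (rc_mono hBA))

theorem Chain.single {A : Set G} {y : G}
    (hy : ∃ W ∈ 𝓦, y ∈ H ⊓ Subgroup.normalizer ((W T0 : Subgroup G) : Set G))
    (hA : rc y A ⊆ T0) : Chain 𝓦 H T0 A y := by
  have := Chain.cons A y 1 hy hA (Chain.nil _)
  simpa using this

theorem Chain.trans {A : Set G} {g h : G} (h1 : Chain 𝓦 H T0 A g)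
    (h2 : Chain 𝓦 H T0 (rc g A) h) : Chain 𝓦 H T0 A (g * h) := by
  induction h1 generalizing h with
  | nil A => simpa using h2
  | cons A y g hy hA _ ih =>
    rw [mul_assoc]
    apply Chain.cons A y (g * h) hy hA
    apply ih
    rwa [rc_mul] at h2

theorem Chain.symm {A : Set G} {g : G} (h1 : Chain 𝓦 H T0 A g) (hA0 : A ⊆ T0) :
    Chain 𝓦 H T0 (rc g A) g⁻¹ := by
  induction h1 with
  | nil A => simpa using Chain.nil (𝓦 := 𝓦) (H := H) (T0 := T0) A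
  | cons A y g hy hA _ ih =>
    rw [mul_inv_rev, rc_mul]
    apply Chain.trans (ih hA)
    rw [← rc_mul, mul_inv_cancel, rc_one]
    obtain ⟨W, hW, hyW⟩ := hy
    refine Chain.single ⟨W, hW, inv_mem hyW⟩ ?_
    rw [← rc_mul, mul_inv_cancel, rc_one]
    exact hA0

theorem Chain.mem {A : Set G} {g : G} (h1 : Chain 𝓦 H T0 A g) : g ∈ H := by
  induction h1 with
  | nil A => exact H.one_mem
  | cons A y g hy _ _ ih =>
    obtain ⟨W, _, hyW⟩ := hy
    exact H.mul_mem hyW.1 ih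

theorem Chain.subset {A : Set G} {g : G} (h1 : Chain 𝓦 H T0 A g) (hA0 : A ⊆ T0) :
    rc g A ⊆ T0 := by
  induction h1 with
  | nil A => simpa using hA0
  | cons A y g hy hA _ ih =>
    rw [rc_mul]
    exact ih hA

/-- Transport of a chain along conjugation. -/
theorem Chain.conj {p : ℕ} (h𝓦 : ∀ W ∈ 𝓦, Cfsg.IsConjugacyFunctor p W) (hT0 : IsPGroup p T0)
    (k : G) {A : Set G} {g : G} (h1 : Chain 𝓦 H T0 A g) :
    Chain 𝓦 (cj k H) (cj k T0) (rc k⁻¹ A) (k * g * k⁻¹) := by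
  induction h1 with
  | nil A =>
    have := Chain.nil (𝓦 := 𝓦) (H := cj k H) (T0 := cj k T0) (rc k⁻¹ A)
    exact this.cast rfl (by group)
  | cons A y g hy hA _ ih =>
    obtain ⟨W, hW, hyW⟩ := hy
    have e : k * (y * g) * k⁻¹ = (k * y * k⁻¹) * (k * g * k⁻¹) := by group
    rw [e]
    apply Chain.cons
    · refine ⟨W, hW, ?_⟩
      rw [functor_cj (h𝓦 W hW) hT0, normalizer_cj, ← cj_inf]
      exact conj_mem_cj hyW
    · rw [← rc_mul, show k⁻¹ * (k * y * k⁻¹) = y * k⁻¹ by group, rc_mul]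
      intro x hx
      rw [mem_rc, inv_inv] at hx
      have := hA hx
      rw [SetLike.mem_coe, mem_cj]
      exact this
    · rw [← rc_mul, show k⁻¹ * (k * y * k⁻¹) = y * k⁻¹ by group, rc_mul]
      exact ih

/-- Conversion of the `Fin` format of `Cfsg.FamilyControlsStrongFusionIn` into a chain. -/
theorem Chain.ofFin : ∀ (n : ℕ) (A : Set G) (c : Fin (n + 1) → G), c 0 = 1 →
    (∀ i : Fin n, ∃ W ∈ 𝓦,
      c i.succ * (c i.castSucc)⁻¹ ∈ H ⊓ Subgroup.normalizer ((W T0 : Subgroup G) : Set G)) →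
    (∀ i : Fin (n + 1), (fun a => c i * a * (c i)⁻¹) '' A ⊆ T0) →
    Chain 𝓦 H T0 A (c (Fin.last n))⁻¹ := by
  intro n
  induction n with
  | zero =>
    intro A c h0 _ _
    have : c (Fin.last 0) = 1 := h0
    rw [this, inv_one]
    exact Chain.nil A
  | succ n ih =>
    intro A c h0 hstep hsub
    -- first step y = (c 1)⁻¹
    have hy : ∃ W ∈ 𝓦, (c 1)⁻¹ ∈ H ⊓ Subgroup.normalizer ((W T0 : Subgroup G) : Set G) := by
      obtain ⟨W, hW, hm⟩ := hstep 0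
      refine ⟨W, hW, ?_⟩
      have e : c (0 : Fin (n + 1)).succ * (c (0 : Fin (n + 1)).castSucc)⁻¹ = c 1 := by
        rw [Fin.succ_zero_eq_one, Fin.castSucc_zero, h0]; simp
      rw [e] at hm
      exact inv_mem hm
    have hA1 : rc (c 1)⁻¹ A ⊆ T0 := by
      have := hsub 1
      intro x hx
      apply this
      obtain ⟨a, ha, rfl⟩ := hx
      exact ⟨a, ha, by simp⟩
    have hrec := ih (rc (c 1)⁻¹ A) (fun i => c i.succ * (c 1)⁻¹) (by
        show c (0 : Fin (n + 1)).succ * (c 1)⁻¹ = 1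
        rw [Fin.succ_zero_eq_one]; simp) (by
        intro i
        obtain ⟨W, hW, hm⟩ := hstep i.succ
        refine ⟨W, hW, ?_⟩
        have e : c i.succ.succ * (c 1)⁻¹ * (c i.castSucc.succ * (c 1)⁻¹)⁻¹ =
            c i.succ.succ * (c i.succ.castSucc)⁻¹ := by
          rw [Fin.succ_castSucc]; group
        rw [e]
        exact hm) (by
        intro i
        rintro _ ⟨b, hb, rfl⟩
        obtain ⟨a, ha, rfl⟩ := hb
        apply hsub i.succ
        exact ⟨a, ha, by simp only [inv_inv, mul_inv_rev, mul_assoc, inv_mul_cancel_left]⟩)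
    have := Chain.cons A (c 1)⁻¹ _ hy hA1 hrec
    refine this.cast rfl ?_
    have : (Fin.last n).succ = Fin.last (n + 1) := Fin.succ_last n
    rw [this]
    group

/-- Conversion of a chain into the `Fin` format of `Cfsg.FamilyControlsStrongFusionIn`. -/
theorem Chain.toFin {A : Set G} {g : G} (h1 : Chain 𝓦 H T0 A g) (hA0 : A ⊆ T0) :
    ∃ (n : ℕ) (c : Fin (n + 1) → G), c 0 = 1 ∧
      (∀ i : Fin n, ∃ W ∈ 𝓦,
        c i.succ * (c i.castSucc)⁻¹ ∈ H ⊓ Subgroup.normalizer ((W T0 : Subgroup G) : Set G)) ∧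
      (∀ i : Fin (n + 1), (fun a => c i * a * (c i)⁻¹) '' A ⊆ T0) ∧
      c (Fin.last n) = g⁻¹ := by
  induction h1 with
  | nil A =>
    refine ⟨0, fun _ => 1, rfl, fun i => i.elim0, ?_, by simp⟩
    intro i
    rintro _ ⟨a, ha, rfl⟩
    simpa using hA0 ha
  | cons A y g hy hA _ ih =>
    obtain ⟨n, c', h0, hstep, hsub, hlast⟩ := ih hA
    refine ⟨n + 1, Fin.cons 1 (fun i => c' i * y⁻¹), by simp, ?_, ?_, ?_⟩
    · intro i
      refine Fin.cases ?_ ?_ i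
      · obtain ⟨W, hW, hyW⟩ := hy
        refine ⟨W, hW, ?_⟩
        have e : (Fin.cons 1 (fun i => c' i * y⁻¹) : Fin (n + 2) → G) (0 : Fin (n + 1)).succ *
            ((Fin.cons 1 (fun i => c' i * y⁻¹) : Fin (n + 2) → G) (0 : Fin (n + 1)).castSucc)⁻¹ = y⁻¹ := by
          rw [Fin.cons_succ, Fin.castSucc_zero, Fin.cons_zero, h0]; simp
        rw [e]
        exact inv_mem hyW
      · intro j
        obtain ⟨W, hW, hm⟩ := hstep j
        refine ⟨W, hW, ?_⟩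
        have e : (Fin.cons 1 (fun i => c' i * y⁻¹) : Fin (n + 2) → G) j.succ.succ *
            ((Fin.cons 1 (fun i => c' i * y⁻¹) : Fin (n + 2) → G) j.succ.castSucc)⁻¹ =
            c' j.succ * (c' j.castSucc)⁻¹ := by
          rw [Fin.cons_succ, ← Fin.succ_castSucc, Fin.cons_succ]; group
        rw [e]
        exact hm
    · intro i
      refine Fin.cases ?_ ?_ i
      · rintro _ ⟨a, ha, rfl⟩
        simpa using hA0 ha
      · intro j
        rintro _ ⟨a, ha, rfl⟩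
        apply hsub j
        refine ⟨y⁻¹ * a * y, conj_mem_rc ha, ?_⟩
        simp only [Fin.cons_succ, mul_inv_rev, inv_inv, mul_assoc]
    · rw [← Fin.succ_last, Fin.cons_succ, hlast]; group

end Cfsg.Agent.Lib.Helper33

namespace Cfsg.Agent.Lib.Helper33

variable {G : Type*} [Group G]

/-- Family control of strong fusion with respect to a prescribed Sylow subgroup `T1` of `H`, in chain
form. -/
theorem fcsf_transport [Finite G] {p : ℕ} [Fact p.Prime] {𝓦 : Set (Subgroup G → Subgroup G)}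
    (h𝓦 : ∀ W ∈ 𝓦, Cfsg.IsConjugacyFunctor p W) {H : Subgroup G}
    (hctl : Cfsg.FamilyControlsStrongFusionIn p 𝓦 H) {T1 : Subgroup G} (h1 : T1 ≤ H)
    (h1p : IsPGroup p T1) (h1i : ¬ p ∣ T1.relIndex H) :
    ∀ (A : Set G) (g : G), g ∈ H → A ⊆ T1 → rc g A ⊆ T1 →
      ∃ g' : G, Chain 𝓦 H T1 A g' ∧ ∀ a ∈ A, g'⁻¹ * a * g' = g⁻¹ * a * g := by
  obtain ⟨T0, h0, h0p, h0i, hc0⟩ := hctl
  obtain ⟨c, hcH, hc⟩ := sylow_sub_eq h0 h0p h0i h1 h1p h1i
  intro A g hg hA hAg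
  have hA' : rc c A ⊆ T0 := by
    intro a ha
    rw [mem_rc] at ha
    have := hA ha
    rw [SetLike.mem_coe, ← hc, conj_mem_cj_iff] at this
    exact this
  have hAh' : (fun a => (c⁻¹ * g⁻¹ * c) * a * (c⁻¹ * g⁻¹ * c)⁻¹) '' (rc c A) ⊆ T0 := by
    rintro _ ⟨a, ha, rfl⟩
    rw [mem_rc] at ha
    have h2 : g⁻¹ * (c * a * c⁻¹) * g ∈ T1 := hAg (conj_mem_rc ha)
    rw [← hc, mem_cj] at h2
    show (c⁻¹ * g⁻¹ * c) * a * (c⁻¹ * g⁻¹ * c)⁻¹ ∈ T0
    have e : (c⁻¹ * g⁻¹ * c) * a * (c⁻¹ * g⁻¹ * c)⁻¹ = c⁻¹ * (g⁻¹ * (c * a * c⁻¹) * g) * c := by group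
    rw [e]; exact h2
  have hmem : c⁻¹ * g⁻¹ * c ∈ H := H.mul_mem (H.mul_mem (H.inv_mem hcH) (H.inv_mem hg)) hcH
  obtain ⟨n, cc, hc0', hstep, hsub, hlast⟩ := hc0 _ _ hmem hA' hAh'
  have hchain := Chain.ofFin n (rc c A) cc hc0' hstep hsub
  have hchain' := hchain.conj h𝓦 h0p c
  rw [cj_eq_self_of_mem hcH, hc, ← rc_mul, mul_inv_cancel, rc_one] at hchain'
  refine ⟨_, hchain', ?_⟩
  intro a ha
  have ha' : c⁻¹ * a * c ∈ rc c A := conj_mem_rc ha
  have := hlast _ ha'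
  calc (c * (cc (Fin.last n))⁻¹ * c⁻¹)⁻¹ * a * (c * (cc (Fin.last n))⁻¹ * c⁻¹)
      = c * (cc (Fin.last n) * (c⁻¹ * a * c) * (cc (Fin.last n))⁻¹) * c⁻¹ := by group
    _ = c * ((c⁻¹ * g⁻¹ * c) * (c⁻¹ * a * c) * (c⁻¹ * g⁻¹ * c)⁻¹) * c⁻¹ := by rw [this]
    _ = g⁻¹ * a * g := by group

/-- `GoodF 𝓦 S A g`: the right conjugation of `A` by `g` is induced by a global chain. -/
def GoodF (𝓦 : Set (Subgroup G → Subgroup G)) (S : Subgroup G) (A : Set G) (g : G) : Prop :=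
  ∃ g' : G, Chain 𝓦 ⊤ S A g' ∧ ∀ a ∈ A, g'⁻¹ * a * g' = g⁻¹ * a * g

variable {𝓦 : Set (Subgroup G → Subgroup G)} {S : Subgroup G}

theorem rc_congr {A : Set G} {g g' : G} (h : ∀ a ∈ A, g'⁻¹ * a * g' = g⁻¹ * a * g) :
    rc g' A = rc g A := by
  unfold rc
  exact Set.image_congr h

theorem GoodF.one (A : Set G) : GoodF 𝓦 S A 1 := ⟨1, Chain.nil A, fun _ _ => rfl⟩

theorem GoodF.of_eq {A : Set G} {g g' : G} (h1 : GoodF 𝓦 S A g)
    (h : ∀ a ∈ A, g⁻¹ * a * g = g'⁻¹ * a * g') : GoodF 𝓦 S A g' := by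
  obtain ⟨x, hx, e⟩ := h1
  exact ⟨x, hx, fun a ha => (e a ha).trans (h a ha)⟩

theorem GoodF.mono {A B : Set G} {g : G} (h1 : GoodF 𝓦 S A g) (hBA : B ⊆ A) : GoodF 𝓦 S B g := by
  obtain ⟨x, hx, e⟩ := h1
  exact ⟨x, hx.mono hBA, fun a ha => e a (hBA ha)⟩

theorem GoodF.trans {A : Set G} {g h : G} (h1 : GoodF 𝓦 S A g) (h2 : GoodF 𝓦 S (rc g A) h) :
    GoodF 𝓦 S A (g * h) := by
  obtain ⟨x1, hx1, e1⟩ := h1
  obtain ⟨x2, hx2, e2⟩ := h2
  rw [← rc_congr e1] at hx2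
  refine ⟨x1 * x2, hx1.trans hx2, ?_⟩
  intro a ha
  have := e2 _ (conj_mem_rc (g := g) ha)
  calc (x1 * x2)⁻¹ * a * (x1 * x2) = x2⁻¹ * (x1⁻¹ * a * x1) * x2 := by group
    _ = x2⁻¹ * (g⁻¹ * a * g) * x2 := by rw [e1 a ha]
    _ = h⁻¹ * (g⁻¹ * a * g) * h := this
    _ = (g * h)⁻¹ * a * (g * h) := by group

theorem GoodF.symm {A : Set G} {g : G} (h1 : GoodF 𝓦 S A g) (hA : A ⊆ S) :
    GoodF 𝓦 S (rc g A) g⁻¹ := by
  obtain ⟨x, hx, e⟩ := h1
  have := hx.symm hA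
  rw [rc_congr e] at this
  refine ⟨x⁻¹, this, ?_⟩
  rintro _ ⟨a, ha, rfl⟩
  have e' := e a ha
  calc x⁻¹⁻¹ * (g⁻¹ * a * g) * x⁻¹ = x * (x⁻¹ * a * x) * x⁻¹ := by rw [e', inv_inv]
    _ = g⁻¹⁻¹ * (g⁻¹ * a * g) * g⁻¹ := by group

theorem GoodF.cast {A B : Set G} {g h : G} (h1 : GoodF 𝓦 S A g) (hAB : A = B) (hgh : g = h) :
    GoodF 𝓦 S B h := by
  subst hAB; subst hgh; exact h1

end Cfsg.Agent.Lib.Helper33
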