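import Cfsg.Agent.Lib.Helper33.SecLift
import Cfsg.Agent.Lib.Helper11.Quad
import Cfsg.Agent.S1959

set_option autoImplicit false
set_option linter.style.haveILetI false
set_option linter.unusedSectionVars false

universe u

namespace Cfsg.Agent.Lib.Helper33

open Cfsg Subgroup

variable {p : ℕ} [Fact p.Prime] {𝓦 : Set (∀ (Q : Type u) [Group Q], Subgroup Q)}

/-- A `p`-element in a subgroup of order prime to `p` is trivial. -/
theorem eq_one_of_mem_sylow_of_mem_coprime {X : Type*} [Group X] [Finite X] (P : Sylow p X)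
    (K : Subgroup X) (hK : (Nat.card K).Coprime p) {q : X} (hq : q ∈ (P : Subgroup X))
    (hqK : q ∈ K) : q = 1 := by
  obtain ⟨k, hk⟩ := P.isPGroup' ⟨q, hq⟩
  have hqk : q ^ p ^ k = 1 := by
    have := congrArg Subtype.val hk
    simpa using this
  have h1 : orderOf q ∣ p ^ k := orderOf_dvd_of_pow_eq_one hqk
  have h2 : orderOf q ∣ Nat.card K := by
    have : orderOf (⟨q, hqK⟩ : K) ∣ Nat.card K := orderOf_dvd_natCard _
    rwa [Subgroup.orderOf_mk] at this
  have h3 : orderOf q = 1 :=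
    Nat.eq_one_of_dvd_coprimes (Nat.Coprime.pow_right k hK) h2 h1
  exact orderOf_eq_one_iff.mp h3

/-- **Case 1**: lifting control from the quotient by a normal `p'`-subgroup. -/
theorem ctlAt_case1 {X : Type u} [Group X] [Finite X] (h𝓦 : ∀ W ∈ 𝓦, IsCharPFunctor.{u} p W)
    (P : Sylow p X) (K : Subgroup X) [hKn : K.Normal] (hK : (Nat.card K).Coprime p)
    (hq : CtlAt (indFam 𝓦 (X ⧸ K)) ((P : Subgroup X).map (QuotientGroup.mk' K))) :
    CtlAt (indFam 𝓦 X) (P : Subgroup X) := by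
  intro A g hA hAg
  obtain ⟨π, hπ⟩ : ∃ π : X →* X ⧸ K, π = QuotientGroup.mk' K := ⟨_, rfl⟩
  have hπs : Function.Surjective π := by rw [hπ]; exact QuotientGroup.mk'_surjective K
  have hker : π.ker = K := by rw [hπ]; exact QuotientGroup.ker_mk' K
  rw [← hπ] at hq
  have hA' : π '' A ⊆ ((P : Subgroup X).map π : Subgroup (X ⧸ K)) := by
    rintro _ ⟨a, ha, rfl⟩
    exact ⟨a, hA ha, rfl⟩
  have hAg' : rc (π g) (π '' A) ⊆ ((P : Subgroup X).map π : Subgroup (X ⧸ K)) := by
    rw [← image_rc]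
    rintro _ ⟨a, ha, rfl⟩
    exact ⟨a, hAg ha, rfl⟩
  obtain ⟨g', hch, hag⟩ := hq (π '' A) (π g) hA' hAg'
  obtain ⟨h, hfh, hchX⟩ := chain_lift_pprime h𝓦 π hπs (by rw [hker]; exact hK) P _ _ hch A hA rfl
  refine ⟨h, hchX, ?_⟩
  intro a ha
  have h1 : h⁻¹ * a * h ∈ (P : Subgroup X) := hchX.subset hA (conj_mem_rc ha)
  have h2 : g⁻¹ * a * g ∈ (P : Subgroup X) := hAg (conj_mem_rc ha)
  have h3 : π (h⁻¹ * a * h) = π (g⁻¹ * a * g) := by
    have := hag (π a) ⟨a, ha, rfl⟩
    simp only [map_mul, map_inv, hfh]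
    exact this
  have h4 : (h⁻¹ * a * h)⁻¹ * (g⁻¹ * a * g) ∈ K := by
    rw [← hker, MonoidHom.mem_ker, map_mul, map_inv, h3, inv_mul_cancel]
  have h5 := eq_one_of_mem_sylow_of_mem_coprime P K hK
    ((P : Subgroup X).mul_mem ((P : Subgroup X).inv_mem h1) h2) h4
  exact inv_mul_eq_one.mp h5

theorem card_quotient_lt {X : Type*} [Group X] [Finite X] (M : Subgroup X) [M.Normal]
    (hM : M ≠ ⊥) : Nat.card (X ⧸ M) < Nat.card X := by
  have h1 := Subgroup.card_eq_card_quotient_mul_card_subgroup M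
  have h2 : 1 < Nat.card M := by
    rw [Finite.one_lt_card_iff_nontrivial]
    exact (Subgroup.nontrivial_iff_ne_bot M).mpr hM
  have h3 : 0 < Nat.card (X ⧸ M) := Nat.card_pos
  rw [h1]
  nlinarith

theorem card_subgroup_lt {X : Type*} [Group X] [Finite X] (H : Subgroup X) (hH : H ≠ ⊤) :
    Nat.card H < Nat.card X := by
  by_contra hc
  have hge : Nat.card X ≤ Nat.card H := Nat.le_of_not_lt hc
  exact hH (Subgroup.eq_top_of_card_eq H (le_antisymm (Subgroup.card_le_card_group H) hge))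

theorem not_dvd_index_map {X Y : Type*} [Group X] [Group Y] [Finite X] (P : Sylow p X)
    (f : X →* Y) (hf : Function.Surjective f) : ¬ p ∣ ((P : Subgroup X).map f).index :=
  fun h => P.not_dvd_index (dvd_trans h (Subgroup.index_map_dvd (P : Subgroup X) hf))

/-- **Master theorem**: the functors induced by `𝓦` control strong fusion in every section `X` of
`G`, provided they do so in the sections with `C(O_p) ≤ O_p`. -/
theorem sec_master {G : Type u} [Group G] (h𝓦 : ∀ W ∈ 𝓦, IsCharPFunctor.{u} p W)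
    (hloc : ∀ (X : Type u) [Group X] [Finite X], Sec G X →
      centralizer ((pCore p X : Subgroup X) : Set X) ≤ pCore p X →
      FamilyControlsStrongFusionIn p (indFam 𝓦 X) ⊤) :
    ∀ (n : ℕ) (X : Type u) [Group X] [Finite X], Nat.card X = n → Sec G X →
      FamilyControlsStrongFusionIn p (indFam 𝓦 X) ⊤ := by
  intro n
  induction n using Nat.strong_induction_on with
  | _ n ih =>
  intro X _ _ hn hX
  obtain ⟨P⟩ : Nonempty (Sylow p X) := inferInstance
  apply fcsf_of_ctlAt P.isPGroup' P.not_dvd_index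
  have h𝓦X := indFam_conj h𝓦 X
  -- control in proper subgroups
  have hfc : ∀ H : Subgroup X, H ≠ ⊤ → FamilyControlsStrongFusionIn p (indFam 𝓦 X) H := by
    intro H hH
    apply fcsf_subgroup h𝓦 H
    exact ih (Nat.card H) (hn ▸ card_subgroup_lt H hH) ↥H rfl (hX.trans (Sec.subgroup H))
  have hsub : SubGood P (indFam 𝓦 X) := by
    intro H hH hPH A g hg hA hAg
    exact goodF_of_fcsf_in h𝓦X (hfc H hH) hPH P.isPGroup' (sylow_not_dvd_relIndex P hPH) hg hA hAg
  -- control in proper quotients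
  have hquo : ∀ (M : Subgroup X) [M.Normal], M ≠ ⊥ →
      CtlAt (indFam 𝓦 (X ⧸ M)) ((P : Subgroup X).map (QuotientGroup.mk' M)) := by
    intro M _ hM
    have h1 := ih (Nat.card (X ⧸ M)) (hn ▸ card_quotient_lt M hM) (X ⧸ M) rfl
      (hX.trans (Sec.quotient M))
    exact ctlAt_of_fcsf (indFam_conj h𝓦 _) h1 (P.isPGroup'.map _)
      (not_dvd_index_map P _ (QuotientGroup.mk'_surjective M))
  -- Case 3
  by_cases h3 : centralizer ((pCore p X : Subgroup X) : Set X) ≤ pCore p X
  · exact ctlAt_of_fcsf h𝓦X (hloc X hX h3) P.isPGroup' P.not_dvd_index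
  -- Case 1
  by_cases h1 : pPrimeCore p X = ⊥
  swap
  · haveI := Cfsg.Agent.Lib.Helper55.pPrimeCore_normal' (G := X) p
    exact ctlAt_case1 h𝓦 P (pPrimeCore p X) (Cfsg.Agent.Lib.Helper55.pPrimeCore_card_coprime p)
      (hquo _ h1)
  -- normal `p`-subgroups lie in `Q`
  have hQmax : ∀ V : Subgroup X, V ≤ (P : Subgroup X) → normalizer (V : Set X) = ⊤ →
      V ≤ pCore p X := by
    intro V hVP hV
    haveI : V.Normal := Subgroup.normalizer_eq_top_iff.mp hV
    exact Cfsg.Agent.Lib.Helper55.le_pCore p V (P.isPGroup'.to_le hVP)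
  -- Case 2
  by_cases h2 : pCore p X = ⊥
  · intro A g hA hAg
    apply Cfsg.Agent.S1959.main P (indFam 𝓦 X) h𝓦X ?_ _ A g hA hAg rfl
    intro T hTP hTne _
    apply hfc
    intro htop
    have := hQmax T hTP htop
    rw [h2] at this
    exact hTne (eq_bot_iff.mpr this)
  -- now `Q ≠ 1`, `O_{p'} = 1`, `C(Q) ≰ Q`
  obtain ⟨Q, hQ⟩ : ∃ Q : Subgroup X, Q = pCore p X := ⟨_, rfl⟩
  haveI hQn : Q.Normal := by rw [hQ]; exact Cfsg.Agent.Lib.Helper55.pCore_normal' p
  have hQP : Q ≤ (P : Subgroup X) := by rw [hQ]; exact Cfsg.Agent.Lib.Helper11.pCore_le_sylow P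
  rw [← hQ] at h3 h2 hQmax
  obtain ⟨C, hC⟩ : ∃ C : Subgroup X, C = centralizer (Q : Set X) := ⟨_, rfl⟩
  haveI hCn : C.Normal := by rw [hC]; infer_instance
  rw [← hC] at h3
  have hPC : ¬ (P : Subgroup X) ⊓ C ≤ Q := by
    intro h
    apply h3
    have := le_sylow_of_central_sylow P h1 C (by
      intro z hz c hc
      rw [hC] at hc
      exact (Subgroup.mem_centralizer_iff.mp hc z (h hz)).symm)
    exact (le_inf this le_rfl).trans h
  have hnn : normalizer ((((P : Subgroup X) ⊓ C : Subgroup X)) : Set X) ≠ ⊤ :=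
    fun htop => hPC (hQmax _ inf_le_left htop)
  -- Case 4
  by_cases h4 : (P : Subgroup X) ⊔ C = ⊤
  swap
  · exact ctlAt_case4 hsub C h4 hnn
  -- Case 5
  have hPQ : ¬ (P : Subgroup X) ≤ Q := fun h => hPC (inf_le_left.trans h)
  have hPne : (P : Subgroup X) ≠ ⊤ := by
    intro htop
    apply hPQ
    apply hQmax _ le_rfl
    rw [htop]
    exact Subgroup.normalizer_eq_top_iff.mpr inferInstance
  obtain ⟨π, hπ⟩ : ∃ π : X →* X ⧸ Q, π = QuotientGroup.mk' Q := ⟨_, rfl⟩
  have hπs : Function.Surjective π := by rw [hπ]; exact QuotientGroup.mk'_surjective Q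
  have hker : π.ker = Q := by rw [hπ]; exact QuotientGroup.ker_mk' Q
  have hq := hquo Q h2
  rw [← hπ] at hq
  apply ctlAt_case5 hsub Q hQP hPne
  · -- `p'`-elements centralize `Q`
    intro b m hm hbm
    have hb : b ∈ (P : Subgroup X) ⊔ C := by rw [h4]; exact Subgroup.mem_top _
    obtain ⟨t, ht, c, hc, rfl⟩ := Subgroup.mem_sup_of_normal_right.mp hb
    obtain ⟨k, hk⟩ := P.isPGroup' ⟨t, ht⟩
    have htk : t ^ p ^ k = 1 := by
      have := congrArg Subtype.val hk
      simpa using this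
    have h5 : (t * c) ^ p ^ k ∈ C := by
      rw [← QuotientGroup.eq_one_iff, QuotientGroup.mk_pow, QuotientGroup.mk_mul,
        (QuotientGroup.eq_one_iff c).mpr hc, mul_one, ← QuotientGroup.mk_pow, htk]
      rfl
    have h6 : (p ^ k).Coprime (orderOf (t * c)) := by
      apply Nat.Coprime.pow_left
      exact (Nat.Coprime.coprime_dvd_left (orderOf_dvd_of_pow_eq_one hbm) hm).symm
    obtain ⟨j, hj⟩ := exists_pow_eq_self_of_coprime h6
    rw [← hC, ← hj]
    exact Subgroup.pow_mem _ h5 _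
  · intro U hUP hQU x hx
    have hA' : π '' (U : Set X) ⊆ ((P : Subgroup X).map π : Subgroup (X ⧸ Q)) := by
      rintro _ ⟨a, ha, rfl⟩
      exact ⟨a, hUP ha, rfl⟩
    have hrcU : rc x (U : Set X) = U := by
      rw [rc_coe, cj_eq_self_iff.mpr (inv_mem hx)]
    have hAg' : rc (π x) (π '' (U : Set X)) ⊆ ((P : Subgroup X).map π : Subgroup (X ⧸ Q)) := by
      rw [← image_rc, hrcU]; exact hA'
    obtain ⟨g'', hch, hag⟩ := hq (π '' (U : Set X)) (π x) hA' hAg'
    obtain ⟨g', hfg', hgood, -⟩ := good_lift_pcore h𝓦 π hπs P (by rw [hker]; exact hQP)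
      (by rw [hker]; exact hPQ) (by
        intro V hV hVP htop
        rw [hker] at hV
        exact (not_le_of_gt hV) (hQmax V hVP htop)) hsub _ _ hch (U : Set X) hUP rfl
    refine ⟨g', hgood, ?_⟩
    intro u hu
    rw [← hker, MonoidHom.mem_ker]
    have := hag (π u) ⟨u, hu, rfl⟩
    simp only [map_mul, map_inv, hfg']
    rw [this]
    group

end Cfsg.Agent.Lib.Helper33
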