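import Mathlib
import Cfsg.Agent.Lib.Helper6.Nc.Defs
import Cfsg.Agent.Lib.Helper32.NcITER

/-!
# Nc hive (S3894, owner helper6): leaf NC-SU `sD_not_with_unip`
-/

set_option autoImplicit false
set_option linter.unnecessarySeqFocus false

namespace Cfsg.Agent.Lib.Helper6.Nc

open Matrix

variable {F : Type*} [Field F]

/-- upper unitriangular element -/
def ncsu_Xu (b : F) : GL (Fin 2) F :=
  Matrix.SpecialLinearGroup.toGL ⟨!![1, b; 0, 1], by simp [Matrix.det_fin_two_of]⟩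

/-- lower unitriangular element -/
def ncsu_Xl (b : F) : GL (Fin 2) F :=
  Matrix.SpecialLinearGroup.toGL ⟨!![1, 0; b, 1], by simp [Matrix.det_fin_two_of]⟩

theorem ncsu_coe_Xu (b : F) :
    ((ncsu_Xu b : GL (Fin 2) F) : Matrix (Fin 2) (Fin 2) F) = !![1, b; 0, 1] := rfl

theorem ncsu_coe_Xl (b : F) :
    ((ncsu_Xl b : GL (Fin 2) F) : Matrix (Fin 2) (Fin 2) F) = !![1, 0; b, 1] := rfl

theorem ncsu_uUg : uUg F = ncsu_Xu (1 : F) := Units.ext rfl

theorem ncsu_uLg : uLg F = ncsu_Xl (1 : F) := Units.ext rfl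

theorem ncsu_Xu_eq_one {b : F} (h : ncsu_Xu b = 1) : b = 0 := by
  have := congrArg (fun g : GL (Fin 2) F => (g : Matrix (Fin 2) (Fin 2) F) 0 1) h
  simpa [ncsu_coe_Xu] using this

theorem ncsu_Xl_eq_one {b : F} (h : ncsu_Xl b = 1) : b = 0 := by
  have := congrArg (fun g : GL (Fin 2) F => (g : Matrix (Fin 2) (Fin 2) F) 1 0) h
  simpa [ncsu_coe_Xl] using this

theorem ncsu_comm_u (a : Fˣ) (b : F) :
    sDg a * ncsu_Xu b * (sDg a)⁻¹ * (ncsu_Xu b)⁻¹ = ncsu_Xu (((a : F) ^ 2 - 1) * b) := by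
  have h : sDg a * ncsu_Xu b = ncsu_Xu (((a : F) ^ 2 - 1) * b) * ncsu_Xu b * sDg a := by
    apply Units.ext
    simp only [Units.val_mul, coe_sDg, ncsu_coe_Xu]
    have ha : (a : F) ≠ 0 := a.ne_zero
    ext i j
    fin_cases i <;> fin_cases j <;>
      simp [Matrix.mul_apply, Fin.sum_univ_two, Units.val_inv_eq_inv_val] <;> field_simp <;> ring
  rw [h]
  group

theorem ncsu_comm_l (a : Fˣ) (b : F) :
    sDg a * ncsu_Xl b * (sDg a)⁻¹ * (ncsu_Xl b)⁻¹ = ncsu_Xl ((((a : F)⁻¹) ^ 2 - 1) * b) := by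
  have h : sDg a * ncsu_Xl b = ncsu_Xl ((((a : F)⁻¹) ^ 2 - 1) * b) * ncsu_Xl b * sDg a := by
    apply Units.ext
    simp only [Units.val_mul, coe_sDg, ncsu_coe_Xl]
    have ha : (a : F) ≠ 0 := a.ne_zero
    ext i j
    fin_cases i <;> fin_cases j <;>
      simp [Matrix.mul_apply, Fin.sum_univ_two, Units.val_inv_eq_inv_val] <;> field_simp <;> ring
  rw [h]
  group

theorem ncsu_iter_u (a : Fˣ) (k : ℕ) :
    (fun y => sDg a * y * (sDg a)⁻¹ * y⁻¹)^[k] (ncsu_Xu (1 : F)) =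
      ncsu_Xu (((a : F) ^ 2 - 1) ^ k) := by
  induction k with
  | zero => simp
  | succ k ih =>
    rw [Function.iterate_succ_apply', ih, ncsu_comm_u]
    congr 1
    ring

theorem ncsu_iter_l (a : Fˣ) (k : ℕ) :
    (fun y => sDg a * y * (sDg a)⁻¹ * y⁻¹)^[k] (ncsu_Xl (1 : F)) =
      ncsu_Xl ((((a : F)⁻¹) ^ 2 - 1) ^ k) := by
  induction k with
  | zero => simp
  | succ k ih =>
    rw [Function.iterate_succ_apply', ih, ncsu_comm_l]
    congr 1
    ring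

/-- NC-SU. -/
theorem sD_not_with_unip (a : Fˣ) (ha : a ^ 2 ≠ 1) (A : Subgroup (GL (Fin 2) F))
    (hA : Group.IsNilpotent ↥A) (hs : sDg a ∈ A) : uUg F ∉ A ∧ uLg F ∉ A := by
  have ha' : (a : F) ^ 2 ≠ 1 := by
    intro h
    apply ha
    apply Units.ext
    rw [Units.val_pow_eq_pow_val, h, Units.val_one]
  have ha0 : (a : F) ≠ 0 := a.ne_zero
  constructor
  · intro hu
    obtain ⟨k, hk⟩ := nc_iter A hA (sDg a) (uUg F) hs hu
    rw [ncsu_uUg, ncsu_iter_u] at hk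
    have := ncsu_Xu_eq_one hk
    have hk0 : k ≠ 0 := by
      rintro rfl
      simp at this
    have h1 : (a : F) ^ 2 - 1 = 0 := (pow_eq_zero_iff hk0).1 this
    exact ha' (sub_eq_zero.1 h1)
  · intro hu
    obtain ⟨k, hk⟩ := nc_iter A hA (sDg a) (uLg F) hs hu
    rw [ncsu_uLg, ncsu_iter_l] at hk
    have := ncsu_Xl_eq_one hk
    have hk0 : k ≠ 0 := by
      rintro rfl
      simp at this
    have h1 : ((a : F)⁻¹) ^ 2 - 1 = 0 := (pow_eq_zero_iff hk0).1 this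
    have h2 : ((a : F)⁻¹) ^ 2 = 1 := sub_eq_zero.1 h1
    apply ha'
    rw [inv_pow] at h2
    exact inv_eq_one.1 h2

end Cfsg.Agent.Lib.Helper6.Nc
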