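import Cfsg.Agent.Lib.Helper12.D3Defs
import Cfsg.Agent.Lib.Helper36.ChevTwD4
import Cfsg.Agent.Lib.Helper75.D4gMEM

/-!
# D3 hive (S2183, owner helper12): leaf D3-MEM `W_mem`, `xma_mem`
-/

set_option autoImplicit false
set_option linter.unusedVariables false

namespace Cfsg.Agent.Lib.Helper12.D3

open Cfsg Cfsg.Lie Cfsg.Agent.Lib.Helper36 Cfsg.Agent.Lib.Helper75.D4g

variable (K : Type*) [Field K] (φ : K →+* K)

/-- the coefficient function of `W` -/
def d3mem_tt (s t S c d e : K) : ℕ → K := fun r =>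
  if r = 18 then s else if r = 13 then φ s else if r = 12 then φ (φ s) else if r = 14 then t
  else if r = 19 then S else if r = 16 then φ S else if r = 15 then φ (φ S)
  else if r = 21 then c else if r = 17 then φ c else if r = 20 then φ (φ c)
  else if r = 22 then d else if r = 23 then e else 0

theorem d3mem_flat : orbsD4.flatten = [18, 13, 12, 14, 15, 19, 16, 17, 20, 21, 22, 23] := by decide

theorem d3mem_so_15_19 : chkSO chevD4 15 19 = true := by decide +kernel
theorem d3mem_so_15_16 : chkSO chevD4 15 16 = true := by decide +kernel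
theorem d3mem_so_21_17 : chkSO chevD4 21 17 = true := by decide +kernel
theorem d3mem_so_21_20 : chkSO chevD4 21 20 = true := by decide +kernel

theorem d3mem_W_eq_word (s t S c d e : K) :
    W K φ s t S c d e =
      wordGL chevD4 hD4 K (orbsD4.flatten.map fun r => (r, d3mem_tt K φ s t S c d e r)) := by
  rw [d3mem_flat]
  have hABC : xg K 19 S * xg K 16 (φ S) * xg K 15 (φ (φ S)) =
      xg K 15 (φ (φ S)) * (xg K 19 S * xg K 16 (φ S)) :=
    (((so_of_chk chevD4 hD4 K 15 19 d3mem_so_15_19).xx _ _).mul_right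
      ((so_of_chk chevD4 hD4 K 15 16 d3mem_so_15_16).xx _ _)).eq.symm
  have hPQR : xg K 21 c * xg K 17 (φ c) * xg K 20 (φ (φ c)) =
      xg K 17 (φ c) * xg K 20 (φ (φ c)) * xg K 21 c := by
    rw [mul_assoc]
    exact (((so_of_chk chevD4 hD4 K 21 17 d3mem_so_21_17).xx _ _).mul_right
      ((so_of_chk chevD4 hD4 K 21 20 d3mem_so_21_20).xx _ _)).eq
  unfold W xa V xab T x2ab
  rw [hABC, hPQR]
  simp only [wordGL, List.map_cons, List.map_nil, List.prod_cons, List.prod_nil, d3mem_tt]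
  simp only [mul_assoc, mul_one]
  simp

theorem d3mem_pos : ∀ r ∈ orbsD4.flatten, chevD4.IsPosRoot r := by
  obtain ⟨hk, -⟩ := chkOrb_spec chevD4 graphD4 orbsD4 chkOrb_D4
  obtain ⟨-, -, hpos, -⟩ := chkKeyOrd_spec chevD4 _ hk
  intro r hr
  exact (hpos r).2 hr

theorem d3mem_tw (a : ℕ → K) (r r' : ℕ) (ε : ℤ) (h1 : graphD4.ρi r = r') (h2 : graphD4.ε r' = ε) :
    tw graphD4 K φ a r = (ε : K) * φ (a r') := by
  unfold tw
  rw [h1, h2]

/-- D3-MEM -/
theorem W_mem [Fintype K] [CharP K 2] {q : ℕ} (hK : Fintype.card K = q ^ 3) (hφ : ∀ t : K, φ t = t ^ q)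
    (s t S c d e : K) (ht : φ t = t) (hd : φ d = d) (he : φ e = e) : W K φ s t S c d e ∈ twistedD4 K q := by
  have h3 : ∀ x : K, φ (φ (φ x)) = x := fun x => d4gmem_frob_cube hK φ hφ x
  rw [twistedD4_eq K q φ hφ hK]
  apply posFixed_mem chevD4 hD4 graphD4 graphOK_D4 orbsD4 fundD4 K φ chkOrb_D4 chkFund_D4 stepsD4
    chkReach2_D4
  · rw [d3mem_W_eq_word]
    apply wordGL_mem
    intro p hp
    obtain ⟨r, hr, rfl⟩ := List.mem_map.1 hp
    exact xGL_mem_pos chevD4 hD4 K r (d3mem_pos r hr) _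
  · rw [d3mem_W_eq_word, sigma_fixed_iff chevD4 hD4 graphD4 graphOK_D4 orbsD4 K φ chkOrb_D4]
    intro r hr
    rw [d3mem_flat] at hr
    simp only [List.mem_cons, List.not_mem_nil, or_false] at hr
    rcases hr with rfl | rfl | rfl | rfl | rfl | rfl | rfl | rfl | rfl | rfl | rfl | rfl
    · rw [d3mem_tw K φ _ 18 12 1 (by decide) (by decide)]
      simp [d3mem_tt, h3]
    · rw [d3mem_tw K φ _ 13 18 1 (by decide) (by decide)]
      simp [d3mem_tt]
    · rw [d3mem_tw K φ _ 12 13 1 (by decide) (by decide)]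
      simp [d3mem_tt]
    · rw [d3mem_tw K φ _ 14 14 1 (by decide) (by decide)]
      simp [d3mem_tt, ht]
    · rw [d3mem_tw K φ _ 15 16 1 (by decide) (by decide)]
      simp [d3mem_tt]
    · rw [d3mem_tw K φ _ 19 15 (-1) (by decide) (by decide)]
      simp [d3mem_tt, h3, CharTwo.neg_eq]
    · rw [d3mem_tw K φ _ 16 19 (-1) (by decide) (by decide)]
      simp [d3mem_tt, CharTwo.neg_eq]
    · rw [d3mem_tw K φ _ 17 21 (-1) (by decide) (by decide)]
      simp [d3mem_tt, CharTwo.neg_eq]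
    · rw [d3mem_tw K φ _ 20 17 (-1) (by decide) (by decide)]
      simp [d3mem_tt, CharTwo.neg_eq]
    · rw [d3mem_tw K φ _ 21 20 1 (by decide) (by decide)]
      simp [d3mem_tt, h3]
    · rw [d3mem_tw K φ _ 22 22 1 (by decide) (by decide)]
      simp [d3mem_tt, hd]
    · rw [d3mem_tw K φ _ 23 23 1 (by decide) (by decide)]
      simp [d3mem_tt, he]

/-- D3-MEM -/
theorem xma_mem [Fintype K] {q : ℕ} (hK : Fintype.card K = q ^ 3) (hφ : ∀ t : K, φ t = t ^ q) (σ : K) :
    xma K φ σ ∈ twistedD4 K q := by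
  unfold twistedD4 ChevalleyDatum.genSubgroup
  apply Subgroup.subset_closure
  refine ⟨[(d4m1, σ), (d4m3, σ ^ q), (d4m4, σ ^ (q ^ 2))],
    Or.inr ⟨σ, (d4m1, d4m3, d4m4), by simp, rfl⟩, ?_⟩
  rw [← wordGL_coe chevD4 hD4]
  congr 1
  unfold xma xg
  have e2 : φ (φ σ) = σ ^ (q ^ 2) := by rw [hφ, hφ, ← pow_mul, sq]
  rw [e2, hφ]
  simp [wordGL, d4m1, d4m3, d4m4, mul_assoc]

end Cfsg.Agent.Lib.Helper12.D3
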