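import Mathlib

/-!
# Rx hive (helper12, S2113): leaf RX-W13 `exists_w13` (+ shared aux `rxw13_*`)
-/

set_option autoImplicit false

namespace Cfsg.Agent.Lib.Helper12.Rx

open Polynomial

section witnesses
variable {K : Type*} [Field K] [Fintype K] {m : ℕ}

/-- a field of order `3 ^ (2m+1)` has characteristic 3. -/
theorem rxw13_three_eq_zero (hK : Fintype.card K = 3 ^ (2 * m + 1)) : (3 : K) = 0 := by
  have h : ((Fintype.card K : ℕ) : K) = 0 := FiniteField.cast_card_eq_zero K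
  rw [hK] at h
  push_cast at h
  exact pow_eq_zero_iff (by omega) |>.1 h

theorem rxw13_char (hK : Fintype.card K = 3 ^ (2 * m + 1)) : CharP K 3 :=
  (CharP.charP_iff_prime_eq_zero Nat.prime_three).2 (by exact_mod_cast rxw13_three_eq_zero hK)

/-- a monic polynomial of degree `< |K|` has a non-root. -/
theorem rxw13_nonroot (P : K[X]) (hP : P.Monic) (hdeg : P.natDegree < Fintype.card K) :
    ∃ s : K, P.eval s ≠ 0 := by
  classical
  by_contra hcon
  push Not at hcon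
  have hsub : (Finset.univ : Finset K).val ⊆ P.roots := by
    intro t _
    rw [Polynomial.mem_roots hP.ne_zero]
    exact hcon t
  have h1 := Polynomial.card_le_degree_of_subset_roots hsub
  rw [Finset.card_univ] at h1
  omega

/-- `(s+1)^e = s^e + 1` for `e = 3^m*3` in characteristic 3. -/
theorem rxw13_add_pow (hK : Fintype.card K = 3 ^ (2 * m + 1)) (s : K) :
    (s + 1) ^ (3 ^ m * 3) = s ^ (3 ^ m * 3) + 1 := by
  have := rxw13_char hK
  have : Fact (Nat.Prime 3) := ⟨Nat.prime_three⟩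
  rw [← pow_succ, add_pow_char_pow, one_pow]

theorem rxw13_pow_lt (hm : 1 ≤ m) : 3 * (3 ^ m * 3) ≤ 3 ^ (2 * m + 1) := by
  have h1 : 3 ^ (2 * m + 1) = 3 ^ m * (3 ^ m * 3) := by
    rw [show 2 * m + 1 = m + (m + 1) by ring, pow_add, pow_succ]
  rw [h1]
  have h2 : 3 ^ 1 ≤ 3 ^ m := Nat.pow_le_pow_right (by norm_num) hm
  exact Nat.mul_le_mul_right _ (by simpa using h2)

theorem rxw13_nine_le (hm : 1 ≤ m) : 9 ≤ 3 ^ m * 3 := by
  have h2 : 3 ^ 1 ≤ 3 ^ m := Nat.pow_le_pow_right (by norm_num) hm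
  omega

/-- RX-W13. -/
theorem exists_w13 (hm : 1 ≤ m) (hK : Fintype.card K = 3 ^ (2 * m + 1)) :
    ∃ s : K, s ≠ 0 ∧ s + 1 ≠ 0 ∧
      1 / ((s + 1) ^ 2 / (s + 1) ^ (3 ^ m * 3)) - 1 / (s ^ 2 / s ^ (3 ^ m * 3)) - 1 ≠ 0 := by
  have h3 : (3 : K) = 0 := rxw13_three_eq_zero hK
  have he9 := rxw13_nine_le hm
  have heq := rxw13_pow_lt hm
  obtain ⟨e, he⟩ : ∃ e : ℕ, e = 3 ^ m * 3 := ⟨_, rfl⟩
  rw [← he] at he9 heq
  obtain ⟨P, hPdef⟩ : ∃ P : K[X], P = X * (X + C 1) * (X - C 1) * (X ^ e - X ^ 3) := ⟨_, rfl⟩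
  have hmon : P.Monic := by
    rw [hPdef]
    refine ((monic_X.mul (monic_X_add_C 1)).mul (monic_X_sub_C 1)).mul ?_
    apply monic_X_pow_sub
    rw [degree_X_pow]
    exact_mod_cast (by omega : 3 < e)
  have hdeg : P.natDegree ≤ e + 3 := by
    rw [hPdef]
    compute_degree
    omega
  obtain ⟨s, hs⟩ := rxw13_nonroot P hmon (by omega)
  rw [hPdef] at hs
  simp only [eval_mul, eval_X, eval_add, eval_sub, eval_C, eval_pow] at hs
  have hs0 : s ≠ 0 := by
    rintro rfl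
    apply hs; ring
  have hs1 : s + 1 ≠ 0 := by
    intro h
    apply hs; rw [h]; ring
  have hsm : s - 1 ≠ 0 := by
    intro h
    apply hs; rw [h]; ring
  have hse : s ^ e - s ^ 3 ≠ 0 := by
    intro h
    apply hs; rw [h]; ring
  refine ⟨s, hs0, hs1, ?_⟩
  rw [rxw13_add_pow hK, ← he]
  have ht1 : s ^ e + 1 ≠ 0 := by
    have := rxw13_add_pow hK s
    rw [← he] at this
    rw [← this]
    exact pow_ne_zero _ hs1
  have key : 1 / ((s + 1) ^ 2 / (s ^ e + 1)) - 1 / (s ^ 2 / s ^ e) - 1 =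
      (s - 1) * (s ^ e - s ^ 3) / (s ^ 2 * (s + 1) ^ 2) := by
    field_simp
    linear_combination (-(s * (s ^ e + s ^ 2))) * h3
  rw [key]
  exact div_ne_zero (mul_ne_zero hsm hse) (mul_ne_zero (pow_ne_zero _ hs0) (pow_ne_zero _ hs1))

end witnesses

end Cfsg.Agent.Lib.Helper12.Rx
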