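import Mathlib
import Cfsg.Agent.Lib.Helper33.RxW13

/-!
# Rx hive (helper12, S2113): leaf RX-W23 `exists_w23`
-/

set_option autoImplicit false

namespace Cfsg.Agent.Lib.Helper12.Rx

open Polynomial

section witnesses
variable {K : Type*} [Field K] [Fintype K] {m : ℕ}

/-- RX-W23. -/
theorem exists_w23 (hm : 1 ≤ m) (hK : Fintype.card K = 3 ^ (2 * m + 1)) :
    ∃ s : K, s ≠ 0 ∧ s + 1 ≠ 0 ∧
      1 / ((s + 1) ^ (3 ^ m * 3) / (s + 1)) - 1 / (s ^ (3 ^ m * 3) / s) - 1 ≠ 0 := by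
  have he9 := rxw13_nine_le hm
  have heq := rxw13_pow_lt hm
  obtain ⟨e, he⟩ : ∃ e : ℕ, e = 3 ^ m * 3 := ⟨_, rfl⟩
  rw [← he] at he9 heq
  obtain ⟨P, hPdef⟩ : ∃ P : K[X], P = X * (X + C 1) * (X ^ (2 * e) + X) := ⟨_, rfl⟩
  have hmon : P.Monic := by
    rw [hPdef]
    refine (monic_X.mul (monic_X_add_C 1)).mul ?_
    apply monic_X_pow_add
    rw [degree_X]
    exact_mod_cast (by omega : 1 < 2 * e)
  have hdeg : P.natDegree ≤ 2 * e + 2 := by
    rw [hPdef]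
    compute_degree
    omega
  obtain ⟨s, hs⟩ := rxw13_nonroot P hmon (by omega)
  rw [hPdef] at hs
  simp only [eval_mul, eval_X, eval_add, eval_C, eval_pow] at hs
  have hs0 : s ≠ 0 := by
    rintro rfl
    apply hs; ring
  have hs1 : s + 1 ≠ 0 := by
    intro h
    apply hs; rw [h]; ring
  have hse : s ^ (2 * e) + s ≠ 0 := by
    intro h
    apply hs; rw [h]; ring
  refine ⟨s, hs0, hs1, ?_⟩
  rw [rxw13_add_pow hK, ← he]
  have ht0 : s ^ e ≠ 0 := pow_ne_zero _ hs0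
  have ht1 : s ^ e + 1 ≠ 0 := by
    have := rxw13_add_pow hK s
    rw [← he] at this
    rw [← this]
    exact pow_ne_zero _ hs1
  have key : 1 / ((s ^ e + 1) / (s + 1)) - 1 / (s ^ e / s) - 1 =
      -(s ^ (2 * e) + s) / (s ^ e * (s ^ e + 1)) := by
    field_simp
    ring
  rw [key]
  exact div_ne_zero (neg_ne_zero.2 hse) (mul_ne_zero ht0 ht1)

end witnesses

end Cfsg.Agent.Lib.Helper12.Rx
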