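import Cfsg.Agent.Lib.Helper2.G2oDefs
import Cfsg.Agent.S1045
import Cfsg.Agent.S1025

/-!
# G2o hive (S4278, owner helper2): leaf G2O-PID `pid`
-/

set_option autoImplicit false

namespace Cfsg.Agent.Lib.Helper2.G2o

open Cfsg Cfsg.Lie Cfsg.Agent.Lib.Helper36 Cfsg.Agent.Lib.Helper20.G2c

variable (F : Type*) [Field F]

/-- the inverse of an element acting diagonally on a root subgroup acts diagonally too -/
theorem pid_inv_conj (n : GL chevG2.Idx F) (r : ℕ) (c : F) (hc : c ≠ 0)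
    (h : ∀ t : F, n * xg F r t * n⁻¹ = xg F r (c * t)) (t : F) :
    n⁻¹ * xg F r t * n = xg F r (c⁻¹ * t) := by
  have e := h (c⁻¹ * t)
  rw [← mul_assoc, mul_inv_cancel₀ hc, one_mul] at e
  rw [← e]
  group

/-- G2O-PID -/
theorem pid (n : GL chevG2.Idx F) (hn : n ∈ chevG2.monomialSubgroup F) (h : Acts F n id) :
    n ∈ chevG2.diagonalSubgroup F := by
  have hcomm : HComm chevG2 F := fun r s hr hs hrs hneg t u =>
    Cfsg.Agent.S1025.result chevG2 hG2 r s hr hs hrs hneg t u
  have h45 : ∀ i < chevG2.rank, H45 chevG2 F i := fun i hi => Cfsg.Agent.S1045.result chevG2 hG2 i hi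
  -- `n` normalises `U_∅`
  have hnorm : n ∈ Subgroup.normalizer (chevG2.unipotentRadical F ∅ : Set (GL chevG2.Idx F)) := by
    unfold ChevalleyDatum.unipotentRadical
    apply mem_normalizer_closure
    · rintro x ⟨r, t, hr, hnr, hx⟩
      have ex : x = xg F r t := Units.ext (by rw [hx, xGL_coe])
      obtain ⟨c, hc, hact⟩ := h r hr.1
      rw [ex, hact t]
      exact Subgroup.subset_closure ⟨r, c * t, hr, hnr, xGL_coe chevG2 hG2 F r _⟩
    · rintro x ⟨r, t, hr, hnr, hx⟩
      have ex : x = xg F r t := Units.ext (by rw [hx, xGL_coe])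
      obtain ⟨c, hc, hact⟩ := h r hr.1
      rw [ex, pid_inv_conj F n r c hc hact t]
      exact Subgroup.subset_closure ⟨r, c⁻¹ * t, hr, hnr, xGL_coe chevG2 hG2 F r _⟩
  have hP : n ∈ chevG2.parabolicSubgroup F ∅ := by
    rw [← normalizer_unipotentRadical chevG2 hG2 F h45 hcomm ∅]
    exact ⟨hnorm, monomial_le_group chevG2 hG2 F hn⟩
  have hPB : chevG2.parabolicSubgroup F ∅ ≤ chevG2.borelSubgroup F := by
    unfold ChevalleyDatum.parabolicSubgroup
    refine sup_le le_rfl ?_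
    rw [Subgroup.closure_le]
    rintro x ⟨j, hj, -⟩
    exact absurd hj (Set.notMem_empty j)
  rw [← borel_inf_monomial chevG2 hG2 F]
  exact ⟨hPB hP, hn⟩

end Cfsg.Agent.Lib.Helper2.G2o
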