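import Cfsg.Agent.Lib.Helper20.F4cDefs

/-!
# F4c hive (S2179, owner helper20): leaf F4C-AQ `QA_le`, `nGL_mem_QA`, `diag_le_normalizer_QA`
-/

set_option autoImplicit false

namespace Cfsg.Agent.Lib.Helper20.F4c

open Cfsg Cfsg.Lie Cfsg.Agent.Lib.Helper36 Cfsg.Agent.Lib.Helper18

variable (F : Type*) [Field F]

theorem f4caq_neg1 : chevF4.neg (chevF4.simple 1) = 20 := by decide

theorem f4caq_neg2 : chevF4.neg (chevF4.simple 2) = 22 := by decide

theorem f4caq_cent_of_comm (g : GL chevF4.Idx F) (h1 : g * xf F 47 1 = xf F 47 1 * g)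
    (h2 : g * xf F 44 1 = xf F 44 1 * g) : g ∈ Subgroup.centralizer {xf F 47 1 * xf F 44 1} := by
  rw [Subgroup.mem_centralizer_iff]
  intro y hy
  rw [Set.mem_singleton_iff] at hy
  subst hy
  calc xf F 47 1 * xf F 44 1 * g = xf F 47 1 * (xf F 44 1 * g) := mul_assoc _ _ _
    _ = xf F 47 1 * (g * xf F 44 1) := by rw [h2]
    _ = (xf F 47 1 * g) * xf F 44 1 := (mul_assoc _ _ _).symm
    _ = (g * xf F 47 1) * xf F 44 1 := by rw [h1]
    _ = g * (xf F 47 1 * xf F 44 1) := mul_assoc _ _ _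

/-- F4C-AQ. -/
theorem QA_le [CharP F 2] :
    QA F ≤ chevF4.group F ⊓ Subgroup.centralizer {xf F 47 1 * xf F 44 1} := by
  have H47 := centHyp_of_chk chevF4 hF4 F 0 (hp0 F) 47 3 chkCent_F4_long
  have H44 := centHyp_of_chk chevF4 hF4 F 2 (hp2 F) 44 0 chkCent_F4_short
  unfold QA
  refine sup_le (sup_le ?_ ?_) ?_
  · intro u hu
    exact ⟨posUnipotent_le_group chevF4 hF4 F hu,
      f4caq_cent_of_comm F u (H47.hcenU u hu 1) (H44.hcenU u hu 1)⟩
  · intro g hg
    obtain ⟨t, rfl⟩ := (mem_rootSubgroup_iff chevF4 hF4 F 20 g).1 hg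
    refine ⟨xGL_mem_group chevF4 hF4 F 20 t, f4caq_cent_of_comm F _ ?_ ?_⟩
    · have := (H47.hJ 1 (by decide) (by decide)).2.2 t 1
      rw [f4caq_neg1] at this
      exact this
    · have := (H44.hJ 1 (by decide) (by decide)).2.2 t 1
      rw [f4caq_neg1] at this
      exact this
  · intro g hg
    obtain ⟨t, rfl⟩ := (mem_rootSubgroup_iff chevF4 hF4 F 22 g).1 hg
    refine ⟨xGL_mem_group chevF4 hF4 F 22 t, f4caq_cent_of_comm F _ ?_ ?_⟩
    · have := (H47.hJ 2 (by decide) (by decide)).2.2 t 1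
      rw [f4caq_neg2] at this
      exact this
    · have := (H44.hJ 2 (by decide) (by decide)).2.2 t 1
      rw [f4caq_neg2] at this
      exact this

theorem f4caq_pos_le : chevF4.posUnipotent F ≤ QA F := by
  unfold QA
  exact le_sup_of_le_left le_sup_left

theorem f4caq_r20_le : chevF4.rootSubgroup F 20 ≤ QA F := by
  unfold QA
  exact le_sup_of_le_left le_sup_right

theorem f4caq_r22_le : chevF4.rootSubgroup F 22 ≤ QA F := by
  unfold QA
  exact le_sup_right

theorem nGL_mem_QA (j : ℕ) (hj : j = 1 ∨ j = 2) : nGL chevF4 hF4 F (chevF4.simple j) 1 ∈ QA F := by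
  unfold nGL
  apply wordGL_mem
  intro p hp
  simp only [ChevalleyDatum.nWord, List.mem_cons, List.not_mem_nil, or_false] at hp
  rcases hj with rfl | rfl
  · rcases hp with rfl | rfl | rfl
    · exact f4caq_pos_le F (xGL_mem_pos chevF4 hF4 F _ (isPosRoot_simple chevF4 hF4 1 (by decide)) _)
    · show xGL chevF4 hF4 F (chevF4.neg (chevF4.simple 1)) _ ∈ QA F
      rw [f4caq_neg1]
      exact f4caq_r20_le F (mem_rootSubgroup chevF4 hF4 F 20 _)
    · exact f4caq_pos_le F (xGL_mem_pos chevF4 hF4 F _ (isPosRoot_simple chevF4 hF4 1 (by decide)) _)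
  · rcases hp with rfl | rfl | rfl
    · exact f4caq_pos_le F (xGL_mem_pos chevF4 hF4 F _ (isPosRoot_simple chevF4 hF4 2 (by decide)) _)
    · show xGL chevF4 hF4 F (chevF4.neg (chevF4.simple 2)) _ ∈ QA F
      rw [f4caq_neg2]
      exact f4caq_r22_le F (mem_rootSubgroup chevF4 hF4 F 22 _)
    · exact f4caq_pos_le F (xGL_mem_pos chevF4 hF4 F _ (isPosRoot_simple chevF4 hF4 2 (by decide)) _)

theorem f4caq_conj_le (g : GL chevF4.Idx F)
    (h : ∀ s < chevF4.nroots, ∀ t : F, ∃ t' : F, g * xf F s t * g⁻¹ = xf F s t') :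
    (QA F).map (MulAut.conj g).toMonoidHom ≤ QA F := by
  unfold QA
  rw [Subgroup.map_sup, Subgroup.map_sup]
  refine sup_le_sup (sup_le_sup ?_ ?_) ?_
  · unfold ChevalleyDatum.posUnipotent
    rw [MonoidHom.map_closure, Subgroup.closure_le]
    rintro _ ⟨x, ⟨s, t, hs, hx⟩, rfl⟩
    have hx' : x = xf F s t := Units.ext hx
    obtain ⟨t', ht'⟩ := h s hs.1 t
    show g * x * g⁻¹ ∈ _
    rw [hx', ht']
    exact Subgroup.subset_closure ⟨s, t', hs, xGL_coe chevF4 hF4 F s t'⟩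
  · exact rootSubgroup_map_le chevF4 hF4 F g 20 20 (h 20 (by decide))
  · exact rootSubgroup_map_le chevF4 hF4 F g 22 22 (h 22 (by decide))

theorem diag_le_normalizer_QA :
    chevF4.diagonalSubgroup F ≤ Subgroup.normalizer (QA F : Set (GL chevF4.Idx F)) := by
  intro h hh
  obtain ⟨χ, hχ, e⟩ := exists_character_of_mem_diagonal chevF4 hF4 F h hh
  obtain ⟨χ', hχ', e'⟩ := exists_character_of_mem_diagonal chevF4 hF4 F h⁻¹ (inv_mem hh)
  have h1 := f4caq_conj_le F h (fun s hs t => ⟨_, diag_conj_xGL chevF4 hF4 F h χ hχ e s hs t⟩)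
  have h2 := f4caq_conj_le F h⁻¹
    (fun s hs t => ⟨_, diag_conj_xGL chevF4 hF4 F h⁻¹ χ' hχ' e' s hs t⟩)
  rw [Subgroup.mem_normalizer_iff]
  intro x
  constructor
  · intro hx
    exact h1 (Subgroup.mem_map_of_mem _ hx)
  · intro hx
    have := h2 (Subgroup.mem_map_of_mem _ hx)
    simpa [MulAut.conj_apply, mul_assoc] using this

end Cfsg.Agent.Lib.Helper20.F4c
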