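import Cfsg.Prelude.Def_ConjugacyFunctors
import Mathlib.GroupTheory.Nilpotent
import Cfsg.Agent.Lib.Helper33.Conj

set_option autoImplicit false

namespace Cfsg.Agent.Lib.Helper33

open scoped commutatorElement

variable {P : Type*} [Group P]

/-- The descending chain `C, [C,N], [[C,N],N], …`. -/
def commChain (C N : Subgroup P) : ℕ → Subgroup P
  | 0 => C
  | i + 1 => ⁅commChain C N i, N⁆

theorem commChain_le_lcs (C N : Subgroup P) (i : ℕ) : commChain C N i ≤ (⊤ : Subgroup P).lowerCentralSeries i := by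
  induction i with
  | zero => simp [commChain]
  | succ i ih =>
    show ⁅commChain C N i, N⁆ ≤ ⁅(⊤ : Subgroup P).lowerCentralSeries i, ⊤⁆
    exact Subgroup.commutator_mono ih le_top

theorem commChain_le {C N : Subgroup P} (h : ⁅C, N⁆ ≤ C) (i : ℕ) : commChain C N i ≤ C := by
  induction i with
  | zero => exact le_rfl
  | succ i ih =>
    show ⁅commChain C N i, N⁆ ≤ C
    exact le_trans (Subgroup.commutator_mono ih le_rfl) h

/-- In a nilpotent group, if `C_P(B) ≰ B` there is a subgroup `D ≤ C_P(B)`, not inside `B`, with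
`[D, N_P(B)] ≤ B`. -/
theorem exists_central_step [Group.IsNilpotent P] (B : Subgroup P)
    (h : ¬ Subgroup.centralizer (B : Set P) ≤ B) :
    ∃ D : Subgroup P, D ≤ Subgroup.centralizer (B : Set P) ∧ ¬ D ≤ B ∧
      ⁅D, Subgroup.normalizer (B : Set P)⁆ ≤ B := by
  classical
  obtain ⟨C, hC⟩ : ∃ C, C = Subgroup.centralizer (B : Set P) := ⟨_, rfl⟩
  obtain ⟨N, hN⟩ : ∃ N, N = Subgroup.normalizer (B : Set P) := ⟨_, rfl⟩
  rw [← hC] at h ⊢
  rw [← hN]
  have hnorm : ⁅C, N⁆ ≤ C := by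
    rw [← Subgroup.le_normalizer_iff_commutator_le_left]
    intro n hn
    rw [← cj_eq_self_iff, hC, ← centralizer_cj, cj_eq_self_iff.mpr (hN ▸ hn)]
  obtain ⟨k, hk⟩ := (Subgroup.nilpotent_iff_lowerCentralSeries (G := P)).mp inferInstance
  have hex : ∃ i, commChain C N i ≤ B := ⟨k, by
    have := commChain_le_lcs C N k
    rw [hk] at this
    exact le_trans this bot_le⟩
  have hmin : ∀ m, m < Nat.find hex → ¬ commChain C N m ≤ B := fun m hm => Nat.find_min hex hm
  have hspec := Nat.find_spec hex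
  obtain ⟨i, hi⟩ : ∃ i, i = Nat.find hex := ⟨_, rfl⟩
  rw [← hi] at hspec
  cases i with
  | zero => exact absurd hspec h
  | succ j =>
    refine ⟨commChain C N j, commChain_le hnorm j, ?_, hspec⟩
    apply hmin
    rw [← hi]
    exact Nat.lt_succ_self j

theorem comm_mul_central_left {a z c : P} (h : Commute z c) : ⁅a * z, c⁆ = ⁅a, c⁆ := by
  have e : z * c * z⁻¹ = c := by rw [h.eq]; group
  calc ⁅a * z, c⁆ = a * (z * c * z⁻¹) * a⁻¹ * c⁻¹ := by
        rw [commutatorElement_def]; group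
    _ = ⁅a, c⁆ := by rw [e, commutatorElement_def]

theorem comm_mul_central_right {a z c : P} (h : Commute z a) : ⁅a, c * z⁆ = ⁅a, c⁆ := by
  have e : z * a⁻¹ * z⁻¹ = a⁻¹ := by rw [(h.inv_right).eq]; group
  calc ⁅a, c * z⁆ = a * c * (z * a⁻¹ * z⁻¹) * c⁻¹ := by
        rw [commutatorElement_def]; group
    _ = ⁅a, c⁆ := by rw [e, commutatorElement_def]

section Ext

variable {B X : Subgroup P}

theorem ext_mem (hXC : X ≤ Subgroup.centralizer (B : Set P)) {g : P} (hg : g ∈ B ⊔ X) :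
    ∃ b ∈ B, ∃ z ∈ X, g = b * z := by
  have hle : X ≤ Subgroup.normalizer (B : Set P) :=
    le_trans hXC (Subgroup.centralizer_le_normalizer _)
  have := Subgroup.coe_mul_of_right_le_normalizer_left B X hle
  have hg' : g ∈ ((B ⊔ X : Subgroup P) : Set P) := hg
  rw [this] at hg'
  obtain ⟨b, hb, z, hz, rfl⟩ := Set.mem_mul.mp hg'
  exact ⟨b, hb, z, hz, rfl⟩

theorem ext_le_centralizer (hXC : X ≤ Subgroup.centralizer (B : Set P))
    (hXX : X ≤ Subgroup.centralizer (X : Set P)) :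
    X ≤ Subgroup.centralizer ((B ⊔ X : Subgroup P) : Set P) := by
  rw [Subgroup.le_centralizer_iff, sup_le_iff]
  exact ⟨Subgroup.le_centralizer_iff.mp hXC, hXX⟩

theorem ext_comm_le (hXC : X ≤ Subgroup.centralizer (B : Set P))
    (hXX : X ≤ Subgroup.centralizer (X : Set P)) : ⁅B ⊔ X, B ⊔ X⁆ ≤ ⁅B, B⁆ := by
  rw [Subgroup.commutator_le]
  intro g₁ hg₁ g₂ hg₂
  obtain ⟨b₁, hb₁, z₁, hz₁, rfl⟩ := ext_mem hXC hg₁
  obtain ⟨b₂, hb₂, z₂, hz₂, rfl⟩ := ext_mem hXC hg₂
  have hc := ext_le_centralizer hXC hXX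
  have h1 : Commute z₁ (b₂ * z₂) := by
    have := Subgroup.mem_centralizer_iff.mp (hc hz₁) (b₂ * z₂) hg₂
    exact this.symm
  have h2 : Commute z₂ b₁ := by
    have := Subgroup.mem_centralizer_iff.mp (hXC hz₂) b₁ hb₁
    exact this.symm
  rw [comm_mul_central_left h1, comm_mul_central_right h2]
  exact Subgroup.commutator_mem_commutator hb₁ hb₂

theorem ext_classTwo (hXC : X ≤ Subgroup.centralizer (B : Set P))
    (hXX : X ≤ Subgroup.centralizer (X : Set P)) (hB : B ∈ Cfsg.classTwoSubgroups P) :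
    B ⊔ X ∈ Cfsg.classTwoSubgroups P := by
  show ⁅B ⊔ X, B ⊔ X⁆ ≤ Subgroup.centralizer ((B ⊔ X : Subgroup P) : Set P)
  refine le_trans (ext_comm_le hXC hXX) ?_
  rw [Subgroup.le_centralizer_iff, sup_le_iff]
  constructor
  · exact Subgroup.le_centralizer_iff.mp hB
  · refine le_trans hXC ?_
    exact Subgroup.centralizer_le (Subgroup.commutator_le_self B)

theorem ext_center_le (hXC : X ≤ Subgroup.centralizer (B : Set P)) :
    B ⊓ Subgroup.centralizer (B : Set P) ≤
      (B ⊔ X) ⊓ Subgroup.centralizer ((B ⊔ X : Subgroup P) : Set P) := by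
  refine le_inf (le_trans inf_le_left le_sup_left) ?_
  rw [Subgroup.le_centralizer_iff, sup_le_iff]
  constructor
  · rw [Subgroup.le_centralizer_iff]; exact inf_le_right
  · refine le_trans hXC ?_
    exact Subgroup.centralizer_le (by exact_mod_cast (inf_le_left : B ⊓ Subgroup.centralizer (B : Set P) ≤ B))

theorem ext_comm_normalizer_le (hXC : X ≤ Subgroup.centralizer (B : Set P))
    (hXN : ⁅X, Subgroup.normalizer (B : Set P)⁆ ≤ B) :
    ⁅X, Subgroup.normalizer (B : Set P)⁆ ≤ B ⊓ Subgroup.centralizer (B : Set P) := by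
  refine le_inf hXN ?_
  have hnorm : ⁅Subgroup.centralizer (B : Set P), Subgroup.normalizer (B : Set P)⁆ ≤
      Subgroup.centralizer (B : Set P) := by
    rw [← Subgroup.le_normalizer_iff_commutator_le_left]
    intro n hn
    rw [← cj_eq_self_iff, ← centralizer_cj, cj_eq_self_iff.mpr hn]
  exact le_trans (Subgroup.commutator_mono hXC le_rfl) hnorm

theorem ext_comm (hXC : X ≤ Subgroup.centralizer (B : Set P))
    (hXN : ⁅X, Subgroup.normalizer (B : Set P)⁆ ≤ B) {A : Subgroup P}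
    (hA : A ≤ Subgroup.normalizer (B : Set P))
    (h : ⁅B, A⁆ ≤ B ⊓ Subgroup.centralizer (B : Set P)) :
    ⁅B ⊔ X, A⁆ ≤ B ⊓ Subgroup.centralizer (B : Set P) := by
  rw [Subgroup.commutator_le]
  intro g hg a ha
  obtain ⟨b, hb, z, hz, rfl⟩ := ext_mem hXC hg
  rw [commutatorElement_mul_left_eq_conj_mul]
  have h1 : ⁅z, a⁆ ∈ B ⊓ Subgroup.centralizer (B : Set P) :=
    ext_comm_normalizer_le hXC hXN (Subgroup.commutator_mem_commutator hz (hA ha))
  have h2 : ⁅b, a⁆ ∈ B ⊓ Subgroup.centralizer (B : Set P) :=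
    h (Subgroup.commutator_mem_commutator hb ha)
  have h3 : b * ⁅z, a⁆ * b⁻¹ = ⁅z, a⁆ := by
    have := Subgroup.mem_centralizer_iff.mp h1.2 b hb
    rw [this]; group
  rw [h3]
  exact mul_mem h1 h2

theorem ext_normalizer [Finite P] (_hXC : X ≤ Subgroup.centralizer (B : Set P))
    (hXN : ⁅X, Subgroup.normalizer (B : Set P)⁆ ≤ B) :
    Subgroup.normalizer (B : Set P) ≤ Subgroup.normalizer ((B ⊔ X : Subgroup P) : Set P) := by
  intro n hn
  rw [← cj_eq_self_iff]
  have hle : cj n (B ⊔ X) ≤ B ⊔ X := by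
    rw [cj_sup, cj_eq_self_iff.mpr hn]
    refine sup_le le_sup_left ?_
    intro y hy
    rw [mem_cj] at hy
    -- y = n (n⁻¹ y n) n⁻¹
    have h1 : ⁅n⁻¹ * y * n, n⁆ ∈ B :=
      hXN (Subgroup.commutator_mem_commutator hy hn)
    have h2 : y = (⁅n⁻¹ * y * n, n⁆)⁻¹ * (n⁻¹ * y * n) := by
      rw [commutatorElement_def]; group
    rw [h2]
    exact mul_mem (le_sup_left (a := B) (b := X) (inv_mem h1)) (le_sup_right (a := B) (b := X) hy)
  exact Subgroup.eq_of_le_of_card_ge hle (by rw [card_cj])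

end Ext

/-- In a nilpotent group, a subgroup `B` not containing its centralizer has a cyclic extension
`B ⊔ X` by a subgroup `X ≤ C_P(B)` with `[X, N_P(B)] ≤ B`. -/
theorem exists_ext [Group.IsNilpotent P] (B : Subgroup P)
    (h : ¬ Subgroup.centralizer (B : Set P) ≤ B) :
    ∃ X : Subgroup P, X ≤ Subgroup.centralizer (B : Set P) ∧
      X ≤ Subgroup.centralizer (X : Set P) ∧
      ⁅X, Subgroup.normalizer (B : Set P)⁆ ≤ B ∧ ¬ X ≤ B := by
  obtain ⟨D, hDC, hDB, hDN⟩ := exists_central_step B h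
  obtain ⟨x, hxD, hxB⟩ := SetLike.not_le_iff_exists.mp hDB
  have hXD : Subgroup.zpowers x ≤ D := (Subgroup.zpowers_le).mpr hxD
  refine ⟨Subgroup.zpowers x, le_trans hXD hDC, ?_, ?_, ?_⟩
  · rw [Subgroup.le_centralizer_iff_isMulCommutative]
    infer_instance
  · exact le_trans (Subgroup.commutator_mono hXD le_rfl) hDN
  · intro hle
    exact hxB (hle (Subgroup.mem_zpowers x))

theorem classTwo_max_self_centralizing [Finite P] [Group.IsNilpotent P] {B : Subgroup P}
    (hB : B ∈ Cfsg.classTwoSubgroups P)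
    (hmax : ∀ C ∈ Cfsg.classTwoSubgroups P, B ≤ C → C = B) :
    Subgroup.centralizer (B : Set P) ≤ B := by
  by_contra h
  obtain ⟨X, hXC, hXX, _, hXB⟩ := exists_ext B h
  have := hmax _ (ext_classTwo hXC hXX hB) le_sup_left
  exact hXB (this ▸ le_sup_right)

theorem upperStar_max_self_centralizing [Finite P] [Group.IsNilpotent P] {B Q : Subgroup P}
    (hB : B ∈ Cfsg.kUpperStarFamily Q)
    (hmax : ∀ C ∈ Cfsg.kUpperStarFamily Q, B ≤ C → C = B) :
    Subgroup.centralizer (B : Set P) ≤ B := by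
  by_contra h
  obtain ⟨X, hXC, hXX, hXN, hXB⟩ := exists_ext B h
  have hQN : Q ≤ Subgroup.normalizer (B : Set P) := by
    rw [Subgroup.le_normalizer_iff_commutator_le_left]
    exact le_trans hB.2 inf_le_left
  have hmem : B ⊔ X ∈ Cfsg.kUpperStarFamily Q :=
    ⟨ext_classTwo hXC hXX hB.1, le_trans (ext_comm hXC hXN hQN hB.2) (ext_center_le hXC)⟩
  have := hmax _ hmem le_sup_left
  exact hXB (this ▸ le_sup_right)

theorem lowerStar_max_self_centralizing [Finite P] [Group.IsNilpotent P] {B Q : Subgroup P}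
    (hB : B ∈ Cfsg.kLowerStarFamily Q)
    (hmax : ∀ C ∈ Cfsg.kLowerStarFamily Q, B ≤ C → C = B) :
    Subgroup.centralizer (B : Set P) ≤ B := by
  by_contra h
  obtain ⟨X, hXC, hXX, hXN, hXB⟩ := exists_ext B h
  obtain ⟨hB1, hB2, hB3⟩ := hB
  have hmem : B ⊔ X ∈ Cfsg.kLowerStarFamily Q := by
    refine ⟨ext_classTwo hXC hXX hB1, le_trans hB2 (ext_normalizer hXC hXN), ?_⟩
    intro A hA hAQ hnA h1 h2
    have hBA : ⁅B, A⁆ ≤ B ⊓ Subgroup.centralizer (B : Set P) := by
      apply hB3 A hA hAQ (le_trans le_sup_left hnA)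
      · rw [eq_bot_iff, ← h1]
        exact Subgroup.commutator_mono le_sup_left le_rfl
      · rw [eq_bot_iff, ← h2]
        exact Subgroup.commutator_mono (Subgroup.commutator_mono (ext_center_le hXC) le_rfl) le_rfl
    exact le_trans (ext_comm hXC hXN (le_trans hAQ hB2) hBA) (ext_center_le hXC)
  have := hmax _ hmem le_sup_left
  exact hXB (this ▸ le_sup_right)

/-- Every nonempty family of subgroups of a finite group has a maximal member above a given one. -/
theorem exists_max_member [Finite P] (𝒦 : Set (Subgroup P)) {B₀ : Subgroup P} (h₀ : B₀ ∈ 𝒦) :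
    ∃ B ∈ 𝒦, B₀ ≤ B ∧ ∀ C ∈ 𝒦, B ≤ C → C = B := by
  have hfin : (𝒦 ∩ {C | B₀ ≤ C}).Finite := Set.toFinite _
  have hne : (𝒦 ∩ {C | B₀ ≤ C}).Nonempty := ⟨B₀, h₀, le_refl B₀⟩
  obtain ⟨B, hB, hmax⟩ := hfin.exists_maximal hne
  refine ⟨B, hB.1, hB.2, ?_⟩
  intro C hC hBC
  have hC' : C ∈ 𝒦 ∩ {C | B₀ ≤ C} := ⟨hC, le_trans hB.2 hBC⟩
  exact le_antisymm (hmax hC' hBC) hBC

end Cfsg.Agent.Lib.Helper33
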