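import Cfsg.Agent.Lib.Helper21.Lo.Defs

/-! LO-AGRP (helper21's Lo sub-hive of helper14's We hive, S2347): the Siegel unipotent radical `A` is the set of the
`uMat S`, `S` symmetric, and is abelian. -/

set_option autoImplicit false
set_option linter.unusedSectionVars false

namespace Cfsg.Agent.Lib.Helper21.Lo

open Module Cfsg.Agent.Lib.Helper6.Ls Cfsg.Agent.Lib.Helper13 Cfsg.Agent.Lib.Helper21.Lq

section concrete

variable {F : Type*} [Field F] [Fintype F] [DecidableEq F]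

theorem agrp_uMat_mul (n : ℕ) (S S' : Matrix (Fin n) (Fin n) F) :
    (uMat S * uMat S' : Matrix (Fin n ⊕ Fin n) (Fin n ⊕ Fin n) F) = uMat (S + S') := by
  unfold uMat
  rw [Matrix.fromBlocks_multiply]
  simp [add_comm]

theorem agrp_uMat_zero (n : ℕ) :
    (uMat (0 : Matrix (Fin n) (Fin n) F) : Matrix (Fin n ⊕ Fin n) (Fin n ⊕ Fin n) F) = 1 := by
  unfold uMat
  exact Matrix.fromBlocks_one

/-- LO-AGRP (3): `uMat S` is symplectic for symmetric `S` (`A * J * Aᵀ = J`). -/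
theorem uMat_mem (n : ℕ) (S : Matrix (Fin n) (Fin n) F) (hS : S.transpose = S) :
    uMat S ∈ Matrix.symplecticGroup (Fin n) F := by
  rw [SymplecticGroup.mem_iff]
  unfold uMat Matrix.J
  rw [Matrix.fromBlocks_transpose, Matrix.fromBlocks_multiply, Matrix.fromBlocks_multiply]
  simp [hS]

theorem agrp_siegel_one (n : ℕ) : (1 : Spg F n) ∈ siegelSet F n :=
  ⟨0, Matrix.transpose_zero, (agrp_uMat_zero n).symm⟩

theorem agrp_siegel_mul (n : ℕ) {a b : Spg F n} (ha : a ∈ siegelSet F n) (hb : b ∈ siegelSet F n) :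
    a * b ∈ siegelSet F n := by
  obtain ⟨S, hS, haS⟩ := ha
  obtain ⟨S', hS', hbS⟩ := hb
  refine ⟨S + S', by rw [Matrix.transpose_add, hS, hS'], ?_⟩
  show (a : Matrix (Fin n ⊕ Fin n) (Fin n ⊕ Fin n) F) * (b : Matrix (Fin n ⊕ Fin n) (Fin n ⊕ Fin n) F) = _
  rw [haS, hbS, agrp_uMat_mul]

theorem agrp_siegel_inv (n : ℕ) {a : Spg F n} (ha : a ∈ siegelSet F n) : a⁻¹ ∈ siegelSet F n := by
  obtain ⟨S, hS, haS⟩ := ha
  have hS' : (-S).transpose = -S := by rw [Matrix.transpose_neg, hS]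
  let b : Spg F n := ⟨uMat (-S), uMat_mem n (-S) hS'⟩
  have hab : a * b = 1 := by
    apply Subtype.ext
    show (a : Matrix (Fin n ⊕ Fin n) (Fin n ⊕ Fin n) F) * uMat (-S) = 1
    rw [haS, agrp_uMat_mul, add_neg_cancel, agrp_uMat_zero]
  rw [inv_eq_of_mul_eq_one_right hab]
  exact ⟨-S, hS', rfl⟩

/-- LO-AGRP (1) (`uMat S * uMat S' = uMat (S + S')`, `(uMat S)⁻¹ = uMat (-S)` in `Spg`). -/
theorem mem_Agrp_iff (n : ℕ) (a : Spg F n) :
    a ∈ Agrp F n ↔ ∃ S : Matrix (Fin n) (Fin n) F, S.transpose = S ∧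
      (a : Matrix (Fin n ⊕ Fin n) (Fin n ⊕ Fin n) F) = uMat S := by
  constructor
  · intro ha
    have : a ∈ siegelSet F n := by
      unfold Agrp at ha
      induction ha using Subgroup.closure_induction with
      | mem x hx => exact hx
      | one => exact agrp_siegel_one n
      | mul x y _ _ hx hy => exact agrp_siegel_mul n hx hy
      | inv x _ hx => exact agrp_siegel_inv n hx
    exact this
  · intro ha
    exact Subgroup.subset_closure ha

/-- LO-AGRP (2) -/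
theorem Agrp_comm (n : ℕ) : ∀ a ∈ Agrp F n, ∀ b ∈ Agrp F n, a * b = b * a := by
  intro a ha b hb
  obtain ⟨S, _, haS⟩ := (mem_Agrp_iff n a).1 ha
  obtain ⟨S', _, hbS⟩ := (mem_Agrp_iff n b).1 hb
  apply Subtype.ext
  show (a : Matrix (Fin n ⊕ Fin n) (Fin n ⊕ Fin n) F) * (b : Matrix (Fin n ⊕ Fin n) (Fin n ⊕ Fin n) F) =
    (b : Matrix (Fin n ⊕ Fin n) (Fin n ⊕ Fin n) F) * (a : Matrix (Fin n ⊕ Fin n) (Fin n ⊕ Fin n) F)
  rw [haS, hbS, agrp_uMat_mul, agrp_uMat_mul, add_comm]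

end concrete

end Cfsg.Agent.Lib.Helper21.Lo
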