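import Cfsg.Agent.Lib.Helper23.U3Defs

/-!
# U3 hive (S2283, owner helper23): leaf U3-ACT `act_u1`, `act_T`, `act_S`
(+ private copy `u3act_rel` of the relation `β + β^q + N(a) = 0`)
-/

set_option autoImplicit false

namespace Cfsg.Agent.Lib.Helper23.U3

open Matrix Cfsg.Agent.Lib.Helper99 Cfsg.Agent.Lib.Helper13 Cfsg.Agent.Lib.Helper90.Psu

variable {F : Type*} [Field F] [Fintype F] {q : ℕ}

local notation "hh" => Cfsg.hermForm 3 F q

/-- `β + β^q + N(a) = 0` (same as leaf U3-REL `cfg_rel`; kept here so that U3-ACT / U3-MEM are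
independent of it). -/
theorem u3act_rel (hF : Fintype.card F = q ^ 2) (C : Cfg q F) :
    C.β + C.β ^ q + C.a ^ (q + 1) = 0 := by
  obtain ⟨φ, hφ⟩ := exists_powRingHom hF
  have hμ0 := C.μ_ne_zero
  have hμq : C.μ ^ q = C.μ⁻¹ := by
    have h := C.hμ
    rw [pow_succ] at h
    exact eq_inv_of_mul_eq_one_left h
  have hyq : (C.μ⁻¹) ^ q = C.μ := by rw [inv_pow, hμq, inv_inv]
  have hcq : C.c ^ q = -C.c := eq_neg_of_add_eq_zero_right C.hc
  have hγq : (C.c * C.β) ^ q = 3 * C.μ - 2 - C.μ ^ 3 := by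
    rw [C.hβ, ← hφ, map_sub, map_sub, map_mul, map_pow, map_ofNat, map_ofNat, hφ, hyq]
  have h1 : C.c * C.β ^ q = -(C.c * C.β) ^ q := by
    rw [mul_pow, hcq]; ring
  have hy : C.μ⁻¹ * C.μ = 1 := inv_mul_cancel₀ hμ0
  have key : C.c * (C.β + C.β ^ q + C.a ^ (q + 1)) = 0 := by
    have e1 : C.c * (C.β + C.β ^ q + C.a ^ (q + 1)) =
        C.c * C.β + C.c * C.β ^ q + C.a ^ (q + 1) * C.c := by ring
    rw [e1, h1, hγq, C.hβ, C.ha]
    linear_combination (-3 * (C.μ⁻¹ - C.μ)) * hy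
  exact (mul_eq_zero.1 key).resolve_left C.hc0

theorem u3act_hre (C : Cfg q F) : hh (C.a • C.ε) C.e = 0 := by
  rw [hermForm_smul_left, C.hεe, mul_zero]

theorem u3act_hrr (C : Cfg q F) : hh (C.a • C.ε) (C.a • C.ε) = C.a ^ (q + 1) := by
  rw [hermForm_smul_left, hermForm_smul_right, C.hεε, mul_one, pow_succ, mul_comm]

theorem u3act_hβ (hF : Fintype.card F = q ^ 2) (C : Cfg q F) :
    C.β + C.β ^ q + hh (C.a • C.ε) (C.a • C.ε) = 0 := by
  rw [u3act_hrr, u3act_rel hF C]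

/-- U3-ACT -/
theorem act_u1 (hF : Fintype.card F = q ^ 2) (C : Cfg q F) (x : Fin 3 → F) :
    (C.u1 : Matrix (Fin 3) (Fin 3) F) *ᵥ x =
      x + hh x C.e • (C.a • C.ε + C.β • C.e) - (hh x C.ε * C.a ^ q) • C.e := by
  unfold Cfg.u1
  rw [heis_mulVec hF C.hee (u3act_hre C) (u3act_hβ hF C), hermForm_smul_right, mul_comm (C.a ^ q)]

/-- U3-ACT -/
theorem act_T (C : Cfg q F) (x : Fin 3 → F) :
    (C.T : Matrix (Fin 3) (Fin 3) F) *ᵥ x = x + (C.c * hh x C.f) • C.f := by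
  unfold Cfg.T
  rw [utv_mulVec C.f C.hff]

theorem u3act_ν_ne (C : Cfg q F) : C.μ⁻¹ ^ 3 ≠ 0 := pow_ne_zero _ (inv_ne_zero C.μ_ne_zero)

theorem u3act_εε_ne (C : Cfg q F) : hh C.ε C.ε ≠ 0 := by
  rw [C.hεε]; exact one_ne_zero

/-- U3-ACT -/
theorem act_S (C : Cfg q F) (x : Fin 3 → F) :
    (C.S : Matrix (Fin 3) (Fin 3) F) *ᵥ x = C.μ • x + ((C.μ⁻¹ ^ 2 - C.μ) * hh x C.ε) • C.ε := by
  unfold Cfg.S
  rw [Units.val_mul, ← Matrix.mulVec_mulVec, qr_mulVec (u3act_εε_ne C) (u3act_ν_ne C), C.coe_sc,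
    C.hεε, div_one]
  have hsc : ∀ v : Fin 3 → F, (Matrix.scalar (Fin 3) C.μ) *ᵥ v = C.μ • v := by
    intro v
    rw [Matrix.scalar_apply, ← Matrix.smul_one_eq_diagonal, Matrix.smul_mulVec, Matrix.one_mulVec]
  rw [hsc, smul_add, smul_smul]
  congr 2
  have hμ0 := C.μ_ne_zero
  field_simp

end Cfsg.Agent.Lib.Helper23.U3
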