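import Cfsg.Agent.Lib.Helper23.U3Defs
import Cfsg.Agent.Lib.Helper33.U3ACT

/-!
# U3 hive (S2283, owner helper23): leaf U3-MEM `u1_mem_suGL`, `T_mem_suGL`, `S_mem_suGL`
-/

set_option autoImplicit false

namespace Cfsg.Agent.Lib.Helper23.U3

open Matrix Cfsg.Agent.Lib.Helper99 Cfsg.Agent.Lib.Helper13 Cfsg.Agent.Lib.Helper90.Psu

variable {F : Type*} [Field F] [Fintype F] {q : ℕ}

local notation "hh" => Cfsg.hermForm 3 F q

/-- U3-MEM -/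
theorem u1_mem_suGL (hF : Fintype.card F = q ^ 2) (C : Cfg q F) : C.u1 ∈ suGL (F := F) 3 q := by
  unfold Cfg.u1
  exact heis_mem_suGL hF C.hee (u3act_hre C) (u3act_hβ hF C)

/-- U3-MEM -/
theorem T_mem_suGL (hF : Fintype.card F = q ^ 2) (C : Cfg q F) : C.T ∈ suGL (F := F) 3 q := by
  unfold Cfg.T
  exact utv_mem_suGL hF C.f C.hff C.c C.hc

theorem u3mem_sc_mulVec (C : Cfg q F) (v : Fin 3 → F) :
    ((C.sc : GL (Fin 3) F) : Matrix (Fin 3) (Fin 3) F) *ᵥ v = C.μ • v := by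
  rw [C.coe_sc, Matrix.scalar_apply, ← Matrix.smul_one_eq_diagonal, Matrix.smul_mulVec,
    Matrix.one_mulVec]

theorem u3mem_sc_mem_GU (C : Cfg q F) : C.sc ∈ Cfsg.GU 3 F q := by
  rw [Cfsg.Agent.Lib.Helper13.mem_GU_iff]
  intro u v
  rw [u3mem_sc_mulVec, u3mem_sc_mulVec, hermForm_smul_left, hermForm_smul_right, ← mul_assoc,
    ← pow_succ', C.hμ, one_mul]

theorem u3mem_ν_pow (C : Cfg q F) : (C.μ⁻¹ ^ 3) ^ (q + 1) = 1 := by
  rw [← pow_mul, mul_comm, pow_mul, inv_pow, C.hμ, inv_one, one_pow]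

theorem u3mem_sc_det (C : Cfg q F) :
    ((C.sc : GL (Fin 3) F) : Matrix (Fin 3) (Fin 3) F).det = C.μ ^ 3 := by
  rw [C.coe_sc, Matrix.scalar_apply, Matrix.det_diagonal, Finset.prod_const, Finset.card_univ,
    Fintype.card_fin]

/-- U3-MEM -/
theorem S_mem_suGL (hF : Fintype.card F = q ^ 2) (C : Cfg q F) : C.S ∈ suGL (F := F) 3 q := by
  unfold Cfg.S
  refine ⟨mul_mem (u3mem_sc_mem_GU C) (qr_mem_GU hF (u3act_εε_ne C) (u3mem_ν_pow C)), ?_⟩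
  show C.sc * qr q C.ε (C.μ⁻¹ ^ 3) ∈ Cfsg.Geo.specialLinear (Fin 3) F
  rw [Cfsg.Agent.Lib.Helper99.mem_specialLinear_iff, Units.val_mul, Matrix.det_mul, u3mem_sc_det,
    qr_det (u3act_εε_ne C) (u3act_ν_ne C), ← mul_pow, mul_inv_cancel₀ C.μ_ne_zero, one_pow]

end Cfsg.Agent.Lib.Helper23.U3
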