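import Mathlib
import Cfsg.Agent.Lib.Helper22.KbDefs

/-!
# Kb hive (S1299, owner helper22): leaf KB-K1 `kb_cov_normal`
-/

set_option autoImplicit false
set_option linter.unusedVariables false

namespace Cfsg.Agent.Lib.Helper22.Kb

open Subgroup
open scoped commutatorElement

variable {G : Type*} [Group G]

variable {p : ℕ} {A W : Subgroup G} {ℱ : Set (Subgroup G)} {Y : Subgroup G → Subgroup G}

theorem kbk1_cov_mono (ℱ : Set (Subgroup G)) (Y : Subgroup G → Subgroup G) {X N : Subgroup G}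
    (hXN : X ≤ N) : kbCov ℱ Y X ≤ kbCov ℱ Y N :=
  iSup₂_mono fun F _ => inf_le_inf_right _ hXN

theorem kbk1_normalizer_inf {A Z N : Subgroup G} (hZ : A ≤ normalizer (Z : Set G))
    (hN : A ≤ normalizer (N : Set G)) : A ≤ normalizer ((Z ⊓ N : Subgroup G) : Set G) := by
  intro a ha
  have h1 := hZ ha
  have h2 := hN ha
  rw [mem_normalizer_iff] at h1 h2 ⊢
  intro x
  rw [mem_inf, mem_inf, ← h1 x, ← h2 x]

theorem kbk1_conj_gen (h : KbSys p A W ℱ Y) {V N : Subgroup G}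
    (hVN : V ≤ normalizer (N : Set G)) (hAN : A ≤ normalizer (N : Set G))
    {F F' : Subgroup G} (hF : F ∈ ℱ) (hF' : F' ∈ ℱ) {y z : G} (hy : y ∈ V ⊓ Y F')
    (hz : z ∈ N ⊓ Y F) : y * z * y⁻¹ ∈ kbCov ℱ Y N := by
  obtain ⟨Z, hZ1, hZ2, hZA, hZcov⟩ := h.hpair F hF F' hF'
  have hyV := (mem_inf.1 hy).1
  have hyY := (mem_inf.1 hy).2
  have hzN := (mem_inf.1 hz).1
  have hzY := (mem_inf.1 hz).2
  have hzN0 : z ∈ kbCov ℱ Y N := (le_iSup₂ (f := fun F _ => N ⊓ Y F) F hF) hz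
  have hconjN : y * z * y⁻¹ ∈ N := ((mem_normalizer_iff.1 (hVN hyV)) z).1 hzN
  have hcN : y * z * y⁻¹ * z⁻¹ ∈ N := N.mul_mem hconjN (N.inv_mem hzN)
  have hcZ : y * z * y⁻¹ * z⁻¹ ∈ Z :=
    Z.mul_mem (Z.mul_mem (Z.mul_mem (hZ2 hyY) (hZ1 hzY)) (Z.inv_mem (hZ2 hyY)))
      (Z.inv_mem (hZ1 hzY))
  have hX : Z ⊓ N ≤ kbCov ℱ Y N :=
    (hZcov (Z ⊓ N) inf_le_left (kbk1_normalizer_inf hZA hAN)).trans
      (kbk1_cov_mono ℱ Y inf_le_right)
  have hc : y * z * y⁻¹ * z⁻¹ ∈ kbCov ℱ Y N := hX (mem_inf.2 ⟨hcZ, hcN⟩)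
  have e : y * z * y⁻¹ = (y * z * y⁻¹ * z⁻¹) * z := by group
  rw [e]
  exact mul_mem hc hzN0

/-- LEAF KB-K1. -/
theorem kb_cov_normal (h : KbSys p A W ℱ Y) {V N : Subgroup G} (hV : V ≤ kbCov ℱ Y V)
    (hNV : N ≤ V) (hVN : V ≤ normalizer (N : Set G)) (hAN : A ≤ normalizer (N : Set G)) :
    V ≤ normalizer (kbCov ℱ Y N : Set G) := by
  refine hV.trans ?_
  show (⨆ F ∈ ℱ, V ⊓ Y F) ≤ _
  refine iSup₂_le fun F' hF' => ?_
  have key : ∀ y ∈ V ⊓ Y F', ∀ x ∈ kbCov ℱ Y N, y * x * y⁻¹ ∈ kbCov ℱ Y N := by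
    intro y hy x hx
    have hle : kbCov ℱ Y N ≤ (kbCov ℱ Y N).comap (MulAut.conj y).toMonoidHom := by
      show (⨆ F ∈ ℱ, N ⊓ Y F) ≤ _
      refine iSup₂_le fun F hF => ?_
      intro z hz
      rw [mem_comap]
      show y * z * y⁻¹ ∈ _
      exact kbk1_conj_gen h hVN hAN hF hF' hy hz
    have := hle hx
    simpa [mem_comap, MulAut.conj_apply] using this
  intro y hy
  rw [mem_normalizer_iff]
  intro x
  constructor
  · exact key y hy x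
  · intro hx
    have := key y⁻¹ (inv_mem hy) _ hx
    have e : y⁻¹ * (y * x * y⁻¹) * y⁻¹⁻¹ = x := by group
    rwa [e] at this

end Cfsg.Agent.Lib.Helper22.Kb
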