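import Mathlib

/-!
# Lb hive (S1301, owner helper22): leaf LB-TH `false_of_witness`

The map `y ↦ (k⁻¹ y k y⁻¹) ^ m` on a perfect group `I` is a homomorphism into an abelian group,
hence trivial (`m` = the odd index of the central Sylow 2-subgroup `Z(D)` of `C_K(D)`; the power map
`c ↦ c ^ m` is the transfer into the central subgroup `Z(D)`).
-/

set_option autoImplicit false

namespace Cfsg.Agent.Lib.Helper22.Lb

open Subgroup
open scoped commutatorElement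

open scoped IsMulCommutative in
/-- For a central subgroup `Z` of a finite group `C`, the map `c ↦ c ^ Z.index` takes values in `Z`
and is multiplicative (it is the transfer). -/
theorem lbth_pow_index {C : Type*} [Group C] [Finite C] (Z : Subgroup C)
    (hZ : Z ≤ Subgroup.center C) :
    (∀ c : C, c ^ Z.index ∈ Z) ∧ ∀ a b : C, (a * b) ^ Z.index = a ^ Z.index * b ^ Z.index := by
  have : IsMulCommutative Z :=
    ⟨⟨fun a b => Subtype.ext (Subgroup.mem_center_iff.1 (hZ a.2) b).symm⟩⟩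
  have key : ∀ (g : C) (k : ℕ) (g₀ : C), g₀⁻¹ * g ^ k * g₀ ∈ Z →
      g₀⁻¹ * g ^ k * g₀ = g ^ k := by
    intro g k g₀ h
    have h1 := Subgroup.mem_center_iff.1 (hZ h) g₀
    have h2 : g ^ k * g₀ = (g₀⁻¹ * g ^ k * g₀) * g₀ := by
      rw [← h1]; group
    exact (mul_right_cancel h2).symm
  have hT : ∀ g : C, MonoidHom.transfer (MonoidHom.id Z) g =
      ⟨g ^ Z.index, MonoidHom.transfer_eq_pow_aux g (key g)⟩ := fun g =>
    MonoidHom.transfer_eq_pow (MonoidHom.id Z) g (key g)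
  refine ⟨fun c => MonoidHom.transfer_eq_pow_aux c (key c), fun a b => ?_⟩
  have h := map_mul (MonoidHom.transfer (MonoidHom.id Z)) a b
  rw [hT, hT, hT] at h
  exact congrArg Subtype.val h

/-- relative version inside an ambient group. -/
theorem lbth_pow_relIndex {X : Type*} [Group X] [Finite X] (C Z : Subgroup X)
    (hcen : ∀ z ∈ Z, ∀ c ∈ C, c * z = z * c) :
    (∀ c ∈ C, c ^ (Z.relIndex C) ∈ Z) ∧
      ∀ a ∈ C, ∀ b ∈ C, (a * b) ^ (Z.relIndex C) = a ^ (Z.relIndex C) * b ^ (Z.relIndex C) := by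
  have hZ' : Z.subgroupOf C ≤ Subgroup.center C := by
    intro z hz
    rw [Subgroup.mem_center_iff]
    intro c
    apply Subtype.ext
    exact hcen z.1 (Subgroup.mem_subgroupOf.1 hz) c.1 c.2
  obtain ⟨h1, h2⟩ := lbth_pow_index (Z.subgroupOf C) hZ'
  refine ⟨fun c hc => ?_, fun a ha b hb => ?_⟩
  · have h := h1 ⟨c, hc⟩
    rw [Subgroup.mem_subgroupOf] at h
    simpa [Subgroup.relIndex] using h
  · have h := congrArg Subtype.val (h2 ⟨a, ha⟩ ⟨b, hb⟩)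
    simpa [Subgroup.relIndex] using h

/-- if all 2-elements of `C` lie in `Z`, the relative index of `Z` in `C` is odd. -/
theorem lbth_odd_relIndex {X : Type*} [Group X] [Finite X] (C Z : Subgroup X)
    (h2 : ∀ x ∈ C, (∃ n : ℕ, x ^ 2 ^ n = 1) → x ∈ Z) : ¬ 2 ∣ Z.relIndex C := by
  have : Fact (Nat.Prime 2) := ⟨Nat.prime_two⟩
  obtain ⟨P⟩ : Nonempty (Sylow 2 ↥C) := inferInstance
  have hPZ : (P : Subgroup ↥C) ≤ Z.subgroupOf C := by
    intro x hx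
    rw [Subgroup.mem_subgroupOf]
    apply h2 x.1 x.2
    obtain ⟨n, hn⟩ := P.2 ⟨x, hx⟩
    refine ⟨n, ?_⟩
    have h := congrArg Subtype.val (congrArg Subtype.val hn)
    simpa using h
  have hdvd : (Z.subgroupOf C).index ∣ (P : Subgroup ↥C).index := Subgroup.index_dvd_of_le hPZ
  intro h
  exact P.not_dvd_index (dvd_trans h hdvd)

/-- LEAF LB-TH (the homomorphism `y ↦ (k⁻¹ y k y⁻¹)^m` on a perfect group is trivial). -/
theorem false_of_witness {X : Type*} [Group X] [Finite X] (K : Subgroup X) [K.Normal]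
    (R : Subgroup X) (hRK : R ≤ K) (hR2 : IsPGroup 2 R)
    (I : Subgroup X) (hIR : I ≤ centralizer (R : Set X))
    (hperf : ⁅I, I⁆ = I) (u : X) (huI : u ∈ I)
    (D : Subgroup X) (hDR : D ≤ R) (k : X) (hkK : k ∈ K) (hkD : k ∈ normalizer (D : Set X))
    (htD : k⁻¹ * u * k * u⁻¹ ∈ D) (htC : k⁻¹ * u * k * u⁻¹ ∈ centralizer (D : Set X))
    (ht1 : k⁻¹ * u * k * u⁻¹ ≠ 1)
    (hcent : ∀ x ∈ K, x ∈ centralizer (D : Set X) → (∃ n : ℕ, x ^ 2 ^ n = 1) → x ∈ D) :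
    False := by
  -- `y ∈ I` commutes with the elements of `R`, in particular of `D`
  have hIc : ∀ y ∈ I, ∀ d ∈ R, d * y = y * d := fun y hy d hd =>
    Subgroup.mem_centralizer_iff.1 (hIR hy) d hd
  obtain ⟨C, hC⟩ : ∃ C : Subgroup X, C = K ⊓ centralizer (D : Set X) := ⟨_, rfl⟩
  obtain ⟨Z, hZ⟩ : ∃ Z : Subgroup X, Z = D ⊓ centralizer (D : Set X) := ⟨_, rfl⟩
  have hZD : Z ≤ D := by rw [hZ]; exact inf_le_left
  have hCmem : ∀ x, x ∈ C ↔ x ∈ K ∧ ∀ d ∈ D, d * x = x * d := by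
    intro x
    rw [hC, Subgroup.mem_inf, Subgroup.mem_centralizer_iff]
    rfl
  have hcen : ∀ z ∈ Z, ∀ c ∈ C, c * z = z * c := by
    intro z hz c hc
    exact (((hCmem c).1 hc).2 z (hZD hz)).symm
  have h2Z : ∀ x ∈ C, (∃ n : ℕ, x ^ 2 ^ n = 1) → x ∈ Z := by
    intro x hx h2
    rw [hC, Subgroup.mem_inf] at hx
    rw [hZ, Subgroup.mem_inf]
    exact ⟨hcent x hx.1 hx.2 h2, hx.2⟩
  obtain ⟨m, hm⟩ : ∃ m : ℕ, m = Z.relIndex C := ⟨_, rfl⟩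
  have hodd : ¬ 2 ∣ m := by rw [hm]; exact lbth_odd_relIndex C Z h2Z
  obtain ⟨hpowZ, hpowmul⟩ := lbth_pow_relIndex C Z hcen
  rw [← hm] at hpowZ hpowmul
  -- the crossed homomorphism `c y = k⁻¹ y k y⁻¹`
  have hcC : ∀ y ∈ I, k⁻¹ * y * k * y⁻¹ ∈ C := by
    intro y hy
    rw [hCmem]
    constructor
    · have h1 : y * k * y⁻¹ ∈ K := ‹K.Normal›.conj_mem k hkK y
      have h2 : k⁻¹ * (y * k * y⁻¹) ∈ K := K.mul_mem (K.inv_mem hkK) h1
      simpa [mul_assoc] using h2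
    · intro d hd
      -- `k d k⁻¹ ∈ D`, centralized by `y`
      have hkd : k * d * k⁻¹ ∈ D := (Subgroup.mem_normalizer_iff.1 hkD d).1 hd
      have e1 : d * y = y * d := hIc y hy d (hDR hd)
      have e2 : (k * d * k⁻¹) * y = y * (k * d * k⁻¹) := hIc y hy _ (hDR hkd)
      have e3 : y⁻¹ * d = d * y⁻¹ := by
        rw [eq_mul_inv_iff_mul_eq, mul_assoc, e1, ← mul_assoc, inv_mul_cancel, one_mul]
      calc d * (k⁻¹ * y * k * y⁻¹) = k⁻¹ * ((k * d * k⁻¹) * y) * k * y⁻¹ := by group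
        _ = k⁻¹ * (y * (k * d * k⁻¹)) * k * y⁻¹ := by rw [e2]
        _ = k⁻¹ * y * k * (d * y⁻¹) := by group
        _ = k⁻¹ * y * k * (y⁻¹ * d) := by rw [e3]
        _ = k⁻¹ * y * k * y⁻¹ * d := by group
  have hconjC : ∀ y ∈ I, ∀ c ∈ C, y * c * y⁻¹ ∈ C := by
    intro y hy c hc
    rw [hCmem] at hc ⊢
    refine ⟨‹K.Normal›.conj_mem c hc.1 y, ?_⟩
    intro d hd
    have e1 : d * y = y * d := hIc y hy d (hDR hd)
    have e3 : y⁻¹ * d = d * y⁻¹ := by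
      rw [eq_mul_inv_iff_mul_eq, mul_assoc, e1, ← mul_assoc, inv_mul_cancel, one_mul]
    calc d * (y * c * y⁻¹) = (d * y) * c * y⁻¹ := by group
      _ = y * (d * c) * y⁻¹ := by rw [e1]; group
      _ = y * (c * d) * y⁻¹ := by rw [hc.2 d hd]
      _ = y * c * (d * y⁻¹) := by group
      _ = y * c * (y⁻¹ * d) := by rw [e3]
      _ = y * c * y⁻¹ * d := by group
  -- `f y = (c y)^m` is multiplicative on `I`
  have hfZ : ∀ y ∈ I, (k⁻¹ * y * k * y⁻¹) ^ m ∈ Z := fun y hy => hpowZ _ (hcC y hy)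
  have hfmul : ∀ x ∈ I, ∀ y ∈ I, (k⁻¹ * (x * y) * k * (x * y)⁻¹) ^ m =
      (k⁻¹ * x * k * x⁻¹) ^ m * (k⁻¹ * y * k * y⁻¹) ^ m := by
    intro x hx y hy
    have e1 : k⁻¹ * (x * y) * k * (x * y)⁻¹ =
        (k⁻¹ * x * k * x⁻¹) * (x * (k⁻¹ * y * k * y⁻¹) * x⁻¹) := by group
    rw [e1, hpowmul _ (hcC x hx) _ (hconjC x hx _ (hcC y hy)), conj_pow]
    congr 1
    have hz : (k⁻¹ * y * k * y⁻¹) ^ m ∈ R := hDR (hZD (hfZ y hy))
    have e2 := hIc x hx _ hz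
    rw [← e2, mul_inv_cancel_right]
  -- the kernel of `f` on `I`
  have hcomm : ∀ a ∈ I, ∀ b ∈ I, (k⁻¹ * ⁅a, b⁆ * k * ⁅a, b⁆⁻¹) ^ m = 1 := by
    intro a ha b hb
    have hai : a⁻¹ ∈ I := I.inv_mem ha
    have hbi : b⁻¹ ∈ I := I.inv_mem hb
    have hfa : (k⁻¹ * a * k * a⁻¹) ^ m * (k⁻¹ * a⁻¹ * k * a⁻¹⁻¹) ^ m = 1 := by
      rw [← hfmul a ha _ hai]
      simp
    have hfb : (k⁻¹ * b * k * b⁻¹) ^ m * (k⁻¹ * b⁻¹ * k * b⁻¹⁻¹) ^ m = 1 := by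
      rw [← hfmul b hb _ hbi]
      simp
    rw [commutatorElement_def, hfmul _ (I.mul_mem (I.mul_mem ha hb) hai) _ hbi,
      hfmul _ (I.mul_mem ha hb) _ hai, hfmul a ha b hb]
    -- all four values lie in the abelian group `Z`
    have hZcomm : ∀ z ∈ Z, ∀ w ∈ Z, z * w = w * z := by
      intro z hz w hw
      rw [hZ, Subgroup.mem_inf, Subgroup.mem_centralizer_iff] at hw
      exact hw.2 z (hZD hz)
    have c1 := hZcomm _ (hfZ b hb) _ (hfZ _ hai)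
    calc (k⁻¹ * a * k * a⁻¹) ^ m * (k⁻¹ * b * k * b⁻¹) ^ m * (k⁻¹ * a⁻¹ * k * a⁻¹⁻¹) ^ m *
          (k⁻¹ * b⁻¹ * k * b⁻¹⁻¹) ^ m
        = (k⁻¹ * a * k * a⁻¹) ^ m * ((k⁻¹ * b * k * b⁻¹) ^ m * (k⁻¹ * a⁻¹ * k * a⁻¹⁻¹) ^ m) *
          (k⁻¹ * b⁻¹ * k * b⁻¹⁻¹) ^ m := by group
      _ = (k⁻¹ * a * k * a⁻¹) ^ m * ((k⁻¹ * a⁻¹ * k * a⁻¹⁻¹) ^ m * (k⁻¹ * b * k * b⁻¹) ^ m) *
          (k⁻¹ * b⁻¹ * k * b⁻¹⁻¹) ^ m := by rw [c1]
      _ = ((k⁻¹ * a * k * a⁻¹) ^ m * (k⁻¹ * a⁻¹ * k * a⁻¹⁻¹) ^ m) *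
          ((k⁻¹ * b * k * b⁻¹) ^ m * (k⁻¹ * b⁻¹ * k * b⁻¹⁻¹) ^ m) := by group
      _ = 1 := by rw [hfa, hfb, one_mul]
  let N : Subgroup X :=
    { carrier := {x | x ∈ I ∧ (k⁻¹ * x * k * x⁻¹) ^ m = 1}
      one_mem' := ⟨I.one_mem, by simp⟩
      mul_mem' := by
        rintro x y ⟨hx, hx1⟩ ⟨hy, hy1⟩
        exact ⟨I.mul_mem hx hy, by rw [hfmul x hx y hy, hx1, hy1, one_mul]⟩
      inv_mem' := by
        rintro x ⟨hx, hx1⟩
        refine ⟨I.inv_mem hx, ?_⟩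
        have h := hfmul x hx _ (I.inv_mem hx)
        rw [hx1, one_mul] at h
        rw [← h]
        simp }
  have hle : ⁅I, I⁆ ≤ N := by
    rw [Subgroup.commutator_le]
    intro a ha b hb
    have hab : ⁅a, b⁆ ∈ ⁅I, I⁆ := Subgroup.commutator_mem_commutator ha hb
    rw [hperf] at hab
    exact ⟨hab, hcomm a ha b hb⟩
  have huN : u ∈ N := hle (by rw [hperf]; exact huI)
  have htm : (k⁻¹ * u * k * u⁻¹) ^ m = 1 := huN.2
  obtain ⟨n, hn⟩ := hR2 ⟨k⁻¹ * u * k * u⁻¹, hDR htD⟩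
  have htn : (k⁻¹ * u * k * u⁻¹) ^ 2 ^ n = 1 := by
    have h := congrArg Subtype.val hn
    simpa using h
  have hd1 : orderOf (k⁻¹ * u * k * u⁻¹) ∣ m := orderOf_dvd_of_pow_eq_one htm
  have hd2 : orderOf (k⁻¹ * u * k * u⁻¹) ∣ 2 ^ n := orderOf_dvd_of_pow_eq_one htn
  have hcop : Nat.Coprime m (2 ^ n) := by
    apply Nat.Coprime.pow_right
    rw [Nat.coprime_comm, Nat.Prime.coprime_iff_not_dvd Nat.prime_two]
    exact hodd
  have h1 : orderOf (k⁻¹ * u * k * u⁻¹) = 1 :=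
    Nat.eq_one_of_dvd_coprimes hcop hd1 hd2
  exact ht1 (orderOf_eq_one_iff.1 h1)

end Cfsg.Agent.Lib.Helper22.Lb
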