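import Mathlib
import Cfsg.Prelude.Def_ClassicalGeometry
import Cfsg.Prelude.Def_GeometricClasses
import Cfsg.Agent.Lib.Helper46.OmDefs
import Cfsg.Agent.Lib.Helper14.FiniteQuad2
import Cfsg.Agent.Lib.Helper33.HyT1

/-! OM-DISC of the Om hive (helper46, S5991): the discriminant API `Disc B W δ`. -/

set_option autoImplicit false
set_option linter.unusedSectionVars false

namespace Cfsg.Agent.Lib.Helper46.Om

open Module
open Cfsg.Agent.Lib.Helper2.BG Cfsg.Agent.Lib.Helper99 Cfsg.Agent.Lib.Helper48.Ti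
open Cfsg.Agent.Lib.Helper5.Hy (Plus Orth Fix)
open Cfsg.Agent.Lib.Helper81.On (SameType Fixes)

section abstract

variable {F V : Type*} [Field F] [Fintype F] [AddCommGroup V] [Module F V] [FiniteDimensional F V]
variable {B : V →ₗ[F] V →ₗ[F] F}

theorem disc_exists (W : Submodule F V) : ∃ δ, Disc B W δ :=
  ⟨_, Module.finBasis F W, rfl⟩

theorem disc_ne_zero (hs : ∀ u v, B u v = B v u) {W : Submodule F V} (hW : Nd B W) {δ : F}
    (h : Disc B W δ) : δ ≠ 0 := by
  classical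
  obtain ⟨b, rfl⟩ := h
  exact (LinearMap.BilinForm.nondegenerate_iff_det_ne_zero b).mp
    (Cfsg.Agent.Lib.Helper5.Hy.t1_restrict_nondegenerate hs hW)

/-- two discriminants of the same subspace differ by a nonzero square (`disc_change`) -/
theorem disc_unique {W : Submodule F V} {δ δ' : F} (h : Disc B W δ) (h' : Disc B W δ') :
    ∃ s : F, s ≠ 0 ∧ δ' = s ^ 2 * δ := by
  classical
  obtain ⟨b, rfl⟩ := h
  obtain ⟨b', rfl⟩ := h'
  refine ⟨(b.toMatrix b').det, ?_, Cfsg.Agent.Lib.Helper14.disc_change _ b b'⟩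
  intro h0
  have h1 := congrArg Matrix.det (Basis.toMatrix_mul_toMatrix_flip b b')
  rw [Matrix.det_mul, h0, zero_mul, Matrix.det_one] at h1
  exact zero_ne_one h1

/-- transport the basis along the isometry -/
theorem disc_of_sameType {W W' : Submodule F V} (hI : SameType B W W') {δ : F}
    (h : Disc B W δ) : Disc B W' δ := by
  classical
  obtain ⟨e, he⟩ := hI
  obtain ⟨b, rfl⟩ := h
  refine ⟨(b.map e).reindex (finCongr e.finrank_eq), ?_⟩
  rw [Cfsg.Agent.Lib.Helper14.det_toMatrix_reindex]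
  congr 1
  ext i j
  rw [LinearMap.BilinForm.toMatrix_apply, LinearMap.BilinForm.toMatrix_apply]
  show B ((b.map e i : W') : V) ((b.map e j : W') : V) = B ((b i : W) : V) ((b j : W) : V)
  rw [Basis.map_apply, Basis.map_apply]
  exact he (b i) (b j)

/-- classification over a finite field of odd characteristic (`Helper14.exists_isometry_of_disc'`;
dimension `0`: the zero map) -/
theorem sameType_of_disc (h2 : (2 : F) ≠ 0) (hs : ∀ u v, B u v = B v u) {W W' : Submodule F V}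
    (hW : Nd B W) (hW' : Nd B W') (hdim : finrank F W = finrank F W') {δ δ' : F}
    (h : Disc B W δ) (h' : Disc B W' δ') (hsq : IsSquare (δ * δ')) : SameType B W W' := by
  classical
  rcases Nat.eq_zero_or_pos (finrank F W) with h0 | hpos
  · have hsub : Subsingleton W := Module.finrank_zero_iff.mp h0
    refine ⟨LinearEquiv.ofFinrankEq W W' hdim, fun u v => ?_⟩
    have hu' : u = 0 := Subsingleton.elim _ _
    rw [hu', map_zero]
    simp
  · have hδ := disc_ne_zero hs hW h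
    have hδ' := disc_ne_zero hs hW' h'
    obtain ⟨b, hb⟩ := h
    obtain ⟨b', hb'⟩ := h'
    obtain ⟨t, ht⟩ := hsq
    have ht0 : t ≠ 0 := by
      rintro rfl
      rw [mul_zero] at ht
      exact mul_ne_zero hδ hδ' ht
    have : Nonempty (Fin (finrank F W)) := ⟨⟨0, hpos⟩⟩
    obtain ⟨g, hg⟩ := Cfsg.Agent.Lib.Helper14.exists_isometry_of_disc' h2
      (by rw [Fintype.card_fin, Fintype.card_fin, hdim])
      (LinearMap.BilinForm.restrict B W) (Cfsg.Agent.Lib.Helper5.Hy.t1_restrict_symm hs W)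
      (Cfsg.Agent.Lib.Helper5.Hy.t1_restrict_nondegenerate hs hW)
      (LinearMap.BilinForm.restrict B W') (Cfsg.Agent.Lib.Helper5.Hy.t1_restrict_symm hs W')
      (Cfsg.Agent.Lib.Helper5.Hy.t1_restrict_nondegenerate hs hW') b b' (t / δ')
      (div_ne_zero ht0 hδ') (by
        show (LinearMap.BilinForm.toMatrix b (B.domRestrict₁₂ W W)).det =
          (t / δ') ^ 2 * (LinearMap.BilinForm.toMatrix b' (B.domRestrict₁₂ W' W')).det
        rw [hb, hb']
        field_simp
        rw [ht]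
        ring)
    exact ⟨g, fun u v => hg u v⟩

/-- block diagonal Gram matrix in the union of the two bases -/
theorem disc_sup (hs : ∀ u v, B u v = B v u) {W₀ W₁ : Submodule F V} (ho : Orth B W₀ W₁)
    (hd : W₀ ⊓ W₁ = ⊥) {δ₀ δ₁ : F} (h₀ : Disc B W₀ δ₀) (h₁ : Disc B W₁ δ₁) :
    Disc B (W₀ ⊔ W₁) (δ₀ * δ₁) := by
  classical
  obtain ⟨b₀, rfl⟩ := h₀
  obtain ⟨b₁, rfl⟩ := h₁
  have hfr : finrank F W₀ + finrank F W₁ = finrank F ↥(W₀ ⊔ W₁) := by
    have := Submodule.finrank_sup_add_finrank_inf_eq W₀ W₁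
    rw [hd, finrank_bot, add_zero] at this
    exact this.symm
  let b : Basis (Fin (finrank F W₀) ⊕ Fin (finrank F W₁)) F ↥(W₀ ⊔ W₁) :=
    (b₀.prod b₁).map (Cfsg.Agent.Lib.Helper5.Hy.t1_sumEquiv W₀ W₁ hd)
  have hbl : ∀ i, ((b (Sum.inl i) : ↥(W₀ ⊔ W₁)) : V) = (b₀ i : V) := by
    intro i
    have h1 : (b₀.prod b₁) (Sum.inl i) = (b₀ i, 0) := by
      ext
      · simp
      · simp
    show ((Cfsg.Agent.Lib.Helper5.Hy.t1_sumEquiv W₀ W₁ hd ((b₀.prod b₁) (Sum.inl i)) :
      ↥(W₀ ⊔ W₁)) : V) = _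
    rw [h1, Cfsg.Agent.Lib.Helper5.Hy.t1_sumEquiv_apply]
    simp
  have hbr : ∀ j, ((b (Sum.inr j) : ↥(W₀ ⊔ W₁)) : V) = (b₁ j : V) := by
    intro j
    have h1 : (b₀.prod b₁) (Sum.inr j) = (0, b₁ j) := by
      ext
      · simp
      · simp
    show ((Cfsg.Agent.Lib.Helper5.Hy.t1_sumEquiv W₀ W₁ hd ((b₀.prod b₁) (Sum.inr j)) :
      ↥(W₀ ⊔ W₁)) : V) = _
    rw [h1, Cfsg.Agent.Lib.Helper5.Hy.t1_sumEquiv_apply]
    simp
  have hM : LinearMap.BilinForm.toMatrix b (B.domRestrict₁₂ (W₀ ⊔ W₁) (W₀ ⊔ W₁)) =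
      Matrix.fromBlocks (LinearMap.BilinForm.toMatrix b₀ (B.domRestrict₁₂ W₀ W₀)) 0 0
        (LinearMap.BilinForm.toMatrix b₁ (B.domRestrict₁₂ W₁ W₁)) := by
    ext i j
    rw [LinearMap.BilinForm.toMatrix_apply]
    show B ((b i : ↥(W₀ ⊔ W₁)) : V) ((b j : ↥(W₀ ⊔ W₁)) : V) = _
    rcases i with i | i <;> rcases j with j | j
    · rw [hbl, hbl, Matrix.fromBlocks_apply₁₁, LinearMap.BilinForm.toMatrix_apply]
      rfl
    · rw [hbl, hbr, Matrix.fromBlocks_apply₁₂, Matrix.zero_apply]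
      exact ho _ (b₀ i).2 _ (b₁ j).2
    · rw [hbr, hbl, Matrix.fromBlocks_apply₂₁, Matrix.zero_apply, hs]
      exact ho _ (b₀ j).2 _ (b₁ i).2
    · rw [hbr, hbr, Matrix.fromBlocks_apply₂₂, LinearMap.BilinForm.toMatrix_apply]
      rfl
  refine ⟨b.reindex (finSumFinEquiv.trans (finCongr hfr)), ?_⟩
  rw [Cfsg.Agent.Lib.Helper14.det_toMatrix_reindex, hM, Matrix.det_fromBlocks_zero₂₁]

theorem disc_span {v : V} (hv : v ≠ 0) : Disc B (Submodule.span F {v}) (B v v) := by
  classical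
  have hfr : finrank F (Submodule.span F {v}) = 1 := finrank_span_singleton hv
  let b : Basis (Fin 1) F (Submodule.span F {v}) :=
    (Basis.singleton (Fin 1) F).map (LinearEquiv.toSpanNonzeroSingleton F V v hv)
  have hb : ((b 0 : Submodule.span F {v}) : V) = v := by
    show ((LinearEquiv.toSpanNonzeroSingleton F V v hv ((Basis.singleton (Fin 1) F) 0) :
      Submodule.span F {v}) : V) = v
    rw [Basis.singleton_apply]
    simp
  refine ⟨b.reindex (finCongr hfr.symm), ?_⟩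
  rw [Cfsg.Agent.Lib.Helper14.det_toMatrix_reindex, Matrix.det_fin_one,
    LinearMap.BilinForm.toMatrix_apply]
  show B ((b 0 : Submodule.span F {v}) : V) ((b 0 : Submodule.span F {v}) : V) = B v v
  rw [hb]

/-- `Hy.t1_plus_iff_disc` (`e = 0`: `W = ⊥`, `δ = 1`) -/
theorem disc_plus (h2 : (2 : F) ≠ 0) (hs : ∀ u v, B u v = B v u) {W : Submodule F V}
    (hW : Nd B W) (e : ℕ) (he : finrank F W = 2 * e) {δ : F} (h : Disc B W δ) :
    Plus B W ↔ IsSquare (δ * (-1) ^ e) := by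
  classical
  obtain ⟨b, rfl⟩ := h
  rcases Nat.eq_zero_or_pos e with h0 | hpos
  · subst h0
    have hWb : W = ⊥ := by
      rw [← Submodule.finrank_eq_zero (R := F)]
      omega
    have : IsEmpty (Fin (finrank F W)) := ⟨fun i => by have := i.2; omega⟩
    rw [Matrix.det_isEmpty, pow_zero, mul_one]
    constructor
    · intro _
      exact ⟨1, by ring⟩
    · intro _
      rw [hWb]
      exact Cfsg.Agent.Lib.Helper5.Hy.t1_plus_bot
  · exact Cfsg.Agent.Lib.Helper5.Hy.t1_plus_iff_disc h2 hs hW e hpos he b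

end abstract

end Cfsg.Agent.Lib.Helper46.Om
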