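import Cfsg.Agent.Lib.Helper33.NormArg

set_option autoImplicit false
set_option linter.style.haveILetI false
set_option linter.unusedSectionVars false

/-!
# Normal subgroups of index `p`
-/

namespace Cfsg.Agent.Lib.Helper33

open Subgroup

variable {X : Type*} [Group X] [Finite X] {p : ℕ} [hp : Fact p.Prime]

/-- A normal subgroup of index a positive power of `p` lies in a normal subgroup of index `p`. -/
theorem exists_normal_index_p_of_index_pow (N : Subgroup X) [hN : N.Normal] {k : ℕ} (hk : 1 ≤ k)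
    (h : N.index = p ^ k) : ∃ M : Subgroup X, M.Normal ∧ M.index = p := by
  have hcard : Nat.card (X ⧸ N) = p ^ k := by rw [← Subgroup.index_eq_card, h]
  have hE : IsPGroup p (X ⧸ N) := IsPGroup.of_card hcard
  have hne : (⊥ : Subgroup (X ⧸ N)) ≠ ⊤ := by
    intro hbt
    have h1 : Nat.card (⊥ : Subgroup (X ⧸ N)) = Nat.card (⊤ : Subgroup (X ⧸ N)) := by rw [hbt]
    rw [Subgroup.card_bot, Subgroup.card_top, hcard] at h1
    have : 1 < p ^ k := Nat.one_lt_pow (by omega) hp.out.one_lt
    omega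
  obtain ⟨E₁, hE₁n, hidx, -⟩ := exists_normal_index_p_ge hE ⊥ hne
  haveI := hE₁n
  refine ⟨E₁.comap (QuotientGroup.mk' N), inferInstance, ?_⟩
  rw [Subgroup.index_comap_of_surjective _ (QuotientGroup.mk'_surjective N), hidx]

/-- If a Sylow `p`-subgroup is not inside the derived subgroup, there is a normal subgroup of index `p`. -/
theorem exists_normal_index_p_of_not_le_commutator (S : Sylow p X)
    (h : ¬ (S : Subgroup X) ≤ commutator X) : ∃ M : Subgroup X, M.Normal ∧ M.index = p := by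
  obtain ⟨s, hsS, hsc⟩ := SetLike.not_le_iff_exists.mp h
  obtain ⟨π, hπ⟩ : ∃ π : X →* Abelianization X, π = Abelianization.of := ⟨_, rfl⟩
  have hker : π.ker = commutator X := by rw [hπ]; exact Abelianization.ker_of X
  have hπs : π s ≠ 1 := by
    intro h1
    apply hsc
    rw [← hker]; exact h1
  obtain ⟨c, hc⟩ : ∃ c : ℕ, c = Nat.card (Abelianization X) := ⟨_, rfl⟩
  have hcpos : c ≠ 0 := by rw [hc]; exact Nat.card_pos.ne'
  obtain ⟨k, hk⟩ : ∃ k : ℕ, k = c.factorization p := ⟨_, rfl⟩
  obtain ⟨m, hm⟩ : ∃ m : ℕ, m = c / p ^ k := ⟨_, rfl⟩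
  have hcm : p ^ k * m = c := by rw [hm, hk]; exact Nat.ordProj_mul_ordCompl_eq_self c p
  have hcop : Nat.Coprime p m := by rw [hm, hk]; exact Nat.coprime_ordCompl hp.out hcpos
  obtain ⟨f, hf⟩ : ∃ f : X →* Abelianization X, f = (powMonoidHom m).comp π := ⟨_, rfl⟩
  have hfx : ∀ x, f x = (π x) ^ m := by intro x; rw [hf]; rfl
  -- the range is a nontrivial `p`-group
  have hrp : IsPGroup p f.range := by
    rintro ⟨y, x, rfl⟩
    refine ⟨k, ?_⟩
    apply Subtype.ext
    show (f x) ^ (p ^ k) = 1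
    rw [hfx, ← pow_mul, mul_comm, hcm, hc]
    exact pow_card_eq_one'
  have hfs : f s ≠ 1 := by
    rw [hfx]
    intro h1
    obtain ⟨a, ha⟩ := (S.isPGroup' : IsPGroup p ↥(S : Subgroup X)) ⟨s, hsS⟩
    have ha' : s ^ (p ^ a) = 1 := by
      have := congrArg Subtype.val ha
      simpa using this
    have h2 : (π s) ^ (p ^ a) = 1 := by rw [← map_pow, ha', map_one]
    have h3 : orderOf (π s) ∣ m := orderOf_dvd_of_pow_eq_one h1
    have h4 : orderOf (π s) ∣ p ^ a := orderOf_dvd_of_pow_eq_one h2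
    have h5 : Nat.Coprime m (p ^ a) := (Nat.Coprime.pow_left a hcop).symm
    have h6 : orderOf (π s) = 1 := Nat.eq_one_of_dvd_coprimes h5 h3 h4
    exact hπs (orderOf_eq_one_iff.mp h6)
  obtain ⟨j, hj⟩ := IsPGroup.iff_card.mp hrp
  have hj1 : 1 ≤ j := by
    by_contra hj0
    have : j = 0 := by omega
    rw [this, pow_zero] at hj
    have hsub : Subsingleton f.range := (Nat.card_eq_one_iff_unique.mp hj).1
    have h1 : (⟨f s, s, rfl⟩ : f.range) = 1 := Subsingleton.elim _ _
    exact hfs (congrArg Subtype.val h1)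
  have hidx : f.ker.index = p ^ j := by
    rw [Subgroup.index_eq_card, ← hj]
    exact Nat.card_congr (QuotientGroup.quotientKerEquivRange f).toEquiv
  exact exists_normal_index_p_of_index_pow f.ker hj1 hidx

end Cfsg.Agent.Lib.Helper33
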