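import Cfsg.Agent.Lib.Helper33.KInfTransfer
import Cfsg.Agent.Lib.Helper33.IndexP

set_option autoImplicit false
set_option linter.style.haveILetI false
set_option linter.unusedSectionVars false

/-!
# `p ≥ 5`, `N_G(S)/C_G(S)` a `p`-group: a normal subgroup of index `p`
-/

universe u

namespace Cfsg.Agent.Lib.Helper33

open Cfsg Subgroup

open scoped commutatorElement

/-- the case of a normal Sylow subgroup -/
theorem index_p_of_normal_sylow {X : Type u} [Group X] [Finite X] {p : ℕ} [hp : Fact p.Prime]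
    (S : Sylow p X) (hS : (S : Subgroup X) ≠ ⊥) (hSn : (S : Subgroup X).Normal)
    (hN : ∀ g : X, (orderOf g).Coprime p → g ∈ centralizer ((S : Subgroup X) : Set X)) :
    ∃ N : Subgroup X, N.Normal ∧ N.index = p := by
  haveI := hSn
  obtain ⟨C, hC⟩ : ∃ C : Subgroup X, C = centralizer ((S : Subgroup X) : Set X) := ⟨_, rfl⟩
  haveI hCn : C.Normal := by rw [hC]; infer_instance
  by_cases hCtop : C = ⊤
  · -- Burnside
    have hP : normalizer ((S : Subgroup X) : Set X) ≤ centralizer ((S : Subgroup X) : Set X) := by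
      rw [← hC, hCtop]; exact le_top
    have hcomp := MonoidHom.ker_transferSylow_isComplement' S hP
    have hidx : (MonoidHom.transferSylow S hP).ker.index = Nat.card (S : Subgroup X) :=
      hcomp.symm.index_eq_card
    obtain ⟨k, hk⟩ := IsPGroup.iff_card.mp S.isPGroup'
    have hk1 : 1 ≤ k := by
      by_contra h0
      have : k = 0 := by omega
      rw [this, pow_zero] at hk
      exact hS (Subgroup.card_eq_one.mp hk)
    rw [hk] at hidx
    exact exists_normal_index_p_of_index_pow _ hk1 hidx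
  · have hpg : IsPGroup p (X ⧸ C) := by
      intro xb
      obtain ⟨x, rfl⟩ := QuotientGroup.mk_surjective xb
      obtain ⟨o, ho⟩ : ∃ o : ℕ, o = orderOf x := ⟨_, rfl⟩
      have hopos : o ≠ 0 := by rw [ho]; exact (orderOf_pos x).ne'
      refine ⟨o.factorization p, ?_⟩
      rw [← QuotientGroup.mk_pow, QuotientGroup.eq_one_iff, hC]
      apply hN
      have h1 : orderOf (x ^ (p ^ o.factorization p)) ∣ o / p ^ o.factorization p := by
        apply orderOf_dvd_of_pow_eq_one
        rw [← pow_mul, Nat.ordProj_mul_ordCompl_eq_self o p, ho, pow_orderOf_eq_one]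
      exact Nat.Coprime.coprime_dvd_left h1 (Nat.coprime_ordCompl hp.out hopos).symm
    obtain ⟨j, hj⟩ := IsPGroup.iff_card.mp hpg
    have hidx : C.index = p ^ j := by rw [Subgroup.index_eq_card, hj]
    have hj1 : 1 ≤ j := by
      by_contra h0
      have : j = 0 := by omega
      rw [this, pow_zero] at hidx
      exact hCtop (Subgroup.index_eq_one.mp hidx)
    exact exists_normal_index_p_of_index_pow C hj1 hidx

/-- lifting a `p'`-element of the quotient -/
theorem exists_pow_coprime_lift {X Y : Type*} [Group X] [Finite X] [Group Y] {p : ℕ}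
    [hp : Fact p.Prime] (π : X →* Y) (g : X) (hg : (orderOf (π g)).Coprime p) :
    ∃ a : ℕ, (orderOf (g ^ a)).Coprime p ∧ π (g ^ a) = π g := by
  obtain ⟨o, ho⟩ : ∃ o : ℕ, o = orderOf g := ⟨_, rfl⟩
  have hopos : o ≠ 0 := by rw [ho]; exact (orderOf_pos g).ne'
  obtain ⟨e, he⟩ : ∃ e : ℕ, e = o.factorization p := ⟨_, rfl⟩
  obtain ⟨m, hm⟩ : ∃ m : ℕ, m = o / p ^ e := ⟨_, rfl⟩
  have hom : p ^ e * m = o := by rw [hm, he]; exact Nat.ordProj_mul_ordCompl_eq_self o p
  have hcop : Nat.Coprime p m := by rw [hm, he]; exact Nat.coprime_ordCompl hp.out hopos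
  have hd : orderOf (π g) ∣ m := by
    have h1 : orderOf (π g) ∣ o := by rw [ho]; exact orderOf_map_dvd π g
    rw [← hom] at h1
    exact (Nat.Coprime.pow_right e hg).dvd_of_dvd_mul_left h1
  by_cases hm1 : m = 1
  · refine ⟨0, ?_, ?_⟩
    · rw [pow_zero, orderOf_one]; exact Nat.coprime_one_left p
    · rw [hm1, Nat.dvd_one, orderOf_eq_one_iff] at hd
      rw [pow_zero, map_one, hd]
  · have hm2 : 1 < m := by
      have : m ≠ 0 := by
        intro h0; rw [h0, mul_zero] at hom; exact hopos hom.symm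
      omega
    obtain ⟨b, -, hb⟩ := Nat.exists_mul_mod_eq_one_of_coprime (Nat.Coprime.pow_left e hcop) hm2
    refine ⟨p ^ e * b, ?_, ?_⟩
    · have h1 : orderOf (g ^ (p ^ e * b)) ∣ m := by
        apply orderOf_dvd_of_pow_eq_one
        rw [← pow_mul]
        have e1 : p ^ e * b * m = o * b := by rw [← hom]; ring
        rw [e1, pow_mul, ho, pow_orderOf_eq_one, one_pow]
      exact Nat.Coprime.coprime_dvd_left h1 hcop.symm
    · rw [map_pow]
      have h2 : p ^ e * b ≡ 1 [MOD orderOf (π g)] := by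
        have h3 : p ^ e * b ≡ 1 [MOD m] := by
          rw [Nat.ModEq, hb, Nat.mod_eq_of_lt hm2]
        exact h3.of_dvd hd
      have := (pow_eq_pow_iff_modEq (x := π g)).mpr h2
      rw [this, pow_one]

theorem index_p_aux {p : ℕ} [hp : Fact p.Prime] (h5 : 5 ≤ p) :
    ∀ (n : ℕ) (X : Type u) [Group X] [Finite X], Nat.card X = n → ∀ S : Sylow p X,
      (S : Subgroup X) ≠ ⊥ →
      (∀ g ∈ normalizer ((S : Subgroup X) : Set X), (orderOf g).Coprime p →
        g ∈ centralizer ((S : Subgroup X) : Set X)) →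
      ∃ N : Subgroup X, N.Normal ∧ N.index = p := by
  intro n
  induction n using Nat.strong_induction_on with
  | _ n ih =>
  intro X _ _ hn S hS hN
  have hW : Cfsg.IsCharPFunctor.{u} p (fun (Q : Type u) [Group Q] => Cfsg.kInfLower Q) :=
    isCharPFunctor_kInfLower p
  obtain ⟨W, hWdef⟩ : ∃ W : ∀ (Q : Type u) [Group Q], Subgroup Q,
      W = (fun (Q : Type u) [Group Q] => Cfsg.kInfLower Q) := ⟨_, rfl⟩
  rw [← hWdef] at hW
  have hWK : (∀ (Q : Type u) [Group Q], W Q = Cfsg.kInfLower Q) ∨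
      (∀ (Q : Type u) [Group Q], W Q = Cfsg.kInfUpper Q) := Or.inl (fun Q _ => by rw [hWdef])
  have hWc : IsConjugacyFunctor p (inducedFunctor (G := X) W) := isConjugacyFunctor_induced hW
  obtain ⟨K, hK⟩ : ∃ K : Subgroup X, K = inducedFunctor (G := X) W (S : Subgroup X) := ⟨_, rfl⟩
  have hKS : K ≤ (S : Subgroup X) := by rw [hK]; exact induced_le _
  have hKne : K ≠ ⊥ := by rw [hK]; exact (hWc _ S.isPGroup').2.1 hS
  obtain ⟨N₁, hN₁⟩ : ∃ N₁ : Subgroup X, N₁ = normalizer (K : Set X) := ⟨_, rfl⟩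
  have hSN₁ : (S : Subgroup X) ≤ N₁ := by
    rw [hN₁, hK]
    exact Subgroup.le_normalizer.trans (normalizer_le_normalizer_functor hWc S.isPGroup')
  have hfocal := kinf_focal_le h5 W hW hWK S
  rw [← hK, ← hN₁] at hfocal
  by_cases hN₁top : N₁ = ⊤
  · -- `K` is normal
    haveI hKn : K.Normal := by
      rw [hN₁] at hN₁top
      exact Subgroup.normalizer_eq_top_iff.mp hN₁top
    by_cases hSK : (S : Subgroup X) ≤ K
    · have hSeq : (S : Subgroup X) = K := le_antisymm hSK hKS
      have hSn : (S : Subgroup X).Normal := by rw [hSeq]; exact hKn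
      apply index_p_of_normal_sylow S hS hSn
      intro g hg
      apply hN g _ hg
      rw [Subgroup.normalizer_eq_top_iff.mpr hSn]
      exact Subgroup.mem_top g
    · obtain ⟨π, hπ⟩ : ∃ π : X →* X ⧸ K, π = QuotientGroup.mk' K := ⟨_, rfl⟩
      have hπs : Function.Surjective π := by rw [hπ]; exact QuotientGroup.mk'_surjective K
      have hker : π.ker = K := by rw [hπ]; exact QuotientGroup.ker_mk' K
      have hcomap : ((S : Subgroup X).map π).comap π = (S : Subgroup X) := by
        rw [Subgroup.comap_map_eq, hker, sup_eq_left.mpr hKS]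
      obtain ⟨Sb, hSb⟩ : ∃ Sb : Sylow p (X ⧸ K), (Sb : Subgroup (X ⧸ K)) = (S : Subgroup X).map π :=
        ⟨(S.isPGroup'.map π).toSylow (not_dvd_index_map S π hπs), rfl⟩
      have hSbne : (Sb : Subgroup (X ⧸ K)) ≠ ⊥ := by
        rw [hSb]
        intro h
        apply hSK
        rw [← hcomap, h]
        intro x hx
        exact hker.le hx
      have hNb : ∀ gb ∈ normalizer ((Sb : Subgroup (X ⧸ K)) : Set (X ⧸ K)),
          (orderOf gb).Coprime p → gb ∈ centralizer ((Sb : Subgroup (X ⧸ K)) : Set (X ⧸ K)) := by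
        intro gb hgb hcop
        obtain ⟨g, rfl⟩ := hπs gb
        have hgN : g ∈ normalizer ((S : Subgroup X) : Set X) := by
          rw [Subgroup.mem_normalizer_iff]
          intro x
          rw [Subgroup.mem_normalizer_iff] at hgb
          have h1 := hgb (π x)
          rw [hSb] at h1
          have e1 : π g * π x * (π g)⁻¹ = π (g * x * g⁻¹) := by
            rw [map_mul, map_mul, map_inv]
          rw [e1, ← Subgroup.mem_comap, ← Subgroup.mem_comap, hcomap] at h1
          exact h1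
        obtain ⟨a, ha, hga⟩ := exists_pow_coprime_lift π g hcop
        have hgaN : g ^ a ∈ normalizer ((S : Subgroup X) : Set X) := Subgroup.pow_mem _ hgN a
        have hgaC := hN _ hgaN ha
        rw [← hga, hSb, Subgroup.mem_centralizer_iff]
        rintro _ ⟨y, hy, rfl⟩
        have := Subgroup.mem_centralizer_iff.mp hgaC y hy
        rw [← map_mul, ← map_mul, this]
      have hcard : Nat.card (X ⧸ K) < n := by rw [← hn]; exact card_quotient_lt K hKne
      obtain ⟨Nb, hNbn, hNbi⟩ := ih _ hcard (X ⧸ K) rfl Sb hSbne hNb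
      haveI := hNbn
      refine ⟨Nb.comap π, inferInstance, ?_⟩
      rw [Subgroup.index_comap_of_surjective _ hπs, hNbi]
  · -- `N₁` is proper
    apply exists_normal_index_p_of_not_le_commutator S
    intro hSc
    rw [commutator_def] at hSc
    have hS' : (S : Subgroup X) ≤ ⁅N₁, N₁⁆ := (le_inf le_rfl hSc).trans hfocal
    obtain ⟨S₁, hS₁⟩ : ∃ S₁ : Sylow p ↥N₁,
        (S₁ : Subgroup ↥N₁) = (S : Subgroup X).subgroupOf N₁ := ⟨S.subtype hSN₁, Sylow.coe_subtype S hSN₁⟩
    have hS₁mem : ∀ y : ↥N₁, y ∈ (S₁ : Subgroup ↥N₁) ↔ (y : X) ∈ (S : Subgroup X) := by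
      intro y; rw [hS₁, Subgroup.mem_subgroupOf]
    have hS₁ne : (S₁ : Subgroup ↥N₁) ≠ ⊥ := by
      intro h
      apply hS
      rw [eq_bot_iff]
      intro s hs
      have h1 : (⟨s, hSN₁ hs⟩ : ↥N₁) ∈ (S₁ : Subgroup ↥N₁) := (hS₁mem _).mpr hs
      rw [h, Subgroup.mem_bot] at h1
      rw [Subgroup.mem_bot]
      exact congrArg Subtype.val h1
    have hN₁' : ∀ g ∈ normalizer ((S₁ : Subgroup ↥N₁) : Set ↥N₁), (orderOf g).Coprime p →
        g ∈ centralizer ((S₁ : Subgroup ↥N₁) : Set ↥N₁) := by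
      intro g hg hcop
      have hgN : (g : X) ∈ normalizer ((S : Subgroup X) : Set X) := by
        rw [Subgroup.mem_normalizer_iff] at hg ⊢
        intro x
        constructor
        · intro hx
          have h1 := (hg ⟨x, hSN₁ hx⟩).mp ((hS₁mem _).mpr hx)
          exact (hS₁mem _).mp h1
        · intro hx
          have hxN : x ∈ N₁ := by
            have h1 := N₁.mul_mem (N₁.mul_mem (N₁.inv_mem g.2) (hSN₁ hx)) g.2
            have e : (g : X)⁻¹ * ((g : X) * x * (g : X)⁻¹) * (g : X) = x := by group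
            rwa [e] at h1
          have h1 := (hg ⟨x, hxN⟩).mpr ((hS₁mem _).mpr hx)
          exact (hS₁mem _).mp h1
      have hcop' : (orderOf (g : X)).Coprime p := by rw [Subgroup.orderOf_coe]; exact hcop
      have hgC := hN _ hgN hcop'
      rw [Subgroup.mem_centralizer_iff]
      intro y hy
      apply Subtype.ext
      exact Subgroup.mem_centralizer_iff.mp hgC _ ((hS₁mem y).mp hy)
    have hcard : Nat.card ↥N₁ < n := by rw [← hn]; exact card_subgroup_lt N₁ hN₁top
    obtain ⟨M₁, hM₁n, hM₁i⟩ := ih _ hcard ↥N₁ rfl S₁ hS₁ne hN₁'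
    haveI := hM₁n
    have hcardq : Nat.card (↥N₁ ⧸ M₁) = p := by rw [← Subgroup.index_eq_card, hM₁i]
    haveI : IsCyclic (↥N₁ ⧸ M₁) := isCyclic_of_prime_card hcardq
    letI : CommGroup (↥N₁ ⧸ M₁) := IsCyclic.commGroup
    have hcomm : commutator ↥N₁ ≤ M₁ := by
      have := Abelianization.commutator_subset_ker (QuotientGroup.mk' M₁)
      rwa [QuotientGroup.ker_mk'] at this
    have hS₁M₁ : (S₁ : Subgroup ↥N₁) ≤ M₁ := by
      intro y hy
      apply hcomm
      have h1 : (y : X) ∈ ⁅N₁, N₁⁆ := hS' ((hS₁mem y).mp hy)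
      rw [← Subgroup.map_subtype_commutator] at h1
      obtain ⟨y', hy', hyy⟩ := h1
      have : y' = y := Subtype.ext hyy
      rw [← this]; exact hy'
    have hdvd : p ∣ (S₁ : Subgroup ↥N₁).index := by
      have := Subgroup.index_dvd_of_le hS₁M₁
      rwa [hM₁i] at this
    exact S₁.not_dvd_index hdvd

end Cfsg.Agent.Lib.Helper33
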