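import Mathlib

/-! L34-KER of the L34 hive (helper30, S2088): an abelian group of order at most 48 with independent
elements of orders 3, 4, 4 is `Z/3 × Z/4 × Z/4`. -/

set_option autoImplicit false

namespace Cfsg.Agent.Lib.Helper30.L34

universe u

theorem l34ker_pow_val_add {Z : Type u} [Monoid Z] (n : ℕ) [NeZero n] (a : Z) (ha : a ^ n = 1)
    (i j : ZMod n) : a ^ (i + j).val = a ^ i.val * a ^ j.val := by
  rw [ZMod.val_add, ← pow_add]
  conv_rhs => rw [← Nat.mod_add_div (i.val + j.val) n, pow_add, pow_mul, ha, one_pow, mul_one]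

theorem l34ker_key : ∀ x : ZMod 3 × ZMod 4 × ZMod 4, x = 0 ∨
    (4 • x = (1, 0, 0) ∨ 4 • x = (2, 0, 0) ∨ x = (0, 2, 0) ∨ x = (0, 0, 2) ∨ x = (0, 2, 2) ∨
      2 • x = (0, 2, 0) ∨ 2 • x = (0, 0, 2) ∨ 2 • x = (0, 2, 2)) := by
  decide

/-- the map `(i, j, k) ↦ a ^ i * b ^ j * c ^ k` -/
def l34ker_g {Z : Type u} [Monoid Z] (a b c : Z) (x : ZMod 3 × ZMod 4 × ZMod 4) : Z :=
  a ^ x.1.val * b ^ x.2.1.val * c ^ x.2.2.val

theorem l34ker_comm {Z : Type u} [CommGroup Z] [Finite Z]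
    (hcard : Nat.card Z ≤ 48) (a b c : Z) (ha : a ^ 3 = 1) (hb : b ^ 4 = 1) (hc : c ^ 4 = 1)
    (ha1 : a ≠ 1) (hb2 : b ^ 2 ≠ 1) (hc2 : c ^ 2 ≠ 1) (hbc : b ^ 2 * c ^ 2 ≠ 1) :
    Nonempty (Z ≃* Multiplicative (ZMod 3 × ZMod 4 × ZMod 4)) := by
  have hadd : ∀ x y : ZMod 3 × ZMod 4 × ZMod 4,
      l34ker_g a b c (x + y) = l34ker_g a b c x * l34ker_g a b c y := by
    intro x y
    unfold l34ker_g
    rw [Prod.fst_add, Prod.snd_add, Prod.fst_add, Prod.snd_add, l34ker_pow_val_add 3 a ha,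
      l34ker_pow_val_add 4 b hb, l34ker_pow_val_add 4 c hc]
    ac_rfl
  have h0 : l34ker_g a b c 0 = 1 := by
    unfold l34ker_g
    simp
  have hsmul : ∀ (m : ℕ) (x : ZMod 3 × ZMod 4 × ZMod 4),
      l34ker_g a b c (m • x) = l34ker_g a b c x ^ m := by
    intro m x
    induction m with
    | zero => rw [zero_smul, pow_zero, h0]
    | succ k ih => rw [succ_nsmul, hadd, ih, pow_succ]
  have v2 : ((2 : ZMod 3).val) = 2 := rfl
  have v24 : ((2 : ZMod 4).val) = 2 := rfl
  have t1 : l34ker_g a b c (1, 0, 0) = a := by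
    unfold l34ker_g
    simp [ZMod.val_one]
  have t2 : l34ker_g a b c (2, 0, 0) = a ^ 2 := by
    unfold l34ker_g
    simp [v2]
  have t3 : l34ker_g a b c (0, 2, 0) = b ^ 2 := by
    unfold l34ker_g
    simp [v24]
  have t4 : l34ker_g a b c (0, 0, 2) = c ^ 2 := by
    unfold l34ker_g
    simp [v24]
  have t5 : l34ker_g a b c (0, 2, 2) = b ^ 2 * c ^ 2 := by
    unfold l34ker_g
    simp [v24]
  have ha2 : a ^ 2 ≠ 1 := by
    intro h
    apply ha1
    have : a ^ 3 = a ^ 2 * a := pow_succ a 2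
    rw [ha, h, one_mul] at this
    exact this.symm
  let f : Multiplicative (ZMod 3 × ZMod 4 × ZMod 4) →* Z :=
    { toFun := fun x => l34ker_g a b c (Multiplicative.toAdd x)
      map_one' := h0
      map_mul' := fun x y => hadd _ _ }
  have hinj : Function.Injective f := by
    rw [injective_iff_map_eq_one]
    intro x hx
    by_contra hne
    have hx' : l34ker_g a b c (Multiplicative.toAdd x) = 1 := hx
    have hne' : Multiplicative.toAdd x ≠ 0 := fun h => hne (by
      rw [← ofAdd_toAdd x, h]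
      rfl)
    have hp : ∀ m : ℕ, l34ker_g a b c (m • Multiplicative.toAdd x) = 1 := by
      intro m
      rw [hsmul, hx', one_pow]
    rcases (l34ker_key (Multiplicative.toAdd x)).resolve_left hne' with h | h | h | h | h | h | h | h
    · have := hp 4
      rw [h, t1] at this
      exact ha1 this
    · have := hp 4
      rw [h, t2] at this
      exact ha2 this
    · rw [h, t3] at hx'
      exact hb2 hx'
    · rw [h, t4] at hx'
      exact hc2 hx'
    · rw [h, t5] at hx'
      exact hbc hx'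
    · have := hp 2
      rw [h, t3] at this
      exact hb2 this
    · have := hp 2
      rw [h, t4] at this
      exact hc2 this
    · have := hp 2
      rw [h, t5] at this
      exact hbc this
  have hcardM : Nat.card (Multiplicative (ZMod 3 × ZMod 4 × ZMod 4)) = 48 := by
    rw [Nat.card_eq_fintype_card]
    rfl
  have hbij : Function.Bijective f :=
    hinj.bijective_of_nat_card_le (by rw [hcardM]; exact hcard)
  exact ⟨(MulEquiv.ofBijective f hbij).symm⟩

/-- L34-KER -/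
theorem exists_mulEquiv_ker {Z : Type u} [Group Z] [Finite Z] (hcomm : ∀ x y : Z, x * y = y * x)
    (hcard : Nat.card Z ≤ 48) (a b c : Z) (ha : a ^ 3 = 1) (hb : b ^ 4 = 1) (hc : c ^ 4 = 1)
    (ha1 : a ≠ 1) (hb2 : b ^ 2 ≠ 1) (hc2 : c ^ 2 ≠ 1) (hbc : b ^ 2 * c ^ 2 ≠ 1) :
    Nonempty (Z ≃* Multiplicative (ZMod 3 × ZMod 4 × ZMod 4)) := by
  let _ : CommGroup Z := { (inferInstance : Group Z) with mul_comm := hcomm }
  exact l34ker_comm hcard a b c ha hb hc ha1 hb2 hc2 hbc

end Cfsg.Agent.Lib.Helper30.L34
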