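import Mathlib
import Cfsg.Prelude.Def_ClassicalGeometry
import Cfsg.Prelude.Def_GeometricClasses
import Cfsg.Agent.Lib.Helper99.SympForm
import Cfsg.Agent.Lib.Helper59.TqDefs

/-! TQ-TYPEODD of the Tq hive (helper59): splitting off a hyperbolic piece does not change the type. -/

set_option autoImplicit false

namespace Cfsg.Agent.Lib.Helper59.Tq

open Module
open Cfsg.Agent.Lib.Helper99

section tools

universe u

variable {F : Type u} [Field F] {V : Type u} [AddCommGroup V] [Module F V] [FiniteDimensional F V]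

omit [FiniteDimensional F V] in
/-- a totally singular subspace is totally isotropic -/
theorem typeodd_ti (Q : QuadraticForm F V) {M : Submodule F V} (hM : ∀ u ∈ M, Q u = 0)
    (x y : V) (hx : x ∈ M) (hy : y ∈ M) : QuadraticMap.polar Q x y = 0 := by
  unfold QuadraticMap.polar
  rw [hM _ (M.add_mem hx hy), hM x hx, hM y hy]
  simp

omit [FiniteDimensional F V] in
/-- the sum of two totally singular subspaces that are orthogonal to each other is totally singular -/
theorem typeodd_ts_sup (Q : QuadraticForm F V) {A L : Submodule F V} (hA : ∀ u ∈ A, Q u = 0)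
    (hL : ∀ u ∈ L, Q u = 0) (ho : ∀ a ∈ A, ∀ l ∈ L, QuadraticMap.polar Q a l = 0) :
    ∀ u ∈ A ⊔ L, Q u = 0 := by
  intro u hu
  obtain ⟨a, ha, l, hl, rfl⟩ := Submodule.mem_sup.mp hu
  have h := ho a ha l hl
  unfold QuadraticMap.polar at h
  rw [hA a ha, hL l hl] at h
  simpa using h

/-- TQ-TYPEODD -/
theorem plusOn_of_lagrangian (Q : QuadraticForm F V)
    (hV : Nd (QuadraticMap.polarBilin Q) ⊤) {C R : Submodule F V} (hCR : IsCompl C R)
    (horth : ∀ c ∈ C, ∀ x ∈ R, QuadraticMap.polar Q c x = 0) {L : Submodule F V} (hLR : L ≤ R)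
    (hL : ∀ u ∈ L, Q u = 0) (hLd : 2 * finrank F L = finrank F R) :
    PlusOn Q ⊤ ↔ PlusOn Q C := by
  classical
  have hCRdim : finrank F C + finrank F R = finrank F V := Submodule.finrank_add_eq_of_isCompl hCR
  have htop : finrank F (⊤ : Submodule F V) = finrank F V := finrank_top F V
  have hCLdisj : ∀ A : Submodule F V, A ≤ C → A ⊓ L = ⊥ := by
    intro A hA
    rw [eq_bot_iff]
    calc A ⊓ L ≤ C ⊓ R := inf_le_inf hA hLR
      _ = ⊥ := hCR.inf_eq_bot
  constructor
  · rintro ⟨M, -, hM, hMd⟩
    rw [htop] at hMd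
    -- the polar form as a nondegenerate bilinear form
    set B : LinearMap.BilinForm F V := QuadraticMap.polarBilin Q with hB
    have hBapp : ∀ x y, B x y = QuadraticMap.polar Q x y := fun x y => rfl
    have hsymm : ∀ x y, B x y = B y x := fun x y => by
      rw [hBapp, hBapp, QuadraticMap.polar_comm]
    have hnd : B.Nondegenerate := by
      have hsep : ∀ v : V, (∀ w : V, B v w = 0) → v = 0 := fun v hv =>
        hV v Submodule.mem_top (fun w _ => hv w)
      exact ⟨fun v hv => hsep v hv, fun v hv => hsep v (fun w => by rw [hsymm]; exact hv w)⟩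
    -- `L^⊥ = C ⊔ L`
    have hLLo : L ≤ B.orthogonal L := by
      intro x hx
      rw [LinearMap.BilinForm.mem_orthogonal_iff]
      intro l hl
      exact typeodd_ti Q hL l x hl hx
    have hCLo : C ≤ B.orthogonal L := by
      intro x hx
      rw [LinearMap.BilinForm.mem_orthogonal_iff]
      intro l hl
      rw [hsymm]
      exact horth x hx l (hLR hl)
    have hLodim := LinearMap.BilinForm.finrank_orthogonal hnd L
    have hLle : finrank F L ≤ finrank F V := Submodule.finrank_le L
    have hCLdim : finrank F ↥(C ⊔ L) = finrank F C + finrank F L := by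
      have := Submodule.finrank_sup_add_finrank_inf_eq C L
      rw [hCLdisj C le_rfl, finrank_bot, add_zero] at this
      exact this
    have hCL : C ⊔ L = B.orthogonal L := by
      apply Submodule.eq_of_le_of_finrank_eq (sup_le hCLo hLLo)
      rw [hCLdim, hLodim]
      omega
    -- `M^⊥ = M`
    have hMMo : M ≤ B.orthogonal M := by
      intro x hx
      rw [LinearMap.BilinForm.mem_orthogonal_iff]
      intro y hy
      exact typeodd_ti Q hM y x hy hx
    have hModim := LinearMap.BilinForm.finrank_orthogonal hnd M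
    have hMo : B.orthogonal M = M := by
      symm
      apply Submodule.eq_of_le_of_finrank_eq hMMo
      rw [hModim]
      omega
    -- `M₁ = M ⊓ L^⊥ = (M ⊔ L)^⊥`
    have hM1 : M ⊓ B.orthogonal L = B.orthogonal (M ⊔ L) := by
      ext v
      rw [Submodule.mem_inf, LinearMap.BilinForm.mem_orthogonal_iff,
        LinearMap.BilinForm.mem_orthogonal_iff]
      constructor
      · rintro ⟨hvM, hvL⟩ x hx
        obtain ⟨a, ha, l, hl, rfl⟩ := Submodule.mem_sup.mp hx
        rw [map_add, LinearMap.add_apply, hvL l hl, add_zero]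
        exact typeodd_ti Q hM a v ha hvM
      · intro h
        refine ⟨?_, fun l hl => h l (Submodule.mem_sup_right hl)⟩
        rw [← hMo, LinearMap.BilinForm.mem_orthogonal_iff]
        intro a ha
        exact h a (Submodule.mem_sup_left ha)
    have hM1dim : finrank F ↥(M ⊓ B.orthogonal L) = finrank F V - finrank F ↥(M ⊔ L) := by
      rw [hM1]
      exact LinearMap.BilinForm.finrank_orthogonal hnd (M ⊔ L)
    have hMLdim : finrank F ↥(M ⊔ L) + finrank F ↥(M ⊓ L) = finrank F M + finrank F L :=
      Submodule.finrank_sup_add_finrank_inf_eq M L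
    have hMLle : finrank F ↥(M ⊔ L) ≤ finrank F V := Submodule.finrank_le _
    -- `M' = M₁ ⊔ L`
    have hM1L : (M ⊓ B.orthogonal L) ⊓ L = M ⊓ L := by
      rw [inf_assoc, inf_eq_right.mpr hLLo]
    have hM'dim : finrank F ↥((M ⊓ B.orthogonal L) ⊔ L) + finrank F ↥(M ⊓ L)
        = finrank F ↥(M ⊓ B.orthogonal L) + finrank F L := by
      have := Submodule.finrank_sup_add_finrank_inf_eq (M ⊓ B.orthogonal L) L
      rw [hM1L] at this
      exact this
    have hM1ts : ∀ u ∈ M ⊓ B.orthogonal L, Q u = 0 := fun u hu => hM u (Submodule.mem_inf.mp hu).1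
    have hM'ts : ∀ u ∈ (M ⊓ B.orthogonal L) ⊔ L, Q u = 0 := by
      apply typeodd_ts_sup Q hM1ts hL
      intro a ha l hl
      have := (LinearMap.BilinForm.mem_orthogonal_iff.mp (Submodule.mem_inf.mp ha).2) l hl
      rw [hBapp, QuadraticMap.polar_comm] at this
      exact this
    have hLM' : L ≤ (M ⊓ B.orthogonal L) ⊔ L := le_sup_right
    have hM'Lo : (M ⊓ B.orthogonal L) ⊔ L ≤ C ⊔ L := by
      rw [hCL]
      exact sup_le inf_le_right hLLo
    -- `U = C ⊓ M'`
    have hsplit : (M ⊓ B.orthogonal L) ⊔ L = (C ⊓ ((M ⊓ B.orthogonal L) ⊔ L)) ⊔ L := by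
      apply le_antisymm
      · intro x hx
        obtain ⟨c, hc, l, hl, rfl⟩ := Submodule.mem_sup.mp (hM'Lo hx)
        refine Submodule.mem_sup.mpr ⟨c, Submodule.mem_inf.mpr ⟨hc, ?_⟩, l, hl, rfl⟩
        have : c = c + l - l := by abel
        rw [this]
        exact Submodule.sub_mem _ hx (hLM' hl)
      · exact sup_le inf_le_right hLM'
    have hUdim : finrank F ↥((M ⊓ B.orthogonal L) ⊔ L)
        = finrank F ↥(C ⊓ ((M ⊓ B.orthogonal L) ⊔ L)) + finrank F L := by
      have := Submodule.finrank_sup_add_finrank_inf_eq (C ⊓ ((M ⊓ B.orthogonal L) ⊔ L)) L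
      rw [← hsplit, hCLdisj (C ⊓ ((M ⊓ B.orthogonal L) ⊔ L)) inf_le_left, finrank_bot,
        add_zero] at this
      exact this
    refine ⟨C ⊓ ((M ⊓ B.orthogonal L) ⊔ L), inf_le_left,
      fun u hu => hM'ts u (Submodule.mem_inf.mp hu).2, ?_⟩
    have h1 : finrank F ↥(M ⊓ L) ≤ finrank F L := Submodule.finrank_mono inf_le_right
    omega
  · rintro ⟨U, hUC, hU, hUd⟩
    refine ⟨U ⊔ L, le_top, ?_, ?_⟩
    · apply typeodd_ts_sup Q hU hL
      intro a ha l hl
      exact horth a (hUC ha) l (hLR hl)
    · have := Submodule.finrank_sup_add_finrank_inf_eq U L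
      rw [hCLdisj U hUC, finrank_bot, add_zero] at this
      rw [htop]
      omega

end tools

end Cfsg.Agent.Lib.Helper59.Tq
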