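import Mathlib

/-!
# Ti mini-hive (S1074, owner helper31): leaf TI-EO `ti_eo`
-/

set_option autoImplicit false

namespace Cfsg.Agent.Lib.Helper31.Ti

open scoped commutatorElement

section
variable {Γ : Type*} [Group Γ] {X : Type*} (act : X → Γ → X) (Ω0 Ω1 : Set X)

/-- `g` preserves the two sets -/
def tieo_E (g : Γ) : Prop := (∀ x ∈ Ω0, act x g ∈ Ω0) ∧ ∀ x ∈ Ω1, act x g ∈ Ω1

/-- `g` swaps the two sets -/
def tieo_O (g : Γ) : Prop := (∀ x ∈ Ω0, act x g ∈ Ω1) ∧ ∀ x ∈ Ω1, act x g ∈ Ω0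

variable {act Ω0 Ω1}

theorem tieo_EE (hm : ∀ x g h, act x (g * h) = act (act x g) h) {g h : Γ}
    (hg : tieo_E act Ω0 Ω1 g) (hh : tieo_E act Ω0 Ω1 h) : tieo_E act Ω0 Ω1 (g * h) :=
  ⟨fun x hx => by rw [hm]; exact hh.1 _ (hg.1 x hx), fun x hx => by rw [hm]; exact hh.2 _ (hg.2 x hx)⟩

theorem tieo_EO (hm : ∀ x g h, act x (g * h) = act (act x g) h) {g h : Γ}
    (hg : tieo_E act Ω0 Ω1 g) (hh : tieo_O act Ω0 Ω1 h) : tieo_O act Ω0 Ω1 (g * h) :=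
  ⟨fun x hx => by rw [hm]; exact hh.1 _ (hg.1 x hx), fun x hx => by rw [hm]; exact hh.2 _ (hg.2 x hx)⟩

theorem tieo_OE (hm : ∀ x g h, act x (g * h) = act (act x g) h) {g h : Γ}
    (hg : tieo_O act Ω0 Ω1 g) (hh : tieo_E act Ω0 Ω1 h) : tieo_O act Ω0 Ω1 (g * h) :=
  ⟨fun x hx => by rw [hm]; exact hh.2 _ (hg.1 x hx), fun x hx => by rw [hm]; exact hh.1 _ (hg.2 x hx)⟩

theorem tieo_OO (hm : ∀ x g h, act x (g * h) = act (act x g) h) {g h : Γ}
    (hg : tieo_O act Ω0 Ω1 g) (hh : tieo_O act Ω0 Ω1 h) : tieo_E act Ω0 Ω1 (g * h) :=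
  ⟨fun x hx => by rw [hm]; exact hh.2 _ (hg.1 x hx), fun x hx => by rw [hm]; exact hh.1 _ (hg.2 x hx)⟩

end

/-- LEAF TI-EO. -/
theorem ti_eo {Γ : Type*} [Group Γ] {X : Type*} (act : X → Γ → X) (h1 : ∀ x, act x 1 = x)
    (hm : ∀ x g h, act x (g * h) = act (act x g) h) (Ω0 Ω1 : Set X) (x0 : X) (hx0 : x0 ∈ Ω0) (hx1 : x0 ∉ Ω1)
    (k : Set Γ)
    (hk : ∀ g ∈ k, ((∀ x ∈ Ω0, act x g ∈ Ω0) ∧ ∀ x ∈ Ω1, act x g ∈ Ω1) ∨
      ((∀ x ∈ Ω0, act x g ∈ Ω1) ∧ ∀ x ∈ Ω1, act x g ∈ Ω0))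
    (hkinv : ∀ g ∈ k, ((∀ x ∈ Ω0, act x g⁻¹ ∈ Ω0) ∧ ∀ x ∈ Ω1, act x g⁻¹ ∈ Ω1) ∨
      ((∀ x ∈ Ω0, act x g⁻¹ ∈ Ω1) ∧ ∀ x ∈ Ω1, act x g⁻¹ ∈ Ω0))
    (c : Γ) (hc : c ∈ Subgroup.closure k) (hodd : (∀ x ∈ Ω0, act x c ∈ Ω1) ∧ ∀ x ∈ Ω1, act x c ∈ Ω0) :
    commutator ↥(Subgroup.closure k) ≠ ⊤ := by
  have hE1 : tieo_E act Ω0 Ω1 (1 : Γ) :=
    ⟨fun x hx => by rw [h1]; exact hx, fun x hx => by rw [h1]; exact hx⟩
  have hO1 : ¬ tieo_O act Ω0 Ω1 (1 : Γ) := by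
    intro h
    have := h.1 x0 hx0
    rw [h1] at this
    exact hx1 this
  -- every element of the closure is even or odd
  have hP : ∀ g ∈ Subgroup.closure k, tieo_E act Ω0 Ω1 g ∨ tieo_O act Ω0 Ω1 g := by
    intro g hg
    induction hg using Subgroup.closure_induction'' with
    | mem x hx => exact hk x hx
    | inv_mem x hx => exact hkinv x hx
    | one => exact Or.inl hE1
    | mul x y _ _ hx hy =>
      rcases hx with hx | hx <;> rcases hy with hy | hy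
      · exact Or.inl (tieo_EE hm hx hy)
      · exact Or.inr (tieo_EO hm hx hy)
      · exact Or.inr (tieo_OE hm hx hy)
      · exact Or.inl (tieo_OO hm hx hy)
  -- the inverse has the same parity
  have hEinv : ∀ g ∈ Subgroup.closure k, tieo_E act Ω0 Ω1 g → tieo_E act Ω0 Ω1 g⁻¹ := by
    intro g hg hE
    rcases hP g⁻¹ (inv_mem hg) with h | h
    · exact h
    · exfalso
      have := tieo_EO hm hE h
      rw [mul_inv_cancel] at this
      exact hO1 this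
  have hOinv : ∀ g ∈ Subgroup.closure k, tieo_O act Ω0 Ω1 g → tieo_O act Ω0 Ω1 g⁻¹ := by
    intro g hg hO
    rcases hP g⁻¹ (inv_mem hg) with h | h
    · exfalso
      have := tieo_OE hm hO h
      rw [mul_inv_cancel] at this
      exact hO1 this
    · exact h
  have hnotboth : ∀ g ∈ Subgroup.closure k, tieo_E act Ω0 Ω1 g → tieo_O act Ω0 Ω1 g → False := by
    intro g hg hE hO
    have := tieo_EO hm hE (hOinv g hg hO)
    rw [mul_inv_cancel] at this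
    exact hO1 this
  -- the even elements form a subgroup of the closure
  let K : Subgroup ↥(Subgroup.closure k) :=
    { carrier := {g | tieo_E act Ω0 Ω1 (g : Γ)}
      mul_mem' := fun {a b} ha hb => by
        show tieo_E act Ω0 Ω1 ((a * b : ↥(Subgroup.closure k)) : Γ)
        rw [Subgroup.coe_mul]
        exact tieo_EE hm ha hb
      one_mem' := by
        show tieo_E act Ω0 Ω1 ((1 : ↥(Subgroup.closure k)) : Γ)
        rw [Subgroup.coe_one]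
        exact hE1
      inv_mem' := fun {a} ha => by
        show tieo_E act Ω0 Ω1 ((a⁻¹ : ↥(Subgroup.closure k)) : Γ)
        rw [Subgroup.coe_inv]
        exact hEinv a a.2 ha }
  have hKmem : ∀ g : ↥(Subgroup.closure k), g ∈ K ↔ tieo_E act Ω0 Ω1 (g : Γ) := fun g => Iff.rfl
  have hcomm : commutator ↥(Subgroup.closure k) ≤ K := by
    rw [commutator_def, Subgroup.commutator_le]
    intro a _ b _
    rw [hKmem, commutatorElement_def]
    simp only [Subgroup.coe_mul, Subgroup.coe_inv]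
    rcases hP a a.2 with ha | ha <;> rcases hP b b.2 with hb | hb
    · exact tieo_EE hm (tieo_EE hm (tieo_EE hm ha hb) (hEinv _ a.2 ha)) (hEinv _ b.2 hb)
    · exact tieo_OO hm (tieo_OE hm (tieo_EO hm ha hb) (hEinv _ a.2 ha)) (hOinv _ b.2 hb)
    · exact tieo_EE hm (tieo_OO hm (tieo_OE hm ha hb) (hOinv _ a.2 ha)) (hEinv _ b.2 hb)
    · exact tieo_OO hm (tieo_EO hm (tieo_OO hm ha hb) (hOinv _ a.2 ha)) (hOinv _ b.2 hb)
  intro htop
  have hcK : (⟨c, hc⟩ : ↥(Subgroup.closure k)) ∈ K := hcomm (by rw [htop]; exact Subgroup.mem_top _)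
  exact hnotboth c hc ((hKmem _).1 hcK) hodd

end Cfsg.Agent.Lib.Helper31.Ti
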