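import Cfsg.Agent.Lib.Helper31.TiDefs

/-!
# Ti mini-hive (S1074, owner helper31): leaf TI-LOOK `look_mem`, `chk_sound`, `chkNot_sound`
-/

set_option autoImplicit false

namespace Cfsg.Agent.Lib.Helper31.Ti

open Cfsg Cfsg.Lie Cfsg.Agent.Lib.Helper36

theorem tilook_getD_mem {α : Type*} (l : List (List α)) (i : ℕ) (x : α) (hx : x ∈ l.getD i []) :
    l.getD i [] ∈ l := by
  by_cases hi : i < l.length
  · rw [List.getD_eq_getElem l [] hi]
    exact List.getElem_mem hi
  · rw [List.getD_eq_default l [] (not_lt.1 hi)] at hx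
    exact absurd hx (List.not_mem_nil)

theorem look_mem (T : Tab3) (w : ℕ) (h : look T w = true) : MemT T w := by
  unfold look at h
  have hw : w ∈ ((T.getD (w % 8191 % 16) []).getD (w % 8191 / 16 % 16) []).getD (w % 8191 / 256) [] :=
    List.contains_iff_mem.1 h
  have h3 := tilook_getD_mem _ _ _ hw
  have h2 := tilook_getD_mem _ _ _ h3
  have h1 := tilook_getD_mem _ _ _ h2
  exact ⟨_, h1, _, h2, _, h3, hw⟩

theorem chk_sound (R : List ℕ) (Ta Tb : Tab3) (h : chk R Ta Tb = true) (v : ℕ) (hv : MemT Ta v) :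
    MemT Tb (rmul v R 0) := by
  obtain ⟨l1, h1, l2, h2, b, h3, hvb⟩ := hv
  unfold chk at h
  rw [List.all_eq_true] at h
  have e1 := h l1 h1
  rw [List.all_eq_true] at e1
  have e2 := e1 l2 h2
  rw [List.all_eq_true] at e2
  have e3 := e2 b h3
  rw [List.all_eq_true] at e3
  exact look_mem Tb _ (e3 v hvb)

theorem chkNot_sound (x : ℕ) (T : Tab3) (h : chkNot x T = true) (v : ℕ) (hv : MemT T v) :
    v % 2 ^ 52 ≠ x % 2 ^ 52 := by
  obtain ⟨l1, h1, l2, h2, b, h3, hvb⟩ := hv
  unfold chkNot at h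
  rw [List.all_eq_true] at h
  have e1 := h l1 h1
  rw [List.all_eq_true] at e1
  have e2 := e1 l2 h2
  rw [List.all_eq_true] at e2
  have e3 := e2 b h3
  rw [List.all_eq_true] at e3
  have e4 := e3 v hvb
  exact bne_iff_ne.1 e4

end Cfsg.Agent.Lib.Helper31.Ti
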