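import Cfsg.Agent.Lib.Helper75.KleinCent
import Cfsg.Agent.Lib.Helper75.PNilPoint

/-!
# A5c hive (S3278, owner helper47): leaf A5c-SECT `sect_val`
-/

set_option autoImplicit false

universe u

namespace Cfsg.Agent.Lib.Helper47.A5c

open Cfsg Subgroup

/-- LEAF A5c-SECT. -/
theorem sect_val {G : Type u} [Group G] [Finite G] (M : Ideal AlgInt) (hM : IsPModular 2 M)
    (P : Sylow 2 G) (hP4 : Nat.card P = 4) (hexp : ∀ u ∈ (P : Subgroup G), u * u = 1)
    (z : G) (hzP : z ∈ (P : Subgroup G)) (hz1 : z ≠ 1) (χ : IrrCharacter G)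
    (hχ : χ ∈ principalBlock M G) (r : G) (hrz : r * z = z * r) (hr : Odd (orderOf r)) :
    (χ : G → ℂ) (z * r) = (χ : G → ℂ) z := by
  classical
  have : Fintype G := Fintype.ofFinite G
  have : Fintype (IrrCharacter G) := Fintype.ofFinite _
  have : Fact (Nat.Prime 2) := ⟨Nat.prime_two⟩
  have : Fintype (centralizer ({z} : Set G)) := Fintype.ofFinite _
  have : Fintype (IrrCharacter (centralizer ({z} : Set G))) := Fintype.ofFinite _
  have hzord : ∃ k : ℕ, orderOf z = 2 ^ k :=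
    ⟨1, by rw [pow_one]; exact orderOf_eq_prime (by rw [sq]; exact hexp z hzP) hz1⟩
  have hidx : ∃ k : ℕ, (Cfsg.pPrimeCore 2 (centralizer ({z} : Set G))).index = 2 ^ k :=
    ⟨2, by
      rw [Cfsg.Agent.Lib.Helper75.index_pPrimeCore_centralizer_klein P hP4 hexp hzP hz1]
      norm_num⟩
  have hrC : r ∈ centralizer ({z} : Set G) := by
    rw [mem_centralizer_singleton_iff]
    exact hrz
  have hy : ¬ 2 ∣ orderOf (⟨r, hrC⟩ : centralizer ({z} : Set G)) := by
    rw [Subgroup.orderOf_mk]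
    exact hr.not_two_dvd_nat
  exact Cfsg.Agent.Lib.Helper75.principalBlock_apply_section_of_pnilpotent hM hzord hidx χ hχ
    ⟨r, hrC⟩ hy

end Cfsg.Agent.Lib.Helper47.A5c
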