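import Cfsg.Agent.Lib.Helper33.Alperin

set_option autoImplicit false

namespace Cfsg.Agent.Lib.Helper33

variable {G : Type*} [Group G]

/-- `SReach St A g`: the right conjugation of `A` by `g` can be performed step by step, each step
`(T, x)` satisfying the predicate `St` and the current set lying in `T`. -/
inductive SReach (St : Subgroup G → G → Prop) : Set G → G → Prop
  | nil (A : Set G) : SReach St A 1
  | cons (A : Set G) (T : Subgroup G) (x g : G) : St T x →
      A ⊆ T → SReach St (rc x A) g → SReach St A (x * g)

variable {St : Subgroup G → G → Prop}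

theorem SReach.mono {A B : Set G} {g : G} (h : SReach St A g) (hBA : B ⊆ A) : SReach St B g := by
  induction h generalizing B with
  | nil A => exact SReach.nil B
  | cons A T x g hT hA _ ih =>
    exact SReach.cons B T x g hT (hBA.trans hA) (ih (rc_mono hBA))

theorem SReach.single {A : Set G} {T : Subgroup G} {x : G} (hT : St T x)
    (hA : A ⊆ T) : SReach St A x := by
  have := SReach.cons A T x 1 hT hA (SReach.nil _)
  simpa using this

theorem SReach.trans {A : Set G} {g h : G} (h1 : SReach St A g) (h2 : SReach St (rc g A) h) :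
    SReach St A (g * h) := by
  induction h1 generalizing h with
  | nil A => simpa using h2
  | cons A T x g hT hA _ ih =>
    rw [mul_assoc]
    apply SReach.cons A T x (g * h) hT hA
    apply ih
    rwa [rc_mul] at h2

theorem SReach.symm (hN : ∀ T x, St T x → x ∈ Subgroup.normalizer (T : Set G))
    (hinv : ∀ T x, St T x → St T x⁻¹) {A : Set G} {g : G} (h1 : SReach St A g) :
    SReach St (rc g A) g⁻¹ := by
  induction h1 with
  | nil A => simpa using SReach.nil (St := St) A
  | cons A T x g hT hA _ ih =>
    rw [mul_inv_rev, rc_mul]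
    apply SReach.trans ih
    rw [← rc_mul, mul_inv_cancel, rc_one]
    exact SReach.single (hinv T x hT) (rc_subset_of_mem_normalizer (hN T x hT) hA)

theorem SReach.cast {A B : Set G} {g h : G} (h1 : SReach St A g) (hAB : A = B) (hgh : g = h) :
    SReach St B h := by
  subst hAB; subst hgh; exact h1

/-- A `Reach` through `𝓕` whose steps (at members of order at least `c`) are `SReach` is `SReach`. -/
theorem SReach.of_reach [Finite G] {𝓕 : Set (Subgroup G)} {c : ℕ}
    (hstep : ∀ T ∈ 𝓕, c ≤ Nat.card T → ∀ x ∈ Subgroup.normalizer (T : Set G),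
      SReach St (T : Set G) x) {A : Set G} {g : G} (h : Reach 𝓕 A g)
    (hc : c ≤ Nat.card (Subgroup.closure A)) : SReach St A g := by
  induction h with
  | nil A => exact SReach.nil A
  | cons A T x g hT hx hA _ ih =>
    have hle : Subgroup.closure A ≤ T := (Subgroup.closure_le T).mpr hA
    have hcT : c ≤ Nat.card T := le_trans hc (Subgroup.card_le_of_le hle)
    have h1 : SReach St A x := (hstep T hT hcT x hx).mono hA
    apply h1.trans
    apply ih
    rw [closure_rc, card_cj]
    exact hc

/-- Conversion of `SReach` to a `Fin`-indexed format. -/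
theorem SReach.toFin {A : Set G} {g : G} (h : SReach St A g) :
    ∃ (n : ℕ) (T : Fin n → Subgroup G) (x : Fin n → G), (List.ofFn x).prod = g ∧
      (∀ i, St (T i) (x i)) ∧
      (∀ h : 0 < n, A ⊆ T ⟨0, h⟩) ∧
      ∀ (i : Fin n) (h : i.val + 1 < n),
        (fun a => (((List.ofFn x).take (i.val + 1)).prod)⁻¹ * a * ((List.ofFn x).take (i.val + 1)).prod) '' A ⊆
          T ⟨i.val + 1, h⟩ := by
  induction h with
  | nil A =>
    refine ⟨0, Fin.elim0, Fin.elim0, by simp, fun i => i.elim0, ?_, fun i => i.elim0⟩
    intro h; exact absurd h (lt_irrefl 0)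
  | cons A T0 x0 g hT hA _ ih =>
    obtain ⟨n, T, x, hprod, hTm, h0, hstep⟩ := ih
    refine ⟨n + 1, Fin.cons T0 T, Fin.cons x0 x, ?_, ?_, ?_, ?_⟩
    · rw [List.ofFn_cons, List.prod_cons, hprod]
    · intro i
      refine Fin.cases ?_ ?_ i
      · simpa using hT
      · intro j; simpa using hTm j
    · intro _
      exact hA
    · intro i hi
      rw [List.ofFn_cons, List.take_succ_cons, List.prod_cons]
      rcases i with ⟨i, hi'⟩
      cases i with
      | zero =>
        have hn : 0 < n := by simpa using hi
        have := h0 hn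
        simp only [List.take_zero, List.prod_nil, mul_one]
        have e : (⟨0 + 1, hi⟩ : Fin (n + 1)) = Fin.succ ⟨0, hn⟩ := rfl
        rw [e, Fin.cons_succ]
        exact this
      | succ j =>
        have hj : j + 1 < n := by simpa using hi
        have hj' : j < n := by omega
        have := hstep ⟨j, hj'⟩ hj
        have e : (⟨j + 1 + 1, hi⟩ : Fin (n + 1)) = Fin.succ ⟨j + 1, hj⟩ := rfl
        rw [e, Fin.cons_succ]
        rintro _ ⟨a, ha, rfl⟩
        apply this
        refine ⟨x0⁻¹ * a * x0, conj_mem_rc ha, ?_⟩
        simp only [mul_inv_rev, mul_assoc]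

end Cfsg.Agent.Lib.Helper33
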