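import Cfsg.Agent.Lib.Helper33.Tame
import Cfsg.Agent.Lib.Helper33.SReach

set_option autoImplicit false

namespace Cfsg.Agent.Lib.Helper33

variable {G : Type*} [Group G]

/-- A tame step: `T = P ∩ Q` is a tame Sylow intersection, `x ∈ N(T)`, and `x` is a `p`-element
unless `Q = P`. -/
def TStep {p : ℕ} (P : Sylow p G) (T : Subgroup G) (x : G) : Prop :=
  ∃ Q : Sylow p G, T = (P : Subgroup G) ⊓ (Q : Subgroup G) ∧
    x ∈ Subgroup.normalizer (T : Set G) ∧ FN p (P : Subgroup G) T ∧ FN p (Q : Subgroup G) T ∧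
    ((Q : Subgroup G) = (P : Subgroup G) ∨ ∃ k : ℕ, orderOf x = p ^ k)

theorem TStep.normalizer {p : ℕ} {P : Sylow p G} {T : Subgroup G} {x : G} (h : TStep P T x) :
    x ∈ Subgroup.normalizer (T : Set G) := by
  obtain ⟨Q, -, hx, -⟩ := h
  exact hx

theorem TStep.inv {p : ℕ} {P : Sylow p G} {T : Subgroup G} {x : G} (h : TStep P T x) :
    TStep P T x⁻¹ := by
  obtain ⟨Q, hT, hx, h1, h2, h3⟩ := h
  refine ⟨Q, hT, inv_mem hx, h1, h2, ?_⟩
  rw [orderOf_inv]
  exact h3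

theorem orderOf_eq_pow_of_mem {p : ℕ} [hp : Fact p.Prime] {H : Subgroup G} (hH : IsPGroup p H)
    {x : G} (hx : x ∈ H) : ∃ k : ℕ, orderOf x = p ^ k := by
  obtain ⟨k, hk⟩ := hH ⟨x, hx⟩
  have h1 : x ^ (p ^ k) = 1 := by
    have := congrArg Subtype.val hk
    simpa using this
  have h2 : orderOf x ∣ p ^ k := orderOf_dvd_of_pow_eq_one h1
  obtain ⟨j, -, hj⟩ := (Nat.dvd_prime_pow hp.out).mp h2
  exact ⟨j, hj⟩

/-- The fully normalized subgroups of `P`. -/
def fnFamily {p : ℕ} (P : Sylow p G) : Set (Subgroup G) :=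
  {V | V ≤ (P : Subgroup G) ∧ FN p (P : Subgroup G) V}

theorem reach_fnFamily [Finite G] {p : ℕ} [Fact p.Prime] (P : Sylow p G) (A : Set G) (g : G)
    (hA : A ⊆ (P : Subgroup G)) (hAg : rc g A ⊆ (P : Subgroup G)) : Reach (fnFamily P) A g := by
  apply reach_of_fullyNormalized P (fnFamily P) (fun U hU => hU.1) ?_ A g hA hAg
  intro T hT
  obtain ⟨c, hc1, hc2, -⟩ := exists_fn_conj P T hT
  exact ⟨cj c T, ⟨hc1, hc2⟩, ⟨c, rfl⟩, hc2⟩

/-- Main step: conjugation inside the normalizer of a fully normalized subgroup is a product of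
tame steps. -/
theorem sreach_of_fn [Finite G] {p : ℕ} [Fact p.Prime] (P : Sylow p G) (U : Subgroup G)
    (hUP : U ≤ (P : Subgroup G)) (hfn : FN p (P : Subgroup G) U) (x : G)
    (hx : x ∈ Subgroup.normalizer (U : Set G)) : SReach (TStep P) (U : Set G) x := by
  obtain ⟨d, hd⟩ : ∃ d, Nat.card (P : Subgroup G) - Nat.card U = d := ⟨_, rfl⟩
  induction d using Nat.strong_induction_on generalizing U x with
  | _ d ih =>
  by_cases hUeq : U = (P : Subgroup G)
  · refine SReach.single (T := U) ⟨P, ?_, hx, hfn, ?_, Or.inl rfl⟩ (le_refl _)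
    · rw [hUeq, inf_idem]
    · rw [hUeq] at hfn ⊢; exact hfn
  have hUlt : U < (P : Subgroup G) := lt_of_le_of_ne hUP hUeq
  obtain ⟨N, hN⟩ : ∃ N, N = Subgroup.normalizer (U : Set G) := ⟨_, rfl⟩
  obtain ⟨R, hR⟩ : ∃ R, R = (P : Subgroup G) ⊓ N := ⟨_, rfl⟩
  have hRN : R ≤ N := hR ▸ inf_le_right
  have hRP : R ≤ (P : Subgroup G) := hR ▸ inf_le_left
  have hRp : IsPGroup p R := P.isPGroup'.to_le hRP
  have hRi : ¬ p ∣ R.relIndex N := by rw [hR, hN]; exact hfn
  have hUR : U ≤ R := by rw [hR, hN]; exact le_inf hUP Subgroup.le_normalizer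
  have hURlt : U < R := by
    have := normalizer_growth P.isPGroup' hUlt
    rwa [← hN, ← hR] at this
  have hUN : N ≤ Subgroup.normalizer (U : Set G) := hN.le
  have hrcU : ∀ z ∈ N, rc z (U : Set G) = (U : Set G) := by
    intro z hz
    rw [rc_coe]
    have : cj z⁻¹ U = U := cj_eq_self_iff.mpr (inv_mem (hN ▸ hz))
    rw [this]
  -- the subgroup of good elements
  let 𝒢 : Subgroup G :=
    { carrier := {z | z ∈ N ∧ SReach (TStep P) (U : Set G) z}
      one_mem' := ⟨one_mem N, SReach.nil _⟩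
      mul_mem' := by
        rintro a b ⟨ha1, ha2⟩ ⟨hb1, hb2⟩
        refine ⟨mul_mem ha1 hb1, ha2.trans ?_⟩
        rw [hrcU a ha1]; exact hb2
      inv_mem' := by
        rintro a ⟨ha1, ha2⟩
        refine ⟨inv_mem ha1, ?_⟩
        have := ha2.symm (fun T x h => h.normalizer) (fun T x h => h.inv)
        rwa [hrcU a ha1] at this }
  have h𝒢 : ∀ z, z ∈ 𝒢 ↔ z ∈ N ∧ SReach (TStep P) (U : Set G) z := fun z => Iff.rfl
  -- consequence of the induction hypothesis
  have hC1 : ∀ T : Subgroup G, U < T → T ≤ (P : Subgroup G) →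
      ∀ z ∈ Subgroup.normalizer (T : Set G), SReach (TStep P) (T : Set G) z := by
    intro T hUT hTP z hz
    have hreach : Reach (fnFamily P) (T : Set G) z := by
      apply reach_fnFamily P _ _ hTP
      rw [rc_coe]
      have : cj z⁻¹ T = T := cj_eq_self_iff.mpr (inv_mem hz)
      rw [this]; exact hTP
    apply SReach.of_reach (c := Nat.card U + 1) ?_ hreach
    · rw [Subgroup.closure_eq]
      exact Set.Finite.card_lt_card (Set.toFinite _) hUT
    · intro V hV hcV y hy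
      have hVP : Nat.card V ≤ Nat.card (P : Subgroup G) := Subgroup.card_le_of_le hV.1
      have hUPc : Nat.card U ≤ Nat.card (P : Subgroup G) := Subgroup.card_le_of_le hUP
      exact ih (Nat.card (P : Subgroup G) - Nat.card V) (by omega) V hV.1 hV.2 y hy rfl
  have hM : ∀ T : Subgroup G, U < T → T ≤ R → N ⊓ Subgroup.normalizer (T : Set G) ≤ 𝒢 := by
    intro T hUT hTR z hz
    rw [h𝒢]
    exact ⟨hz.1, (hC1 T hUT (le_trans hTR hRP) z hz.2).mono hUT.le⟩
  have hSE : ∀ n ∈ N, U < R ⊓ cj n R → n ∈ 𝒢 :=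
    fun n hn hlt => mem_of_inf_cj_gt hRN hRp hRi hUR hUN hM n hn hlt
  have hR𝒢 : R ≤ 𝒢 := by
    intro z hz
    exact hM R hURlt le_rfl ⟨hRN hz, Subgroup.le_normalizer hz⟩
  have hall : ∀ n ∈ N, cj n R ≤ 𝒢 := by
    intro n hn
    have hnU : cj n U = U := cj_eq_self_iff.mpr (hN ▸ hn)
    have hle : U ≤ R ⊓ cj n R := le_inf hUR (by rw [← hnU]; exact cj_mono hUR)
    rcases eq_or_lt_of_le hle with heq | hlt
    · -- tame intersection
      have hn' : n ∈ Subgroup.normalizer (U : Set G) := hN ▸ hn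
      have heq' : ((P : Subgroup G) ⊓ Subgroup.normalizer (U : Set G)) ⊓
          cj n ((P : Subgroup G) ⊓ Subgroup.normalizer (U : Set G)) = U := by
        rw [← hN, ← hR]; exact heq.symm
      obtain ⟨ht1, ht2⟩ := tame_of_inf_eq P hUP hfn hn' heq'
      intro y hy
      rw [h𝒢]
      have hyN : y ∈ N := by
        have : cj n R ≤ cj n N := cj_mono hRN
        rw [cj_eq_self_of_mem hn] at this
        exact this hy
      refine ⟨hyN, ?_⟩
      have hyP : y ∈ cj n (P : Subgroup G) := cj_mono hRP hy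
      refine SReach.single (T := U) ⟨n • P, ?_, hN ▸ hyN, hfn, ?_, Or.inr ?_⟩ (le_refl _)
      · rw [sylow_coe_smul]; exact ht1.symm
      · rw [sylow_coe_smul]; exact ht2
      · exact orderOf_eq_pow_of_mem (isPGroup_cj P.isPGroup') hyP
    · have hn𝒢 := hSE n hn hlt
      intro y hy
      rw [mem_cj] at hy
      have h1 : n⁻¹ * y * n ∈ 𝒢 := hR𝒢 hy
      have e : y = n * (n⁻¹ * y * n) * n⁻¹ := by group
      rw [e]
      exact mul_mem (mul_mem hn𝒢 h1) (inv_mem hn𝒢)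
  -- Frattini argument
  obtain ⟨K, hK⟩ : ∃ K : Subgroup G, K = sSup {H | ∃ n ∈ N, H = cj n R} := ⟨_, rfl⟩
  have hK𝒢 : K ≤ 𝒢 := by
    rw [hK]
    apply sSup_le
    rintro H ⟨n, hn, rfl⟩
    exact hall n hn
  have hKN : K ≤ N := by
    rw [hK]
    apply sSup_le
    rintro H ⟨n, hn, rfl⟩
    have : cj n R ≤ cj n N := cj_mono hRN
    rwa [cj_eq_self_of_mem hn] at this
  have hcjK : ∀ n ∈ N, cj n R ≤ K := by
    intro n hn
    rw [hK]
    exact le_sSup ⟨n, hn, rfl⟩
  have hRK : R ≤ K := by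
    have := hcjK 1 (one_mem N)
    rwa [cj_one] at this
  have hRiK : ¬ p ∣ R.relIndex K := by
    intro hdvd
    apply hRi
    rw [← Subgroup.relIndex_mul_relIndex R K N hRK hKN]
    exact Dvd.dvd.mul_right hdvd _
  have hxN : x ∈ N := hN ▸ hx
  obtain ⟨k, hk, hle⟩ := sylow_sub hRK hRp hRiK (hcjK x hxN) (isPGroup_cj hRp)
  rw [← cj_mul] at hle
  have heq : cj (k * x) R = R := Subgroup.eq_of_le_of_card_ge hle (by rw [card_cj])
  have hkx : k * x ∈ 𝒢 :=
    hM R hURlt le_rfl ⟨mul_mem (hKN hk) hxN, cj_eq_self_iff.mp heq⟩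
  have hx𝒢 : x ∈ 𝒢 := by
    have e : x = k⁻¹ * (k * x) := by group
    rw [e]
    exact mul_mem (inv_mem (hK𝒢 hk)) hkx
  exact ((h𝒢 x).mp hx𝒢).2

/-- **Alperin's fusion theorem** with tame intersections and `p`-elements. -/
theorem alperin_tame [Finite G] {p : ℕ} [Fact p.Prime] (P : Sylow p G) (A : Set G) (g : G)
    (hA : A ⊆ (P : Subgroup G)) (hAg : rc g A ⊆ (P : Subgroup G)) : SReach (TStep P) A g := by
  apply SReach.of_reach (c := 0) ?_ (reach_fnFamily P A g hA hAg) (Nat.zero_le _)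
  intro V hV _ x hx
  exact sreach_of_fn P V hV.1 hV.2 x hx

end Cfsg.Agent.Lib.Helper33
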