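import Mathlib
import Cfsg.Agent.Lib.Helper87.AltModel

set_option autoImplicit false

/-! # S5165 leaf At1 (helper33): a nontrivial closed family of `2`-elements of `Alt(Z)` contains every
product of two disjoint transpositions.  Also general tools (`at1_…`) reused by leaf At2. -/

namespace Cfsg.Agent.Lib.Helper87.AltF

open Equiv Equiv.Perm

/-- `zpowers` of an element killed by `2 ^ k` is a `2`-group. -/
theorem at1_isPGroup_zpowers {Ω : Type*} [Group Ω] {x : Ω} {k : ℕ} (hx : x ^ 2 ^ k = 1) :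
    IsPGroup 2 (↥(Subgroup.zpowers x)) := by
  rintro ⟨g, hg⟩
  obtain ⟨n, rfl⟩ := Subgroup.mem_zpowers_iff.mp hg
  refine ⟨k, Subtype.ext ?_⟩
  show (x ^ n) ^ 2 ^ k = 1
  rw [← zpow_natCast, ← zpow_mul, mul_comm, zpow_mul, zpow_natCast, hx, one_zpow]

/-- the join of two `2`-subgroups commuting elementwise is a `2`-group. -/
theorem at1_isPGroup_sup {Ω : Type*} [Group Ω] {H K : Subgroup Ω} (hH : IsPGroup 2 H)
    (hK : IsPGroup 2 K) (hc : ∀ h ∈ H, ∀ k ∈ K, h * k = k * h) : IsPGroup 2 (↥(H ⊔ K)) := by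
  apply IsPGroup.to_sup_of_normal_right' hH hK
  intro h hh
  apply Subgroup.centralizer_le_normalizer (K : Set Ω)
  rw [Subgroup.mem_centralizer_iff]
  intro k hk
  exact (hc h hh k hk).symm

/-- two commuting elements generate a join of `zpowers` commuting elementwise. -/
theorem at1_zpowers_commute {Ω : Type*} [Group Ω] {x y : Ω} (hxy : x * y = y * x) :
    ∀ h ∈ Subgroup.zpowers x, ∀ k ∈ Subgroup.zpowers y, h * k = k * h := by
  intro h hh k hk
  obtain ⟨n, rfl⟩ := Subgroup.mem_zpowers_iff.mp hh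
  obtain ⟨m, rfl⟩ := Subgroup.mem_zpowers_iff.mp hk
  exact ((show Commute x y from hxy).zpow_zpow n m).eq

/-- two commuting involutions generate a `2`-group. -/
theorem at1_isPGroup_pair {Ω : Type*} [Group Ω] {x y : Ω} (hx : x * x = 1) (hy : y * y = 1)
    (hxy : x * y = y * x) : IsPGroup 2 (↥(Subgroup.zpowers x ⊔ Subgroup.zpowers y)) := by
  apply at1_isPGroup_sup
  · exact at1_isPGroup_zpowers (k := 1) (by simpa [pow_two] using hx)
  · exact at1_isPGroup_zpowers (k := 1) (by simpa [pow_two] using hy)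
  · exact at1_zpowers_commute hxy

/-- in a closed family, the product of two commuting involutions of the family lying in `A` is in
the family. -/
theorem at1_mul_mem {Ω : Type*} [Group Ω] {A : Subgroup Ω} {𝒯 : Set Ω} (h𝒯 : ClosedFam 2 A 𝒯)
    {x y : Ω} (hx : x * x = 1) (hy : y * y = 1) (hxy : x * y = y * x) (hx𝒯 : x ∈ 𝒯)
    (hy𝒯 : y ∈ 𝒯) : x * y ∈ 𝒯 := by
  obtain ⟨-, hA, -, hmul, -⟩ := h𝒯
  refine hmul (Subgroup.zpowers x ⊔ Subgroup.zpowers y) (at1_isPGroup_pair hx hy hxy) ?_ x ?_ y ?_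
    hx𝒯 hy𝒯
  · exact sup_le ((Subgroup.zpowers_le).mpr (hA x hx𝒯).1) ((Subgroup.zpowers_le).mpr (hA y hy𝒯).1)
  · exact (le_sup_left : Subgroup.zpowers x ≤ _) (Subgroup.mem_zpowers x)
  · exact (le_sup_right : Subgroup.zpowers y ≤ _) (Subgroup.mem_zpowers y)

/-- an even involution `≠ 1` moves two points `x₁, x₂` in different `2`-cycles. -/
theorem at1_exists_two {Z : Type} [Fintype Z] [DecidableEq Z] {w : Perm Z} (hw2 : w * w = 1)
    (hs : Perm.sign w = 1) (hw1 : w ≠ 1) :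
    ∃ x₁ x₂ : Z, w x₁ ≠ x₁ ∧ w x₂ ≠ x₂ ∧ x₂ ≠ x₁ ∧ x₂ ≠ w x₁ := by
  obtain ⟨x₁, hx₁⟩ : ∃ x, w x ≠ x := by
    by_contra h
    push Not at h
    exact hw1 (Equiv.ext h)
  by_contra hcon
  push Not at hcon
  have hww : ∀ z, w (w z) = z := fun z => by
    have := congrArg (fun f : Perm Z => f z) hw2
    simpa using this
  have hw : w = swap x₁ (w x₁) := by
    ext z
    by_cases h1 : z = x₁
    · subst h1; simp
    by_cases h2 : z = w x₁
    · subst h2; simp [hww]
    · rw [swap_apply_of_ne_of_ne h1 h2]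
      by_contra hz
      exact h2 (hcon x₁ z hx₁ hz h1)
  rw [hw, sign_swap hx₁.symm] at hs
  exact absurd hs (by decide)

/-- the four points of `at1_exists_two` are pairwise distinct. -/
theorem at1_four_distinct {Z : Type} {w : Perm Z} (hww : ∀ z, w (w z) = z) {x₁ x₂ : Z}
    (h1 : w x₁ ≠ x₁) (h2 : w x₂ ≠ x₂) (h3 : x₂ ≠ x₁) (h4 : x₂ ≠ w x₁) :
    x₁ ≠ w x₁ ∧ x₂ ≠ w x₂ ∧ x₁ ≠ x₂ ∧ x₁ ≠ w x₂ ∧ w x₁ ≠ x₂ ∧ w x₁ ≠ w x₂ := by
  refine ⟨h1.symm, h2.symm, h3.symm, ?_, h4.symm, ?_⟩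
  · intro h
    apply h4
    rw [h, hww]
  · intro h
    exact h3 (w.injective h).symm

/-- key computation: `t * (g t g⁻¹)` for the `3`-cycle `g = (x₁ x₂ y₂)`. -/
theorem at1_key {Z : Type} [DecidableEq Z] {t : Perm Z} (hww : ∀ z, t (t z) = z) {a c : Z}
    (hab : a ≠ t a) (hcd : c ≠ t c) (hac : a ≠ c) (had : a ≠ t c) (hbc : t a ≠ c)
    (hbd : t a ≠ t c) :
    t * ((swap a c * swap c (t c)) * t * (swap a c * swap c (t c))⁻¹) =
      swap a c * swap (t a) (t c) := by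
  have hta : t (t a) = a := hww a
  have htc : t (t c) = c := hww c
  have hab' := hab.symm
  have hcd' := hcd.symm
  have hac' := hac.symm
  have had' := had.symm
  have hbc' := hbc.symm
  have hbd' := hbd.symm
  ext z
  simp only [Perm.mul_apply, mul_inv_rev, swap_inv]
  by_cases hza : z = a
  · subst hza
    simp [swap_apply_of_ne_of_ne, *]
  by_cases hzb : z = t a
  · subst hzb
    simp [swap_apply_of_ne_of_ne, *]
  by_cases hzc : z = c
  · subst hzc
    simp [swap_apply_of_ne_of_ne, *]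
  by_cases hzd : z = t c
  · subst hzd
    simp [swap_apply_of_ne_of_ne, *]
  · have h1 : t z ≠ a := fun h => hzb (by rw [← h, hww])
    have h2 : t z ≠ t a := fun h => hza (t.injective h)
    have h3 : t z ≠ c := fun h => hzd (by rw [← h, hww])
    have h4 : t z ≠ t c := fun h => hzc (t.injective h)
    simp [swap_apply_of_ne_of_ne, *]

/-- conjugating a product of two swaps. -/
theorem at1_conj_swaps {Z : Type} [DecidableEq Z] (h : Perm Z) (a b c d : Z) :
    h * (swap a b * swap c d) * h⁻¹ = swap (h a) (h b) * swap (h c) (h d) := by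
  rw [swap_apply_apply, swap_apply_apply]
  group

/-- all products of two disjoint transpositions are conjugate under the alternating group. -/
theorem at1_exists_conj {Z : Type} [Fintype Z] [DecidableEq Z] {p q r s a b c d : Z}
    (hpq : p ≠ q) (hrs : r ≠ s) (hpr : p ≠ r) (hps : p ≠ s) (hqr : q ≠ r) (hqs : q ≠ s)
    (hab : a ≠ b) (hcd : c ≠ d) (hac : a ≠ c) (had : a ≠ d) (hbc : b ≠ c) (hbd : b ≠ d) :
    ∃ h ∈ alternatingGroup Z, h * (swap p q * swap r s) * h⁻¹ = swap a b * swap c d := by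
  let e₁ : Fin 4 ↪ Z := ⟨![p, q, r, s], by
    intro i j hij
    fin_cases i <;> fin_cases j <;> simp_all⟩
  let e₂ : Fin 4 ↪ Z := ⟨![a, b, c, d], by
    intro i j hij
    fin_cases i <;> fin_cases j <;> simp_all⟩
  obtain ⟨σ, hσ⟩ := Equiv.Perm.exists_smul_eq_embedding e₁ e₂
  have h0 : σ p = a := by
    have := congrArg (fun e : Fin 4 ↪ Z => e 0) hσ
    exact this
  have h1 : σ q = b := by
    have := congrArg (fun e : Fin 4 ↪ Z => e 1) hσ
    exact this
  have h2 : σ r = c := by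
    have := congrArg (fun e : Fin 4 ↪ Z => e 2) hσ
    exact this
  have h3 : σ s = d := by
    have := congrArg (fun e : Fin 4 ↪ Z => e 3) hσ
    exact this
  rcases Int.units_eq_one_or (Perm.sign σ) with hs | hs
  · refine ⟨σ, (Equiv.Perm.mem_alternatingGroup).mpr hs, ?_⟩
    rw [at1_conj_swaps, h0, h1, h2, h3]
  · refine ⟨σ * swap p q, ?_, ?_⟩
    · rw [Equiv.Perm.mem_alternatingGroup, Perm.sign_mul, hs, Perm.sign_swap hpq]
      decide
    · rw [at1_conj_swaps]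
      simp only [Perm.mul_apply, swap_apply_left, swap_apply_right,
        swap_apply_of_ne_of_ne hpr.symm hqr.symm, swap_apply_of_ne_of_ne hps.symm hqs.symm,
        h0, h1, h2, h3]
      rw [swap_comm b a]

/-- an element `≠ 1` of `2`-power order has a power which is an involution. -/
theorem at1_exists_involution {Ω : Type*} [Group Ω] {y : Ω} {k : ℕ} (hk : orderOf y = 2 ^ k)
    (hy : y ≠ 1) : ∃ m : ℕ, (y ^ m) * (y ^ m) = 1 ∧ y ^ m ≠ 1 := by
  have hk0 : k ≠ 0 := by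
    rintro rfl
    rw [pow_zero, orderOf_eq_one_iff] at hk
    exact hy hk
  obtain ⟨l, rfl⟩ := Nat.exists_eq_succ_of_ne_zero hk0
  refine ⟨2 ^ l, ?_, ?_⟩
  · rw [← pow_add, ← two_mul, ← pow_succ', ← hk, pow_orderOf_eq_one]
  · apply pow_ne_one_of_lt_orderOf (by positivity)
    rw [hk]
    exact Nat.pow_lt_pow_right (by norm_num) (Nat.lt_succ_self l)

set_option linter.unusedVariables false in
/-- [At1] (`p = 2`, `|Z| ≥ 6`) a nontrivial closed family contains every product of two disjoint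
transpositions. -/
theorem closedFam_dblswap_mem (Z : Type) [Fintype Z] [DecidableEq Z]
    (hZ : 6 ≤ Fintype.card Z) (𝒯 : Set (Perm Z))
    (h𝒯 : ClosedFam 2 (alternatingGroup Z) 𝒯) (hne : ∃ y ∈ 𝒯, y ≠ 1) :
    ∀ a b c d : Z, a ≠ b → c ≠ d → a ≠ c → a ≠ d → b ≠ c → b ≠ d →
      Equiv.swap a b * Equiv.swap c d ∈ 𝒯 := by
  obtain ⟨y, hy, hy1⟩ := hne
  have h𝒯' := h𝒯
  obtain ⟨-, hA, hconj, -, hpow⟩ := h𝒯'
  obtain ⟨k, hk⟩ := (hA y hy).2
  obtain ⟨m, htt, ht1⟩ := at1_exists_involution hk hy1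
  set t := y ^ m with ht
  have ht𝒯 : t ∈ 𝒯 := hpow y hy m
  have htA : t ∈ alternatingGroup Z := (hA t ht𝒯).1
  have hsign : Perm.sign t = 1 := Equiv.Perm.mem_alternatingGroup.mp htA
  have hww : ∀ z, t (t z) = z := fun z => by
    have := congrArg (fun f : Perm Z => f z) htt
    simpa using this
  obtain ⟨x₁, x₂, h1, h2, h3, h4⟩ := at1_exists_two htt hsign ht1
  obtain ⟨d1, d2, d3, d4, d5, d6⟩ := at1_four_distinct hww h1 h2 h3 h4
  -- the conjugating 3-cycle
  set g : Perm Z := swap x₁ x₂ * swap x₂ (t x₂) with hg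
  have hgA : g ∈ alternatingGroup Z := by
    rw [Equiv.Perm.mem_alternatingGroup, hg, Perm.sign_mul, Perm.sign_swap d3, Perm.sign_swap d2]
    decide
  have ht'𝒯 : g * t * g⁻¹ ∈ 𝒯 := hconj t ht𝒯 g hgA
  have hkey : t * (g * t * g⁻¹) = swap x₁ x₂ * swap (t x₁) (t x₂) :=
    at1_key hww d1 d2 d3 d4 d5 d6
  have ht'2 : (g * t * g⁻¹) * (g * t * g⁻¹) = 1 := by
    have : (g * t * g⁻¹) * (g * t * g⁻¹) = g * (t * t) * g⁻¹ := by group
    rw [this, htt]; group
  -- the product is an involution, hence `t` and `t'` commute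
  have hss : (swap x₁ x₂ * swap (t x₁) (t x₂)) * (swap x₁ x₂ * swap (t x₁) (t x₂)) = 1 := by
    have hd : Perm.Disjoint (swap x₁ x₂) (swap (t x₁) (t x₂)) := by
      apply Equiv.Perm.disjoint_swap_swap
      simp only [List.nodup_cons, List.mem_cons, List.not_mem_nil,
        List.nodup_nil, not_or, or_false, not_false_eq_true, and_true]
      exact ⟨⟨d3, d1, d4⟩, ⟨d5.symm, d2⟩, d6⟩
    rw [mul_assoc, ← mul_assoc (swap (t x₁) (t x₂)), ← hd.commute.eq, mul_assoc,
      swap_mul_self, mul_one, swap_mul_self]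
  have hcomm : t * (g * t * g⁻¹) = (g * t * g⁻¹) * t := by
    have h5 : (t * (g * t * g⁻¹)) * (t * (g * t * g⁻¹)) = 1 := by rw [hkey]; exact hss
    have e1 : t⁻¹ = t := inv_eq_of_mul_eq_one_left htt
    have e2 : (g * t * g⁻¹)⁻¹ = g * t * g⁻¹ := inv_eq_of_mul_eq_one_left ht'2
    have e3 : (t * (g * t * g⁻¹))⁻¹ = t * (g * t * g⁻¹) := inv_eq_of_mul_eq_one_left h5
    calc t * (g * t * g⁻¹) = (t * (g * t * g⁻¹))⁻¹ := e3.symm
      _ = (g * t * g⁻¹)⁻¹ * t⁻¹ := mul_inv_rev _ _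
      _ = (g * t * g⁻¹) * t := by rw [e1, e2]
  have hmem : swap x₁ x₂ * swap (t x₁) (t x₂) ∈ 𝒯 := by
    rw [← hkey]
    exact at1_mul_mem h𝒯 htt ht'2 hcomm ht𝒯 ht'𝒯
  intro a b c d hab hcd hac had hbc hbd
  obtain ⟨h, hhA, hh⟩ := at1_exists_conj (p := x₁) (q := x₂) (r := t x₁) (s := t x₂)
    d3 d6 d1 d4 h4 d2 hab hcd hac had hbc hbd
  rw [← hh]
  exact hconj _ hmem h hhA

end Cfsg.Agent.Lib.Helper87.AltF
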