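import Mathlib
import Cfsg.Agent.Lib.Helper87.AltModel
import Cfsg.Agent.Lib.Helper33.AltFAt1

set_option autoImplicit false

/-! # S5165 leaf At2 (helper33): a closed family of `2`-elements of `Alt(Z)` containing all double
transpositions contains every product of two disjoint cycles of `2`-power lengths.

No induction on the length: every even involution is in the family (peel off double transpositions),
every cycle `c` has a reflection `a` (`a * a = 1`, `a * c * a⁻¹ = c⁻¹`, fixing the fixed points of `c`), so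
`c * c' = (a * a') * ((a * c) * (a' * c'))` is a product of two even involutions inside the `2`-group
`(⟨c, a⟩ ⊔ ⟨c', a'⟩) ⊓ Alt(Z)`. -/

namespace Cfsg.Agent.Lib.Helper87.AltF

open Equiv Equiv.Perm

open Classical in
/-- the reflection function of a permutation `c` about a point `x₀`. -/
noncomputable def at2_reflFun {Z : Type} (c : Perm Z) (x₀ : Z) (z : Z) : Z :=
  if h : c.SameCycle x₀ z then (c ^ (-(Classical.choose h))) x₀ else z

theorem at2_reflFun_zpow {Z : Type} (c : Perm Z) (x₀ : Z) (k : ℤ) :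
    at2_reflFun c x₀ ((c ^ k) x₀) = (c ^ (-k)) x₀ := by
  have h : c.SameCycle x₀ ((c ^ k) x₀) := ⟨k, rfl⟩
  unfold at2_reflFun
  rw [dif_pos h]
  have hi : (c ^ (Classical.choose h)) x₀ = (c ^ k) x₀ := Classical.choose_spec h
  set i := Classical.choose h with hi'
  -- apply c^(-i) * c^(-k) to both sides
  have := congrArg (fun z => (c ^ (-i)) ((c ^ (-k)) z)) hi
  simp only [← Perm.mul_apply, ← zpow_add] at this
  rw [show -i + (-k + i) = -k by ring, show -i + (-k + k) = -i by ring] at this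
  exact this.symm

theorem at2_reflFun_of_not {Z : Type} (c : Perm Z) (x₀ : Z) {z : Z} (h : ¬ c.SameCycle x₀ z) :
    at2_reflFun c x₀ z = z := by
  unfold at2_reflFun
  rw [dif_neg h]

theorem at2_reflFun_invol {Z : Type} (c : Perm Z) (x₀ : Z) :
    Function.Involutive (at2_reflFun c x₀) := by
  intro z
  by_cases h : c.SameCycle x₀ z
  · obtain ⟨k, rfl⟩ := h
    rw [at2_reflFun_zpow, at2_reflFun_zpow, neg_neg]
  · rw [at2_reflFun_of_not c x₀ h, at2_reflFun_of_not c x₀ h]

/-- a cycle has a reflection: an involution inverting it and fixing its fixed points. -/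
theorem at2_exists_reflection {Z : Type} (c : Equiv.Perm Z)
    (hc : c.IsCycle) :
    ∃ a : Equiv.Perm Z, a * a = 1 ∧ a * c * a⁻¹ = c⁻¹ ∧ ∀ z, c z = z → a z = z := by
  obtain ⟨x₀, hx₀, hall⟩ := hc
  have hoff : ∀ z, ¬ c.SameCycle x₀ z → c z = z := by
    intro z hz
    by_contra hcz
    exact hz (hall hcz)
  let a : Perm Z := (at2_reflFun_invol c x₀).toPerm
  have ha : ∀ z, a z = at2_reflFun c x₀ z := fun z => rfl
  have ha2 : a * a = 1 := by
    ext z
    rw [Perm.mul_apply, ha, ha, at2_reflFun_invol c x₀ z, Perm.one_apply]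
  have hfix : ∀ z, c z = z → a z = z := by
    intro z hz
    rw [ha]
    apply at2_reflFun_of_not
    intro hs
    exact hx₀ ((hs.apply_eq_self_iff).mpr hz)
  refine ⟨a, ha2, ?_, hfix⟩
  have hac : a * c = c⁻¹ * a := by
    ext z
    rw [Perm.mul_apply, Perm.mul_apply]
    by_cases h : c.SameCycle x₀ z
    · obtain ⟨k, rfl⟩ := h
      rw [ha, ha, at2_reflFun_zpow]
      have : c ((c ^ k) x₀) = (c ^ (1 + k)) x₀ := by
        rw [zpow_add, zpow_one, Perm.mul_apply]
      rw [this, at2_reflFun_zpow, show -(1 + k) = -1 + -k by ring, zpow_add, Perm.mul_apply,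
        zpow_neg_one]
    · have h' : ¬ c.SameCycle x₀ (c z) := by
        rw [hoff z h]; exact h
      rw [ha, ha, at2_reflFun_of_not c x₀ h', at2_reflFun_of_not c x₀ h, hoff z h]
      exact (Perm.eq_inv_iff_eq.mpr (hoff z h))
  calc a * c * a⁻¹ = c⁻¹ * a * a⁻¹ := by rw [hac]
    _ = c⁻¹ := by group

/-- `⟨x, r⟩` is a `2`-group when `x ^ 2 ^ k = 1`, `r * r = 1` and `r` inverts `x`. -/
theorem at2_isPGroup_dihedral {Ω : Type*} [Group Ω] {x r : Ω} {k : ℕ} (hx : x ^ 2 ^ k = 1)
    (hr : r * r = 1) (hrx : r * x * r⁻¹ = x⁻¹) :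
    IsPGroup 2 (↥(Subgroup.zpowers x ⊔ Subgroup.zpowers r)) := by
  apply IsPGroup.to_sup_of_normal_left' (at1_isPGroup_zpowers hx)
    (at1_isPGroup_zpowers (k := 1) (by simpa [pow_two] using hr))
  rw [Subgroup.zpowers_le, Subgroup.mem_normalizer_iff]
  have hrinv : r⁻¹ = r := inv_eq_of_mul_eq_one_left hr
  have key : ∀ h ∈ Subgroup.zpowers x, r * h * r⁻¹ ∈ Subgroup.zpowers x := by
    intro h hh
    obtain ⟨n, rfl⟩ := Subgroup.mem_zpowers_iff.mp hh
    have : r * x ^ n * r⁻¹ = (x⁻¹) ^ n := by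
      rw [← hrx]; exact (conj_zpow).symm
    rw [this]
    exact Subgroup.zpow_mem _ (Subgroup.inv_mem _ (Subgroup.mem_zpowers x)) n
  intro h
  constructor
  · exact key h
  · intro hh
    have h2 := key _ hh
    have e : r * (r * h * r⁻¹) * r⁻¹ = h := by
      rw [hrinv]
      calc r * (r * h * r) * r = (r * r) * h * (r * r) := by group
        _ = h := by rw [hr, one_mul, mul_one]
    rwa [e] at h2

/-- elementwise commutation of two joins of `zpowers`. -/
theorem at2_sup_commute {Ω : Type*} [Group Ω] {x y x' y' : Ω} (h1 : x * x' = x' * x)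
    (h2 : x * y' = y' * x) (h3 : y * x' = x' * y) (h4 : y * y' = y' * y) :
    ∀ h ∈ Subgroup.zpowers x ⊔ Subgroup.zpowers y,
      ∀ k ∈ Subgroup.zpowers x' ⊔ Subgroup.zpowers y', h * k = k * h := by
  have key : ∀ {u v w : Ω}, u * w = w * u → v * w = w * v →
      ∀ h ∈ Subgroup.zpowers u ⊔ Subgroup.zpowers v, h * w = w * h := by
    intro u v w huw hvw h hh
    have hle : Subgroup.zpowers u ⊔ Subgroup.zpowers v ≤ Subgroup.centralizer {w} := by
      apply sup_le
      · rw [Subgroup.zpowers_le, Subgroup.mem_centralizer_iff]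
        intro z hz
        rw [Set.mem_singleton_iff.mp hz]
        exact huw.symm
      · rw [Subgroup.zpowers_le, Subgroup.mem_centralizer_iff]
        intro z hz
        rw [Set.mem_singleton_iff.mp hz]
        exact hvw.symm
    have h5 := hle hh
    rw [Subgroup.mem_centralizer_iff] at h5
    exact (h5 w rfl).symm
  intro h hh k hk
  have hx' := key h1 h3 h hh
  have hy' := key h2 h4 h hh
  exact (key hx'.symm hy'.symm k hk).symm

/-- a cycle of `2`-power length is odd. -/
theorem at2_sign_cycle {Z : Type} [Fintype Z] [DecidableEq Z] {c : Perm Z} (hc : c.IsCycle)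
    {j : ℕ} (hj : c.support.card = 2 ^ j) : Perm.sign c = -1 := by
  have hj0 : j ≠ 0 := by
    rintro rfl
    have := hc.two_le_card_support
    rw [hj] at this
    norm_num at this
  rw [hc.sign, hj, Even.neg_one_pow (Nat.even_pow.mpr ⟨even_two, hj0⟩)]

/-- if `a` is a reflection of `c` then so is `a * c`. -/
theorem at2_reflection_mul {Z : Type} {c a : Perm Z} (ha2 : a * a = 1)
    (hac : a * c * a⁻¹ = c⁻¹) (hafix : ∀ z, c z = z → a z = z) :
    (a * c) * (a * c) = 1 ∧ (a * c) * c * (a * c)⁻¹ = c⁻¹ ∧ ∀ z, c z = z → (a * c) z = z := by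
  have ainv : a⁻¹ = a := inv_eq_of_mul_eq_one_left ha2
  refine ⟨?_, ?_, ?_⟩
  · calc a * c * (a * c) = (a * c * a) * c := by group
      _ = (a * c * a⁻¹) * c := by rw [ainv]
      _ = 1 := by rw [hac]; group
  · calc (a * c) * c * (a * c)⁻¹ = a * c * a⁻¹ := by group
      _ = c⁻¹ := hac
  · intro z hz
    rw [Perm.mul_apply, hz, hafix z hz]

/-- a product of two disjoint swaps squares to one. -/
theorem at2_dblswap_sq {Z : Type} [DecidableEq Z] {a b c d : Z} (hab : a ≠ b)
    (hcd : c ≠ d) (hac : a ≠ c) (had : a ≠ d) (hbc : b ≠ c) (hbd : b ≠ d) :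
    (swap a b * swap c d) * (swap a b * swap c d) = 1 := by
  have hd : Perm.Disjoint (swap a b) (swap c d) := by
    apply Equiv.Perm.disjoint_swap_swap
    simp only [List.nodup_cons, List.mem_cons, List.not_mem_nil,
      List.nodup_nil, not_or, or_false, not_false_eq_true, and_true]
    exact ⟨⟨hab, hac, had⟩, ⟨hbc, hbd⟩, hcd⟩
  rw [mul_assoc, ← mul_assoc (swap c d), ← hd.commute.eq, mul_assoc,
    swap_mul_self, mul_one, swap_mul_self]

/-- [Lemma E] every even involution is in the family. -/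
theorem at2_invol_mem {Z : Type} [Fintype Z] [DecidableEq Z]
    {𝒯 : Set (Perm Z)} (h𝒯 : ClosedFam 2 (alternatingGroup Z) 𝒯)
    (h1 : ∀ a b c d : Z, a ≠ b → c ≠ d → a ≠ c → a ≠ d → b ≠ c → b ≠ d →
      Equiv.swap a b * Equiv.swap c d ∈ 𝒯) :
    ∀ (n : ℕ) (w : Perm Z), w.support.card = n → w * w = 1 → Perm.sign w = 1 → w ∈ 𝒯 := by
  intro n
  induction n using Nat.strong_induction_on with
  | _ n ih =>
    intro w hn hw2 hs
    by_cases hw1 : w = 1
    · rw [hw1]; exact h𝒯.1
    have hww : ∀ z, w (w z) = z := fun z => by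
      have := congrArg (fun f : Perm Z => f z) hw2
      simpa using this
    obtain ⟨x₁, x₂, e1, e2, e3, e4⟩ := at1_exists_two hw2 hs hw1
    obtain ⟨d1, d2, d3, d4, d5, d6⟩ := at1_four_distinct hww e1 e2 e3 e4
    set d : Perm Z := swap x₁ (w x₁) * swap x₂ (w x₂) with hd
    have hd𝒯 : d ∈ 𝒯 := h1 _ _ _ _ d1 d2 d3 d4 d5 d6
    have hdd : d * d = 1 := at2_dblswap_sq d1 d2 d3 d4 d5 d6
    have hwd : w * d = d * w := by
      have h := at1_conj_swaps w x₁ (w x₁) x₂ (w x₂)
      rw [hww, hww, swap_comm (w x₁) x₁, swap_comm (w x₂) x₂, ← hd] at h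
      -- h : w * d * w⁻¹ = d
      calc w * d = w * d * w⁻¹ * w := by group
        _ = d * w := by rw [h]
    have hw'2 : (w * d) * (w * d) = 1 := by
      calc (w * d) * (w * d) = w * (d * w) * d := by group
        _ = w * (w * d) * d := by rw [hwd]
        _ = (w * w) * (d * d) := by group
        _ = 1 := by rw [hw2, hdd, one_mul]
    have hsd : Perm.sign d = 1 := by
      rw [hd, Perm.sign_mul, Perm.sign_swap d1, Perm.sign_swap d2]; decide
    have hs' : Perm.sign (w * d) = 1 := by rw [Perm.sign_mul, hs, hsd, one_mul]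
    have hdx₁ : d x₁ = w x₁ := by
      rw [hd, Perm.mul_apply, swap_apply_of_ne_of_ne d3 d4, swap_apply_left]
    have hfix : (w * d) x₁ = x₁ := by rw [Perm.mul_apply, hdx₁, hww]
    have hsub : (w * d).support ⊆ w.support := by
      intro z hz
      rw [Perm.mem_support] at hz ⊢
      intro hwz
      apply hz
      have z1 : z ≠ x₁ := fun h => e1 (h ▸ hwz)
      have z2 : z ≠ w x₁ := fun h => e1 (by
        have : w z = x₁ := by rw [h, hww]
        rw [hwz] at this
        rw [← this, hwz])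
      have z3 : z ≠ x₂ := fun h => e2 (h ▸ hwz)
      have z4 : z ≠ w x₂ := fun h => e2 (by
        have : w z = x₂ := by rw [h, hww]
        rw [hwz] at this
        rw [← this, hwz])
      rw [Perm.mul_apply, hd, Perm.mul_apply, swap_apply_of_ne_of_ne z3 z4,
        swap_apply_of_ne_of_ne z1 z2, hwz]
    have hlt : (w * d).support.card < n := by
      rw [← hn]
      apply Finset.card_lt_card
      refine ⟨hsub, fun h => ?_⟩
      have hx : x₁ ∈ w.support := Perm.mem_support.mpr e1
      have := h hx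
      rw [Perm.mem_support] at this
      exact this hfix
    have hw'𝒯 : w * d ∈ 𝒯 := ih _ hlt (w * d) rfl hw'2 hs'
    have hcomm : (w * d) * d = d * (w * d) := by
      rw [← mul_assoc d w d, ← hwd]
    have : w = (w * d) * d := by rw [mul_assoc, hdd, mul_one]
    rw [this]
    exact at1_mul_mem h𝒯 hw'2 hdd hcomm hw'𝒯 hd𝒯


/-- [At2] (`p = 2`) a closed family containing all double transpositions contains every product of
two disjoint cycles of `2`-power lengths. -/
theorem closedFam_two_cycles_mem (Z : Type) [Fintype Z] [DecidableEq Z]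
    (𝒯 : Set (Perm Z)) (h𝒯 : ClosedFam 2 (alternatingGroup Z) 𝒯)
    (h1 : ∀ a b c d : Z, a ≠ b → c ≠ d → a ≠ c → a ≠ d → b ≠ c → b ≠ d →
      Equiv.swap a b * Equiv.swap c d ∈ 𝒯) :
    ∀ (j j' : ℕ) (c c' : Perm Z), c.IsCycle → c'.IsCycle → c.Disjoint c' →
      c.support.card = 2 ^ j → c'.support.card = 2 ^ j' → c * c' ∈ 𝒯 := by
  intro j j' c c' hc hc' hdisj hj hj'
  have hsc : Perm.sign c = -1 := at2_sign_cycle hc hj
  have hsc' : Perm.sign c' = -1 := at2_sign_cycle hc' hj'
  have hcpow : c ^ 2 ^ j = 1 := by rw [← hj, ← hc.orderOf]; exact pow_orderOf_eq_one c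
  have hc'pow : c' ^ 2 ^ j' = 1 := by rw [← hj', ← hc'.orderOf]; exact pow_orderOf_eq_one c'
  obtain ⟨a, ha2, hac, hafix⟩ := at2_exists_reflection c hc
  obtain ⟨a₀, ha₀2, ha₀c, ha₀fix⟩ := at2_exists_reflection c' hc'
  obtain ⟨a', ha'2, ha'c, ha'fix, hsa'⟩ : ∃ a' : Perm Z, a' * a' = 1 ∧ a' * c' * a'⁻¹ = c'⁻¹ ∧
      (∀ z, c' z = z → a' z = z) ∧ Perm.sign a' = Perm.sign a := by
    by_cases h : Perm.sign a₀ = Perm.sign a
    · exact ⟨a₀, ha₀2, ha₀c, ha₀fix, h⟩
    · obtain ⟨r1, r2, r3⟩ := at2_reflection_mul ha₀2 ha₀c ha₀fix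
      refine ⟨a₀ * c', r1, r2, r3, ?_⟩
      rw [Perm.sign_mul, hsc']
      rcases Int.units_eq_one_or (Perm.sign a₀) with h0 | h0 <;>
        rcases Int.units_eq_one_or (Perm.sign a) with h1 | h1 <;> simp_all
  -- commutation from disjointness
  have D1 : Perm.Disjoint a c' := fun z => (hdisj z).imp (hafix z) id
  have D2 : Perm.Disjoint c a' := fun z => (hdisj z).imp id (ha'fix z)
  have D3 : Perm.Disjoint a a' := fun z => (hdisj z).imp (hafix z) (ha'fix z)
  have k1 : c * c' = c' * c := hdisj.commute.eq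
  have k2 : a * c' = c' * a := D1.commute.eq
  have k3 : c * a' = a' * c := D2.commute.eq
  have k4 : a * a' = a' * a := D3.commute.eq
  obtain ⟨s2, -, -⟩ := at2_reflection_mul ha2 hac hafix
  obtain ⟨s'2, -, -⟩ := at2_reflection_mul ha'2 ha'c ha'fix
  -- the two even involutions
  have hu2 : (a * a') * (a * a') = 1 := by
    calc (a * a') * (a * a') = a * (a' * a) * a' := by group
      _ = a * (a * a') * a' := by rw [k4]
      _ = (a * a) * (a' * a') := by group
      _ = 1 := by rw [ha2, ha'2, one_mul]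
  have hsu : Perm.sign (a * a') = 1 := by
    rw [Perm.sign_mul, hsa', Int.units_mul_self]
  have kss : (a * c) * (a' * c') = (a' * c') * (a * c) := by
    calc (a * c) * (a' * c') = a * (c * a') * c' := by group
      _ = a * (a' * c) * c' := by rw [k3]
      _ = (a * a') * (c * c') := by group
      _ = (a' * a) * (c' * c) := by rw [k4, k1]
      _ = a' * (a * c') * c := by group
      _ = a' * (c' * a) * c := by rw [k2]
      _ = (a' * c') * (a * c) := by group
  have hv2 : ((a * c) * (a' * c')) * ((a * c) * (a' * c')) = 1 := by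
    calc ((a * c) * (a' * c')) * ((a * c) * (a' * c'))
        = (a * c) * ((a' * c') * (a * c)) * (a' * c') := by group
      _ = (a * c) * ((a * c) * (a' * c')) * (a' * c') := by rw [kss]
      _ = ((a * c) * (a * c)) * ((a' * c') * (a' * c')) := by group
      _ = 1 := by rw [s2, s'2, one_mul]
  have hsv : Perm.sign ((a * c) * (a' * c')) = 1 := by
    rw [Perm.sign_mul, Perm.sign_mul, Perm.sign_mul, hsc, hsc', hsa']
    rcases Int.units_eq_one_or (Perm.sign a) with h1 | h1 <;> rw [h1] <;> decide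
  have hu𝒯 : a * a' ∈ 𝒯 := at2_invol_mem h𝒯 h1 _ _ rfl hu2 hsu
  have hv𝒯 : (a * c) * (a' * c') ∈ 𝒯 := at2_invol_mem h𝒯 h1 _ _ rfl hv2 hsv
  have huv : (a * a') * ((a * c) * (a' * c')) = c * c' := by
    calc (a * a') * ((a * c) * (a' * c')) = a * (a' * a) * c * a' * c' := by group
      _ = a * (a * a') * c * a' * c' := by rw [k4]
      _ = (a * a) * (a' * c) * a' * c' := by group
      _ = (a * a) * (c * a') * a' * c' := by rw [k3]
      _ = (a * a) * c * (a' * a') * c' := by group
      _ = c * c' := by rw [ha2, ha'2, one_mul, mul_one]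
  -- the common 2-subgroup
  set D : Subgroup (Perm Z) := Subgroup.zpowers c ⊔ Subgroup.zpowers a with hD
  set D' : Subgroup (Perm Z) := Subgroup.zpowers c' ⊔ Subgroup.zpowers a' with hD'
  have hDp : IsPGroup 2 (↥D) := at2_isPGroup_dihedral hcpow ha2 hac
  have hD'p : IsPGroup 2 (↥D') := at2_isPGroup_dihedral hc'pow ha'2 ha'c
  have hDD' : IsPGroup 2 (↥(D ⊔ D')) :=
    at1_isPGroup_sup hDp hD'p (at2_sup_commute k1 k3 k2 k4)
  have hP : IsPGroup 2 (↥((D ⊔ D') ⊓ alternatingGroup Z)) := hDD'.to_le inf_le_left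
  have hcD : c ∈ D := (le_sup_left : Subgroup.zpowers c ≤ D) (Subgroup.mem_zpowers c)
  have haD : a ∈ D := (le_sup_right : Subgroup.zpowers a ≤ D) (Subgroup.mem_zpowers a)
  have hc'D : c' ∈ D' := (le_sup_left : Subgroup.zpowers c' ≤ D') (Subgroup.mem_zpowers c')
  have ha'D : a' ∈ D' := (le_sup_right : Subgroup.zpowers a' ≤ D') (Subgroup.mem_zpowers a')
  have huP : a * a' ∈ (D ⊔ D') ⊓ alternatingGroup Z := by
    refine Subgroup.mem_inf.mpr ⟨?_, Equiv.Perm.mem_alternatingGroup.mpr hsu⟩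
    exact mul_mem ((le_sup_left : D ≤ D ⊔ D') haD) ((le_sup_right : D' ≤ D ⊔ D') ha'D)
  have hvP : (a * c) * (a' * c') ∈ (D ⊔ D') ⊓ alternatingGroup Z := by
    refine Subgroup.mem_inf.mpr ⟨?_, Equiv.Perm.mem_alternatingGroup.mpr hsv⟩
    exact mul_mem ((le_sup_left : D ≤ D ⊔ D') (mul_mem haD hcD))
      ((le_sup_right : D' ≤ D ⊔ D') (mul_mem ha'D hc'D))
  obtain ⟨-, -, -, hmul, -⟩ := h𝒯
  rw [← huv]
  exact hmul _ hP inf_le_right _ huP _ hvP hu𝒯 hv𝒯

end Cfsg.Agent.Lib.Helper87.AltF
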