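import Cfsg.Agent.Lib.Helper40.C2gTorus
import Cfsg.Agent.Lib.Helper44.C2gA2
import Cfsg.Agent.Lib.Helper75.C2gGen

/-!
# S2405 rank-2 sub-hive (helper67): leaf C2G-B2THREE `two_gen_B2_three` (`B2(3)` is 2-generated)
-/

set_option autoImplicit false

namespace Cfsg.Agent.Lib.Helper67.C2g

open Cfsg Cfsg.Lie Cfsg.Agent.Lib.Helper36 Cfsg.Agent.Lib.Helper40.C2g

section b2three
variable (F : Type*) [Field F]

theorem b2three_tab54 : chevB2.commTerms 5 4 = [(6, -1, 1, 1), (7, -1, 2, 1)] := by decide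
theorem b2three_tab56 : chevB2.commTerms 5 6 = [(7, 2, 1, 1)] := by decide
theorem b2three_tab46 : chevB2.commTerms 4 6 = [] := by decide
theorem b2three_tab57 : chevB2.commTerms 5 7 = [] := by decide
theorem b2three_tab47 : chevB2.commTerms 4 7 = [] := by decide
theorem b2three_tab67 : chevB2.commTerms 6 7 = [] := by decide

/-- `x_4(u) x_5(t) = x_5(t) x_4(u) x_6(t u) x_7(- t^2 u)` -/
theorem b2three_rel54 (t u : F) :
    xGL chevB2 hB2 F 4 u * xGL chevB2 hB2 F 5 t =
      xGL chevB2 hB2 F 5 t * xGL chevB2 hB2 F 4 u * xGL chevB2 hB2 F 6 (t * u) *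
        xGL chevB2 hB2 F 7 (-(t ^ 2 * u)) := by
  have hcf := Cfsg.Agent.S1025.result (F := F) chevB2 hB2 5 4 (by decide) (by decide) (by decide)
    (by decide) t u
  have hw : chevB2.wordMat F (chevB2.commWord F 5 4 t u) =
      chevB2.x F 6 (t * u) * chevB2.x F 7 (-(t ^ 2 * u)) := by
    unfold ChevalleyDatum.commWord ChevalleyDatum.wordMat
    rw [b2three_tab54]
    simp
  rw [hw] at hcf
  apply Units.ext
  simp only [Units.val_mul, xGL_coe]
  rw [hcf]
  simp only [mul_assoc]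

/-- `x_6(u) x_5(t) = x_5(t) x_6(u) x_7(-2 t u)` -/
theorem b2three_rel56 (t u : F) :
    xGL chevB2 hB2 F 6 u * xGL chevB2 hB2 F 5 t =
      xGL chevB2 hB2 F 5 t * xGL chevB2 hB2 F 6 u * xGL chevB2 hB2 F 7 (-(2 * t * u)) := by
  have hcf := Cfsg.Agent.S1025.result (F := F) chevB2 hB2 5 6 (by decide) (by decide) (by decide)
    (by decide) t u
  have hw : chevB2.wordMat F (chevB2.commWord F 5 6 t u) = chevB2.x F 7 (-(2 * t * u)) := by
    unfold ChevalleyDatum.commWord ChevalleyDatum.wordMat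
    rw [b2three_tab56]
    simp
  rw [hw] at hcf
  apply Units.ext
  simp only [Units.val_mul, xGL_coe]
  exact hcf

end b2three

section b2three_main
variable (F : Type*) [Field F] [Fintype F]

theorem b2three_three (hq : Fintype.card F = 3) : (3 : F) = 0 := by
  have h : ((Fintype.card F : ℕ) : F) = 0 := FiniteField.cast_card_eq_zero F
  rw [hq] at h
  exact_mod_cast h

theorem b2three_closure (hq : Fintype.card F = 3) :
    AddSubgroup.closure {x : F | ∃ j : ℕ, x = (1 : F) ^ j} = ⊤ := by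
  have hset : {x : F | ∃ j : ℕ, x = (1 : F) ^ j} = {1} := by
    ext x; simp
  rw [hset]
  have hdvd : Nat.card (AddSubgroup.closure ({1} : Set F)) ∣ 3 := by
    have h := AddSubgroup.card_addSubgroup_dvd_card (AddSubgroup.closure ({1} : Set F))
    rwa [Nat.card_eq_fintype_card (α := F), hq] at h
  have hne : Nat.card (AddSubgroup.closure ({1} : Set F)) ≠ 1 := by
    intro h1
    rw [AddSubgroup.card_eq_one] at h1
    have hmem : (1 : F) ∈ AddSubgroup.closure ({1} : Set F) :=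
      AddSubgroup.subset_closure (Set.mem_singleton _)
    rw [h1, AddSubgroup.mem_bot] at hmem
    exact one_ne_zero hmem
  have h3 : Nat.card (AddSubgroup.closure ({1} : Set F)) = 3 := by
    rcases (Nat.dvd_prime Nat.prime_three).1 hdvd with h | h
    · exact absurd h hne
    · exact h
  apply (AddSubgroup.card_eq_iff_eq_top _).1
  rw [h3, Nat.card_eq_fintype_card, hq]

omit [Fintype F] in
/-- the cube of `x_5(1) x_4(1)` is `x_7(1)` in characteristic 3. -/
theorem b2three_cube (h3 : (3 : F) = 0) :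
    (xGL chevB2 hB2 F 5 1 * xGL chevB2 hB2 F 4 1) ^ 3 = xGL chevB2 hB2 F 7 1 := by
  have hba : xGL chevB2 hB2 F 4 1 * xGL chevB2 hB2 F 5 1 =
      xGL chevB2 hB2 F 5 1 * xGL chevB2 hB2 F 4 1 * xGL chevB2 hB2 F 6 1 *
        xGL chevB2 hB2 F 7 (-1) := by
    have h := b2three_rel54 F 1 1
    rw [one_pow, one_mul] at h
    exact h
  have hca : xGL chevB2 hB2 F 6 1 * xGL chevB2 hB2 F 5 1 =
      xGL chevB2 hB2 F 5 1 * xGL chevB2 hB2 F 6 1 * xGL chevB2 hB2 F 7 (-2) := by
    have h := b2three_rel56 F 1 1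
    rw [mul_one, mul_one] at h
    exact h
  have hcb : xGL chevB2 hB2 F 6 1 * xGL chevB2 hB2 F 4 1 =
      xGL chevB2 hB2 F 4 1 * xGL chevB2 hB2 F 6 1 :=
    xGL_comm_of_nil chevB2 hB2 F 4 6 (by decide) (by decide) (by decide) (by decide)
      b2three_tab46 1 1
  have h75 : ∀ u : F, xGL chevB2 hB2 F 7 u * xGL chevB2 hB2 F 5 1 =
      xGL chevB2 hB2 F 5 1 * xGL chevB2 hB2 F 7 u := fun u =>
    xGL_comm_of_nil chevB2 hB2 F 5 7 (by decide) (by decide) (by decide) (by decide)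
      b2three_tab57 1 u
  have h74 : ∀ u : F, xGL chevB2 hB2 F 7 u * xGL chevB2 hB2 F 4 1 =
      xGL chevB2 hB2 F 4 1 * xGL chevB2 hB2 F 7 u := fun u =>
    xGL_comm_of_nil chevB2 hB2 F 4 7 (by decide) (by decide) (by decide) (by decide)
      b2three_tab47 1 u
  have h76 : ∀ u : F, xGL chevB2 hB2 F 7 u * xGL chevB2 hB2 F 6 1 =
      xGL chevB2 hB2 F 6 1 * xGL chevB2 hB2 F 7 u := fun u =>
    xGL_comm_of_nil chevB2 hB2 F 6 7 (by decide) (by decide) (by decide) (by decide)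
      b2three_tab67 1 u
  have hyz : xGL chevB2 hB2 F 7 (-2) * xGL chevB2 hB2 F 7 (-1) =
      xGL chevB2 hB2 F 7 (-1) * xGL chevB2 hB2 F 7 (-2) := by
    rw [← xGL_add', ← xGL_add', add_comm]
  rw [cube_of_relations (xGL chevB2 hB2 F 5 1) (xGL chevB2 hB2 F 4 1) (xGL chevB2 hB2 F 6 1)
    (xGL chevB2 hB2 F 7 (-1)) (xGL chevB2 hB2 F 7 (-2)) hba hca hcb (h75 _) (h74 _) (h76 _)
    (h75 _) (h74 _) (h76 _) hyz]
  have hc3 : ((3 : ℕ) : F) = 0 := by exact_mod_cast h3
  rw [xGL_pow', xGL_pow', xGL_pow', xGL_pow', hc3]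
  simp only [zero_mul, xGL_zero', one_mul]
  congr 1
  linear_combination (-1 : F) * h3

/-- LEAF C2G-B2THREE. -/
theorem two_gen_B2_three (F : Type*) [Field F] [Fintype F] (hq : Fintype.card F = 3) :
    ∃ x y : ↥(chevB2.group F), Subgroup.closure ({x, y} : Set ↥(chevB2.group F)) = ⊤ := by
  have h3 : (3 : F) = 0 := b2three_three F hq
  have hcl := b2three_closure F hq
  apply two_gen_of_le chevB2 F (xGL chevB2 hB2 F 5 1 * xGL chevB2 hB2 F 4 1) (coxN chevB2 hB2 F)
  · exact mul_mem (xGL_mem_group chevB2 hB2 F 5 1) (xGL_mem_group chevB2 hB2 F 4 1)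
  · exact coxN_mem_group chevB2 hB2 F
  · obtain ⟨K0, hK0⟩ : ∃ K0 : Subgroup (GL chevB2.Idx F), K0 = Subgroup.closure
        ({xGL chevB2 hB2 F 5 1 * xGL chevB2 hB2 F 4 1, coxN chevB2 hB2 F} :
          Set (GL chevB2.Idx F)) := ⟨_, rfl⟩
    rw [← hK0]
    have hg1K : xGL chevB2 hB2 F 5 1 * xGL chevB2 hB2 F 4 1 ∈ K0 := by
      rw [hK0]; exact Subgroup.subset_closure (by simp)
    have hnK : coxN chevB2 hB2 F ∈ K0 := by
      rw [hK0]; exact Subgroup.subset_closure (by simp)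
    have h7 : xGL chevB2 hB2 F 7 1 ∈ K0 := by
      rw [← b2three_cube F h3]
      exact pow_mem hg1K 3
    have h4 : xGL chevB2 hB2 F 4 1 ∈ K0 := by
      have h := xGL_cox_one chevB2 hB2 F K0 hnK 7 (by decide) h7
      rwa [show coxRoot chevB2 7 = 4 by decide] at h
    have h0 : xGL chevB2 hB2 F 0 1 ∈ K0 := by
      have h := xGL_cox_one chevB2 hB2 F K0 hnK 4 (by decide) h4
      rwa [show coxRoot chevB2 4 = 0 by decide] at h
    have h3' : xGL chevB2 hB2 F 3 1 ∈ K0 := by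
      have h := xGL_cox_one chevB2 hB2 F K0 hnK 0 (by decide) h0
      rwa [show coxRoot chevB2 0 = 3 by decide] at h
    have h5 : xGL chevB2 hB2 F 5 1 ∈ K0 := by
      have h := mul_mem hg1K (inv_mem h4)
      rwa [mul_inv_cancel_right] at h
    have h6 : xGL chevB2 hB2 F 6 1 ∈ K0 := by
      have h := xGL_cox_one chevB2 hB2 F K0 hnK 5 (by decide) h5
      rwa [show coxRoot chevB2 5 = 6 by decide] at h
    have h2 : xGL chevB2 hB2 F 2 1 ∈ K0 := by
      have h := xGL_cox_one chevB2 hB2 F K0 hnK 6 (by decide) h6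
      rwa [show coxRoot chevB2 6 = 2 by decide] at h
    have h1 : xGL chevB2 hB2 F 1 1 ∈ K0 := by
      have h := xGL_cox_one chevB2 hB2 F K0 hnK 2 (by decide) h2
      rwa [show coxRoot chevB2 2 = 1 by decide] at h
    have hfill : ∀ s : ℕ, xGL chevB2 hB2 F s 1 ∈ K0 → PX chevB2 hB2 F K0 s := by
      intro s hs
      refine PX_fill_gen chevB2 hB2 F K0 s 1 (one_mem _) 1 (fun t => ?_) hs hcl
      rw [one_mul, inv_one, mul_one, one_mul]
    apply group_le chevB2 hB2 F K0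
    intro r hr t
    have hr8 : r < 8 := hr
    interval_cases r
    · exact hfill 0 h0 t
    · exact hfill 1 h1 t
    · exact hfill 2 h2 t
    · exact hfill 3 h3' t
    · exact hfill 4 h4 t
    · exact hfill 5 h5 t
    · exact hfill 6 h6 t
    · exact hfill 7 h7 t

end b2three_main

end Cfsg.Agent.Lib.Helper67.C2g
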