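import Cfsg.Agent.Lib.Helper33.SReach

set_option autoImplicit false

namespace Cfsg.Agent.Lib.Helper33

variable {G : Type*} [Group G]

/-- `CReach St A g`: `g = c * r` with `c` centralizing `A` and `r` an `SReach` step chain. -/
def CReach (St : Subgroup G → G → Prop) (A : Set G) (g : G) : Prop :=
  ∃ c r : G, c ∈ Subgroup.centralizer A ∧ SReach St A r ∧ g = c * r

variable {St : Subgroup G → G → Prop}

theorem rc_of_mem_centralizer {A : Set G} {c : G} (hc : c ∈ Subgroup.centralizer A) :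
    rc c A = A := by
  ext x
  rw [mem_rc]
  have key : ∀ y ∈ A, c * y * c⁻¹ = y := by
    intro y hy
    have := Subgroup.mem_centralizer_iff.mp hc y hy
    rw [← this, mul_inv_cancel_right]
  constructor
  · intro hx
    have h1 := key _ hx
    have h2 : c * x * c⁻¹ = x := by
      have : c * (c * x * c⁻¹) * c⁻¹ = c * x * c⁻¹ := h1
      have h3 : c * (c * x * c⁻¹) = c * x := by
        calc c * (c * x * c⁻¹) = (c * (c * x * c⁻¹) * c⁻¹) * c := by group
          _ = c * x * c⁻¹ * c := by rw [this]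
          _ = c * x := by group
      have h4 := mul_left_cancel h3
      exact h4
    rw [h2] at hx; exact hx
  · intro hx
    rw [key x hx]; exact hx

theorem CReach.of_sreach {A : Set G} {g : G} (h : SReach St A g) : CReach St A g :=
  ⟨1, g, Subgroup.one_mem _, h, (one_mul g).symm⟩

theorem CReach.of_centralizer {A : Set G} {c : G} (hc : c ∈ Subgroup.centralizer A) :
    CReach St A c :=
  ⟨c, 1, hc, SReach.nil A, (mul_one c).symm⟩

theorem CReach.mono {A B : Set G} {g : G} (h : CReach St A g) (hBA : B ⊆ A) : CReach St B g := by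
  obtain ⟨c, r, hc, hr, rfl⟩ := h
  exact ⟨c, r, Subgroup.centralizer_le hBA hc, hr.mono hBA, rfl⟩

theorem CReach.trans {A : Set G} {g h : G} (h1 : CReach St A g) (h2 : CReach St (rc g A) h) :
    CReach St A (g * h) := by
  obtain ⟨c₁, r₁, hc₁, hr₁, rfl⟩ := h1
  obtain ⟨c₂, r₂, hc₂, hr₂, rfl⟩ := h2
  have hrc : rc (c₁ * r₁) A = rc r₁ A := by rw [rc_mul, rc_of_mem_centralizer hc₁]
  rw [hrc] at hc₂ hr₂
  refine ⟨c₁ * (r₁ * c₂ * r₁⁻¹), r₁ * r₂, ?_, hr₁.trans hr₂, by group⟩
  apply Subgroup.mul_mem _ hc₁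
  rw [Subgroup.mem_centralizer_iff]
  intro a ha
  have h3 : r₁⁻¹ * a * r₁ ∈ rc r₁ A := conj_mem_rc ha
  have h4 := Subgroup.mem_centralizer_iff.mp hc₂ _ h3
  calc a * (r₁ * c₂ * r₁⁻¹) = r₁ * ((r₁⁻¹ * a * r₁) * c₂) * r₁⁻¹ := by group
    _ = r₁ * (c₂ * (r₁⁻¹ * a * r₁)) * r₁⁻¹ := by rw [h4]
    _ = r₁ * c₂ * r₁⁻¹ * a := by group

/-- A `Reach` through `𝓕` whose steps (at members of order at least `c`) are `CReach` is `CReach`. -/
theorem CReach.of_reach [Finite G] {𝓕 : Set (Subgroup G)} {c : ℕ}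
    (hstep : ∀ T ∈ 𝓕, c ≤ Nat.card T → ∀ x ∈ Subgroup.normalizer (T : Set G),
      CReach St (T : Set G) x) {A : Set G} {g : G} (h : Reach 𝓕 A g)
    (hc : c ≤ Nat.card (Subgroup.closure A)) : CReach St A g := by
  induction h with
  | nil A => exact CReach.of_sreach (SReach.nil A)
  | cons A T x g hT hx hA _ ih =>
    have hle : Subgroup.closure A ≤ T := (Subgroup.closure_le T).mpr hA
    have hcT : c ≤ Nat.card T := le_trans hc (Subgroup.card_le_of_le hle)
    have h1 : CReach St A x := (hstep T hT hcT x hx).mono hA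
    apply h1.trans
    apply ih
    rw [closure_rc, card_cj]
    exact hc

end Cfsg.Agent.Lib.Helper33
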