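import Mathlib

set_option autoImplicit false
set_option linter.style.haveILetI false
set_option linter.unusedSectionVars false

/-!
# The subgroup of elements acting trivially on `Q / Q₀`
-/

namespace Cfsg.Agent.Lib.Helper33

open Subgroup

open scoped commutatorElement

variable {Y : Type*} [Group Y]

/-- The elements `y` with `[Q, y] ⊆ Q₀` and `[Q, y⁻¹] ⊆ Q₀` form a subgroup (`Q₀ ≤ Q`). -/
theorem exists_centMod (Q Q₀ : Subgroup Y) (hQ₀Q : Q₀ ≤ Q) :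
    ∃ L : Subgroup Y, ∀ y, y ∈ L ↔ ((∀ q ∈ Q, ⁅q, y⁆ ∈ Q₀) ∧ ∀ q ∈ Q, ⁅q, y⁻¹⁆ ∈ Q₀) := by
  have hconj : ∀ y : Y, (∀ q ∈ Q, ⁅q, y⁆ ∈ Q₀) → ∀ z ∈ Q₀, y * z * y⁻¹ ∈ Q₀ := by
    intro y hy z hz
    have h1 := hy z (hQ₀Q hz)
    have h2 := Q₀.mul_mem (Q₀.inv_mem h1) hz
    have e : ⁅z, y⁆⁻¹ * z = y * z * y⁻¹ := by rw [commutatorElement_def]; group
    rwa [e] at h2
  have hmulc : ∀ y₁ y₂ : Y, (∀ q ∈ Q, ⁅q, y₁⁆ ∈ Q₀) → (∀ q ∈ Q, ⁅q, y₂⁆ ∈ Q₀) →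
      ∀ q ∈ Q, ⁅q, y₁ * y₂⁆ ∈ Q₀ := by
    intro y₁ y₂ h1 h2 q hq
    have e : ⁅q, y₁ * y₂⁆ = ⁅q, y₁⁆ * (y₁ * ⁅q, y₂⁆ * y₁⁻¹) := by
      simp only [commutatorElement_def]; group
    rw [e]
    exact Q₀.mul_mem (h1 q hq) (hconj y₁ h1 _ (h2 q hq))
  exact
    ⟨{ carrier := {y | (∀ q ∈ Q, ⁅q, y⁆ ∈ Q₀) ∧ ∀ q ∈ Q, ⁅q, y⁻¹⁆ ∈ Q₀}
       one_mem' := by
        constructor
        · intro q _
          rw [commutatorElement_def, mul_one, inv_one, mul_one, mul_inv_cancel]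
          exact Q₀.one_mem
        · intro q _
          rw [commutatorElement_def, inv_one, mul_one, inv_one, mul_one, mul_inv_cancel]
          exact Q₀.one_mem
       mul_mem' := fun {a b} ha hb => by
        constructor
        · exact hmulc a b ha.1 hb.1
        · rw [mul_inv_rev]
          exact hmulc b⁻¹ a⁻¹ hb.2 ha.2
       inv_mem' := fun {a} ha => by
        refine ⟨ha.2, ?_⟩
        rw [inv_inv]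
        exact ha.1 }, fun y => Iff.rfl⟩

/-- If `Q` and `Q₀` are normal, so is the subgroup acting trivially on `Q / Q₀`. -/
theorem centMod_normal (Q Q₀ L : Subgroup Y) [hQ : Q.Normal] [hQ₀ : Q₀.Normal]
    (hL : ∀ y, y ∈ L ↔ ((∀ q ∈ Q, ⁅q, y⁆ ∈ Q₀) ∧ ∀ q ∈ Q, ⁅q, y⁻¹⁆ ∈ Q₀)) : L.Normal := by
  have key : ∀ y : Y, (∀ q ∈ Q, ⁅q, y⁆ ∈ Q₀) → ∀ x : Y, ∀ q ∈ Q, ⁅q, x * y * x⁻¹⁆ ∈ Q₀ := by
    intro y hy x q hq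
    have h1 := hy (x⁻¹ * q * x⁻¹⁻¹) (hQ.conj_mem q hq x⁻¹)
    have h2 := hQ₀.conj_mem _ h1 x
    have e : x * ⁅x⁻¹ * q * x⁻¹⁻¹, y⁆ * x⁻¹ = ⁅q, x * y * x⁻¹⁆ := by
      simp only [commutatorElement_def]; group
    rwa [e] at h2
  constructor
  intro y hy x
  rw [hL] at hy ⊢
  refine ⟨key y hy.1 x, ?_⟩
  have e : (x * y * x⁻¹)⁻¹ = x * y⁻¹ * x⁻¹ := by group
  rw [e]
  exact key y⁻¹ hy.2 x

/-- Elements acting trivially on `Q / Q₀` normalize `Q₀`. -/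
theorem centMod_le_normalizer (Q Q₀ L : Subgroup Y) (hQ₀Q : Q₀ ≤ Q)
    (hL : ∀ y, y ∈ L ↔ ((∀ q ∈ Q, ⁅q, y⁆ ∈ Q₀) ∧ ∀ q ∈ Q, ⁅q, y⁻¹⁆ ∈ Q₀)) :
    L ≤ normalizer (Q₀ : Set Y) := by
  have hconj : ∀ y : Y, (∀ q ∈ Q, ⁅q, y⁆ ∈ Q₀) → ∀ z ∈ Q₀, y * z * y⁻¹ ∈ Q₀ := by
    intro y hy z hz
    have h1 := hy z (hQ₀Q hz)
    have h2 := Q₀.mul_mem (Q₀.inv_mem h1) hz
    have e : ⁅z, y⁆⁻¹ * z = y * z * y⁻¹ := by rw [commutatorElement_def]; group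
    rwa [e] at h2
  intro y hy
  rw [hL] at hy
  rw [Subgroup.mem_normalizer_iff]
  intro z
  constructor
  · exact hconj y hy.1 z
  · intro hz
    have := hconj y⁻¹ hy.2 _ hz
    have e : y⁻¹ * (y * z * y⁻¹) * y⁻¹⁻¹ = z := by group
    rwa [e] at this

end Cfsg.Agent.Lib.Helper33
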