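import Mathlib

set_option autoImplicit false
set_option linter.style.haveILetI false
set_option linter.unusedSectionVars false

/-!
# Transfer of elements of a normal subgroup that is central modulo `D`
-/

namespace Cfsg.Agent.Lib.Helper33

open Subgroup MonoidHom

open scoped commutatorElement

/-- Transfer from `H ≥ N` (`N` normal in `G`) of a hom whose restriction to `N` is `G`-invariant. -/
theorem transfer_eq_pow_of_inv {G : Type*} [Group G] {N H : Subgroup G} [hN : N.Normal]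
    [H.FiniteIndex] (hNH : N ≤ H) {A : Type*} [CommGroup A] (ν : H →* A)
    (hinv : ∀ (g : G) (n : N), ν ⟨g * n * g⁻¹, hNH (hN.conj_mem (n : G) n.2 g)⟩ = ν ⟨n, hNH n.2⟩)
    (n : N) :
    transfer ν (n : G) = ν ⟨n, hNH n.2⟩ ^ H.index := by
  classical
  have : Fintype (Quotient (MulAction.orbitRel (zpowers (n : G)) (G ⧸ H))) := Fintype.ofFinite _
  rw [transfer_eq_prod_quotient_orbitRel_zpowers_quot]
  have key : ∀ (x : G) (k : ℕ) (hx : x⁻¹ * (n : G) ^ k * x ∈ H),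
      ν ⟨x⁻¹ * (n : G) ^ k * x, hx⟩ = ν ⟨n, hNH n.2⟩ ^ k := by
    intro x k hx
    have h1 := hinv x⁻¹ (n ^ k)
    have h2 : ν ⟨((n ^ k : N) : G), hNH (n ^ k).2⟩ = ν ⟨n, hNH n.2⟩ ^ k := by
      rw [← map_pow]
      congr 1
    rw [← h2, ← h1]
    congr 1
    apply Subtype.ext
    simp
  simp_rw [key]
  rw [Finset.prod_pow_eq_pow_sum, ← index_eq_sum_minimalPeriod]

/-- **Central transfer.** For a normal `p`-subgroup `Q` inside the Sylow `p`-subgroup `P`,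
`Q ∩ Y' ≤ P' [Q, Y]`. -/
theorem central_transfer {Y : Type*} [Group Y] [Finite Y] {p : ℕ} [hp : Fact p.Prime]
    (P : Sylow p Y) (Q : Subgroup Y) [hQ : Q.Normal] (hQP : Q ≤ (P : Subgroup Y)) :
    Q ⊓ ⁅(⊤ : Subgroup Y), ⊤⁆ ≤ ⁅(P : Subgroup Y), (P : Subgroup Y)⁆ ⊔ ⁅Q, (⊤ : Subgroup Y)⁆ := by
  obtain ⟨D, hD⟩ : ∃ D : Subgroup Y, D = ⁅Q, (⊤ : Subgroup Y)⁆ := ⟨_, rfl⟩
  haveI hDn : D.Normal := by rw [hD]; infer_instance
  obtain ⟨E, hE⟩ : ∃ E : Subgroup Y, E = ⁅(P : Subgroup Y), (P : Subgroup Y)⁆ ⊔ D := ⟨_, rfl⟩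
  rw [← hD, ← hE]
  have hDE : D ≤ E := by rw [hE]; exact le_sup_right
  have hPE : ⁅(P : Subgroup Y), (P : Subgroup Y)⁆ ≤ E := by rw [hE]; exact le_sup_left
  obtain ⟨N₀, hN₀⟩ : ∃ N₀ : Subgroup ↥(P : Subgroup Y), N₀ = E.subgroupOf (P : Subgroup Y) :=
    ⟨_, rfl⟩
  have hN₀mem : ∀ x : ↥(P : Subgroup Y), x ∈ N₀ ↔ (x : Y) ∈ E := by
    intro x; rw [hN₀, Subgroup.mem_subgroupOf]
  haveI hN₀n : N₀.Normal := by
    constructor
    intro n hn q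
    rw [hN₀mem] at hn ⊢
    -- `q n q⁻¹ = [q, n] n`
    have h1 : ⁅(q : Y), (n : Y)⁆ ∈ E :=
      hPE (Subgroup.commutator_mem_commutator q.2 n.2)
    have h2 := E.mul_mem h1 hn
    have e : ((q * n * q⁻¹ : ↥(P : Subgroup Y)) : Y) = ⁅(q : Y), (n : Y)⁆ * (n : Y) := by
      rw [commutatorElement_def]
      simp only [Subgroup.coe_mul, Subgroup.coe_inv]
      group
    rw [e]
    exact h2
  have hAcomm : ∀ a b : ↥(P : Subgroup Y) ⧸ N₀, a * b = b * a := by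
    intro a b
    obtain ⟨a, rfl⟩ := QuotientGroup.mk_surjective a
    obtain ⟨b, rfl⟩ := QuotientGroup.mk_surjective b
    rw [← QuotientGroup.mk_mul, ← QuotientGroup.mk_mul, QuotientGroup.eq, hN₀mem]
    apply hPE
    have h1 : ⁅(b : Y)⁻¹, (a : Y)⁻¹⁆ ∈ ⁅(P : Subgroup Y), (P : Subgroup Y)⁆ :=
      Subgroup.commutator_mem_commutator (Subgroup.inv_mem _ b.2) (Subgroup.inv_mem _ a.2)
    have e : (((a * b)⁻¹ * (b * a) : ↥(P : Subgroup Y)) : Y) = ⁅(b : Y)⁻¹, (a : Y)⁻¹⁆ := by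
      rw [commutatorElement_def]
      simp only [Subgroup.coe_mul, Subgroup.coe_inv]
      group
    rw [e]
    exact h1
  letI : CommGroup (↥(P : Subgroup Y) ⧸ N₀) :=
    { (inferInstance : Group (↥(P : Subgroup Y) ⧸ N₀)) with mul_comm := hAcomm }
  obtain ⟨ν, hν⟩ : ∃ ν : ↥(P : Subgroup Y) →* ↥(P : Subgroup Y) ⧸ N₀, ν = QuotientGroup.mk' N₀ :=
    ⟨_, rfl⟩
  have hνker : ∀ x : ↥(P : Subgroup Y), ν x = 1 ↔ (x : Y) ∈ E := by
    intro x
    rw [hν, QuotientGroup.mk'_apply, QuotientGroup.eq_one_iff, hN₀mem]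
  have hinv : ∀ (g : Y) (n : Q), ν ⟨g * n * g⁻¹, hQP (hQ.conj_mem (n : Y) n.2 g)⟩ =
      ν ⟨n, hQP n.2⟩ := by
    intro g n
    rw [← inv_mul_eq_one, ← map_inv, ← map_mul, hνker]
    apply hDE
    rw [hD, Subgroup.commutator_comm]
    have h1 : ⁅g, (n : Y)⁻¹⁆ ∈ ⁅(⊤ : Subgroup Y), Q⁆ :=
      Subgroup.commutator_mem_commutator (Subgroup.mem_top g) (Q.inv_mem n.2)
    have e : (((⟨g * n * g⁻¹, hQP (hQ.conj_mem (n : Y) n.2 g)⟩ : ↥(P : Subgroup Y))⁻¹ *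
        ⟨n, hQP n.2⟩ : ↥(P : Subgroup Y)) : Y) = ⁅g, (n : Y)⁻¹⁆ := by
      rw [commutatorElement_def]
      simp only [Subgroup.coe_mul, Subgroup.coe_inv]
      group
    rw [e]
    exact h1
  rintro q ⟨hqQ, hqc⟩
  have htr := transfer_eq_pow_of_inv hQP ν hinv ⟨q, hqQ⟩
  have hker : q ∈ (transfer ν).ker := by
    have := Abelianization.commutator_subset_ker (transfer ν)
    apply this
    rw [commutator_def]
    exact hqc
  rw [MonoidHom.mem_ker] at hker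
  have h1 : ν ⟨q, hQP hqQ⟩ ^ (P : Subgroup Y).index = 1 := by
    rw [← htr]
    exact hker
  -- the order of `ν q` is a power of `p`
  obtain ⟨k, hk⟩ := (P.isPGroup' : IsPGroup p ↥(P : Subgroup Y)) ⟨q, hQP hqQ⟩
  have h2 : ν ⟨q, hQP hqQ⟩ ^ (p ^ k) = 1 := by rw [← map_pow, hk, map_one]
  have h3 : orderOf (ν ⟨q, hQP hqQ⟩) ∣ (P : Subgroup Y).index := orderOf_dvd_of_pow_eq_one h1
  have h4 : orderOf (ν ⟨q, hQP hqQ⟩) ∣ p ^ k := orderOf_dvd_of_pow_eq_one h2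
  have hcop : Nat.Coprime (P : Subgroup Y).index (p ^ k) := by
    apply Nat.Coprime.pow_right
    exact ((Nat.Prime.coprime_iff_not_dvd hp.out).mpr P.not_dvd_index).symm
  have h5 : orderOf (ν ⟨q, hQP hqQ⟩) = 1 := Nat.eq_one_of_dvd_coprimes hcop h3 h4
  rw [orderOf_eq_one_iff, hνker] at h5
  exact h5

end Cfsg.Agent.Lib.Helper33
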