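import Mathlib
import Cfsg.Prelude.Def_LocalEven
import Cfsg.Agent.Lib.Helper10.Nilpotent

set_option autoImplicit false
set_option linter.style.haveILetI false
set_option linter.unusedSectionVars false

/-!
# Normal nilpotent subgroups centralize chief factors
-/

namespace Cfsg.Agent.Lib.Helper33

open Cfsg Subgroup

/-- The image of a chief factor `U / V` in `Y / V` is a minimal normal subgroup. -/
theorem chief_map_min {Y : Type*} [Group Y] {U V : Subgroup Y} [hVn : V.Normal]
    (hc : IsChiefFactor U V) :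
    (U.map (QuotientGroup.mk' V)).Normal ∧ U.map (QuotientGroup.mk' V) ≠ ⊥ ∧
      ∀ N : Subgroup (Y ⧸ V), N.Normal → N ≤ U.map (QuotientGroup.mk' V) →
        N = ⊥ ∨ N = U.map (QuotientGroup.mk' V) := by
  obtain ⟨hVU, hUn, -, hmin⟩ := hc
  have hsurj := QuotientGroup.mk'_surjective V
  refine ⟨Subgroup.Normal.map hUn _ hsurj, ?_, ?_⟩
  · intro h
    have h1 : U ≤ V := by
      intro x hx
      rw [← QuotientGroup.eq_one_iff]
      have : QuotientGroup.mk' V x ∈ U.map (QuotientGroup.mk' V) := Subgroup.mem_map_of_mem _ hx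
      rw [h, Subgroup.mem_bot] at this
      exact this
    exact absurd hVU (not_lt_of_ge h1)
  · intro N hN hNU
    obtain ⟨N', hN'⟩ : ∃ N' : Subgroup Y, N' = N.comap (QuotientGroup.mk' V) := ⟨_, rfl⟩
    have hN'n : N'.Normal := by rw [hN']; infer_instance
    have hVN' : V ≤ N' := by
      intro x hx
      rw [hN', Subgroup.mem_comap, QuotientGroup.mk'_apply, (QuotientGroup.eq_one_iff x).mpr hx]
      exact N.one_mem
    have hN'U : N' ≤ U := by
      intro x hx
      rw [hN', Subgroup.mem_comap] at hx
      obtain ⟨u, hu, hux⟩ := hNU hx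
      have h1 : u⁻¹ * x ∈ V := by
        rw [← QuotientGroup.eq_one_iff, QuotientGroup.mk_mul, QuotientGroup.mk_inv]
        have : (QuotientGroup.mk u : Y ⧸ V) = QuotientGroup.mk x := hux
        rw [this, inv_mul_cancel]
      have h2 := U.mul_mem hu (hVU.le h1)
      rwa [mul_inv_cancel_left] at h2
    have hNmap : N = N'.map (QuotientGroup.mk' V) := by
      rw [hN', Subgroup.map_comap_eq_self_of_surjective hsurj]
    rcases hmin N' hN'n hVN' hN'U with h | h
    · left
      rw [hNmap, h, QuotientGroup.map_mk'_self]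
    · right
      rw [hNmap, h]

/-- A normal `p`-subgroup centralizes every chief factor. -/
theorem chief_central {Y : Type*} [Group Y] [Finite Y] {p : ℕ} [hp : Fact p.Prime]
    {U V P : Subgroup Y} [hPn : P.Normal] (hP : IsPGroup p P) (hc : IsChiefFactor U V) :
    ⁅P, U⁆ ≤ V := by
  haveI hVn : V.Normal := hc.2.2.1
  obtain ⟨hUbn, hUbne, hUbmin⟩ := chief_map_min hc
  have hsurj := QuotientGroup.mk'_surjective V
  haveI := hUbn
  haveI hPbn : (P.map (QuotientGroup.mk' V)).Normal := Subgroup.Normal.map hPn _ hsurj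
  have hPbp : IsPGroup p (P.map (QuotientGroup.mk' V)) := hP.map _
  have hnil : Group.IsNilpotent (P.map (QuotientGroup.mk' V)) := hPbp.isNilpotent
  have h1 := Cfsg.Agent.Lib.Helper10.normal_nilpotent_le_centralizer_of_minimal_normal
    (P.map (QuotientGroup.mk' V)) (U.map (QuotientGroup.mk' V)) hnil hUbne hUbmin
  rw [← Subgroup.commutator_eq_bot_iff_le_centralizer, ← Subgroup.map_commutator,
    Subgroup.map_eq_bot_iff, QuotientGroup.ker_mk'] at h1
  exact h1

end Cfsg.Agent.Lib.Helper33
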