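import Mathlib
import Cfsg.Prelude.Def_LocalEven

set_option autoImplicit false
set_option linter.style.haveILetI false
set_option linter.unusedSectionVars false

/-!
# Chief factors inside a `p`-group are elementary abelian
-/

namespace Cfsg.Agent.Lib.Helper33

open Cfsg Subgroup

/-- a minimal normal `p`-subgroup is elementary abelian -/
theorem min_normal_elem {X : Type*} [Group X] [Finite X] {p : ℕ} [hp : Fact p.Prime]
    (P : Subgroup X) [hPn : P.Normal] (hPp : IsPGroup p P) (hPbot : P ≠ ⊥)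
    (hmin : ∀ U : Subgroup X, U.Normal → U ≤ P → U = ⊥ ∨ U = P) :
    (∀ x ∈ P, ∀ y ∈ P, x * y = y * x) ∧ ∀ x ∈ P, x ^ p = 1 := by
  have hnt : Nontrivial P := by
    rw [← Subgroup.nontrivial_iff_ne_bot] at hPbot
    exact hPbot
  have hcomm : ∀ x ∈ P, ∀ y ∈ P, x * y = y * x := by
    have hnil : Group.IsNilpotent P := hPp.isNilpotent
    have hlt : commutator P < ⊤ := Group.IsSolvable.commutator_lt_top_of_nontrivial P
    have hcn : (⁅P, P⁆ : Subgroup X).Normal := inferInstance
    have hcle : ⁅P, P⁆ ≤ P := (Subgroup.commutator_le_inf P P).trans inf_le_left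
    rcases hmin _ hcn hcle with h | h
    · have h2 := Subgroup.commutator_eq_bot_iff_le_centralizer.mp h
      intro x hx y hy
      have := h2 hx
      rw [Subgroup.mem_centralizer_iff] at this
      exact (this y hy).symm
    · exfalso
      have h3 : (commutator P).map P.subtype = ⁅P, P⁆ := Subgroup.map_subtype_commutator P
      rw [h] at h3
      have h4 : (commutator P).map P.subtype = (⊤ : Subgroup P).map P.subtype := by
        rw [h3, ← MonoidHom.range_eq_map, Subgroup.range_subtype]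
      have h5 := Subgroup.map_injective P.subtype_injective h4
      exact (ne_of_lt hlt) h5
  refine ⟨hcomm, ?_⟩
  obtain ⟨Ω, hΩ⟩ : ∃ Ω : Subgroup X, ∀ v, v ∈ Ω ↔ (v ∈ P ∧ v ^ p = 1) :=
    ⟨{ carrier := {v | v ∈ P ∧ v ^ p = 1}
       one_mem' := ⟨P.one_mem, one_pow _⟩
       mul_mem' := fun {x y} hx hy => ⟨P.mul_mem hx.1 hy.1, by
         have hc : Commute x y := hcomm x hx.1 y hy.1
         rw [hc.mul_pow, hx.2, hy.2, one_mul]⟩
       inv_mem' := fun {x} hx => ⟨P.inv_mem hx.1, by rw [inv_pow, hx.2, inv_one]⟩ },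
      fun v => Iff.rfl⟩
  have hΩn : Ω.Normal := by
    constructor
    intro v hv g
    rw [hΩ] at hv ⊢
    exact ⟨hPn.conj_mem v hv.1 g, by rw [conj_pow, hv.2]; group⟩
  have hΩP : Ω ≤ P := fun v hv => ((hΩ v).mp hv).1
  have hΩne : Ω ≠ ⊥ := by
    have hpd : p ∣ Nat.card P := by
      obtain ⟨n, hn⟩ := IsPGroup.iff_card.mp hPp
      rw [hn]
      apply dvd_pow_self
      rintro rfl
      rw [pow_zero] at hn
      have := Finite.one_lt_card (α := P)
      omega
    obtain ⟨v, hv⟩ := exists_prime_orderOf_dvd_card' p hpd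
    intro hbot
    have hvΩ : (v : X) ∈ Ω := by
      rw [hΩ]
      refine ⟨v.2, ?_⟩
      have : v ^ p = 1 := by rw [← hv]; exact pow_orderOf_eq_one v
      have := congrArg Subtype.val this
      simpa using this
    rw [hbot, Subgroup.mem_bot] at hvΩ
    have hv1 : v = 1 := Subtype.ext hvΩ
    rw [hv1, orderOf_one] at hv
    exact hp.out.one_lt.ne hv
  rcases hmin Ω hΩn hΩP with h | h
  · exact absurd h hΩne
  · intro x hx
    rw [← h] at hx
    exact ((hΩ x).mp hx).2

/-- A chief factor `U / V` with `U` a `p`-group is elementary abelian. -/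
theorem chief_elemAb {Y : Type*} [Group Y] [Finite Y] {p : ℕ} [hp : Fact p.Prime]
    {U V : Subgroup Y} (hc : IsChiefFactor U V) (hU : IsPGroup p U) :
    (∀ a ∈ U, ∀ b ∈ U, a * b * a⁻¹ * b⁻¹ ∈ V) ∧ ∀ a ∈ U, a ^ p ∈ V := by
  obtain ⟨hVU, hUn, hVn, hmin⟩ := hc
  haveI := hUn
  haveI := hVn
  have hsurj := QuotientGroup.mk'_surjective V
  obtain ⟨Ub, hUb⟩ : ∃ Ub : Subgroup (Y ⧸ V), Ub = U.map (QuotientGroup.mk' V) := ⟨_, rfl⟩
  haveI hUbn : Ub.Normal := by rw [hUb]; exact Subgroup.Normal.map hUn _ hsurj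
  have hUbp : IsPGroup p Ub := by rw [hUb]; exact hU.map _
  have hUbne : Ub ≠ ⊥ := by
    intro h
    have h1 : U ≤ V := by
      intro x hx
      rw [← QuotientGroup.eq_one_iff]
      have : QuotientGroup.mk' V x ∈ U.map (QuotientGroup.mk' V) := Subgroup.mem_map_of_mem _ hx
      rw [← hUb, h, Subgroup.mem_bot] at this
      exact this
    exact absurd hVU (not_lt_of_ge h1)
  have hUbmin : ∀ N : Subgroup (Y ⧸ V), N.Normal → N ≤ Ub → N = ⊥ ∨ N = Ub := by
    intro N hN hNU
    obtain ⟨N', hN'⟩ : ∃ N' : Subgroup Y, N' = N.comap (QuotientGroup.mk' V) := ⟨_, rfl⟩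
    have hN'n : N'.Normal := by rw [hN']; infer_instance
    have hVN' : V ≤ N' := by
      intro x hx
      rw [hN', Subgroup.mem_comap, QuotientGroup.mk'_apply, (QuotientGroup.eq_one_iff x).mpr hx]
      exact N.one_mem
    have hN'U : N' ≤ U := by
      intro x hx
      rw [hN', Subgroup.mem_comap] at hx
      have hx' := hNU hx
      rw [hUb] at hx'
      obtain ⟨u, hu, hux⟩ := hx'
      have h1 : u⁻¹ * x ∈ V := by
        rw [← QuotientGroup.eq_one_iff, QuotientGroup.mk_mul, QuotientGroup.mk_inv]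
        have : (QuotientGroup.mk u : Y ⧸ V) = QuotientGroup.mk x := hux
        rw [this, inv_mul_cancel]
      have h2 := U.mul_mem hu (hVU.le h1)
      rwa [mul_inv_cancel_left] at h2
    have hNmap : N = N'.map (QuotientGroup.mk' V) := by
      rw [hN', Subgroup.map_comap_eq_self_of_surjective hsurj]
    rcases hmin N' hN'n hVN' hN'U with h | h
    · left
      rw [hNmap, h, QuotientGroup.map_mk'_self]
    · right
      rw [hNmap, h, hUb]
  obtain ⟨hc1, hc2⟩ := min_normal_elem Ub hUbp hUbne hUbmin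
  have hmemb : ∀ a ∈ U, (QuotientGroup.mk a : Y ⧸ V) ∈ Ub := by
    intro a ha
    rw [hUb]
    exact Subgroup.mem_map_of_mem (QuotientGroup.mk' V) ha
  constructor
  · intro a ha b hb
    rw [← QuotientGroup.eq_one_iff]
    have h1 := hc1 _ (hmemb a ha) _ (hmemb b hb)
    rw [QuotientGroup.mk_mul, QuotientGroup.mk_mul, QuotientGroup.mk_mul, QuotientGroup.mk_inv,
      QuotientGroup.mk_inv, h1]
    group
  · intro a ha
    rw [← QuotientGroup.eq_one_iff, QuotientGroup.mk_pow]
    exact hc2 _ (hmemb a ha)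

end Cfsg.Agent.Lib.Helper33
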