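import Cfsg.Agent.Lib.Helper75.D4gDefs

/-!
# D4g mini-hive (S2407, owner helper75): leaf D4G-ADD `xS_add`
-/

set_option autoImplicit false

namespace Cfsg.Agent.Lib.Helper75.D4g

open Cfsg Cfsg.Lie Cfsg.Agent.Lib.Helper36

section stack
variable {K : Type*} [Field K] (φ : K →+* K)

theorem d4gadd_comm_18_13 (t u : K) : Commute (xg K 18 t) (xg K 13 u) :=
  xGL_commute_of_nil chevD4 hD4 K 18 13 (by decide) (by decide) (by decide) (by decide)
    (by decide) t u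

theorem d4gadd_comm_18_12 (t u : K) : Commute (xg K 18 t) (xg K 12 u) :=
  xGL_commute_of_nil chevD4 hD4 K 18 12 (by decide) (by decide) (by decide) (by decide)
    (by decide) t u

theorem d4gadd_comm_13_12 (t u : K) : Commute (xg K 13 t) (xg K 12 u) :=
  xGL_commute_of_nil chevD4 hD4 K 13 12 (by decide) (by decide) (by decide) (by decide)
    (by decide) t u

/-- D4G-ADD: `x_S` is additive. -/
theorem xS_add (t u : K) : xS K φ (t + u) = xS K φ t * xS K φ u := by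
  unfold xS
  simp only [map_add]
  unfold xg
  rw [xGL_add, xGL_add, xGL_add]
  have c1 := (d4gadd_comm_18_13 (K := K) u (φ t)).eq
  have c2 := (d4gadd_comm_18_12 (K := K) u (φ (φ t))).eq
  have c3 := (d4gadd_comm_13_12 (K := K) (φ u) (φ (φ t))).eq
  unfold xg at c1 c2 c3
  calc xGL chevD4 hD4 K 18 t * xGL chevD4 hD4 K 18 u *
        (xGL chevD4 hD4 K 13 (φ t) * xGL chevD4 hD4 K 13 (φ u)) *
        (xGL chevD4 hD4 K 12 (φ (φ t)) * xGL chevD4 hD4 K 12 (φ (φ u)))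
      = xGL chevD4 hD4 K 18 t * (xGL chevD4 hD4 K 18 u * xGL chevD4 hD4 K 13 (φ t)) *
        (xGL chevD4 hD4 K 13 (φ u) * xGL chevD4 hD4 K 12 (φ (φ t))) *
        xGL chevD4 hD4 K 12 (φ (φ u)) := by simp only [mul_assoc]
    _ = xGL chevD4 hD4 K 18 t * (xGL chevD4 hD4 K 13 (φ t) * xGL chevD4 hD4 K 18 u) *
        (xGL chevD4 hD4 K 12 (φ (φ t)) * xGL chevD4 hD4 K 13 (φ u)) *
        xGL chevD4 hD4 K 12 (φ (φ u)) := by rw [c1, c3]
    _ = xGL chevD4 hD4 K 18 t * xGL chevD4 hD4 K 13 (φ t) *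
        (xGL chevD4 hD4 K 18 u * xGL chevD4 hD4 K 12 (φ (φ t))) * xGL chevD4 hD4 K 13 (φ u) *
        xGL chevD4 hD4 K 12 (φ (φ u)) := by simp only [mul_assoc]
    _ = xGL chevD4 hD4 K 18 t * xGL chevD4 hD4 K 13 (φ t) *
        (xGL chevD4 hD4 K 12 (φ (φ t)) * xGL chevD4 hD4 K 18 u) * xGL chevD4 hD4 K 13 (φ u) *
        xGL chevD4 hD4 K 12 (φ (φ u)) := by rw [c2]
    _ = xGL chevD4 hD4 K 18 t * xGL chevD4 hD4 K 13 (φ t) * xGL chevD4 hD4 K 12 (φ (φ t)) *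
        (xGL chevD4 hD4 K 18 u * xGL chevD4 hD4 K 13 (φ u) * xGL chevD4 hD4 K 12 (φ (φ u))) := by
      simp only [mul_assoc]

end stack

end Cfsg.Agent.Lib.Helper75.D4g
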