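import Cfsg.Agent.Lib.Helper76.E8mDefs

/-!
# E8m hive (S2107, owner helper76): leaf E-MOVE2, core lemmas (with `move` as a hypothesis)
-/

set_option autoImplicit false

namespace Cfsg.Agent.Lib.Helper76.E8m

open Cfsg Cfsg.Lie Cfsg.Agent.Lib.Helper39.Sm
open scoped commutatorElement

section A
variable {D : ChevalleyDatum} {K : Type*} [Field K] {G : Type*} [Group G]
  {Y : Type*} [Group Y] (S : SLSys D K G) (φ : Y →* G) (hφ : Function.Surjective φ)

/-- the structure constants are `± 1`, so their squares are `1` in `K`. -/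
theorem move2_ep_sq (hB : TabBasic D) {a b e : ℕ} (h : sm D a b = some e) :
    ((ep D a b : ℤ) : K) * ((ep D a b : ℤ) : K) = 1 := by
  rcases hB.ep_sq a b e h with h1 | h1 <;> rw [h1] <;> push_cast <;> ring

/-- `move_one` from `move` (as a hypothesis). -/
theorem move2_one_core (hB : TabBasic D) {p q r pq qr e : ℕ} (h : A3 D p q r pq qr e)
    (hmv : ∀ t s w : K, ff S φ hφ p qr t (((ep D q r : ℤ) : K) * s * w) =
      ff S φ hφ pq r (((ep D p q : ℤ) : K) * t * s) w) (T w : K) :
    ff S φ hφ pq r T w =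
      ff S φ hφ p qr 1 (((ep D q r : ℤ) : K) * ((ep D p q : ℤ) : K) * T * w) := by
  have h1 := hmv 1 (((ep D p q : ℤ) : K) * T) w
  have e1 : ((ep D p q : ℤ) : K) * 1 * (((ep D p q : ℤ) : K) * T) = T := by
    have := move2_ep_sq (K := K) hB h.hpq
    linear_combination T * this
  have e2 : ((ep D q r : ℤ) : K) * (((ep D p q : ℤ) : K) * T) * w =
      ((ep D q r : ℤ) : K) * ((ep D p q : ℤ) : K) * T * w := by ring
  rw [e1, e2] at h1
  exact h1.symm

/-- `move_prod` from `move` (as a hypothesis). -/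
theorem move2_prod_core (hB : TabBasic D) {p q r pq qr e : ℕ} (h : A3 D p q r pq qr e)
    (hmv : ∀ t s w : K, ff S φ hφ p qr t (((ep D q r : ℤ) : K) * s * w) =
      ff S φ hφ pq r (((ep D p q : ℤ) : K) * t * s) w) (t U : K) :
    ff S φ hφ p qr t U = ff S φ hφ p qr 1 (t * U) := by
  have h1 := hmv t 1 (((ep D q r : ℤ) : K) * U)
  have e1 : ((ep D q r : ℤ) : K) * 1 * (((ep D q r : ℤ) : K) * U) = U := by
    have := move2_ep_sq (K := K) hB h.hqr
    linear_combination U * this
  rw [e1, mul_one] at h1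
  rw [h1, move2_one_core S φ hφ hB h hmv]
  congr 1
  have hpq := move2_ep_sq (K := K) hB h.hpq
  have hqr := move2_ep_sq (K := K) hB h.hqr
  linear_combination (((ep D q r : ℤ) : K) * ((ep D q r : ℤ) : K) * t * U) * hpq + (t * U) * hqr

end A

end Cfsg.Agent.Lib.Helper76.E8m
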