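import Cfsg.Agent.Lib.Helper76.E8mDefs
import Cfsg.Agent.Lib.Helper11.E8m_MOVE
import Cfsg.Agent.Lib.Helper33.E8m_MOVE2core

/-! E8m hive (S2107, owner helper76), leaf E-MOVE2: `move_one`, `move_prod` (exact-name wrappers of the core lemmas). -/

set_option autoImplicit false

universe u

namespace Cfsg.Agent.Lib.Helper76.E8m

open Cfsg Cfsg.Lie Cfsg.Agent.Lib.Helper39.Sm
open scoped commutatorElement

section A
variable {D : ChevalleyDatum} {dec : ℕ → ℕ × ℕ} {K : Type*} [Field K] {G : Type*} [Group G]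
  {Y : Type*} [Group Y] (S : SLSys D K G) (φ : Y →* G) (hφ : Function.Surjective φ)

/-- E-MOVE2 (from `move` + `hB.ep_sq`: all four `ep` in sight are `± 1`, `ε * ε = 1`).
`move_one`: `move` with `t := 1`, `s := N_{p,q} T`. -/
theorem move_one (hB : TabBasic D) (hc : φ.ker ≤ Subgroup.center Y) (hL : LAp S φ) {p q r pq qr e : ℕ}
    (h : A3 D p q r pq qr e) (T w : K) :
    ff S φ hφ pq r T w = ff S φ hφ p qr 1 (((ep D q r : ℤ) : K) * ((ep D p q : ℤ) : K) * T * w) :=
  move2_one_core S φ hφ hB h (fun t s w => move S φ hφ hc hL h t s w) T w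

/-- `move_prod`: `move` with `s := 1`, `w := N_{q,r} U` gives `ff p qr t U = ff pq r (N_{p,q} t) (N_{q,r} U)`; then `move_one`. -/
theorem move_prod (hB : TabBasic D) (hc : φ.ker ≤ Subgroup.center Y) (hL : LAp S φ) {p q r pq qr e : ℕ}
    (h : A3 D p q r pq qr e) (t U : K) :
    ff S φ hφ p qr t U = ff S φ hφ p qr 1 (t * U) :=
  move2_prod_core S φ hφ hB h (fun t s w => move S φ hφ hc hL h t s w) t U

end A

end Cfsg.Agent.Lib.Helper76.E8m
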