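import Cfsg.Agent.Lib.Helper33.EngelHom
import Cfsg.Agent.Lib.Helper33.ChiefCentral
import Cfsg.Agent.Lib.Helper33.KInf

set_option autoImplicit false
set_option linter.style.haveILetI false
set_option linter.unusedSectionVars false

/-!
# Chains of normal subgroups with Engel steps
-/

namespace Cfsg.Agent.Lib.Helper33

open Cfsg Subgroup

open scoped commutatorElement

variable {G : Type*} [Group G]

/-- The largest subgroup `K` with `[K, N] ≤ M` (`M` normal). -/
def cmod (N M : Subgroup G) [M.Normal] : Subgroup G :=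
  (Subgroup.centralizer ((N.map (QuotientGroup.mk' M) : Subgroup (G ⧸ M)) : Set (G ⧸ M))).comap
    (QuotientGroup.mk' M)

theorem le_cmod_iff {K N M : Subgroup G} [M.Normal] : K ≤ cmod N M ↔ ⁅K, N⁆ ≤ M := by
  unfold cmod
  rw [← Subgroup.map_le_iff_le_comap, ← Subgroup.commutator_eq_bot_iff_le_centralizer,
    ← Subgroup.map_commutator, Subgroup.map_eq_bot_iff, QuotientGroup.ker_mk']

theorem commutator_cmod_le (N M : Subgroup G) [M.Normal] : ⁅cmod N M, N⁆ ≤ M :=
  le_cmod_iff.mp le_rfl

instance cmod_normal (N M : Subgroup G) [hN : N.Normal] [M.Normal] : (cmod N M).Normal := by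
  unfold cmod
  haveI : (N.map (QuotientGroup.mk' M)).Normal :=
    Subgroup.Normal.map hN _ (QuotientGroup.mk'_surjective M)
  infer_instance

theorem cmod_anti_left {N N' M : Subgroup G} [M.Normal] (h : N' ≤ N) : cmod N M ≤ cmod N' M :=
  le_cmod_iff.mpr ((Subgroup.commutator_mono le_rfl h).trans (commutator_cmod_le N M))

theorem cmod_mono_right {N M M' : Subgroup G} [M.Normal] [M'.Normal] (h : M ≤ M') :
    cmod N M ≤ cmod N M' :=
  le_cmod_iff.mpr ((commutator_cmod_le N M).trans h)

theorem cmod_bot (N : Subgroup G) : cmod N ⊥ = centralizer (N : Set G) := by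
  apply le_antisymm
  · rw [← Subgroup.commutator_eq_bot_iff_le_centralizer, eq_bot_iff]
    exact commutator_cmod_le N ⊥
  · rw [le_cmod_iff, le_bot_iff, Subgroup.commutator_eq_bot_iff_le_centralizer]

/-- chains with prescribed steps -/
inductive SChain (step : Subgroup G → Subgroup G → Prop) : Subgroup G → Subgroup G → Prop
  | refl (U : Subgroup G) : SChain step U U
  | cons {U V W : Subgroup G} : step U V → SChain step V W → SChain step U W

theorem SChain.of_eq {step : Subgroup G → Subgroup G → Prop} {U W : Subgroup G} (h : U = W) :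
    SChain step U W := h ▸ SChain.refl U

theorem SChain.trans {step : Subgroup G → Subgroup G → Prop} {U V W : Subgroup G}
    (h1 : SChain step U V) (h2 : SChain step V W) : SChain step U W := by
  induction h1 with
  | refl U => exact h2
  | cons hs _ ih => exact SChain.cons hs (ih h2)

theorem SChain.mono {s₁ s₂ : Subgroup G → Subgroup G → Prop} (h : ∀ U V, s₁ U V → s₂ U V)
    {U W : Subgroup G} (h1 : SChain s₁ U W) : SChain s₂ U W := by
  induction h1 with
  | refl U => exact SChain.refl U
  | cons hs _ ih => exact SChain.cons (h _ _ hs) ih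

theorem SChain.single {step : Subgroup G → Subgroup G → Prop} {U V : Subgroup G} (h : step U V) :
    SChain step U V := SChain.cons h (SChain.refl V)

/-- An Engel step. -/
def stepE (Z : Subgroup G) (k : ℕ) (U V : Subgroup G) : Prop :=
  U.Normal ∧ V.Normal ∧ V ≤ U ∧ iterCommutator U Z k ≤ V

theorem normal_le_normalizer (Z U : Subgroup G) [hU : U.Normal] : Z ≤ normalizer (U : Set G) := by
  rw [Subgroup.normalizer_eq_top_iff.mpr hU]; exact le_top

theorem stepE.mono_k {Z : Subgroup G} {k k' : ℕ} (hk : k ≤ k') {U V : Subgroup G}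
    (h : stepE Z k U V) : stepE Z k' U V := by
  obtain ⟨hU, hV, hVU, hE⟩ := h
  haveI := hV
  exact ⟨hU, hV, hVU, iterC_le_of_le (normal_le_normalizer Z V) hk hE⟩

theorem SChain.le {Z : Subgroup G} {k : ℕ} {U W : Subgroup G} (h : SChain (stepE Z k) U W) :
    W ≤ U := by
  induction h with
  | refl U => exact le_rfl
  | cons hs _ ih => exact ih.trans hs.2.2.1

theorem SChain.inf {Z : Subgroup G} {k : ℕ} {U W : Subgroup G} (h : SChain (stepE Z k) U W)
    (K : Subgroup G) [hK : K.Normal] : SChain (stepE Z k) (U ⊓ K) (W ⊓ K) := by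
  induction h with
  | refl U => exact SChain.refl _
  | cons hs _ ih =>
    obtain ⟨hU, hV, hVU, hE⟩ := hs
    haveI := hU
    haveI := hV
    refine SChain.cons ⟨inferInstance, inferInstance, inf_le_inf_right K hVU, ?_⟩ ih
    apply le_inf
    · exact (iterC_mono inf_le_left Z k).trans hE
    · exact (iterC_mono inf_le_right Z k).trans (iterC_le_self (normal_le_normalizer Z K) k)

/-- `[U ⊔ Y, Z; k] ≤ [U, Z; k] ⊔ Y` for normal `Y`. -/
theorem iterC_sup_le (U Y Z : Subgroup G) [hY : Y.Normal] (k : ℕ) :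
    iterCommutator (U ⊔ Y) Z k ≤ iterCommutator U Z k ⊔ Y := by
  have h1 : (iterCommutator (U ⊔ Y) Z k).map (QuotientGroup.mk' Y) =
      (iterCommutator U Z k).map (QuotientGroup.mk' Y) := by
    rw [iterC_map, iterC_map, Subgroup.map_sup, QuotientGroup.map_mk'_self, sup_bot_eq]
  have h2 := Subgroup.le_comap_map (QuotientGroup.mk' Y) (iterCommutator (U ⊔ Y) Z k)
  rw [h1, Subgroup.comap_map_eq, QuotientGroup.ker_mk'] at h2
  exact h2

/-- Engel chains control all chief factors. -/
theorem SChain.chief_aux {Z : Subgroup G} {k : ℕ} {U W : Subgroup G} (h : SChain (stepE Z k) U W)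
    {X Y : Subgroup G} (hc : IsChiefFactor X Y) (hX : X ≤ U ⊔ Y) :
    iterCommutator X Z k ≤ Y ∨ X ≤ W ⊔ Y := by
  induction h with
  | refl U => exact Or.inr hX
  | @cons U' V' W' hs _ ih =>
    obtain ⟨hU, hV, hVU, hE⟩ := hs
    obtain ⟨hYX, hXn, hYn, hmin⟩ := hc
    haveI := hU
    haveI := hV
    haveI := hXn
    haveI := hYn
    rcases hmin ((V' ⊔ Y) ⊓ X) inferInstance (le_inf le_sup_right hYX.le) inf_le_right with h1 | h1
    · left
      rw [← h1]
      apply le_inf
      · exact ((iterC_mono hX Z k).trans (iterC_sup_le U' Y Z k)).trans (sup_le_sup_right hE Y)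
      · exact iterC_le_self (normal_le_normalizer Z X) k
    · exact ih (by rw [← h1]; exact inf_le_left)

theorem SChain.chief {Z : Subgroup G} {k : ℕ} {U : Subgroup G} (h : SChain (stepE Z k) U ⊥)
    {X Y : Subgroup G} (hc : IsChiefFactor X Y) (hX : X ≤ U) : iterCommutator X Z k ≤ Y := by
  rcases h.chief_aux hc (hX.trans le_sup_left) with h1 | h1
  · exact h1
  · rw [bot_sup_eq] at h1
    exact absurd hc.1 (not_lt_of_ge h1)

/-- chief series: a chain whose steps are chief factors -/
theorem exists_chief_chain [Finite G] (step : Subgroup G → Subgroup G → Prop) (W : Subgroup G)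
    [hW : W.Normal] :
    ∀ (n : ℕ) (U : Subgroup G), Nat.card U = n → U.Normal → W ≤ U →
      (∀ X Y : Subgroup G, IsChiefFactor X Y → X ≤ U → W ≤ Y → step X Y) → SChain step U W := by
  intro n
  induction n using Nat.strong_induction_on with
  | _ n ih =>
  intro U hn hU hWU hstep
  by_cases hUW : U = W
  · exact SChain.of_eq hUW
  have hlt : W < U := lt_of_le_of_ne hWU (fun h => hUW h.symm)
  obtain ⟨V, ⟨hVn, hWV, hVU⟩, -, hVmax⟩ := exists_max_member
    {V : Subgroup G | V.Normal ∧ W ≤ V ∧ V < U} (B₀ := W) ⟨hW, le_rfl, hlt⟩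
  have hchief : IsChiefFactor U V := by
    refine ⟨hVU, hU, hVn, ?_⟩
    intro N hN hVN hNU
    by_cases h : N = U
    · exact Or.inr h
    · left
      exact hVmax N ⟨hN, hWV.trans hVN, lt_of_le_of_ne hNU h⟩ hVN
  have hcard : Nat.card V < n := by
    rw [← hn]
    by_contra hc
    have hge : Nat.card U ≤ Nat.card V := Nat.le_of_not_lt hc
    exact (ne_of_lt hVU) (Subgroup.eq_of_le_of_card_ge hVU.le hge)
  exact SChain.cons (hstep U V hchief le_rfl hWV)
    (ih _ hcard V rfl hVn hWV (fun X Y hc hXV hWY => hstep X Y hc (hXV.trans hVU.le) hWY))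

end Cfsg.Agent.Lib.Helper33
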