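import Cfsg.Agent.Lib.Helper33.EngelChain

set_option autoImplicit false
set_option linter.style.haveILetI false
set_option linter.unusedSectionVars false

/-!
# Engel conditions: from a critical subgroup to the whole normal `p`-subgroup
-/

namespace Cfsg.Agent.Lib.Helper33

open Cfsg Subgroup

open scoped commutatorElement

variable {G : Type*} [Group G]

/-- Inner step: the source chain `N → N₀` acting into one target step `M → M'`. -/
theorem hom_chain_inner {Z R M M' : Subgroup G} [hR : R.Normal] [hMn : M.Normal] [hM'n : M'.Normal]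
    {e f : ℕ} (he : 1 ≤ e) (hMM' : M' ≤ M) (hM : iterCommutator M Z f ≤ M') (hRM : ⁅R, M⁆ ≤ M')
    {N N₀ : Subgroup G} (hch : SChain (stepE Z e) N N₀) :
    ∀ (hNn : N.Normal) (hN₀n : N₀.Normal), ⁅N, M⁆ ≤ M' →
      SChain (stepE Z (e + f - 1)) (R ⊓ cmod N M ⊓ cmod N₀ M') (R ⊓ cmod N M') := by
  induction hch with
  | refl N =>
    intro hNn _ _
    apply SChain.of_eq
    rw [inf_assoc, inf_eq_right.mpr (cmod_mono_right hMM')]
  | @cons N N₁ N₀ hs hrest ih =>
    intro hNn hN₀n hNM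
    obtain ⟨-, hN₁n, hN₁N, hE⟩ := hs
    haveI := hNn
    haveI := hN₁n
    haveI := hN₀n
    have hN₁M : ⁅N₁, M⁆ ≤ M' := (Subgroup.commutator_mono hN₁N le_rfl).trans hNM
    have ih' := (ih hN₁n hN₀n hN₁M).inf (cmod N M)
    have hle : cmod N M ≤ cmod N₁ M := cmod_anti_left hN₁N
    have e1 : (R ⊓ cmod N₁ M ⊓ cmod N₀ M') ⊓ cmod N M = R ⊓ cmod N M ⊓ cmod N₀ M' := by
      apply le_antisymm
      · exact le_inf (le_inf (inf_le_left.trans (inf_le_left.trans inf_le_left)) inf_le_right)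
          (inf_le_left.trans inf_le_right)
      · exact le_inf (le_inf (le_inf (inf_le_left.trans inf_le_left)
          ((inf_le_left.trans inf_le_right).trans hle)) inf_le_right) (inf_le_left.trans inf_le_right)
    rw [e1] at ih'
    refine ih'.trans (SChain.single ⟨inferInstance, inferInstance, ?_, ?_⟩)
    · exact le_inf (le_inf inf_le_left (inf_le_right.trans (cmod_anti_left hN₁N)))
        (inf_le_right.trans (cmod_mono_right hMM'))
    · obtain ⟨X, hX⟩ : ∃ X : Subgroup G, X = (R ⊓ cmod N₁ M') ⊓ cmod N M := ⟨_, rfl⟩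
      rw [← hX]
      haveI hXn : X.Normal := by rw [hX]; infer_instance
      have hXR : X ≤ R := by rw [hX]; exact inf_le_left.trans inf_le_left
      apply le_inf
      · exact (iterC_le_self (normal_le_normalizer Z X) _).trans hXR
      · rw [le_cmod_iff]
        apply pairing_engel (X := X) (A₁ := N) (A₂ := N₁) (B₁ := M) (B₂ := M')
          ((Subgroup.commutator_mono hXR le_rfl).trans hRM) hNM ?_ ?_
          (normal_le_normalizer Z X) (normal_le_normalizer Z N) (normal_le_normalizer Z M) he hE hM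
        · rw [← le_cmod_iff, hX]; exact inf_le_right
        · rw [← le_cmod_iff, hX]; exact inf_le_left.trans inf_le_right

/-- a target step: Engel, and centralized by `R` and `N` -/
def stepT (Z R N : Subgroup G) (f : ℕ) (U V : Subgroup G) : Prop :=
  stepE Z f U V ∧ ⁅R, U⁆ ≤ V ∧ ⁅N, U⁆ ≤ V

/-- Outer step: the source chain `N → N₀` acting into the target chain `M → Mend`. -/
theorem hom_chain_outer {Z R N N₀ : Subgroup G} [hR : R.Normal] [hNn : N.Normal]
    [hN₀n : N₀.Normal] {e f : ℕ} (he : 1 ≤ e) (hch : SChain (stepE Z e) N N₀)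
    {M Mend : Subgroup G} (hT : SChain (stepT Z R N f) M Mend) :
    ∀ (hMn : M.Normal) (hMe : Mend.Normal), ⁅R, N₀⁆ ≤ Mend →
      SChain (stepE Z (e + f - 1)) (R ⊓ @cmod G _ N M hMn) (R ⊓ @cmod G _ N Mend hMe) := by
  induction hT with
  | refl M =>
    intro _ _ _
    exact SChain.refl _
  | @cons M M₁ Mend hs hrest ih =>
    intro hMn hMe hRN₀
    obtain ⟨⟨-, hM₁n, hM₁M, hE⟩, hRM, hNM⟩ := hs
    haveI := hMn
    haveI := hMe
    haveI := hM₁n
    have hEndM₁ : Mend ≤ M₁ := by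
      have : SChain (stepE Z f) M₁ Mend := hrest.mono (fun _ _ h => h.1)
      exact this.le
    have h1 := hom_chain_inner (R := R) he hM₁M hE hRM hch hNn hN₀n hNM
    have e1 : R ⊓ cmod N M ⊓ cmod N₀ M₁ = R ⊓ cmod N M := by
      apply inf_eq_left.mpr
      apply inf_le_left.trans
      rw [le_cmod_iff]
      exact hRN₀.trans hEndM₁
    rw [e1] at h1
    exact h1.trans (ih hM₁n hMe hRN₀)

/-- **From a critical subgroup to the whole group.** If `Q ≤ P` are normal subgroups of `G`, `P` a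
`p`-group, `[P, Q] ≤ Z(Q)` and `C_P(Q) ≤ Q`, and `Z` is `i`-Engel on the chief factors of `G` inside `Q`
and `j`-Engel on those inside `Z(Q)`, then it is `(i + j - 1)`-Engel on those inside `P`. -/
theorem engel_of_critical [Finite G] {p : ℕ} [hp : Fact p.Prime] (P Q : Subgroup G) [hPn : P.Normal]
    [hQn : Q.Normal] (hP : IsPGroup p P) (hQP : Q ≤ P)
    (hPQ : ⁅P, Q⁆ ≤ Q ⊓ centralizer (Q : Set G)) (hCPQ : P ⊓ centralizer (Q : Set G) ≤ Q)
    (Z : Subgroup G) {i j : ℕ} (hi : 1 ≤ i) (hj : 1 ≤ j)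
    (hQi : ∀ U V : Subgroup G, IsChiefFactor U V → U ≤ Q → iterCommutator U Z i ≤ V)
    (hZj : ∀ U V : Subgroup G, IsChiefFactor U V → U ≤ Q ⊓ centralizer (Q : Set G) →
      iterCommutator U Z j ≤ V) :
    ∀ U V : Subgroup G, IsChiefFactor U V → U ≤ P → iterCommutator U Z (i + j - 1) ≤ V := by
  obtain ⟨Zq, hZq⟩ : ∃ Zq : Subgroup G, Zq = Q ⊓ centralizer (Q : Set G) := ⟨_, rfl⟩
  rw [← hZq] at hPQ hZj
  haveI hZqn : Zq.Normal := by rw [hZq]; infer_instance
  have hZqQ : Zq ≤ Q := by rw [hZq]; exact inf_le_left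
  have hZqC : Zq ≤ centralizer (Q : Set G) := by rw [hZq]; exact inf_le_right
  have hZqZq : Zq ≤ centralizer (Zq : Set G) :=
    hZqC.trans (Subgroup.centralizer_le (by exact_mod_cast hZqQ))
  obtain ⟨j', hj'⟩ : ∃ j' : ℕ, j' = min i j := ⟨_, rfl⟩
  have hj'1 : 1 ≤ j' := by rw [hj']; exact le_min hi hj
  have hj'i : j' ≤ i := by rw [hj']; exact min_le_left _ _
  have hj'j : j' ≤ j := by rw [hj']; exact min_le_right _ _
  have hZj' : ∀ U V : Subgroup G, IsChiefFactor U V → U ≤ Zq → iterCommutator U Z j' ≤ V := by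
    intro U V hc hU
    rcases le_total i j with h | h
    · rw [hj', min_eq_left h]; exact hQi U V hc (hU.trans hZqQ)
    · rw [hj', min_eq_right h]; exact hZj U V hc hU
  -- the chains
  have chainZ : SChain (fun U V => stepE Z j' U V ∧ ⁅P, U⁆ ≤ V) Zq ⊥ :=
    exists_chief_chain _ ⊥ _ Zq rfl hZqn bot_le (fun X Y hc hX _ =>
      ⟨⟨hc.2.1, hc.2.2.1, hc.1.le, hZj' X Y hc hX⟩, chief_central hP hc⟩)
  have chainQ : SChain (stepE Z i) Q Zq :=
    exists_chief_chain _ Zq _ Q rfl hQn hZqQ (fun X Y hc hX _ =>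
      ⟨hc.2.1, hc.2.2.1, hc.1.le, hQi X Y hc hX⟩)
  obtain ⟨P₂, hP₂⟩ : ∃ P₂ : Subgroup G, P₂ = P ⊓ centralizer (Zq : Set G) := ⟨_, rfl⟩
  haveI hP₂n : P₂.Normal := by rw [hP₂]; infer_instance
  have hP₂P : P₂ ≤ P := by rw [hP₂]; exact inf_le_left
  have hP₂C : P₂ ≤ centralizer (Zq : Set G) := by rw [hP₂]; exact inf_le_right
  -- (II)
  have hII : SChain (stepE Z (i + j' - 1)) P₂ Zq := by
    have h1 := hom_chain_outer (R := P₂) (N := Q) (N₀ := Zq) hi chainQ
      (chainZ.mono (fun U V h => (⟨h.1, (Subgroup.commutator_mono hP₂P le_rfl).trans h.2,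
        (Subgroup.commutator_mono hQP le_rfl).trans h.2⟩ : stepT Z P₂ Q j' U V)))
      hZqn inferInstance (by
        rw [le_bot_iff, Subgroup.commutator_eq_bot_iff_le_centralizer]; exact hP₂C)
    have e1 : P₂ ⊓ cmod Q Zq = P₂ := by
      apply inf_eq_left.mpr
      rw [le_cmod_iff]
      exact (Subgroup.commutator_mono hP₂P le_rfl).trans hPQ
    have e2 : P₂ ⊓ cmod Q ⊥ = Zq := by
      rw [cmod_bot]
      apply le_antisymm
      · intro x hx
        rw [hZq]
        have hxP : x ∈ P := hP₂P hx.1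
        exact ⟨hCPQ ⟨hxP, hx.2⟩, hx.2⟩
      · refine le_inf ?_ hZqC
        rw [hP₂]
        exact le_inf (hZqQ.trans hQP) hZqZq
    rw [e1, e2] at h1
    exact h1
  -- (III)
  have hIII : SChain (stepE Z (j' + j' - 1)) P P₂ := by
    have h1 := hom_chain_outer (R := P) (N := Zq) (N₀ := ⊥) hj'1
      (chainZ.mono (fun U V h => h.1))
      (chainZ.mono (fun U V h => (⟨h.1, h.2,
        (Subgroup.commutator_mono (hZqQ.trans hQP) le_rfl).trans h.2⟩ : stepT Z P Zq j' U V)))
      hZqn inferInstance (by rw [Subgroup.commutator_bot_right])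
    have e1 : P ⊓ cmod Zq Zq = P := by
      apply inf_eq_left.mpr
      rw [le_cmod_iff]
      exact Subgroup.commutator_le_right P Zq
    have e2 : P ⊓ cmod Zq ⊥ = P₂ := by rw [cmod_bot, hP₂]
    rw [e1, e2] at h1
    exact h1
  have hI : SChain (stepE Z j') Zq ⊥ := chainZ.mono (fun U V h => h.1)
  have hall : SChain (stepE Z (i + j - 1)) P ⊥ :=
    ((hIII.mono (fun U V h => h.mono_k (by omega))).trans
      (hII.mono (fun U V h => h.mono_k (by omega)))).trans
      (hI.mono (fun U V h => h.mono_k (by omega)))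
  intro U V hc hUP
  exact hall.chief hc hUP

end Cfsg.Agent.Lib.Helper33
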