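import Mathlib
import Cfsg.Prelude.Def_PLocal
import Cfsg.Agent.Lib.Helper33.Conj

set_option autoImplicit false
set_option linter.style.haveILetI false
set_option linter.unusedSectionVars false

/-!
# Engel conditions on `Hom`-like sections

If `Z` acts on `A₁ / A₂` with `[A₁, Z; i] ≤ A₂` and on `B₁ / B₂` with `[B₁, Z; j] ≤ B₂`, and the commutator
induces a bi-additive pairing `X × A₁/A₂ → B₁/B₂`, then `[X, Z; i + j - 1]` pairs trivially.
-/

namespace Cfsg.Agent.Lib.Helper33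

open Cfsg Subgroup

open scoped commutatorElement

variable {G : Type*} [Group G]

theorem iterC_succ (U Z : Subgroup G) (k : ℕ) :
    iterCommutator U Z (k + 1) = ⁅iterCommutator U Z k, Z⁆ := rfl

theorem iterC_zero (U Z : Subgroup G) : iterCommutator U Z 0 = U := rfl

theorem iterC_map {H : Type*} [Group H] (f : G →* H) (U Z : Subgroup G) (k : ℕ) :
    (iterCommutator U Z k).map f = iterCommutator (U.map f) (Z.map f) k := by
  induction k with
  | zero => rfl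
  | succ k ih => rw [iterC_succ, iterC_succ, Subgroup.map_commutator, ih]

theorem iterC_mono {U U' : Subgroup G} (h : U ≤ U') (Z : Subgroup G) (k : ℕ) :
    iterCommutator U Z k ≤ iterCommutator U' Z k := by
  induction k with
  | zero => exact h
  | succ k ih => exact Subgroup.commutator_mono ih le_rfl

theorem commutator_le_of_le_normalizer {H Z : Subgroup G} (h : Z ≤ normalizer (H : Set G)) :
    ⁅H, Z⁆ ≤ H := by
  rw [Subgroup.commutator_le]
  intro a ha z hz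
  rw [commutatorElement_def]
  have h1 := (Subgroup.mem_normalizer_iff.mp (h hz) a⁻¹).mp (H.inv_mem ha)
  have h2 := H.mul_mem ha h1
  have e : a * (z * a⁻¹ * z⁻¹) = a * z * a⁻¹ * z⁻¹ := by group
  rwa [e] at h2

theorem commutator_normalized {H Z : Subgroup G} (h : Z ≤ normalizer (H : Set G)) :
    Z ≤ normalizer ((⁅H, Z⁆ : Subgroup G) : Set G) := by
  intro z hz
  rw [← cj_eq_self_iff, cj_def, Subgroup.map_commutator, ← cj_def, ← cj_def,
    cj_eq_self_iff.mpr (h hz), cj_eq_self_of_mem hz]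

theorem iterC_normalized {U Z : Subgroup G} (h : Z ≤ normalizer (U : Set G)) (k : ℕ) :
    Z ≤ normalizer ((iterCommutator U Z k : Subgroup G) : Set G) := by
  induction k with
  | zero => exact h
  | succ k ih => exact commutator_normalized ih

theorem iterC_succ_le {U Z : Subgroup G} (h : Z ≤ normalizer (U : Set G)) (k : ℕ) :
    iterCommutator U Z (k + 1) ≤ iterCommutator U Z k :=
  commutator_le_of_le_normalizer (iterC_normalized h k)

theorem iterC_anti {U Z : Subgroup G} (h : Z ≤ normalizer (U : Set G)) {k k' : ℕ} (hk : k ≤ k') :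
    iterCommutator U Z k' ≤ iterCommutator U Z k := by
  induction k' with
  | zero =>
    have : k = 0 := by omega
    rw [this]
  | succ n ih =>
    by_cases h1 : k = n + 1
    · rw [h1]
    · exact (iterC_succ_le h n).trans (ih (by omega))

theorem iterC_le_self {U Z : Subgroup G} (h : Z ≤ normalizer (U : Set G)) (k : ℕ) :
    iterCommutator U Z k ≤ U :=
  iterC_anti h (Nat.zero_le k)

/-- if `[U, Z; k] ≤ V` with `V` normalized by `Z` then also for larger `k` -/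
theorem iterC_le_of_le {U V Z : Subgroup G} (hV : Z ≤ normalizer (V : Set G)) {k k' : ℕ}
    (hk : k ≤ k') (h : iterCommutator U Z k ≤ V) : iterCommutator U Z k' ≤ V := by
  induction k' with
  | zero =>
    have : k = 0 := by omega
    rw [this] at h; exact h
  | succ n ih =>
    by_cases h1 : k = n + 1
    · rw [← h1]; exact h
    · have h2 := ih (by omega)
      rw [iterC_succ]
      exact (Subgroup.commutator_mono h2 le_rfl).trans (commutator_le_of_le_normalizer hV)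

/-- **Pairing lemma, absolute form.** -/
theorem pairing_engel_bot {X A₁ A₂ B Z : Subgroup G} (hXB : X ≤ centralizer (B : Set G))
    (hAB : A₁ ≤ centralizer (B : Set G)) (hXA : ⁅X, A₁⁆ ≤ B)
    (hXA₂ : X ≤ centralizer (A₂ : Set G)) (hZX : Z ≤ normalizer (X : Set G))
    (hZA : Z ≤ normalizer (A₁ : Set G)) (hZB : Z ≤ normalizer (B : Set G)) {i j : ℕ} (hi : 1 ≤ i)
    (hA : iterCommutator A₁ Z i ≤ A₂) (hB : iterCommutator B Z j = ⊥) :
    iterCommutator X Z (i + j - 1) ≤ centralizer (A₁ : Set G) := by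
  have hcB : ∀ x ∈ X, ∀ b ∈ B, x * b * x⁻¹ = b := by
    intro x hx b hb
    have := Subgroup.mem_centralizer_iff.mp (hXB hx) b hb
    rw [← this]; group
  have hcA : ∀ a ∈ A₁, ∀ b ∈ B, a * b * a⁻¹ = b := by
    intro a ha b hb
    have := Subgroup.mem_centralizer_iff.mp (hAB ha) b hb
    rw [← this]; group
  have hcomm : ∀ x ∈ X, ∀ a ∈ A₁, ⁅x, a⁆ ∈ B := fun x hx a ha =>
    hXA (Subgroup.commutator_mem_commutator hx ha)
  have hAs : ∀ s, iterCommutator A₁ Z s ≤ A₁ := fun s => iterC_le_self hZA s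
  have hBs : ∀ t, iterCommutator B Z t ≤ B := fun t => iterC_le_self hZB t
  -- additivity
  have add_x : ∀ x₁ ∈ X, ∀ x₂ ∈ X, ∀ a ∈ A₁, ⁅x₁ * x₂, a⁆ = ⁅x₂, a⁆ * ⁅x₁, a⁆ := by
    intro x₁ hx₁ x₂ hx₂ a ha
    have h1 := hcB x₁ hx₁ _ (hcomm x₂ hx₂ a ha)
    have e : ⁅x₁ * x₂, a⁆ = x₁ * ⁅x₂, a⁆ * x₁⁻¹ * ⁅x₁, a⁆ := by
      simp only [commutatorElement_def]; group
    rw [e, h1]
  have inv_x : ∀ x ∈ X, ∀ a ∈ A₁, ⁅x⁻¹, a⁆ = ⁅x, a⁆⁻¹ := by
    intro x hx a ha
    have h1 := hcB x⁻¹ (X.inv_mem hx) _ (B.inv_mem (hcomm x hx a ha))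
    have e : ⁅x⁻¹, a⁆ = x⁻¹ * ⁅x, a⁆⁻¹ * x⁻¹⁻¹ := by
      simp only [commutatorElement_def]; group
    rw [e, h1]
  have add_a : ∀ x ∈ X, ∀ a ∈ A₁, ∀ a' ∈ A₁, ⁅x, a * a'⁆ = ⁅x, a⁆ * ⁅x, a'⁆ := by
    intro x hx a ha a' ha'
    have h1 := hcA a ha _ (hcomm x hx a' ha')
    have e : ⁅x, a * a'⁆ = ⁅x, a⁆ * (a * ⁅x, a'⁆ * a⁻¹) := by
      simp only [commutatorElement_def]; group
    rw [e, h1]
  -- the filtration
  obtain ⟨D, hD⟩ : ∃ D : ℕ → Subgroup G, ∀ n x, x ∈ D n ↔ (x ∈ X ∧ ∀ s, ∀ a ∈ iterCommutator A₁ Z s,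
      ⁅x, a⁆ ∈ iterCommutator B Z ((n + s) - (i - 1))) :=
    ⟨fun n =>
      { carrier := {x | x ∈ X ∧ ∀ s, ∀ a ∈ iterCommutator A₁ Z s,
          ⁅x, a⁆ ∈ iterCommutator B Z ((n + s) - (i - 1))}
        one_mem' := by
          refine ⟨X.one_mem, fun s a _ => ?_⟩
          rw [commutatorElement_def, one_mul, inv_one, mul_one, mul_inv_cancel]
          exact Subgroup.one_mem _
        mul_mem' := fun {x₁ x₂} h1 h2 => by
          refine ⟨X.mul_mem h1.1 h2.1, fun s a ha => ?_⟩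
          rw [add_x x₁ h1.1 x₂ h2.1 a (hAs s ha)]
          exact Subgroup.mul_mem _ (h2.2 s a ha) (h1.2 s a ha)
        inv_mem' := fun {x} h1 => by
          refine ⟨X.inv_mem h1.1, fun s a ha => ?_⟩
          rw [inv_x x h1.1 a (hAs s ha)]
          exact Subgroup.inv_mem _ (h1.2 s a ha) }, fun n x => Iff.rfl⟩
  have hstep : ∀ n, ∀ x ∈ D n, ∀ z ∈ Z, ⁅x, z⁆ ∈ D (n + 1) := by
    intro n x hx z hz
    rw [hD] at hx ⊢
    obtain ⟨hxX, hx2⟩ := hx
    have hyX : z * x⁻¹ * z⁻¹ ∈ X :=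
      (Subgroup.mem_normalizer_iff.mp (hZX hz) x⁻¹).mp (X.inv_mem hxX)
    have hxz : ⁅x, z⁆ = x * (z * x⁻¹ * z⁻¹) := by rw [commutatorElement_def]; group
    refine ⟨by rw [hxz]; exact X.mul_mem hxX hyX, fun s a ha => ?_⟩
    have haA : a ∈ A₁ := hAs s ha
    -- `a' = z⁻¹ a z = a * a₁`
    obtain ⟨a₁, ha₁⟩ : ∃ a₁, a₁ = ⁅a⁻¹, z⁻¹⁆ := ⟨_, rfl⟩
    have ha₁s : a₁ ∈ iterCommutator A₁ Z (s + 1) := by
      rw [ha₁, iterC_succ]
      exact Subgroup.commutator_mem_commutator (Subgroup.inv_mem _ ha) (Z.inv_mem hz)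
    have ha₁A : a₁ ∈ A₁ := hAs _ ha₁s
    have ha' : z⁻¹ * a * z = a * a₁ := by rw [ha₁, commutatorElement_def]; group
    obtain ⟨b, hb⟩ : ∃ b, b = ⁅x, a⁆ := ⟨_, rfl⟩
    obtain ⟨b₁, hb₁⟩ : ∃ b₁, b₁ = ⁅x, a₁⁆ := ⟨_, rfl⟩
    have hbt : b ∈ iterCommutator B Z ((n + s) - (i - 1)) := by rw [hb]; exact hx2 s a ha
    have hb₁t : b₁ ∈ iterCommutator B Z ((n + 1 + s) - (i - 1)) := by
      rw [hb₁]
      have := hx2 (s + 1) a₁ ha₁s
      have e : n + (s + 1) = n + 1 + s := by omega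
      rwa [e] at this
    have hcalc : ⁅⁅x, z⁆, a⁆ = (z * b₁⁻¹ * z⁻¹) * (⁅b⁻¹, z⁆)⁻¹ := by
      rw [hxz, add_x x hxX _ hyX a haA]
      have e1 : ⁅z * x⁻¹ * z⁻¹, a⁆ = z * ⁅x⁻¹, z⁻¹ * a * z⁆ * z⁻¹ := by
        simp only [commutatorElement_def]; group
      rw [e1, ha', inv_x x hxX _ (A₁.mul_mem haA ha₁A), add_a x hxX a haA a₁ ha₁A, ← hb, ← hb₁]
      simp only [commutatorElement_def]
      group
    rw [hcalc]
    apply Subgroup.mul_mem
    · have hn := iterC_normalized hZB ((n + 1 + s) - (i - 1)) hz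
      exact (Subgroup.mem_normalizer_iff.mp hn b₁⁻¹).mp (Subgroup.inv_mem _ hb₁t)
    · apply Subgroup.inv_mem
      have h1 : ⁅b⁻¹, z⁆ ∈ iterCommutator B Z ((n + s) - (i - 1) + 1) := by
        rw [iterC_succ]
        exact Subgroup.commutator_mem_commutator (Subgroup.inv_mem _ hbt) hz
      exact iterC_anti hZB (by omega) h1
  have hle : ∀ k, iterCommutator X Z k ≤ D k := by
    intro k
    induction k with
    | zero =>
      intro x hx
      rw [hD]
      refine ⟨hx, fun s a ha => ?_⟩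
      by_cases hs : i ≤ s
      · have haA₂ : a ∈ A₂ := hA (iterC_anti hZA hs ha)
        have h1 := Subgroup.mem_centralizer_iff.mp (hXA₂ hx) a haA₂
        have e : ⁅x, a⁆ = 1 := by
          rw [commutatorElement_def, ← h1]; group
        rw [e]; exact Subgroup.one_mem _
      · have e : (0 + s) - (i - 1) = 0 := by omega
        rw [e]
        exact hcomm x hx a (hAs s ha)
    | succ k ih =>
      rw [iterC_succ, Subgroup.commutator_le]
      intro x hx z hz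
      exact hstep k x (ih hx) z hz
  intro x hx
  have h1 := (hD _ x).mp (hle _ hx)
  rw [Subgroup.mem_centralizer_iff]
  intro a ha
  have h2 := h1.2 0 a ha
  have e : (i + j - 1 + 0) - (i - 1) = j := by omega
  rw [e, hB, Subgroup.mem_bot] at h2
  have e2 : ⁅x, a⁆ * (a * x) = x * a := by rw [commutatorElement_def]; group
  rw [← e2, h2, one_mul]

/-- **Pairing lemma, relative form.** -/
theorem pairing_engel {X A₁ A₂ B₁ B₂ Z : Subgroup G} [hB₂ : B₂.Normal]
    (hXB : ⁅X, B₁⁆ ≤ B₂) (hAB : ⁅A₁, B₁⁆ ≤ B₂) (hXA : ⁅X, A₁⁆ ≤ B₁) (hXA₂ : ⁅X, A₂⁆ ≤ B₂)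
    (hZX : Z ≤ normalizer (X : Set G)) (hZA : Z ≤ normalizer (A₁ : Set G))
    (hZB : Z ≤ normalizer (B₁ : Set G)) {i j : ℕ} (hi : 1 ≤ i)
    (hA : iterCommutator A₁ Z i ≤ A₂) (hB : iterCommutator B₁ Z j ≤ B₂) :
    ⁅iterCommutator X Z (i + j - 1), A₁⁆ ≤ B₂ := by
  obtain ⟨π, hπ⟩ : ∃ π : G →* G ⧸ B₂, π = QuotientGroup.mk' B₂ := ⟨_, rfl⟩
  have hker : π.ker = B₂ := by rw [hπ]; exact QuotientGroup.ker_mk' B₂
  have hbot : ∀ H : Subgroup G, H ≤ B₂ → H.map π = ⊥ := by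
    intro H hH
    rw [Subgroup.map_eq_bot_iff, hker]; exact hH
  have hcent : ∀ H K : Subgroup G, ⁅H, K⁆ ≤ B₂ → H.map π ≤ centralizer ((K.map π : Subgroup _) : Set _) := by
    intro H K hHK
    rw [← Subgroup.commutator_eq_bot_iff_le_centralizer, ← Subgroup.map_commutator]
    exact hbot _ hHK
  have hnorm : ∀ H : Subgroup G, Z ≤ normalizer (H : Set G) →
      Z.map π ≤ normalizer ((H.map π : Subgroup _) : Set _) := by
    intro H hH
    exact (Subgroup.map_mono hH).trans (Subgroup.le_normalizer_map π)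
  have key := pairing_engel_bot (X := X.map π) (A₁ := A₁.map π) (A₂ := A₂.map π) (B := B₁.map π)
    (Z := Z.map π) (hcent X B₁ hXB) (hcent A₁ B₁ hAB)
    (by rw [← Subgroup.map_commutator]; exact Subgroup.map_mono hXA)
    (hcent X A₂ hXA₂) (hnorm X hZX) (hnorm A₁ hZA) (hnorm B₁ hZB) hi
    (by rw [← iterC_map]; exact Subgroup.map_mono hA)
    (by rw [← iterC_map]; exact hbot _ hB)
  rw [← iterC_map, ← Subgroup.commutator_eq_bot_iff_le_centralizer, ← Subgroup.map_commutator,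
    Subgroup.map_eq_bot_iff, hker] at key
  exact key

end Cfsg.Agent.Lib.Helper33
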