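import Mathlib
import Cfsg.Prelude.Def_KGroupFacts

/-!
# Ez hive (S1079 + S2106 + S2105, owner helper83): leaf EZ-MULT `hasSchurMultiplier_of_universal`

A finite perfect centrally closed group `E` with `E / Z(E) ≅ G` computes the Schur multiplier of `G`:
it is `Z(E)`.
-/

set_option autoImplicit false

universe u v

namespace Cfsg.Agent.Lib.Helper83.Ez

open Cfsg
open scoped commutatorElement

/-- the second half: every stem extension `σ : Γ → G` receives a hom `ψ : E → Γ` over `G`, mapping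
`θ.ker` onto `σ.ker`. -/
theorem mult_exists_lift {G E Γ : Type u} [Group G] [Group E] [Group Γ] (θ : E →* G)
    (hθ : Function.Surjective θ)
    (hcc : ∀ (Y : Type u) [Group Y] (φ : Y →* E), Function.Surjective φ → φ.ker ≤ Subgroup.center Y →
      ∃ τ : E →* Y, φ.comp τ = MonoidHom.id E)
    (σ : Γ →* G) (hσ : Function.Surjective σ) (hσc : σ.ker ≤ Subgroup.center Γ)
    (hσd : σ.ker ≤ commutator Γ) :
    ∃ ψ : E →* Γ, (∀ e, σ (ψ e) = θ e) ∧ ∀ k ∈ σ.ker, ∃ e ∈ θ.ker, ψ e = k := by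
  -- the pullback
  obtain ⟨Y, hY⟩ : ∃ Y : Subgroup (Γ × E), Y =
      (σ.comp (MonoidHom.fst Γ E)).eqLocus (θ.comp (MonoidHom.snd Γ E)) := ⟨_, rfl⟩
  have hYmem : ∀ y : Γ × E, y ∈ Y ↔ σ y.1 = θ y.2 := by
    intro y
    rw [hY]
    rfl
  obtain ⟨φ, hφdef⟩ : ∃ φ : ↥Y →* E, φ = (MonoidHom.snd Γ E).comp Y.subtype := ⟨_, rfl⟩
  have hφapp : ∀ y : ↥Y, φ y = y.1.2 := by
    intro y; rw [hφdef]; rfl
  have hφs : Function.Surjective φ := by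
    intro e
    obtain ⟨γ, hγ⟩ := hσ (θ e)
    refine ⟨⟨(γ, e), (hYmem _).2 hγ⟩, ?_⟩
    rw [hφapp]
  have hφc : φ.ker ≤ Subgroup.center ↥Y := by
    intro y hy
    rw [MonoidHom.mem_ker, hφapp] at hy
    have hyY := (hYmem y.1).1 y.2
    rw [hy, map_one] at hyY
    have hcen : y.1.1 ∈ Subgroup.center Γ := hσc (MonoidHom.mem_ker.2 hyY)
    rw [Subgroup.mem_center_iff]
    intro y'
    apply Subtype.ext
    apply Prod.ext
    · show y'.1.1 * y.1.1 = y.1.1 * y'.1.1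
      exact Subgroup.mem_center_iff.1 hcen y'.1.1
    · show y'.1.2 * y.1.2 = y.1.2 * y'.1.2
      rw [hy, mul_one, one_mul]
  obtain ⟨τ, hτ⟩ := hcc ↥Y φ hφs hφc
  have hτe : ∀ e, (τ e).1.2 = e := by
    intro e
    have h := congrArg (fun f : E →* E => f e) hτ
    simp only [MonoidHom.comp_apply, MonoidHom.id_apply] at h
    rw [hφapp] at h
    exact h
  obtain ⟨ψ, hψdef⟩ : ∃ ψ : E →* Γ, ψ = (MonoidHom.fst Γ E).comp (Y.subtype.comp τ) := ⟨_, rfl⟩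
  have hψapp : ∀ e, ψ e = (τ e).1.1 := by
    intro e; rw [hψdef]; rfl
  have hσψ : ∀ e, σ (ψ e) = θ e := by
    intro e
    rw [hψapp, (hYmem (τ e).1).1 (τ e).2, hτe]
  refine ⟨ψ, hσψ, ?_⟩
  -- every element of `Γ` is (central element of `σ.ker`) * (element of `ψ.range`)
  have hdecomp : ∀ γ : Γ, ∃ z ∈ σ.ker, ∃ e : E, γ = z * ψ e := by
    intro γ
    obtain ⟨e, he⟩ := hθ (σ γ)
    refine ⟨γ * (ψ e)⁻¹, ?_, e, ?_⟩
    · rw [MonoidHom.mem_ker, map_mul, map_inv, hσψ, he, mul_inv_cancel]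
    · rw [inv_mul_cancel_right]
  have hcomm : commutator Γ ≤ ψ.range := by
    rw [commutator_eq_closure, Subgroup.closure_le]
    rintro _ ⟨γ₁, γ₂, rfl⟩
    obtain ⟨z₁, hz₁, e₁, rfl⟩ := hdecomp γ₁
    obtain ⟨z₂, hz₂, e₂, rfl⟩ := hdecomp γ₂
    have c₁ := Subgroup.mem_center_iff.1 (hσc hz₁)
    have c₂ := Subgroup.mem_center_iff.1 (hσc hz₂)
    refine ⟨⁅e₁, e₂⁆, ?_⟩
    rw [map_commutatorElement, commutatorElement_def, commutatorElement_def]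
    -- drop the central factors
    have e1 : (z₁ * ψ e₁) * (z₂ * ψ e₂) * (z₁ * ψ e₁)⁻¹ * (z₂ * ψ e₂)⁻¹ =
        ψ e₁ * ψ e₂ * (ψ e₁)⁻¹ * (ψ e₂)⁻¹ := by
      have h1 : ∀ g : Γ, g * z₁ = z₁ * g := c₁
      have h2 : ∀ g : Γ, g * z₂ = z₂ * g := c₂
      have h1' : ∀ g : Γ, g * z₁⁻¹ = z₁⁻¹ * g := fun g => by
        rw [eq_inv_mul_iff_mul_eq, ← mul_assoc, ← h1, mul_assoc, mul_inv_cancel, mul_one]
      have h2' : ∀ g : Γ, g * z₂⁻¹ = z₂⁻¹ * g := fun g => by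
        rw [eq_inv_mul_iff_mul_eq, ← mul_assoc, ← h2, mul_assoc, mul_inv_cancel, mul_one]
      calc (z₁ * ψ e₁) * (z₂ * ψ e₂) * (z₁ * ψ e₁)⁻¹ * (z₂ * ψ e₂)⁻¹
          = z₁ * (ψ e₁ * z₂) * ψ e₂ * ((ψ e₁)⁻¹ * z₁⁻¹) * ((ψ e₂)⁻¹ * z₂⁻¹) := by
            simp only [mul_inv_rev, mul_assoc]
        _ = z₁ * (z₂ * ψ e₁) * ψ e₂ * (z₁⁻¹ * (ψ e₁)⁻¹) * (z₂⁻¹ * (ψ e₂)⁻¹) := by
            rw [h2, h1', h2']
        _ = z₁ * z₂ * (ψ e₁ * ψ e₂ * z₁⁻¹) * (ψ e₁)⁻¹ * z₂⁻¹ * (ψ e₂)⁻¹ := by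
            simp only [mul_assoc]
        _ = z₁ * z₂ * (z₁⁻¹ * (ψ e₁ * ψ e₂)) * (ψ e₁)⁻¹ * z₂⁻¹ * (ψ e₂)⁻¹ := by
            rw [h1']
        _ = z₁ * (z₂ * z₁⁻¹) * (ψ e₁ * ψ e₂ * (ψ e₁)⁻¹ * z₂⁻¹) * (ψ e₂)⁻¹ := by
            simp only [mul_assoc]
        _ = z₁ * (z₁⁻¹ * z₂) * (z₂⁻¹ * (ψ e₁ * ψ e₂ * (ψ e₁)⁻¹)) * (ψ e₂)⁻¹ := by
            rw [h1' z₂, h2']
        _ = ψ e₁ * ψ e₂ * (ψ e₁)⁻¹ * (ψ e₂)⁻¹ := by
            simp only [mul_assoc, mul_inv_cancel_left, inv_mul_cancel_left]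
    exact e1.symm
  intro k hk
  obtain ⟨e, he⟩ := hcomm (hσd hk)
  refine ⟨e, ?_, he⟩
  rw [MonoidHom.mem_ker, ← hσψ, he]
  exact MonoidHom.mem_ker.1 hk

/-- EZ-MULT. -/
theorem hasSchurMultiplier_of_universal {G E : Type u} [Group G] [Group E] [Finite E] (θ : E →* G)
    (hθ : Function.Surjective θ) (hker : θ.ker = Subgroup.center E) (hperf : commutator E = ⊤)
    (hcc : ∀ (Y : Type u) [Group Y] (φ : Y →* E), Function.Surjective φ → φ.ker ≤ Subgroup.center Y →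
      ∃ τ : E →* Y, φ.comp τ = MonoidHom.id E)
    (A : Type v) [CommGroup A] (hA : Nonempty (Subgroup.center E ≃* A)) : Cfsg.HasSchurMultiplier G A := by
  obtain ⟨eA⟩ := hA
  refine ⟨⟨E, inferInstance, inferInstance, θ, ⟨hθ, ?_, ?_⟩, ⟨(MulEquiv.subgroupCongr hker).trans eA⟩⟩, ?_⟩
  · rw [hker]
  · rw [hperf]; exact le_top
  · intro Γ _ _ σ hσ
    obtain ⟨hσs, hσc, hσd⟩ := hσ
    obtain ⟨ψ, hσψ, hψk⟩ := mult_exists_lift θ hθ hcc σ hσs hσc hσd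
    have hmem : ∀ z : Subgroup.center E, (ψ.comp (Subgroup.center E).subtype) z ∈ σ.ker := by
      intro z
      rw [MonoidHom.mem_ker, MonoidHom.comp_apply, hσψ]
      have hz : (z : E) ∈ θ.ker := by rw [hker]; exact z.2
      exact MonoidHom.mem_ker.1 hz
    refine ⟨((ψ.comp (Subgroup.center E).subtype).codRestrict σ.ker hmem).comp eA.symm.toMonoidHom, ?_⟩
    intro k
    obtain ⟨e, he, hek⟩ := hψk k.1 k.2
    rw [hker] at he
    refine ⟨eA ⟨e, he⟩, ?_⟩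
    apply Subtype.ext
    simp only [MonoidHom.comp_apply, MulEquiv.coe_toMonoidHom, MulEquiv.symm_apply_apply,
      MonoidHom.codRestrict_apply, Subgroup.coe_subtype]
    exact hek

end Cfsg.Agent.Lib.Helper83.Ez
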