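import Mathlib
import Cfsg.Agent.Lib.Helper10.FFDecomp
import Cfsg.Agent.Lib.Helper10.FFOp
import Cfsg.Agent.Lib.Helper10.FFSL2
import Cfsg.Agent.Lib.Helper10.Replacement2
import Cfsg.Agent.Lib.Helper38.SLCard

set_option autoImplicit false
set_option maxHeartbeats 800000

/-!
# Weak best offenders (abelian, not assumed elementary abelian) at the prime `2`

In the situation of helper10's `FFHyp 2 V H`, an abelian `2`-subgroup `A` normalizing `H` whose value
`|A| |C_V(A)|` is maximal among its subgroups lies in `H`, provided `H` contains all (genuine) best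
offenders of the ambient group `M`.  In particular its image is elementary abelian.
-/

namespace Cfsg.Agent.Lib.Helper33.FFW

open Cfsg Cfsg.Agent.Lib.Helper10
open scoped commutatorElement

variable {G : Type*} [Group G]

/-- a *weak best offender*: no subgroup has a larger value `|B| |C_V(B)|`. -/
def IsWBO (V A : Subgroup G) : Prop := ∀ B : Subgroup G, B ≤ A → offVal V B ≤ offVal V A

theorem offVal_def' (V B : Subgroup G) :
    offVal V B = Nat.card B * Nat.card ↥(V ⊓ Subgroup.centralizer (B : Set G)) := rfl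

/-- a group of order two is generated by any nontrivial element -/
theorem eq_zpowers_of_card_two [Finite G] {B : Subgroup G} (hB : Nat.card B = 2) {t : G}
    (ht : t ∈ B) (ht1 : t ≠ 1) : B = Subgroup.zpowers t := by
  symm
  apply Subgroup.eq_of_le_of_card_ge ((Subgroup.zpowers_le).mpr ht)
  rw [Nat.card_zpowers, hB]
  have h1 : orderOf t ∣ 2 := by
    rw [← hB]; exact Subgroup.orderOf_dvd_natCard B ht
  have h2 : orderOf t ≠ 1 := fun h => ht1 (orderOf_eq_one_iff.mp h)
  have h3 : orderOf t ≤ 2 := Nat.le_of_dvd (by norm_num) h1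
  have h4 : 0 < orderOf t := Nat.pos_of_dvd_of_pos h1 (by norm_num)
  omega

/-- a group of order three: every element is `1`, `y` or `y⁻¹` for any nontrivial `y`. -/
theorem mem_of_card_three [Finite G] {R : Subgroup G} (hR : Nat.card R = 3) {y : G}
    (hy : y ∈ R) (hy1 : y ≠ 1) {x : G} (hx : x ∈ R) : x = 1 ∨ x = y ∨ x = y⁻¹ := by
  have h1 : orderOf y ∣ 3 := by
    rw [← hR]; exact Subgroup.orderOf_dvd_natCard R hy
  have h2 : orderOf y ≠ 1 := fun h => hy1 (orderOf_eq_one_iff.mp h)
  have h3 : orderOf y = 3 := by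
    rcases (Nat.dvd_prime Nat.prime_three).mp h1 with h | h
    · exact absurd h h2
    · exact h
  have hz : Subgroup.zpowers y = R := by
    apply Subgroup.eq_of_le_of_card_ge ((Subgroup.zpowers_le).mpr hy)
    rw [Nat.card_zpowers, hR, h3]
  rw [← hz] at hx
  obtain ⟨k, rfl⟩ := Subgroup.mem_zpowers_iff.mp hx
  have hy3 : y ^ 3 = 1 := by rw [← h3]; exact pow_orderOf_eq_one y
  have hk : y ^ k = y ^ (k % 3) := by
    have := zpow_mod_orderOf y k
    rw [h3] at this
    exact this.symm
  have hk0 : 0 ≤ k % 3 := Int.emod_nonneg k (by norm_num)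
  have hk3 : k % 3 < 3 := Int.emod_lt_of_pos k (by norm_num)
  rw [hk]
  obtain ⟨m, hm⟩ : ∃ m : ℕ, k % 3 = m := ⟨(k % 3).toNat, (Int.toNat_of_nonneg hk0).symm⟩
  rw [hm, zpow_natCast]
  have hm3 : m < 3 := by omega
  interval_cases m
  · left; simp
  · right; left; simp
  · right; right
    have : y ^ 2 * y = 1 := by rw [← pow_succ]; exact hy3
    exact eq_inv_of_mul_eq_one_left this

/-- a proper subgroup has at most half the order -/
theorem two_mul_card_le_of_lt [Finite G] {K K' : Subgroup G} (h : K < K') :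
    2 * Nat.card K ≤ Nat.card K' := by
  have h1 : Nat.card K ∣ Nat.card K' := Subgroup.card_dvd_of_le h.le
  obtain ⟨m, hm⟩ := h1
  have hpos : 0 < Nat.card K' := Nat.card_pos
  have hposK : 0 < Nat.card K := Nat.card_pos
  have hm1 : m ≠ 1 := by
    intro h1
    rw [h1, mul_one] at hm
    have := Subgroup.eq_of_le_of_card_ge h.le (le_of_eq hm)
    exact h.ne this
  have hm0 : m ≠ 0 := by
    intro h0
    rw [h0, mul_zero] at hm
    omega
  have : 2 ≤ m := by omega
  rw [hm, mul_comm]
  exact Nat.mul_le_mul_left _ this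

/-- conjugating a centralizing element by a normalizing element -/
theorem conj_mem_centralizer_of_mem_normalizer {F : Subgroup G} {r x : G}
    (hr : r ∈ Subgroup.normalizer (F : Set G)) (hx : x ∈ Subgroup.centralizer (F : Set G)) :
    r * x * r⁻¹ ∈ Subgroup.centralizer (F : Set G) := by
  have h1 := normalizer_le_normalizer_centralizer F hr
  exact (Subgroup.mem_normalizer_iff.mp h1 x).mp hx

/-- quadratic action of `a` on the elementary abelian `2`-group `V` forces `a²` to act trivially -/
theorem sq_mem_centralizer_of_quadratic {V A : Subgroup G} (hV : IsElementaryAbelian 2 V)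
    (hAV : A ≤ Subgroup.normalizer (V : Set G)) {a : G} (haA : a ∈ A)
    (ha : a ∈ Subgroup.centralizer ((⁅V, A⁆ : Subgroup G) : Set G)) :
    a ^ 2 ∈ Subgroup.centralizer (V : Set G) := by
  rw [Subgroup.mem_centralizer_iff]
  intro v hv
  have hcV : ⁅v, a⁆ ∈ V := by
    rw [commutatorElement_def]
    have h1 : a * v⁻¹ * a⁻¹ ∈ V :=
      (Subgroup.mem_normalizer_iff.mp (hAV haA) v⁻¹).mp (V.inv_mem hv)
    have e : v * a * v⁻¹ * a⁻¹ = v * (a * v⁻¹ * a⁻¹) := by group
    rw [e]
    exact V.mul_mem hv h1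
  have hc2 : ⁅v, a⁆ ^ 2 = 1 := hV.2 _ hcV
  have hca : ⁅v, a⁆ * a = a * ⁅v, a⁆ :=
    Subgroup.mem_centralizer_iff.mp ha _ (Subgroup.commutator_mem_commutator hv haA)
  have e1 : v * a = ⁅v, a⁆ * a * v := by rw [commutatorElement_def]; group
  calc v * a ^ 2 = v * a * a := by rw [pow_two, mul_assoc]
    _ = ⁅v, a⁆ * a * v * a := by rw [e1]
    _ = ⁅v, a⁆ * a * (v * a) := by group
    _ = ⁅v, a⁆ * a * (⁅v, a⁆ * a * v) := by rw [e1]
    _ = (⁅v, a⁆ * a) * ⁅v, a⁆ * a * v := by group
    _ = (a * ⁅v, a⁆) * ⁅v, a⁆ * a * v := by rw [hca]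
    _ = a * (⁅v, a⁆ ^ 2) * a * v := by rw [pow_two]; group
    _ = a ^ 2 * v := by rw [hc2, pow_two]; group

end Cfsg.Agent.Lib.Helper33.FFW
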