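import Mathlib
import Cfsg.Agent.Lib.Helper33.FFWeakA

set_option autoImplicit false
set_option maxHeartbeats 1600000

/-!
# Weak best offenders lie in the group generated by the best offenders (prime `2`)
-/

namespace Cfsg.Agent.Lib.Helper33.FFW

open Cfsg Cfsg.Agent.Lib.Helper10
open scoped commutatorElement

variable {G : Type*} [Group G]

/-- The Timmesfeld replacement `A* = C_A([V,A])` of a nontrivial weak best offender is a nontrivial
genuine best offender. -/
theorem wbo_star [Finite G] {V M A : Subgroup G} (hV : IsElementaryAbelian 2 V)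
    (hMV : M ≤ Subgroup.normalizer (V : Set G))
    (hMf : M ⊓ Subgroup.centralizer (V : Set G) = ⊥)
    (hAM : A ≤ M) (hA2 : IsPGroup 2 A) (hAc : ∀ x ∈ A, ∀ y ∈ A, x * y = y * x)
    (hw : IsWBO V A) (hA1 : A ≠ ⊥) :
    IsBestOffenderOn 2 V (A ⊓ Subgroup.centralizer ((⁅V, A⁆ : Subgroup G) : Set G)) ∧
      A ⊓ Subgroup.centralizer ((⁅V, A⁆ : Subgroup G) : Set G) ≠ ⊥ := by
  have hVc := elemAb_comm hV
  have hVp : IsPGroup 2 V := elemAb_isPGroup hV
  have hctx : ReplCtx V A := by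
    refine ⟨hVc, hAM.trans hMV, ?_⟩
    rw [Subgroup.commutator_le]
    intro x hx y hy
    have : ⁅x, y⁆ = 1 := commutatorElement_eq_one_iff_commute.mpr (hAc x hx y hy)
    rw [this]
    exact Subgroup.one_mem _
  obtain ⟨hfix, hval⟩ := hctx.replProp_of_max hw (le_refl V)
  have hne : A ⊓ Subgroup.centralizer ((⁅V, A⁆ : Subgroup G) : Set G) ≠ ⊥ := by
    intro hbot
    rw [hbot, Cfsg.Agent.Lib.Helper10.centralizer_bot_eq_top, inf_top_eq] at hfix
    have h1 : ⁅V, A⁆ = ⊥ :=
      hctx.commutator_eq_bot_of_sup_fix (p := 2) hVp (P := A) hA2 le_rfl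
        (fun x _ a ha => ⟨a, ha, rfl⟩) hfix.le
    rw [Subgroup.commutator_eq_bot_iff_le_centralizer, Subgroup.le_centralizer_iff] at h1
    apply hA1
    rw [eq_bot_iff, ← hMf]
    exact le_inf hAM h1
  refine ⟨⟨?_, ?_, ?_⟩, hne⟩
  · intro B hB
    have := hw B (hB.trans inf_le_left)
    rw [hval] at this
    exact this
  · rw [Subgroup.commutator_le]
    intro x hx y hy
    have : ⁅x, y⁆ = 1 := commutatorElement_eq_one_iff_commute.mpr (hAc x hx.1 y hy.1)
    rw [this]
    exact Subgroup.one_mem _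
  · intro a ha
    exact sq_mem_centralizer_of_quadratic hV (hAM.trans hMV) ha.1 ha.2

/-- Splitting off a minimal best offender `B = ⟨t⟩` from a weak best offender `A ≥ B`: with
`E = ffE 2 H B ≅ S₃`, the subgroup `A₁ = C_A(E)` is a smaller weak best offender and `A = A₁ B`. -/
theorem wbo_split [Finite G] {V H A B : Subgroup G} (h : FFHyp 2 V H)
    (hAV : A ≤ Subgroup.normalizer (V : Set G)) (hAH : A ≤ Subgroup.normalizer (H : Set G))
    (hA2 : IsPGroup 2 A) (hAc : ∀ x ∈ A, ∀ y ∈ A, x * y = y * x) (hw : IsWBO V A)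
    (hBA : B ≤ A) (hBH : B ≤ H) (hB : FFHyp.IsMinBO 2 V B) :
    A ≤ (A ⊓ Subgroup.centralizer (ffE 2 H B : Set G)) ⊔ B ∧
      Nat.card ↥(A ⊓ Subgroup.centralizer (ffE 2 H B : Set G)) < Nat.card A ∧
      IsWBO V (A ⊓ Subgroup.centralizer (ffE 2 H B : Set G)) := by
  have : Fact (Nat.Prime 2) := ⟨Nat.prime_two⟩
  obtain ⟨hcardB, -, -⟩ := h.isMinBO_card hBH hB
  obtain ⟨-, ⟨e⟩, hcardW, -, -, -, hWC, -⟩ := h.ffE_facts hBH hB
  obtain ⟨Q, hQ⟩ : ∃ Q, Q = ffQ 2 H := ⟨_, rfl⟩
  obtain ⟨R, hR⟩ : ∃ R, R = ⁅Q, B⁆ := ⟨_, rfl⟩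
  obtain ⟨E, hE⟩ : ∃ E, E = ffE 2 H B := ⟨_, rfl⟩
  have hERB : E = R ⊔ B := by rw [hE, hR, hQ]; rfl
  rw [← hE] at hcardW hWC e ⊢
  -- the generator `t` of `B`
  obtain ⟨t, htB, ht1⟩ : ∃ t ∈ B, t ≠ 1 := by
    by_contra hcon
    push Not at hcon
    exact hB.2.1 ((Subgroup.eq_bot_iff_forall B).mpr hcon)
  have hBz : B = Subgroup.zpowers t := eq_zpowers_of_card_two hcardB htB ht1
  have htA : t ∈ A := hBA htB
  -- `|E| = 6`
  have hcardE : Nat.card E = 6 := by
    rw [Nat.card_congr e.toEquiv, Cfsg.Agent.Lib.Helper38.card_SL2]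
    simp [ZMod.card]
  -- facts on `R`
  have hBQ : B ≤ Subgroup.normalizer (Q : Set G) := by
    rw [hQ]; exact hBH.trans (le_normalizer_ffQ 2 H)
  have hRQ : R ≤ Q := by
    rw [hR]; exact Cfsg.Agent.Lib.Helper24.commutator_le_of_le_normalizer Q B hBQ
  have hQcop : (Nat.card Q).Coprime 2 := by rw [hQ]; exact card_ffQ_coprime 2 H
  have hRcop : (Nat.card R).Coprime 2 :=
    Nat.Coprime.coprime_dvd_left (Subgroup.card_dvd_of_le hRQ) hQcop
  have hB2 : IsPGroup 2 B := hA2.to_le hBA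
  have hBR0 : B ⊓ R = ⊥ := Cfsg.Agent.Lib.Helper50.inf_eq_bot_of_isPGroup_of_coprime hB2 hRcop
  have hBR : B ≤ Subgroup.normalizer (R : Set G) := by
    rw [hR]; exact Cfsg.Agent.Lib.Helper24.le_normalizer_commutator_right Q B hBQ
  have hcardR : Nat.card R = 3 := by
    have h1 := card_sup_mul_card_inf hBR
    rw [hBR0, Subgroup.card_bot, mul_one, sup_comm, ← hERB, hcardE, hcardB] at h1
    omega
  have hBsolv : Group.IsSolvable B :=
    Group.isSolvable_of_comm (fun a b => Subtype.ext (hAc a (hBA a.2) b (hBA b.2)))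
  have hRR : ⁅R, B⁆ = R := by
    rw [hR]
    apply Cfsg.Agent.Lib.Helper24.commutator_commutator_eq B Q hBQ _ (Or.inl hBsolv)
    rw [hcardB]
    exact hQcop.symm
  -- the generator `y` of `R`
  obtain ⟨y, hyR, hy1⟩ : ∃ y ∈ R, y ≠ 1 := by
    by_contra hcon
    push Not at hcon
    have : R = ⊥ := (Subgroup.eq_bot_iff_forall R).mpr hcon
    rw [this, Subgroup.card_bot] at hcardR
    omega
  have hRz : R = Subgroup.zpowers y := by
    symm
    apply Subgroup.eq_of_le_of_card_ge ((Subgroup.zpowers_le).mpr hyR)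
    rw [Nat.card_zpowers, hcardR]
    have h1 : orderOf y ∣ 3 := by
      rw [← hcardR]; exact Subgroup.orderOf_dvd_natCard R hyR
    rcases (Nat.dvd_prime Nat.prime_three).mp h1 with h | h
    · exact absurd (orderOf_eq_one_iff.mp h) hy1
    · exact h.ge
  -- `t` inverts `y`
  have hty : t * y * t⁻¹ = y⁻¹ := by
    have h1 : t * y * t⁻¹ ∈ R := (Subgroup.mem_normalizer_iff.mp (hBR htB) y).mp hyR
    rcases mem_of_card_three hcardR hyR hy1 h1 with h2 | h2 | h2
    · exfalso
      apply hy1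
      have : y = t⁻¹ * (t * y * t⁻¹) * t := by group
      rw [this, h2]; group
    · exfalso
      -- `t` centralizes `R`, so `[R,B] = 1`
      have h3 : ⁅R, B⁆ = ⊥ := by
        rw [Subgroup.commutator_eq_bot_iff_le_centralizer, hRz, hBz, Subgroup.zpowers_le,
          Cfsg.Agent.Lib.Helper10.mem_centralizer_zpowers_iff]
        calc t * y = (t * y * t⁻¹) * t := by group
          _ = y * t := by rw [h2]
      rw [hRR] at h3
      rw [h3, Subgroup.card_bot] at hcardR
      omega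
    · exact h2
  -- `A` normalizes `R`
  have hAQ : A ≤ Subgroup.normalizer (Q : Set G) := by
    rw [hQ]; exact hAH.trans (normalizer_le_normalizer_ffQ 2 H)
  have hAB : A ≤ Subgroup.normalizer (B : Set G) := by
    apply le_normalizer_of_forall_conj_mem
    intro a ha b hb
    have : a * b * a⁻¹ = b := by rw [hAc a ha b (hBA hb)]; group
    rw [this]; exact hb
  have hAR : A ≤ Subgroup.normalizer (R : Set G) := by
    rw [hR]; exact le_normalizer_commutator_of_le hAQ hAB
  have hAE : A ≤ Subgroup.normalizer (E : Set G) := by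
    rw [hERB]
    intro a ha
    rw [Subgroup.mem_normalizer_iff]
    have key : ∀ a ∈ A, ∀ x ∈ R ⊔ B, a * x * a⁻¹ ∈ R ⊔ B := by
      intro a ha x hx
      have h1 : (R ⊔ B).map (MulAut.conj a).toMonoidHom ≤ R ⊔ B := by
        rw [Subgroup.map_sup]
        apply sup_le_sup
        · rintro _ ⟨r, hr, rfl⟩
          exact (Subgroup.mem_normalizer_iff.mp (hAR ha) r).mp hr
        · rintro _ ⟨b, hb, rfl⟩
          exact (Subgroup.mem_normalizer_iff.mp (hAB ha) b).mp hb
      exact h1 ⟨x, hx, rfl⟩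
    intro x
    constructor
    · exact key a ha x
    · intro hx
      have := key a⁻¹ (A.inv_mem ha) _ hx
      have e2 : a⁻¹ * (a * x * a⁻¹) * a⁻¹⁻¹ = x := by group
      rwa [e2] at this
  -- every element of `A` centralizes `E` up to `t`
  have hmemC : ∀ a ∈ A, a * y = y * a → a ∈ Subgroup.centralizer (E : Set G) := by
    intro a ha hay
    rw [hERB]
    apply FFHyp.sup_le_centralizer_of_mem
    · rw [hRz, Cfsg.Agent.Lib.Helper10.mem_centralizer_zpowers_iff]; exact hay.symm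
    · rw [hBz, Cfsg.Agent.Lib.Helper10.mem_centralizer_zpowers_iff]; exact hAc t htA a ha
  have hsplit : ∀ a ∈ A, a ∈ Subgroup.centralizer (E : Set G) ∨
      a * t ∈ Subgroup.centralizer (E : Set G) := by
    intro a ha
    have h1 : a * y * a⁻¹ ∈ R := (Subgroup.mem_normalizer_iff.mp (hAR ha) y).mp hyR
    rcases mem_of_card_three hcardR hyR hy1 h1 with h2 | h2 | h2
    · exfalso
      apply hy1
      have : y = a⁻¹ * (a * y * a⁻¹) * a := by group
      rw [this, h2]; group
    · left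
      apply hmemC a ha
      calc a * y = (a * y * a⁻¹) * a := by group
        _ = y * a := by rw [h2]
    · right
      apply hmemC (a * t) (A.mul_mem ha htA)
      have h3 : t * y = y⁻¹ * t := by
        calc t * y = (t * y * t⁻¹) * t := by group
          _ = y⁻¹ * t := by rw [hty]
      have h4 : a * y⁻¹ = y * a := by
        have : a * y⁻¹ * a⁻¹ = y := by
          have : a * y⁻¹ * a⁻¹ = (a * y * a⁻¹)⁻¹ := by group
          rw [this, h2, inv_inv]
        calc a * y⁻¹ = (a * y⁻¹ * a⁻¹) * a := by group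
          _ = y * a := by rw [this]
      calc a * t * y = a * (t * y) := by group
        _ = a * (y⁻¹ * t) := by rw [h3]
        _ = (a * y⁻¹) * t := by group
        _ = y * a * t := by rw [h4]
        _ = y * (a * t) := by group
  obtain ⟨A₁, hA₁⟩ : ∃ A₁, A₁ = A ⊓ Subgroup.centralizer (E : Set G) := ⟨_, rfl⟩
  rw [← hA₁]
  have hA₁A : A₁ ≤ A := hA₁ ▸ inf_le_left
  have hA₁E : A₁ ≤ Subgroup.centralizer (E : Set G) := hA₁ ▸ inf_le_right
  -- (1)
  have h1 : A ≤ A₁ ⊔ B := by
    intro a ha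
    rcases hsplit a ha with h2 | h2
    · exact Subgroup.mem_sup_left (hA₁ ▸ ⟨ha, h2⟩)
    · have : a = (a * t) * t⁻¹ := by group
      rw [this]
      exact Subgroup.mul_mem_sup (hA₁ ▸ ⟨A.mul_mem ha htA, h2⟩) (B.inv_mem htB)
  -- `t ∉ A₁`
  have htA₁ : t ∉ A₁ := by
    intro ht
    have h2 := hA₁E ht
    have hyE : y ∈ E := by rw [hERB]; exact Subgroup.mem_sup_left hyR
    have h3 := Subgroup.mem_centralizer_iff.mp h2 y hyE
    -- y * t = t * y, so `y = y⁻¹`
    have h4 : t * y * t⁻¹ = y := by rw [← h3]; group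
    rw [hty] at h4
    have h5 : y ^ 2 = 1 := by
      rw [pow_two]
      nth_rewrite 1 [← h4]
      group
    have h6 : orderOf y ∣ 2 := orderOf_dvd_of_pow_eq_one h5
    have h7 : orderOf y ∣ 3 := by
      rw [← hcardR]; exact Subgroup.orderOf_dvd_natCard R hyR
    have h8 : orderOf y ∣ 1 := by
      have := Nat.dvd_sub h7 h6
      simpa using this
    exact hy1 (orderOf_eq_one_iff.mp (Nat.dvd_one.mp h8))
  -- (2)
  have h2 : Nat.card A₁ < Nat.card A := by
    by_contra hcon
    push Not at hcon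
    have := Subgroup.eq_of_le_of_card_ge hA₁A hcon
    exact htA₁ (this ▸ htA)
  refine ⟨h1, h2, ?_⟩
  -- the fixed points
  have hA₁2 : IsPGroup 2 A₁ := hA2.to_le hA₁A
  have hEH : E ≤ H := by rw [hE]; exact FFHyp.ffE_le hBH
  have hEV : E ≤ Subgroup.normalizer (V : Set G) := hEH.trans h.norm
  have hVp : IsPGroup 2 V := elemAb_isPGroup h.elem
  have hWV : ⁅V, E⁆ ≤ V := Cfsg.Agent.Lib.Helper24.commutator_le_of_le_normalizer V E hEV
  have hA₁W : A₁ ≤ Subgroup.normalizer ((⁅V, E⁆ : Subgroup G) : Set G) :=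
    le_normalizer_commutator_of_le (hA₁A.trans hAV) (hA₁A.trans hAE)
  have hW1 : ⁅V, E⁆ ≠ ⊥ := by
    intro hbot
    rw [hbot, Subgroup.card_bot] at hcardW
    norm_num at hcardW
  obtain ⟨F, hF⟩ : ∃ F, F = ⁅V, E⁆ ⊓ Subgroup.centralizer (A₁ : Set G) := ⟨_, rfl⟩
  have hF1 : F ≠ ⊥ := by
    rw [hF]
    exact Cfsg.Agent.Lib.Helper47.inf_centralizer_ne_bot_of_pgroup hA₁2 (hVp.to_le hWV) hA₁W hW1
  have hEF : E ≤ Subgroup.normalizer (F : Set G) := by
    intro x hx
    rw [hF]
    apply mem_normalizer_inf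
    · exact le_normalizer_commutator_of_le hEV Subgroup.le_normalizer hx
    · apply Subgroup.le_normalizer
      rw [Subgroup.mem_centralizer_iff]
      intro a ha
      exact (Subgroup.mem_centralizer_iff.mp (hA₁E ha) x hx).symm
  have htF : t ∉ Subgroup.centralizer (F : Set G) := by
    intro ht
    have hBF : B ≤ Subgroup.centralizer (F : Set G) := by
      rw [hBz, Subgroup.zpowers_le]; exact ht
    have hRF : R ≤ Subgroup.centralizer (F : Set G) := by
      rw [← hRR, Subgroup.commutator_le]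
      intro r hr b hb
      rw [commutatorElement_def]
      have hrE : r ∈ E := by rw [hERB]; exact Subgroup.mem_sup_left hr
      have h3 := conj_mem_centralizer_of_mem_normalizer (hEF hrE) (hBF hb)
      exact Subgroup.mul_mem _ h3 (Subgroup.inv_mem _ (hBF hb))
    have hEF' : E ≤ Subgroup.centralizer (F : Set G) := by
      rw [hERB]; exact sup_le hRF hBF
    apply hF1
    rw [eq_bot_iff, ← hWC]
    refine le_inf (hF ▸ inf_le_left) ?_
    rw [Subgroup.le_centralizer_iff]
    exact hEF'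
  obtain ⟨f, hfF, hft⟩ : ∃ f ∈ F, f * t ≠ t * f := by
    by_contra hcon
    push Not at hcon
    apply htF
    rw [Subgroup.mem_centralizer_iff]
    exact hcon
  have hlt : V ⊓ Subgroup.centralizer (A : Set G) < V ⊓ Subgroup.centralizer (A₁ : Set G) := by
    refine lt_of_le_of_ne (inf_le_inf_left _ (Subgroup.centralizer_le hA₁A)) ?_
    intro heq
    have hf1 : f ∈ V ⊓ Subgroup.centralizer (A₁ : Set G) := by
      rw [hF] at hfF
      exact ⟨hWV hfF.1, hfF.2⟩
    rw [← heq] at hf1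
    exact hft ((Subgroup.mem_centralizer_iff.mp hf1.2 t htA).symm)
  have hcardC := two_mul_card_le_of_lt hlt
  -- `|A| ≤ 2 |A₁|`
  have hcardA : Nat.card A ≤ 2 * Nat.card A₁ := by
    have hA₁B : A₁ ≤ Subgroup.normalizer (B : Set G) := hA₁A.trans hAB
    have h3 := card_sup_mul_card_inf hA₁B
    have h4 : Nat.card A ≤ Nat.card ↥(A₁ ⊔ B) := Subgroup.card_le_of_le h1
    have h5 : 0 < Nat.card ↥(A₁ ⊓ B) := Nat.card_pos
    rw [hcardB] at h3
    nlinarith
  have hval : offVal V A ≤ offVal V A₁ := by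
    rw [offVal_def', offVal_def']
    nlinarith
  intro B' hB'
  exact (hw B' (hB'.trans hA₁A)).trans hval

/-- **Weak best offenders lie in the group generated by the best offenders.** -/
theorem wbo_le [Finite G] {V H M : Subgroup G} (h : FFHyp 2 V H)
    (hMV : M ≤ Subgroup.normalizer (V : Set G))
    (hMf : M ⊓ Subgroup.centralizer (V : Set G) = ⊥)
    (hMH : M ≤ Subgroup.normalizer (H : Set G))
    (hgen : ∀ B : Subgroup G, B ≤ M → IsBestOffenderOn 2 V B → B ≤ H) :
    ∀ (n : ℕ) (A : Subgroup G), Nat.card A = n → A ≤ M → IsPGroup 2 A →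
      (∀ x ∈ A, ∀ y ∈ A, x * y = y * x) → IsWBO V A → A ≤ H := by
  intro n
  induction n using Nat.strong_induction_on with
  | _ n ih =>
  intro A hn hAM hA2 hAc hw
  by_cases hA1 : A = ⊥
  · rw [hA1]; exact bot_le
  obtain ⟨hbo, hne⟩ := wbo_star h.elem hMV hMf hAM hA2 hAc hw hA1
  have hstarH := hgen _ (inf_le_left.trans hAM) hbo
  obtain ⟨B, hBstar, hBmin⟩ := FFHyp.exists_isMinBO hbo hne
  have hBA : B ≤ A := hBstar.trans inf_le_left
  have hBH : B ≤ H := hBstar.trans hstarH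
  obtain ⟨h1, h2, h3⟩ := wbo_split h (hAM.trans hMV) (hAM.trans hMH) hA2 hAc hw hBA hBH hBmin
  have h4 := ih _ (hn ▸ h2) _ rfl (inf_le_left.trans hAM) (hA2.to_le inf_le_left)
    (fun x hx y hy => hAc x hx.1 y hy.1) h3
  exact h1.trans (sup_le h4 hBH)

end Cfsg.Agent.Lib.Helper33.FFW
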