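import Mathlib
import Cfsg.Agent.Lib.Helper83.FpDefs

/-! FP-SUM (helper83's Fp hive, S2276): selecting a sub-multiset of `p`-powers of sum `≤ p^a`. -/

set_option autoImplicit false

namespace Cfsg.Agent.Lib.Helper83.Fp

open Equiv

/-- the greedy claim: a multiset of `p`-powers `≤ p^b` has a sub-multiset which is everything (of sum `≤ p^b`)
or has sum exactly `p^b`. -/
theorem fpsum_claim (p : ℕ) (hp : p.Prime) (b : ℕ) :
    ∀ (k : ℕ) (t : Multiset ℕ), Multiset.card t = k → (∀ x ∈ t, ∃ i : ℕ, x = p ^ i) → (∀ x ∈ t, x ≤ p ^ b) →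
      ∃ s : Multiset ℕ, s ≤ t ∧ ((s = t ∧ s.sum ≤ p ^ b) ∨ s.sum = p ^ b) := by
  intro k
  induction k with
  | zero =>
    intro t ht _ _
    rw [Multiset.card_eq_zero] at ht
    subst ht
    exact ⟨0, le_refl _, Or.inl ⟨rfl, by simp⟩⟩
  | succ k ih =>
    intro t ht hpow hle
    have hne : t.toFinset.Nonempty := by
      rw [Multiset.toFinset_nonempty]
      intro h0
      rw [h0] at ht
      simp at ht
    obtain ⟨x, hxt, hxmin⟩ := Finset.exists_min_image t.toFinset id hne
    rw [Multiset.mem_toFinset] at hxt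
    have hmin : ∀ y ∈ t, x ≤ y := fun y hy => hxmin y (Multiset.mem_toFinset.2 hy)
    have hcons : x ::ₘ t.erase x = t := Multiset.cons_erase hxt
    have hcard : Multiset.card (t.erase x) = k := by
      rw [Multiset.card_erase_of_mem hxt, ht]
      rfl
    have hsub : ∀ y ∈ t.erase x, y ∈ t := fun y hy => Multiset.mem_of_mem_erase hy
    obtain ⟨s', hs't, hs'⟩ := ih (t.erase x) hcard (fun y hy => hpow y (hsub y hy))
      (fun y hy => hle y (hsub y hy))
    have hle' : t.erase x ≤ t := Multiset.erase_le x t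
    rcases hs' with ⟨hst, hsum⟩ | hsum
    · -- `s' = t.erase x`, of sum `≤ p^b`
      subst hst
      by_cases hx : (t.erase x).sum + x ≤ p ^ b
      · refine ⟨t, le_refl _, Or.inl ⟨rfl, ?_⟩⟩
        rw [← hcons, Multiset.sum_cons, add_comm]
        exact hx
      · -- then the sum is exactly `p^b`
        refine ⟨t.erase x, hle', Or.inr ?_⟩
        obtain ⟨j, hj⟩ := hpow x hxt
        have h1 : 1 < p := hp.one_lt
        have hdvd : ∀ y ∈ t.erase x, x ∣ y := by
          intro y hy
          obtain ⟨i, hi⟩ := hpow y (hsub y hy)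
          have hxy := hmin y (hsub y hy)
          rw [hj, hi] at hxy ⊢
          exact pow_dvd_pow p ((Nat.pow_le_pow_iff_right h1).1 hxy)
        have hd1 : x ∣ (t.erase x).sum := Multiset.dvd_sum hdvd
        have hd2 : x ∣ p ^ b := by
          have hxb := hle x hxt
          rw [hj] at hxb ⊢
          exact pow_dvd_pow p ((Nat.pow_le_pow_iff_right h1).1 hxb)
        have hd3 : x ∣ p ^ b - (t.erase x).sum := Nat.dvd_sub hd2 hd1
        have hlt : p ^ b - (t.erase x).sum < x := by omega
        have h0 := Nat.eq_zero_of_dvd_of_lt hd3 hlt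
        omega
    · exact ⟨s', le_trans hs't hle', Or.inr hsum⟩

/-- FP-SUM -/
theorem sum_select : SumStmt := by
  unfold SumStmt
  intro p hp a n t hpp hle hne hsum hpa
  obtain ⟨s, hst, hs⟩ := fpsum_claim p hp a (Multiset.card t) t rfl
    (fun x hx => by obtain ⟨i, _, hi⟩ := hpp x hx; exact ⟨i, hi⟩) hle
  rcases hs with ⟨rfl, hs⟩ | hs
  · refine ⟨s, le_refl _, hne, hs, ?_⟩
    rw [tsub_self, Multiset.sum_zero, zero_add]
    exact hpa
  · refine ⟨s, hst, ?_, le_of_eq hs, ?_⟩
    · intro h0
      rw [h0, Multiset.sum_zero] at hs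
      have : 0 < p ^ a := pow_pos hp.pos a
      omega
    · have h1 : t - s + s = t := tsub_add_cancel_of_le hst
      have h2 : (t - s).sum + s.sum = t.sum := by rw [← Multiset.sum_add, h1]
      rw [← hs, h2]
      exact hsum

end Cfsg.Agent.Lib.Helper83.Fp
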