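import Cfsg.Agent.Lib.Helper33.KInfMap
import Cfsg.Agent.Lib.Helper33.EngelHom

set_option autoImplicit false
set_option linter.style.haveILetI false
set_option linter.unusedSectionVars false

/-!
# A cubic element from a K-sequence term outside `T`
-/

namespace Cfsg.Agent.Lib.Helper33

open Cfsg Subgroup

open scoped commutatorElement

variable {P : Type*} [Group P]

theorem kSeqOdd_succ_eq (n : ℕ) :
    kSeqOdd P (n + 1) = sSup (kUpperStarFamily (kSeqEven P n)) := rfl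

theorem kSeqEven_eq (n : ℕ) : kSeqEven P n = sSup (kLowerStarFamily (kSeqOdd P n)) := rfl

theorem normal_le_normalizer' (Z U : Subgroup P) [hU : U.Normal] : Z ≤ normalizer (U : Set P) := by
  rw [Subgroup.normalizer_eq_top_iff.mpr hU]; exact le_top

theorem commutator_le_of_le_normalizer' {H K : Subgroup P} (h : K ≤ normalizer (H : Set P)) :
    ⁅K, H⁆ ≤ H := by
  rw [Subgroup.commutator_comm]; exact commutator_le_of_le_normalizer h

theorem triple_bot_of_classTwo {B X : Subgroup P} (hB : ⁅B, B⁆ ≤ centralizer (B : Set P))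
    (hX : ⁅X, B⁆ ≤ B) : ⁅⁅⁅X, B⁆, B⁆, B⁆ = ⊥ := by
  rw [eq_bot_iff]
  calc ⁅⁅⁅X, B⁆, B⁆, B⁆ ≤ ⁅⁅B, B⁆, B⁆ := Subgroup.commutator_mono (Subgroup.commutator_mono hX le_rfl) le_rfl
    _ ≤ ⊥ := by
      rw [le_bot_iff, Subgroup.commutator_eq_bot_iff_le_centralizer]; exact hB

theorem double_bot_of_le_center {B X : Subgroup P} (hX : ⁅X, B⁆ ≤ B ⊓ centralizer (B : Set P)) :
    ⁅⁅X, B⁆, B⁆ = ⊥ := by
  rw [eq_bot_iff]
  calc ⁅⁅X, B⁆, B⁆ ≤ ⁅centralizer (B : Set P), B⁆ :=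
        Subgroup.commutator_mono (hX.trans inf_le_right) le_rfl
    _ ≤ ⊥ := by
      rw [le_bot_iff, Subgroup.commutator_eq_bot_iff_le_centralizer]

/-- **The cubic subgroup.** -/
theorem exists_cubic_of_kSeq {T' A' : Subgroup P} [hA'n : A'.Normal]
    (hTA : ⁅T', A'⁆ ≤ A' ⊓ centralizer (A' : Set P)) (hA'T : A' ≤ T')
    (hnot : ¬ ∀ n : ℕ, kSeqEven P n ≤ T' ∧ kSeqOdd P (n + 1) ≤ T') :
    ∃ B₀ : Subgroup P, ¬ B₀ ≤ T' ∧ ⁅⁅⁅A', B₀⁆, B₀⁆, B₀⁆ = ⊥ ∧
      ⁅⁅A' ⊓ centralizer (A' : Set P), B₀⁆, B₀⁆ = ⊥ := by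
  classical
  obtain ⟨Za, hZa⟩ : ∃ Za : Subgroup P, Za = A' ⊓ centralizer (A' : Set P) := ⟨_, rfl⟩
  rw [← hZa] at hTA ⊢
  haveI hZan : Za.Normal := by rw [hZa]; infer_instance
  have hZaA : Za ≤ A' := by rw [hZa]; exact inf_le_left
  have hA'2 : A' ∈ classTwoSubgroups P := by
    show ⁅A', A'⁆ ≤ centralizer (A' : Set P)
    exact ((Subgroup.commutator_mono hA'T le_rfl).trans hTA).trans (by rw [hZa]; exact inf_le_right)
  have hZaZa : ⁅Za, Za⁆ = ⊥ := by
    rw [Subgroup.commutator_eq_bot_iff_le_centralizer]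
    have h1 : Za ≤ centralizer (A' : Set P) := by rw [hZa]; exact inf_le_right
    exact h1.trans (Subgroup.centralizer_le (by exact_mod_cast hZaA))
  have hex : ∃ n : ℕ, ¬ (kSeqEven P n ≤ T' ∧ kSeqOdd P (n + 1) ≤ T') := by
    by_contra h
    apply hnot
    intro n
    by_contra h2
    exact h ⟨n, h2⟩
  obtain ⟨n, hn, hmin⟩ : ∃ n, ¬ (kSeqEven P n ≤ T' ∧ kSeqOdd P (n + 1) ≤ T') ∧
      ∀ m < n, kSeqEven P m ≤ T' ∧ kSeqOdd P (m + 1) ≤ T' := by
    refine ⟨Nat.find hex, Nat.find_spec hex, fun m hm => ?_⟩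
    by_contra h
    exact Nat.find_min hex hm h
  -- membership of `A'` in the upper-star family relative to any subgroup of `T'`
  have hA'up : ∀ R : Subgroup P, R ≤ T' → A' ∈ kUpperStarFamily R := by
    intro R hR
    refine ⟨hA'2, ?_⟩
    rw [← hZa, Subgroup.commutator_comm]
    exact (Subgroup.commutator_mono hR le_rfl).trans hTA
  have hA'odd : A' ≤ kSeqOdd P n := by
    rcases Nat.eq_zero_or_pos n with h0 | hpos
    · rw [h0]; exact le_top
    · obtain ⟨n', rfl⟩ : ∃ n', n = n' + 1 := ⟨n - 1, by omega⟩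
      rw [kSeqOdd_succ_eq]
      exact le_sSup (hA'up _ (hmin n' (by omega)).1)
  by_cases heven : kSeqEven P n ≤ T'
  · -- odd case
    have hodd : ¬ kSeqOdd P (n + 1) ≤ T' := fun h => hn ⟨heven, h⟩
    rw [kSeqOdd_succ_eq] at hodd
    obtain ⟨B, hB, hBT⟩ : ∃ B ∈ kUpperStarFamily (kSeqEven P n), ¬ B ≤ T' := by
      by_contra h
      apply hodd
      apply sSup_le
      intro B hB
      by_contra h2
      exact h ⟨B, hB, h2⟩
    obtain ⟨hB2, hBK⟩ := hB
    by_cases hA'low : A' ∈ kLowerStarFamily (kSeqOdd P n)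
    · have hA'even : A' ≤ kSeqEven P n := by rw [kSeqEven_eq]; exact le_sSup hA'low
      have h1 : ⁅A', B⁆ ≤ B ⊓ centralizer (B : Set P) := by
        rw [Subgroup.commutator_comm]
        exact (Subgroup.commutator_mono le_rfl hA'even).trans hBK
      have h2 := double_bot_of_le_center h1
      refine ⟨B, hBT, ?_, ?_⟩
      · rw [h2, Subgroup.commutator_bot_left]
      · rw [eq_bot_iff, ← h2]
        exact Subgroup.commutator_mono (Subgroup.commutator_mono hZaA le_rfl) le_rfl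
    · -- `A'` fails the lower-star condition
      have hfail : ¬ ∀ A₁ ∈ classTwoSubgroups P, A₁ ≤ kSeqOdd P n → A' ≤ normalizer (A₁ : Set P) →
          ⁅A', ⁅A₁, A₁⁆⁆ = ⊥ → ⁅⁅A' ⊓ centralizer (A' : Set P), A₁⁆, A₁⁆ = ⊥ →
            ⁅A', A₁⁆ ≤ A' ⊓ centralizer (A' : Set P) := by
        intro h
        exact hA'low ⟨hA'2, normal_le_normalizer' _ _, h⟩
      obtain ⟨A₁, hA₁2, -, hA'N, -, hZ2, hnle⟩ : ∃ A₁ ∈ classTwoSubgroups P, A₁ ≤ kSeqOdd P n ∧
          A' ≤ normalizer (A₁ : Set P) ∧ ⁅A', ⁅A₁, A₁⁆⁆ = ⊥ ∧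
          ⁅⁅A' ⊓ centralizer (A' : Set P), A₁⁆, A₁⁆ = ⊥ ∧
          ¬ ⁅A', A₁⁆ ≤ A' ⊓ centralizer (A' : Set P) := by
        by_contra h
        apply hfail
        intro A₁ h1 h2 h3 h4 h5
        by_contra h6
        exact h ⟨A₁, h1, h2, h3, h4, h5, h6⟩
      rw [← hZa] at hZ2 hnle
      refine ⟨A₁, ?_, triple_bot_of_classTwo hA₁2 (commutator_le_of_le_normalizer' hA'N), hZ2⟩
      intro hA₁T
      apply hnle
      rw [Subgroup.commutator_comm]
      exact (Subgroup.commutator_mono hA₁T le_rfl).trans hTA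
  · -- even case
    rw [kSeqEven_eq] at heven
    obtain ⟨B, hB, hBT⟩ : ∃ B ∈ kLowerStarFamily (kSeqOdd P n), ¬ B ≤ T' := by
      by_contra h
      apply heven
      apply sSup_le
      intro B hB
      by_contra h2
      exact h ⟨B, hB, h2⟩
    obtain ⟨hB2, hQB, hBcond⟩ := hB
    have hA'B : ⁅A', B⁆ ≤ B := commutator_le_of_le_normalizer' (hA'odd.trans hQB)
    refine ⟨B, hBT, triple_bot_of_classTwo hB2 hA'B, ?_⟩
    have h1 := hBcond Za (by
        show ⁅Za, Za⁆ ≤ centralizer (Za : Set P)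
        rw [hZaZa]; exact bot_le) (hZaA.trans hA'odd) (normal_le_normalizer' _ _)
      (by rw [hZaZa, Subgroup.commutator_bot_right]) (by
        rw [eq_bot_iff, ← hZaZa]
        exact Subgroup.commutator_mono (Subgroup.commutator_le_right _ _) le_rfl)
    rw [Subgroup.commutator_comm] at h1
    exact double_bot_of_le_center h1

end Cfsg.Agent.Lib.Helper33
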