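import Cfsg.Prelude.Def_ConjugacyFunctors
import Mathlib.GroupTheory.Nilpotent

set_option autoImplicit false

namespace Cfsg.Agent.Lib.Helper33

open scoped commutatorElement

variable {G H : Type*} [Group G] [Group H] {f : G →* H}

theorem map_le_centralizer_map_iff (hf : Function.Injective f) {X Y : Subgroup G} :
    X.map f ≤ Subgroup.centralizer ((Y.map f : Subgroup H) : Set H) ↔
      X ≤ Subgroup.centralizer (Y : Set G) := by
  rw [← Subgroup.commutator_eq_bot_iff_le_centralizer, ← Subgroup.commutator_eq_bot_iff_le_centralizer,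
    ← Subgroup.map_commutator, Subgroup.map_eq_bot_iff_of_injective _ hf]

theorem map_le_normalizer_map_iff (hf : Function.Injective f) {X Y : Subgroup G} :
    X.map f ≤ Subgroup.normalizer ((Y.map f : Subgroup H) : Set H) ↔
      X ≤ Subgroup.normalizer (Y : Set G) := by
  rw [Subgroup.le_normalizer_iff_commutator_le_left, Subgroup.le_normalizer_iff_commutator_le_left,
    ← Subgroup.map_commutator, Subgroup.map_le_map_iff_of_injective hf]

theorem map_inf_centralizer (hf : Function.Injective f) (B : Subgroup G) :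
    (B ⊓ Subgroup.centralizer (B : Set G)).map f =
      B.map f ⊓ Subgroup.centralizer ((B.map f : Subgroup H) : Set H) := by
  apply le_antisymm
  · refine le_inf (Subgroup.map_mono inf_le_left) ?_
    rw [map_le_centralizer_map_iff hf]
    exact inf_le_right
  · rintro y ⟨⟨x, hx, rfl⟩, hy⟩
    have hy' : f x ∈ Subgroup.centralizer ((B.map f : Subgroup H) : Set H) := hy
    refine ⟨x, ⟨hx, ?_⟩, rfl⟩
    show x ∈ Subgroup.centralizer (B : Set G)
    rw [Subgroup.mem_centralizer_iff]
    intro b hb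
    have := Subgroup.mem_centralizer_iff.mp hy' (f b) ⟨b, hb, rfl⟩
    apply hf
    rw [map_mul, map_mul]
    exact this

theorem classTwo_map_iff (hf : Function.Injective f) {B : Subgroup G} :
    B.map f ∈ Cfsg.classTwoSubgroups H ↔ B ∈ Cfsg.classTwoSubgroups G := by
  show ⁅B.map f, B.map f⁆ ≤ Subgroup.centralizer ((B.map f : Subgroup H) : Set H) ↔
    ⁅B, B⁆ ≤ Subgroup.centralizer (B : Set G)
  rw [← Subgroup.map_commutator, map_le_centralizer_map_iff hf]

theorem upperStar_map_iff (hf : Function.Injective f) {B R : Subgroup G} :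
    B.map f ∈ Cfsg.kUpperStarFamily (R.map f) ↔ B ∈ Cfsg.kUpperStarFamily R := by
  show (B.map f ∈ Cfsg.classTwoSubgroups H ∧ ⁅B.map f, R.map f⁆ ≤
      B.map f ⊓ Subgroup.centralizer ((B.map f : Subgroup H) : Set H)) ↔
    (B ∈ Cfsg.classTwoSubgroups G ∧ ⁅B, R⁆ ≤ B ⊓ Subgroup.centralizer (B : Set G))
  rw [classTwo_map_iff hf, ← Subgroup.map_commutator, ← map_inf_centralizer hf,
    Subgroup.map_le_map_iff_of_injective hf]

theorem lowerStar_map_iff (hf : Function.Injective f) {B R : Subgroup G} :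
    B.map f ∈ Cfsg.kLowerStarFamily (R.map f) ↔ B ∈ Cfsg.kLowerStarFamily R := by
  constructor
  · rintro ⟨h1, h2, h3⟩
    refine ⟨(classTwo_map_iff hf).mp h1, (map_le_normalizer_map_iff hf).mp h2, ?_⟩
    intro A hA hAR hBA hc1 hc2
    have := h3 (A.map f) ((classTwo_map_iff hf).mpr hA) (Subgroup.map_mono hAR)
      ((map_le_normalizer_map_iff hf).mpr hBA)
      (by rw [← Subgroup.map_commutator, ← Subgroup.map_commutator, hc1, Subgroup.map_bot])
      (by rw [← map_inf_centralizer hf, ← Subgroup.map_commutator, ← Subgroup.map_commutator, hc2,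
            Subgroup.map_bot])
    rw [← Subgroup.map_commutator, ← map_inf_centralizer hf,
      Subgroup.map_le_map_iff_of_injective hf] at this
    exact this
  · rintro ⟨h1, h2, h3⟩
    refine ⟨(classTwo_map_iff hf).mpr h1, (map_le_normalizer_map_iff hf).mpr h2, ?_⟩
    intro A hA hAR hBA hc1 hc2
    have hAr : A ≤ f.range := le_trans hAR (by rw [MonoidHom.range_eq_map]; exact Subgroup.map_mono le_top)
    obtain ⟨A', rfl⟩ : ∃ A' : Subgroup G, A'.map f = A :=
      ⟨A.comap f, Subgroup.map_comap_eq_self hAr⟩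
    rw [← Subgroup.map_commutator, ← Subgroup.map_commutator,
      Subgroup.map_eq_bot_iff_of_injective _ hf] at hc1
    rw [← map_inf_centralizer hf, ← Subgroup.map_commutator, ← Subgroup.map_commutator,
      Subgroup.map_eq_bot_iff_of_injective _ hf] at hc2
    have := h3 A' ((classTwo_map_iff hf).mp hA) ((Subgroup.map_le_map_iff_of_injective hf).mp hAR)
      ((map_le_normalizer_map_iff hf).mp hBA) hc1 hc2
    rw [← Subgroup.map_commutator, ← map_inf_centralizer hf,
      Subgroup.map_le_map_iff_of_injective hf]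
    exact this

theorem upperStar_anti {R₁ R₂ : Subgroup G} (h : R₁ ≤ R₂) :
    Cfsg.kUpperStarFamily R₂ ⊆ Cfsg.kUpperStarFamily R₁ := by
  intro B hB
  exact ⟨hB.1, le_trans (Subgroup.commutator_mono le_rfl h) hB.2⟩

theorem lowerStar_anti {R₁ R₂ : Subgroup G} (h : R₁ ≤ R₂) :
    Cfsg.kLowerStarFamily R₂ ⊆ Cfsg.kLowerStarFamily R₁ := by
  rintro B ⟨h1, h2, h3⟩
  exact ⟨h1, le_trans h h2, fun A hA hAR => h3 A hA (le_trans hAR h)⟩

end Cfsg.Agent.Lib.Helper33
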