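import Mathlib
import Cfsg.Agent.Lib.Helper33.ZJControl
import Cfsg.Agent.Lib.Helper87.GroupFusion
import Cfsg.Agent.Lib.Helper85.GroupFusion

set_option autoImplicit false
set_option linter.unusedSectionVars false
set_option linter.unusedVariables false
set_option linter.style.haveILetI false

/-!
# `p`-stability of the fusion system of a group versus normalizer-`p`-stability of the group
-/

namespace Cfsg.Agent.Lib.Helper33

open Cfsg Subgroup
open scoped commutatorElement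

universe u

/-- the normalizer-`p`-stability condition at one subgroup -/
def StableAt (p : ℕ) (G : Type*) [Group G] (U : Subgroup G) : Prop :=
  ∀ (g : G) (hg : g ∈ Subgroup.normalizer (U : Set G)),
    ⁅⁅U, Subgroup.zpowers g⁆, Subgroup.zpowers g⁆ = ⊥ →
      (QuotientGroup.mk (s := (Subgroup.centralizer (U : Set G)).subgroupOf
          (Subgroup.normalizer (U : Set G))) (⟨g, hg⟩ : ↥(Subgroup.normalizer (U : Set G)))) ∈
        pCore p (↥(Subgroup.normalizer (U : Set G)) ⧸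
          (Subgroup.centralizer (U : Set G)).subgroupOf (Subgroup.normalizer (U : Set G)))

theorem isNormalizerPStable_iff_stableAt (p : ℕ) (G : Type*) [Group G] :
    IsNormalizerPStable p G ↔ ∀ U : Subgroup G, IsPGroup p U → StableAt p G U := Iff.rfl

variable {p : ℕ} [hp : Fact p.Prime]

/-- transport of the condition along an isomorphism -/
theorem stableAt_map_equiv {G G' : Type*} [Group G] [Group G'] (e : G ≃* G') (U : Subgroup G)
    (U' : Subgroup G') (hU' : U' = U.map e.toMonoidHom) (h : StableAt p G U) :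
    StableAt p G' U' := by
  intro g' hg' hquad'
  have hUback : U'.map e.symm.toMonoidHom = U := by
    rw [hU', Subgroup.map_map]
    have : e.symm.toMonoidHom.comp e.toMonoidHom = MonoidHom.id G := by
      ext x; simp
    rw [this, Subgroup.map_id]
  have hnorm : ∀ x : G, x ∈ normalizer (U : Set G) → e x ∈ normalizer (U' : Set G') := by
    intro x hx
    rw [hU']
    exact Subgroup.le_normalizer_map e.toMonoidHom ⟨x, hx, rfl⟩
  have hnorm' : ∀ y : G', y ∈ normalizer (U' : Set G') → e.symm y ∈ normalizer (U : Set G) := by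
    intro y hy
    rw [← hUback]
    exact Subgroup.le_normalizer_map e.symm.toMonoidHom ⟨y, hy, rfl⟩
  have hquad : ⁅⁅U, Subgroup.zpowers (e.symm g')⁆, Subgroup.zpowers (e.symm g')⁆ = ⊥ := by
    have : ⁅⁅U'.map e.symm.toMonoidHom, Subgroup.zpowers (e.symm.toMonoidHom g')⁆,
        Subgroup.zpowers (e.symm.toMonoidHom g')⁆ = ⊥ := by
      rw [← MonoidHom.map_zpowers, ← Subgroup.map_commutator, ← Subgroup.map_commutator, hquad',
        Subgroup.map_bot]
    rw [hUback] at this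
    exact this
  have h1 := h (e.symm g') (hnorm' g' hg') hquad
  -- the comparison homomorphism
  let φ : ↥(Subgroup.normalizer (U : Set G)) →* ↥(Subgroup.normalizer (U' : Set G')) :=
    (e.toMonoidHom.comp (Subgroup.subtype _)).codRestrict _ (fun x => hnorm x x.2)
  have hφ : ∀ x : ↥(Subgroup.normalizer (U : Set G)),
      x ∈ (Subgroup.centralizer (U : Set G)).subgroupOf (Subgroup.normalizer (U : Set G)) →
      φ x ∈ (Subgroup.centralizer (U' : Set G')).subgroupOf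
        (Subgroup.normalizer (U' : Set G')) := by
    intro x
    rw [Subgroup.mem_subgroupOf, Subgroup.mem_subgroupOf, Subgroup.mem_centralizer_iff,
      Subgroup.mem_centralizer_iff]
    intro h y hy
    rw [hU'] at hy
    obtain ⟨z, hz, rfl⟩ := hy
    have := h z hz
    change e z * e x = e x * e z
    rw [← map_mul, ← map_mul, this]
  let ψ := QuotientGroup.map
    ((Subgroup.centralizer (U : Set G)).subgroupOf (Subgroup.normalizer (U : Set G)))
    ((Subgroup.centralizer (U' : Set G')).subgroupOf (Subgroup.normalizer (U' : Set G'))) φ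
    (fun x hx => hφ x hx)
  have hψs : Function.Surjective ψ := by
    intro z
    obtain ⟨y, rfl⟩ := QuotientGroup.mk_surjective z
    refine ⟨QuotientGroup.mk ⟨e.symm y, hnorm' y y.2⟩, ?_⟩
    change QuotientGroup.mk (φ ⟨e.symm y, hnorm' y y.2⟩) = _
    congr 1
    apply Subtype.ext
    change e (e.symm y) = y
    simp
  have h2 : (pCore p _).map ψ ≤ pCore p _ :=
    le_sSup ⟨(Cfsg.Agent.Lib.Helper87.pCore_normal p _).map ψ hψs,
      (Cfsg.Agent.Lib.Helper87.pCore_isPGroup p _).map ψ⟩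
  apply h2
  refine ⟨_, h1, ?_⟩
  change QuotientGroup.mk (φ ⟨e.symm g', hnorm' g' hg'⟩) = _
  congr 1
  apply Subtype.ext
  change e (e.symm g') = g'
  simp

/-- the fusion-system form of the condition at `Q ≤ P` gives the group form -/
theorem stableAt_of_fus {Ω : Type*} [Group Ω] (P Q : Subgroup Ω) (hQ : Q ≤ P)
    (hst : ∀ χ : MulAut ↥Q, χ ∈ (groupFusionSystem P).autGroup Q →
      (∀ a : ↥Q, (χ a⁻¹) * a * (χ a⁻¹) * (χ (χ a)) = 1) →
      χ ∈ ((pCore p ↥((groupFusionSystem P).autGroup Q)).map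
        ((groupFusionSystem P).autGroup Q).subtype : Subgroup (MulAut ↥Q))) :
    StableAt p Ω Q := by
  intro g hg hquad
  rw [Cfsg.Agent.Lib.Helper87.groupFusion_autGroup_eq P hQ] at hst
  unfold Cfsg.Agent.Lib.Helper87.autN at hst
  rw [Cfsg.Agent.Lib.Helper87.mk_mem_pCore_iff Q.normalizerMonoidHom _
    (Subgroup.normalizerMonoidHom_ker (H := Q))]
  apply hst
  · exact ⟨⟨g, hg⟩, rfl⟩
  · intro a
    have h1 : ⁅⁅(a : Ω), g⁆, g⁆ = 1 := by
      have : ⁅⁅(a : Ω), g⁆, g⁆ ∈ ⁅⁅Q, Subgroup.zpowers g⁆, Subgroup.zpowers g⁆ :=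
        Subgroup.commutator_mem_commutator
          (Subgroup.commutator_mem_commutator a.2 (Subgroup.mem_zpowers g))
          (Subgroup.mem_zpowers g)
      rw [hquad, Subgroup.mem_bot] at this
      exact this
    apply Subtype.ext
    simp only [Subgroup.coe_mul, Subgroup.coe_one]
    rw [Cfsg.Agent.Lib.Helper87.normalizerMonoidHom_coe,
      Cfsg.Agent.Lib.Helper87.normalizerMonoidHom_coe,
      Cfsg.Agent.Lib.Helper87.normalizerMonoidHom_coe]
    simp only [Subgroup.coe_inv]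
    rw [commutatorElement_def, commutatorElement_def] at h1
    -- `h1 : a g a⁻¹ g⁻¹ g (a g a⁻¹ g⁻¹)⁻¹ g⁻¹ = 1`
    have h2 : (a : Ω) * g * (a : Ω)⁻¹ * g⁻¹ * g = g * ((a : Ω) * g * (a : Ω)⁻¹ * g⁻¹) := by
      have := mul_inv_eq_one.mp h1
      have h3 := mul_inv_eq_iff_eq_mul.mp this
      rw [h3]
    -- so `a g a⁻¹ = g a g a⁻¹ g⁻¹`
    have h3 : (a : Ω) * g * (a : Ω)⁻¹ = g * (a : Ω) * g * (a : Ω)⁻¹ * g⁻¹ := by
      calc (a : Ω) * g * (a : Ω)⁻¹ = (a : Ω) * g * (a : Ω)⁻¹ * g⁻¹ * g := by group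
        _ = g * ((a : Ω) * g * (a : Ω)⁻¹ * g⁻¹) := h2
        _ = g * (a : Ω) * g * (a : Ω)⁻¹ * g⁻¹ := by group
    -- goal: `g a⁻¹ g⁻¹ a g a⁻¹ g⁻¹ g (g a g⁻¹) g⁻¹ = 1`
    calc g * (a : Ω)⁻¹ * g⁻¹ * (a : Ω) * (g * (a : Ω)⁻¹ * g⁻¹) * (g * (g * (a : Ω) * g⁻¹) * g⁻¹)
        = g * (a : Ω)⁻¹ * g⁻¹ * ((a : Ω) * g * (a : Ω)⁻¹) * g * (a : Ω) * g⁻¹ * g⁻¹ := by group
      _ = g * (a : Ω)⁻¹ * g⁻¹ * (g * (a : Ω) * g * (a : Ω)⁻¹ * g⁻¹) * g * (a : Ω) * g⁻¹ * g⁻¹ := by
          rw [← h3]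
      _ = 1 := by group

/-- a fusion system of a finite group on a Sylow subgroup that is `p`-stable at the fully
normalized subgroups comes from a normalizer-`p`-stable group -/
theorem isNormalizerPStable_of_fus {Ω : Type*} [Group Ω] [Finite Ω] (P : Sylow p Ω)
    (hst : ∀ Q : Subgroup Ω, (groupFusionSystem (P : Subgroup Ω)).IsFullyNormalized Q →
      ∀ χ : MulAut ↥Q, χ ∈ (groupFusionSystem (P : Subgroup Ω)).autGroup Q →
      (∀ a : ↥Q, (χ a⁻¹) * a * (χ a⁻¹) * (χ (χ a)) = 1) →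
      χ ∈ ((pCore p ↥((groupFusionSystem (P : Subgroup Ω)).autGroup Q)).map
        ((groupFusionSystem (P : Subgroup Ω)).autGroup Q).subtype : Subgroup (MulAut ↥Q))) :
    IsNormalizerPStable p Ω := by
  intro U hU
  -- the conjugates of `U` inside `P`
  obtain ⟨h0, -, hh0⟩ := (Cfsg.Agent.Lib.Helper85.sylIn_top P).exists_conj_le le_top hU
  haveI : Nonempty {Q : Subgroup Ω // Q ≤ (P : Subgroup Ω) ∧
      ∃ h : Ω, Q = U.map (MulAut.conj h).toMonoidHom} := ⟨⟨_, hh0, h0, rfl⟩⟩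
  obtain ⟨Q, hQmax⟩ := Finite.exists_max
    (fun Q : {Q : Subgroup Ω // Q ≤ (P : Subgroup Ω) ∧
      ∃ h : Ω, Q = U.map (MulAut.conj h).toMonoidHom} =>
      Nat.card (FusionSystem.normalizerIn (P : Subgroup Ω) Q.1))
  obtain ⟨Q, hQP, h, hQ⟩ := Q
  have hfn : (groupFusionSystem (P : Subgroup Ω)).IsFullyNormalized Q := by
    refine ⟨hQP, ?_⟩
    intro Q' hQ'
    rw [Cfsg.Agent.Lib.Helper85.isConj_groupFusionSystem_iff] at hQ'
    obtain ⟨-, hQ'P, g, hg⟩ := hQ'
    have hmem : ∃ h' : Ω, Q' = U.map (MulAut.conj h').toMonoidHom := by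
      refine ⟨g * h, ?_⟩
      rw [← hg, hQ, Subgroup.map_map]
      congr 1
      ext x
      simp [Cfsg.Agent.Lib.Helper85.cj, mul_assoc]
    exact hQmax ⟨Q', hQ'P, hmem⟩
  have h1 : StableAt p Ω Q := stableAt_of_fus (P : Subgroup Ω) Q hQP (hst Q hfn)
  apply stableAt_map_equiv (MulAut.conj h).symm Q U ?_ h1
  rw [hQ, Subgroup.map_map]
  have : (MulAut.conj h).symm.toMonoidHom.comp (MulAut.conj h).toMonoidHom = MonoidHom.id Ω := by
    ext x; simp
  rw [this, Subgroup.map_id]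

/-- control of strong fusion by `N(Z)` makes `Z` normal in the fusion system -/
theorem isNormal_of_controls {Ω : Type*} [Group Ω] (P Z : Subgroup Ω) (hZ : Z ≤ P)
    (hctl : ∀ A : Set Ω, A ⊆ (P : Set Ω) →
      ControlsStrongFusionOf (normalizer (Z : Set Ω)) P A) :
    (groupFusionSystem P).IsNormal Z := by
  refine ⟨hZ, ?_⟩
  rintro R φ ⟨hRP, hφP, g, hg⟩
  have hA : ((R : Set Ω)) ⊆ (P : Set Ω) := hRP
  obtain ⟨-, hc⟩ := hctl (R : Set Ω) hA
  have hgA : (fun a => g * a * g⁻¹) '' (R : Set Ω) ⊆ (P : Set Ω) := by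
    rintro _ ⟨a, ha, rfl⟩
    have := hφP ⟨a, ha⟩
    rw [hg] at this
    exact this
  obtain ⟨x₀, hx₀, hx₀a⟩ := hc g hgA
  have hle : R ⊔ Z ≤ P.comap (MulAut.conj x₀).toMonoidHom := by
    apply sup_le
    · intro a ha
      rw [Subgroup.mem_comap]
      change x₀ * a * x₀⁻¹ ∈ P
      rw [← hx₀a a ha]
      exact hgA ⟨a, ha, rfl⟩
    · intro z hz
      rw [Subgroup.mem_comap]
      change x₀ * z * x₀⁻¹ ∈ P
      exact hZ ((Subgroup.mem_normalizer_iff.mp hx₀ z).mp hz)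
  refine ⟨conjHom (R ⊔ Z) x₀, ⟨sup_le hRP hZ, fun y => hle y.2, x₀, fun _ => rfl⟩, ?_, ?_⟩
  · intro x
    rw [hg]
    change x₀ * (x : Ω) * x₀⁻¹ = _
    exact (hx₀a x x.2).symm
  · ext z
    constructor
    · rintro ⟨y, hy, rfl⟩
      rw [SetLike.mem_coe, Subgroup.mem_subgroupOf] at hy
      change x₀ * (y : Ω) * x₀⁻¹ ∈ Z
      exact (Subgroup.mem_normalizer_iff.mp hx₀ _).mp hy
    · intro hz
      have h1 : x₀⁻¹ * z * x₀ ∈ Z := by
        have := (Subgroup.mem_normalizer_iff.mp (Subgroup.inv_mem _ hx₀) z).mp hz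
        rwa [inv_inv] at this
      refine ⟨⟨x₀⁻¹ * z * x₀, (le_sup_right : Z ≤ R ⊔ Z) h1⟩, ?_, ?_⟩
      · rw [SetLike.mem_coe, Subgroup.mem_subgroupOf]
        exact h1
      · change x₀ * (x₀⁻¹ * z * x₀) * x₀⁻¹ = z
        group

end Cfsg.Agent.Lib.Helper33
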