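import Mathlib

/-!
# G2z mini-hive (S4279, owner helper37): leaf G2Z-NOETHER `relIndex_sup_of_le_normalizer`
-/

set_option autoImplicit false

namespace Cfsg.Agent.Lib.Helper37.G2z

/-- G2Z-NOETHER -/
theorem relIndex_sup_of_le_normalizer {G : Type*} [Group G] (L H : Subgroup G)
    (hH : H ≤ Subgroup.normalizer (L : Set G)) : L.relIndex (L ⊔ H) = (L ⊓ H).relIndex H := by
  rw [Subgroup.inf_relIndex_right, sup_comm]
  unfold Subgroup.relIndex
  rw [Subgroup.index_eq_card, Subgroup.index_eq_card]
  have := Subgroup.normal_subgroupOf_of_le_normalizer hH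
  have := Subgroup.normal_subgroupOf_sup_of_le_normalizer hH
  exact (Nat.card_congr (QuotientGroup.quotientInfEquivProdNormalizerQuotient H L hH).toEquiv).symm

end Cfsg.Agent.Lib.Helper37.G2z
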