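import Mathlib
import Cfsg.Agent.Lib.Helper47.G42Defs

/-!
# G42-F56 sub-leaf F56-ALT (architect helper82, hive S2553 of helper47)

A subgroup of `Perm (Fin 6)` containing `alternatingGroup (Fin 6)` is `A6` or `S6`.
-/

set_option autoImplicit false

namespace Cfsg.Agent.Lib.Helper47.G42

open Equiv

/-- SUB-LEAF F56-ALT. -/
theorem f56_iso_of_alt_le (G : Subgroup (Perm (Fin 6))) (hle : alternatingGroup (Fin 6) ≤ G) :
    Nonempty (G ≃* alternatingGroup (Fin 6)) ∨ Nonempty (G ≃* Perm (Fin 6)) := by
  have h2 : (alternatingGroup (Fin 6)).relIndex G * G.index = 2 := by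
    rw [Subgroup.relIndex_mul_index hle, alternatingGroup.index_eq_two]
  have hdvd : G.index ∣ 2 := Dvd.intro_left _ h2
  have hcases : G.index = 1 ∨ G.index = 2 := by
    have hle2 : G.index ≤ 2 := Nat.le_of_dvd (by norm_num) hdvd
    have hne : G.index ≠ 0 := by
      intro h0
      rw [h0] at h2
      simp at h2
    omega
  rcases hcases with h1 | h1
  · right
    rw [Subgroup.index_eq_one] at h1
    exact ⟨(MulEquiv.subgroupCongr h1).trans Subgroup.topEquiv⟩
  · left
    rw [h1] at h2
    have hr : (alternatingGroup (Fin 6)).relIndex G = 1 := by omega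
    rw [Subgroup.relIndex_eq_one] at hr
    exact ⟨MulEquiv.subgroupCongr (le_antisymm hr hle)⟩

end Cfsg.Agent.Lib.Helper47.G42
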