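import Mathlib
import Cfsg.Agent.Lib.Helper47.G42Defs

/-!
# G42-F56 sub-leaf F56-N240 (architect helper82, hive S2553 of helper47)

`Perm (Fin 6)` has no subgroup of order 240.
-/

set_option autoImplicit false

namespace Cfsg.Agent.Lib.Helper47.G42

open Equiv

/-- SUB-LEAF F56-N240. -/
theorem f56_not_240 (G : Subgroup (Perm (Fin 6))) : Nat.card G ≠ 240 := by
  intro h240
  have hcard : Nat.card (Perm (Fin 6)) = 720 := by
    rw [Nat.card_perm, Nat.card_fin]; rfl
  have hidx : G.index = 3 := by
    have h := G.index_mul_card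
    rw [h240, hcard] at h
    omega
  have hNle : G.normalCore ≤ G := Subgroup.normalCore_le G
  have hNidx : G.normalCore.index ∣ 6 := by
    rw [Subgroup.normalCore_eq_ker, Subgroup.index_ker]
    have h6 : Nat.card (Perm (Perm (Fin 6) ⧸ G)) = 6 := by
      rw [Nat.card_perm]
      have : Nat.card (Perm (Fin 6) ⧸ G) = 3 := hidx
      rw [this]; rfl
    have h := Subgroup.card_subgroup_dvd_card
      (MulAction.toPermHom (Perm (Fin 6)) (Perm (Fin 6) ⧸ G)).range
    rw [h6] at h
    exact h
  have hNnt : Nontrivial G.normalCore := by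
    rw [Subgroup.nontrivial_iff_ne_bot]
    intro hbot
    rw [hbot, Subgroup.index_bot, hcard] at hNidx
    omega
  have hA : alternatingGroup (Fin 6) ≤ G.normalCore :=
    Equiv.Perm.alternatingGroup_le_of_normal (by simp) hNnt
  have hAG : alternatingGroup (Fin 6) ≤ G := hA.trans hNle
  have h360 : Nat.card (alternatingGroup (Fin 6)) = 360 := by
    have h := two_mul_nat_card_alternatingGroup (α := Fin 6)
    rw [hcard] at h
    omega
  have hdvd := Subgroup.card_dvd_of_le hAG
  rw [h360, h240] at hdvd
  omega

end Cfsg.Agent.Lib.Helper47.G42
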