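import Mathlib
import Cfsg.Agent.Lib.Helper47.G42Defs
import Cfsg.Agent.Lib.Helper10.Solvable
import Cfsg.Agent.Lib.Helper87.PCore

/-! G42-RAD (helper47's G42 hive, S2553): `O_2(G) = O_{2'}(G) = 1` implies that `G` has no non-trivial solvable normal subgroup. -/

set_option autoImplicit false
set_option linter.style.haveILetI false

namespace Cfsg.Agent.Lib.Helper47.G42

open Equiv

theorem rad_pCore_map_equiv_le {A B : Type*} [Group A] [Group B] (p : ℕ) (e : A ≃* B) :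
    (Cfsg.pCore p A).map e.toMonoidHom ≤ Cfsg.pCore p B := by
  rw [Subgroup.map_le_iff_le_comap]
  apply sSup_le
  rintro N ⟨hNn, hNc⟩
  rw [← Subgroup.map_le_iff_le_comap]
  apply le_sSup
  exact ⟨hNn.map _ e.surjective, hNc.map _⟩

theorem rad_pCore_characteristic (p : ℕ) (X : Type*) [Group X] : (Cfsg.pCore p X).Characteristic :=
  Subgroup.characteristic_iff_map_le.mpr fun ϕ => rad_pCore_map_equiv_le p ϕ

/-- LEAF G42-RAD. -/
theorem radFree_of_cores {G : Type*} [Group G] [Finite G] (h2 : Cfsg.pCore 2 G = ⊥)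
    (h2' : Cfsg.pPrimeCore 2 G = ⊥) : RadFree G := by
  intro N hN hsol
  by_contra hne
  haveI := hN
  haveI := hsol
  haveI : Nontrivial ↥N := (Subgroup.nontrivial_iff_ne_bot N).2 hne
  obtain ⟨q, M, hq, hMn, hMne, hMp, -, -⟩ :=
    Cfsg.Agent.Lib.Helper10.exists_normal_pgroup_of_solvable (G := ↥N)
  haveI : Fact q.Prime := ⟨hq⟩
  have hMK : M ≤ Cfsg.pCore q ↥N := le_sSup ⟨hMn, hMp⟩
  have hKne : Cfsg.pCore q ↥N ≠ ⊥ := by
    intro h
    rw [h] at hMK
    exact hMne (le_bot_iff.1 hMK)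
  haveI : (Cfsg.pCore q ↥N).Characteristic := rad_pCore_characteristic q ↥N
  have hLn : ((Cfsg.pCore q ↥N).map N.subtype).Normal := ConjAct.normal_of_characteristic_of_normal
  have hLp : IsPGroup q ((Cfsg.pCore q ↥N).map N.subtype) :=
    (Cfsg.Agent.Lib.Helper87.pCore_isPGroup q ↥N).map _
  have hLne : (Cfsg.pCore q ↥N).map N.subtype ≠ ⊥ := by
    intro h
    exact hKne ((Subgroup.map_eq_bot_iff_of_injective _ (Subgroup.subtype_injective N)).1 h)
  by_cases hq2 : q = 2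
  · subst hq2
    have hle : (Cfsg.pCore 2 ↥N).map N.subtype ≤ Cfsg.pCore 2 G := le_sSup ⟨hLn, hLp⟩
    rw [h2] at hle
    exact hLne (le_bot_iff.1 hle)
  · have hcop : (Nat.card ((Cfsg.pCore q ↥N).map N.subtype)).Coprime 2 := by
      obtain ⟨k, hk⟩ := IsPGroup.iff_card.1 hLp
      rw [hk]
      apply Nat.Coprime.pow_left
      exact (Nat.coprime_primes hq Nat.prime_two).2 hq2
    have hle : (Cfsg.pCore q ↥N).map N.subtype ≤ Cfsg.pPrimeCore 2 G := le_sSup ⟨hLn, hcop⟩
    rw [h2'] at hle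
    exact hLne (le_bot_iff.1 hle)

end Cfsg.Agent.Lib.Helper47.G42
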