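import Cfsg.Prelude.Def_Local
import Cfsg.Prelude.Def_TwoFusion
import Cfsg.Agent.Lib.Helper32.PPrimeP
import Cfsg.Agent.Lib.Helper32.Burnside
import Cfsg.Agent.Lib.Helper54.PConstr2
import Cfsg.Agent.Lib.Helper55.SolvCore
import Cfsg.Agent.Lib.Helper33.AlperinTame
import Cfsg.Agent.Lib.Helper33.Pair
import Cfsg.Agent.Lib.Helper33.CReach

set_option autoImplicit false
set_option linter.style.haveILetI false
set_option linter.unusedSectionVars false

namespace Cfsg.Agent.Lib.Helper33

open Cfsg Subgroup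

variable {G : Type*} [Group G]

/-- `O_{p'}(N_G(U))` as a subgroup of `G`. -/
def kG (p : ℕ) (U : Subgroup G) : Subgroup G :=
  (pPrimeCore p ↥(normalizer (U : Set G))).map (normalizer (U : Set G)).subtype

/-- `O_{p',p}(N_G(U))` as a subgroup of `G`. -/
def lG (p : ℕ) (U : Subgroup G) : Subgroup G :=
  (pPrimePCore p ↥(normalizer (U : Set G))).map (normalizer (U : Set G)).subtype

theorem kG_le_lG (p : ℕ) (U : Subgroup G) : kG p U ≤ lG p U :=
  Subgroup.map_mono (Cfsg.Agent.Lib.Helper32.pPrimeCore_le_pPrimePCore p _)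

theorem lG_le_normalizer (p : ℕ) (U : Subgroup G) : lG p U ≤ normalizer (U : Set G) :=
  Subgroup.map_subtype_le _

/-- The Alperin–Goldschmidt family. -/
def agFamily {p : ℕ} (P : Sylow p G) : Set (Subgroup G) :=
  {D | D ≤ (P : Subgroup G) ∧ FN p (P : Subgroup G) D ∧
    centralizer (D : Set G) ≤ lG p D ∧ IsInternalDirectProduct (kG p D) D (lG p D)}

section local_

variable [Finite G] {p : ℕ} [Fact p.Prime] (P : Sylow p G) {U : Subgroup G}

/-- `N_P(U)` as a Sylow subgroup of `N_G(U)` for fully normalized `U`. -/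
noncomputable def sylN (hfn : FN p (P : Subgroup G) U) : Sylow p ↥(normalizer (U : Set G)) :=
  IsPGroup.toSylow (P := ((P : Subgroup G) ⊓ normalizer (U : Set G)).subgroupOf (normalizer (U : Set G)))
    (IsPGroup.comap_subtype (P.isPGroup'.to_le inf_le_left)) hfn

theorem mem_sylN (hfn : FN p (P : Subgroup G) U) (x : ↥(normalizer (U : Set G))) :
    x ∈ (sylN P hfn : Subgroup ↥(normalizer (U : Set G))) ↔ (x : G) ∈ (P : Subgroup G) := by
  unfold sylN
  constructor
  · intro h
    have h' := (IsPGroup.mem_toSylow _ _).mp h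
    exact (Subgroup.mem_inf.mp (Subgroup.mem_subgroupOf.mp h')).1
  · intro h
    apply (IsPGroup.mem_toSylow _ _).mpr
    exact Subgroup.mem_subgroupOf.mpr (Subgroup.mem_inf.mpr ⟨h, x.2⟩)

/-- `P ∩ O_{p',p}(N_G(U))` as a subgroup of `G`. -/
noncomputable def dStar (hfn : FN p (P : Subgroup G) U) : Subgroup G :=
  ((sylN P hfn : Subgroup ↥(normalizer (U : Set G))) ⊓ pPrimePCore p ↥(normalizer (U : Set G))).map
    (normalizer (U : Set G)).subtype

theorem dStar_le (hfn : FN p (P : Subgroup G) U) : dStar P hfn ≤ (P : Subgroup G) := by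
  rintro _ ⟨x, hx, rfl⟩
  exact (mem_sylN P hfn x).mp hx.1

theorem dStar_le_lG (hfn : FN p (P : Subgroup G) U) : dStar P hfn ≤ lG p U :=
  Subgroup.map_mono inf_le_right

theorem subgroupOf_le_pPrimePCore (hU : IsPGroup p U) :
    U.subgroupOf (normalizer (U : Set G)) ≤ pPrimePCore p ↥(normalizer (U : Set G)) := by
  apply Cfsg.Agent.Lib.Helper54.le_pPrimePCore_of_forall_pow_mem p
  intro m hm
  have hU' : IsPGroup p (U.subgroupOf (normalizer (U : Set G))) := hU.comap_subtype
  obtain ⟨j, hj⟩ := hU' ⟨m, hm⟩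
  refine ⟨j, ?_⟩
  have : m ^ p ^ j = 1 := by
    have := congrArg Subtype.val hj
    simpa using this
  rw [this]; exact Subgroup.one_mem _

theorem le_dStar (hUP : U ≤ (P : Subgroup G)) (hfn : FN p (P : Subgroup G) U) :
    U ≤ dStar P hfn := by
  intro u hu
  have huN : u ∈ normalizer (U : Set G) := Subgroup.le_normalizer hu
  refine ⟨⟨u, huN⟩, ⟨?_, ?_⟩, rfl⟩
  · exact (mem_sylN P hfn _).mpr (hUP hu)
  · apply subgroupOf_le_pPrimePCore (P.isPGroup'.to_le hUP)
    rw [Subgroup.mem_subgroupOf]; exact hu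

/-- elements of `O_{p'}(N_G(U))` centralize `U` -/
theorem kG_le_centralizer (hU : IsPGroup p U) : kG p U ≤ centralizer (U : Set G) := by
  rintro _ ⟨k, hk, rfl⟩
  have hU' : IsPGroup p (U.subgroupOf (normalizer (U : Set G))) := hU.comap_subtype
  have hkN : k ∈ normalizer ((U.subgroupOf (normalizer (U : Set G)) :
      Subgroup ↥(normalizer (U : Set G))) : Set ↥(normalizer (U : Set G))) := by
    have htop : normalizer ((U.subgroupOf (normalizer (U : Set G)) :
        Subgroup ↥(normalizer (U : Set G))) : Set ↥(normalizer (U : Set G))) = ⊤ :=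
      Subgroup.normalizer_eq_top _
    rw [htop]; exact Subgroup.mem_top _
  have hc := Cfsg.Agent.Lib.Helper32.mem_centralizer_of_mem_pPrimeCore_of_mem_normalizer hU' hk hkN
  rw [Subgroup.mem_centralizer_iff] at hc ⊢
  intro u hu
  have huN : u ∈ normalizer (U : Set G) := Subgroup.le_normalizer hu
  have := hc ⟨u, huN⟩ (by rw [SetLike.mem_coe, Subgroup.mem_subgroupOf]; exact hu)
  exact congrArg Subtype.val this

/-- **Lemma A**: Frattini argument in `O_{p',p}(N_G(U))`. -/
theorem frattini_dStar (hUP : U ≤ (P : Subgroup G)) (hfn : FN p (P : Subgroup G) U) {x : G}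
    (hx : x ∈ normalizer (U : Set G)) :
    ∃ c ∈ centralizer (U : Set G), ∃ m ∈ normalizer (U : Set G) ⊓
      normalizer ((dStar P hfn : Subgroup G) : Set G), x = c * m := by
  have hQ : IsPGroup p ((sylN P hfn : Subgroup ↥(normalizer (U : Set G))) ⊓
      pPrimePCore p ↥(normalizer (U : Set G)) : Subgroup ↥(normalizer (U : Set G))) :=
    (sylN P hfn).isPGroup'.to_le inf_le_left
  haveI : (pPrimeCore p ↥(normalizer (U : Set G))).Normal :=
    Cfsg.Agent.Lib.Helper55.pPrimeCore_normal' p
  haveI : (pPrimePCore p ↥(normalizer (U : Set G))).Normal :=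
    Cfsg.Agent.Lib.Helper32.pPrimePCore_normal p _
  have hsup := Cfsg.Agent.Lib.Helper32.pPrimeCore_sup_sylow_inf (sylN P hfn)
  obtain ⟨k, hk, hkx⟩ := Cfsg.Agent.Lib.Helper54.exists_mem_normalizer_of_conj_le_sup p
    (pPrimeCore p ↥(normalizer (U : Set G))) (Cfsg.Agent.Lib.Helper55.pPrimeCore_card_coprime p)
    _ hQ (⟨x, hx⟩ : ↥(normalizer (U : Set G))) (by
      intro u hu
      rw [hsup]
      exact Subgroup.Normal.conj_mem inferInstance u hu.2 _)
  refine ⟨(k : G), ?_, ((k⁻¹ * ⟨x, hx⟩ : ↥(normalizer (U : Set G))) : G), ⟨?_, ?_⟩, ?_⟩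
  · exact kG_le_centralizer (P.isPGroup'.to_le hUP) ⟨k, hk, rfl⟩
  · exact (k⁻¹ * ⟨x, hx⟩ : ↥(normalizer (U : Set G))).2
  · unfold dStar
    apply Subgroup.le_normalizer_map
    exact ⟨_, hkx, rfl⟩
  · simp

/-- `P ∩ C_G(U)` is a Sylow subgroup of `C_G(U)` when `U` is fully normalized. -/
theorem fn_centralizer (hfn : FN p (P : Subgroup G) U) :
    ¬ p ∣ ((P : Subgroup G) ⊓ centralizer (U : Set G)).relIndex (centralizer (U : Set G)) := by
  have hCN : centralizer (U : Set G) ≤ normalizer (U : Set G) := Subgroup.centralizer_le_normalizer _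
  have hnorm : normalizer (U : Set G) ≤ normalizer ((centralizer (U : Set G) : Subgroup G) : Set G) := by
    intro n hn
    rw [← cj_eq_self_iff, ← centralizer_cj, cj_eq_self_iff.mpr hn]
  have hRp : IsPGroup p ((P : Subgroup G) ⊓ normalizer (U : Set G) : Subgroup G) :=
    P.isPGroup'.to_le inf_le_left
  have hsyl := sylow_inf_normal (R := (P : Subgroup G) ⊓ normalizer (U : Set G)) inf_le_right hRp hfn
    hCN hnorm
  rwa [inf_assoc, inf_of_le_right hCN] at hsyl

/-- `N_G(U)` normalizes `C_G(U)` -/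
theorem conj_mem_centralizer {n c : G} (hn : n ∈ normalizer (U : Set G))
    (hc : c ∈ centralizer (U : Set G)) : n * c * n⁻¹ ∈ centralizer (U : Set G) := by
  have h1 : cj n (centralizer (U : Set G)) = centralizer (U : Set G) := by
    rw [← centralizer_cj, cj_eq_self_iff.mpr hn]
  rw [← h1]
  exact conj_mem_cj hc

/-- **Lemma C**: a fully normalized `U` which is a Sylow subgroup of `O_{p',p}(N_G(U))` and contains
`C_P(U)` belongs to the Alperin–Goldschmidt family. -/
theorem mem_agFamily (hUP : U ≤ (P : Subgroup G)) (hfn : FN p (P : Subgroup G) U)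
    (h1 : dStar P hfn = U) (h2 : (P : Subgroup G) ⊓ centralizer (U : Set G) ≤ U) :
    U ∈ agFamily P := by
  have hUp : IsPGroup p U := P.isPGroup'.to_le hUP
  have hUl : U ≤ lG p U := by
    have := dStar_le_lG P hfn
    rwa [h1] at this
  refine ⟨hUP, hfn, ?_, kG_le_lG p U, hUl, ?_, ?_, ?_⟩
  · -- centralizer
    have hsyl := fn_centralizer P hfn
    have hZp : IsPGroup p (((P : Subgroup G) ⊓ centralizer (U : Set G)).subgroupOf
        (centralizer (U : Set G))) :=
      IsPGroup.comap_subtype (P.isPGroup'.to_le inf_le_left)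
    obtain ⟨Z', hZ'⟩ : ∃ Z' : Sylow p ↥(centralizer (U : Set G)), Z' = hZp.toSylow hsyl := ⟨_, rfl⟩
    have hZmem : ∀ z : ↥(centralizer (U : Set G)), z ∈ Z' → (z : G) ∈ U := by
      intro z hz
      rw [hZ'] at hz
      have hz' := (IsPGroup.mem_toSylow _ _).mp hz
      exact h2 (Subgroup.mem_subgroupOf.mp hz')
    have hZc : (Z' : Subgroup ↥(centralizer (U : Set G))) ≤
        Subgroup.center ↥(centralizer (U : Set G)) := by
      intro z hz
      rw [Subgroup.mem_center_iff]
      intro y
      have := Subgroup.mem_centralizer_iff.mp y.2 _ (hZmem z hz)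
      apply Subtype.ext
      simp only [Subgroup.coe_mul]
      exact this.symm
    obtain ⟨KC, hKCn, hKCc, hKCsup, hKCmem⟩ :=
      Cfsg.Agent.Lib.Helper32.exists_normal_pComplement_of_le_center Z' hZc
    have hCN : centralizer (U : Set G) ≤ normalizer (U : Set G) :=
      Subgroup.centralizer_le_normalizer _
    -- the image of the complement is a normal p'-subgroup of the normalizer
    obtain ⟨K₁, hK₁⟩ : ∃ K₁ : Subgroup G, K₁ = KC.map (centralizer (U : Set G)).subtype := ⟨_, rfl⟩
    have hK₁C : K₁ ≤ centralizer (U : Set G) := by rw [hK₁]; exact Subgroup.map_subtype_le _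
    have hK₁card : Nat.card K₁ = Nat.card KC := by
      rw [hK₁]; exact Subgroup.card_map_of_injective (Subgroup.subtype_injective _)
    haveI hK₁n : (K₁.subgroupOf (normalizer (U : Set G))).Normal := by
      constructor
      intro k hk n
      rw [Subgroup.mem_subgroupOf] at hk ⊢
      rw [hK₁] at hk ⊢
      obtain ⟨kc, hkc, hkc'⟩ := hk
      have hmem : (n : G) * (kc : G) * (n : G)⁻¹ ∈ centralizer (U : Set G) :=
        conj_mem_centralizer n.2 kc.2
      refine ⟨⟨_, hmem⟩, ?_, ?_⟩
      · rw [SetLike.mem_coe, hKCmem, Subgroup.orderOf_mk]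
        have h3 : orderOf ((n : G) * (kc : G) * (n : G)⁻¹) = orderOf (kc : G) := by
          have := (MulAut.conj (n : G)).orderOf_eq (kc : G)
          rwa [MulAut.conj_apply] at this
        rw [h3, Subgroup.orderOf_coe]
        exact (hKCmem kc).mp hkc
      · simp only [Subgroup.coe_subtype, Subgroup.coe_mul, Subgroup.coe_inv]
        rw [← hkc']
        rfl
    have hK₁core : K₁.subgroupOf (normalizer (U : Set G)) ≤ pPrimeCore p ↥(normalizer (U : Set G)) := by
      apply Cfsg.Agent.Lib.Helper55.le_pPrimeCore p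
      have : Nat.card (K₁.subgroupOf (normalizer (U : Set G))) = Nat.card K₁ := by
        rw [← Subgroup.card_map_of_injective (Subgroup.subtype_injective (normalizer (U : Set G))),
          Subgroup.map_subgroupOf_eq_of_le (hK₁C.trans hCN)]
      rw [this, hK₁card]; exact hKCc
    have hK₁k : K₁ ≤ kG p U := by
      have := Subgroup.map_mono (f := (normalizer (U : Set G)).subtype) hK₁core
      rwa [Subgroup.map_subgroupOf_eq_of_le (hK₁C.trans hCN)] at this
    intro c hc
    have hcT : (⟨c, hc⟩ : ↥(centralizer (U : Set G))) ∈ KC ⊔ (Z' : Subgroup ↥(centralizer (U : Set G))) := by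
      rw [hKCsup]; exact Subgroup.mem_top _
    rw [Subgroup.mem_sup_of_normal_left] at hcT
    obtain ⟨y, hy, z, hz, hyz⟩ := hcT
    have hc' : c = (y : G) * (z : G) := by
      have := congrArg Subtype.val hyz
      simpa using this.symm
    rw [hc']
    apply Subgroup.mul_mem
    · apply kG_le_lG p U
      apply hK₁k
      rw [hK₁]
      exact ⟨y, hy, rfl⟩
    · exact hUl (hZmem z hz)
  · intro a ha b hb
    have := Subgroup.mem_centralizer_iff.mp (kG_le_centralizer hUp ha) b hb
    exact this.symm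
  · rw [eq_bot_iff]
    rintro x ⟨hxk, hxU⟩
    obtain ⟨k, hk, rfl⟩ := hxk
    have hU' : IsPGroup p (U.subgroupOf (normalizer (U : Set G))) := hUp.comap_subtype
    have hbot := Cfsg.Agent.Lib.Helper32.pPrimeCore_inf_eq_bot hU'
    have hkin : k ∈ pPrimeCore p ↥(normalizer (U : Set G)) ⊓ U.subgroupOf (normalizer (U : Set G)) :=
      ⟨hk, Subgroup.mem_subgroupOf.mpr hxU⟩
    rw [hbot, Subgroup.mem_bot] at hkin
    rw [Subgroup.mem_bot, hkin]; rfl
  · have hsup := Cfsg.Agent.Lib.Helper32.pPrimeCore_sup_sylow_inf (sylN P hfn)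
    calc kG p U ⊔ U = kG p U ⊔ dStar P hfn := by rw [h1]
      _ = lG p U := by
        unfold kG dStar lG
        rw [← Subgroup.map_sup, hsup]

/-- Step predicate of the Alperin–Goldschmidt theorem. -/
def GStep {p : ℕ} (P : Sylow p G) (T : Subgroup G) (x : G) : Prop :=
  T ∈ agFamily P ∧ x ∈ normalizer (T : Set G)

theorem sylow_mem_agFamily : (P : Subgroup G) ∈ agFamily P := by
  have hfn : FN p (P : Subgroup G) (P : Subgroup G) := FN_of_sylow_le P Subgroup.le_normalizer
  apply mem_agFamily P le_rfl hfn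
  · exact le_antisymm (dStar_le P hfn) (le_dStar P le_rfl hfn)
  · exact inf_le_left

/-- Main step: an element of the normalizer of a fully normalized subgroup. -/
theorem creach_of_fn (U : Subgroup G) (hUP : U ≤ (P : Subgroup G))
    (hfn : FN p (P : Subgroup G) U) (x : G) (hx : x ∈ normalizer (U : Set G)) :
    CReach (GStep P) (U : Set G) x := by
  obtain ⟨d, hd⟩ : ∃ d, Nat.card (P : Subgroup G) - Nat.card U = d := ⟨_, rfl⟩
  induction d using Nat.strong_induction_on generalizing U x with
  | _ d ih =>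
  have hC1 : ∀ T : Subgroup G, U < T → T ≤ (P : Subgroup G) →
      ∀ z ∈ normalizer (T : Set G), CReach (GStep P) (T : Set G) z := by
    intro T hUT hTP z hz
    have hreach : Reach (fnFamily P) (T : Set G) z := by
      apply reach_fnFamily P _ _ hTP
      rw [rc_coe]
      have : cj z⁻¹ T = T := cj_eq_self_iff.mpr (inv_mem hz)
      rw [this]; exact hTP
    apply CReach.of_reach (c := Nat.card U + 1) ?_ hreach
    · rw [Subgroup.closure_eq]
      exact Set.Finite.card_lt_card (Set.toFinite _) hUT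
    · intro V hV hcV y hy
      have hVP : Nat.card V ≤ Nat.card (P : Subgroup G) := Subgroup.card_le_of_le hV.1
      have hUPc : Nat.card U ≤ Nat.card (P : Subgroup G) := Subgroup.card_le_of_le hUP
      exact ih (Nat.card (P : Subgroup G) - Nat.card V) (by omega) V hV.1 hV.2 y hy rfl
  have hred : ∀ U₁ : Subgroup G, U < U₁ → U₁ ≤ (P : Subgroup G) →
      ∀ c ∈ centralizer (U : Set G), ∀ m ∈ normalizer (U : Set G) ⊓ normalizer (U₁ : Set G),
        x = c * m → CReach (GStep P) (U : Set G) x := by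
    intro U₁ hlt hle c hc m hm hxe
    rw [hxe]
    apply CReach.trans (CReach.of_centralizer hc)
    rw [rc_of_mem_centralizer hc]
    exact (hC1 U₁ hlt hle m hm.2).mono hlt.le
  by_cases h1 : dStar P hfn = U
  · by_cases h2 : (P : Subgroup G) ⊓ centralizer (U : Set G) ≤ U
    · exact CReach.of_sreach (SReach.single ⟨mem_agFamily P hUP hfn h1 h2, hx⟩ le_rfl)
    · obtain ⟨y, hy, hyx⟩ := frattini_centralizer P hfn hx
      have hlt : U < U ⊔ ((P : Subgroup G) ⊓ centralizer (U : Set G)) := by
        apply lt_of_le_of_ne le_sup_left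
        intro he
        apply h2
        calc (P : Subgroup G) ⊓ centralizer (U : Set G)
            ≤ U ⊔ ((P : Subgroup G) ⊓ centralizer (U : Set G)) := le_sup_right
          _ = U := he.symm
      have hle : U ⊔ ((P : Subgroup G) ⊓ centralizer (U : Set G)) ≤ (P : Subgroup G) :=
        sup_le hUP inf_le_left
      have hc : x * y⁻¹ ∈ centralizer (U : Set G) := by
        rw [Subgroup.mem_centralizer_iff]
        intro a ha
        have h3 := hyx a ha
        calc a * (x * y⁻¹) = x * (x⁻¹ * a * x) * y⁻¹ := by group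
          _ = x * (y⁻¹ * a * y) * y⁻¹ := by rw [h3]
          _ = x * y⁻¹ * a := by group
      have hyn : y ∈ normalizer ((U ⊔ ((P : Subgroup G) ⊓ centralizer (U : Set G)) : Subgroup G) : Set G) := by
        rw [← cj_eq_self_iff, cj_sup, cj_eq_self_iff.mpr hy.1, cj_eq_self_iff.mpr hy.2]
      have hxe : x = x * y⁻¹ * y := by group
      exact hred _ hlt hle (x * y⁻¹) hc y ⟨hy.1, hyn⟩ hxe
  · obtain ⟨c, hc, m, hm, hxe⟩ := frattini_dStar P hUP hfn hx
    exact hred (dStar P hfn) (lt_of_le_of_ne (le_dStar P hUP hfn) (Ne.symm h1)) (dStar_le P hfn)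
      c hc m hm hxe

/-- **Alperin–Goldschmidt conjugation theorem.** -/
theorem alperin_goldschmidt (A : Set G) (g : G) (hA : A ⊆ (P : Subgroup G))
    (hAg : rc g A ⊆ (P : Subgroup G)) : CReach (GStep P) A g :=
  CReach.of_reach (c := 0) (fun T hT _ x hx => creach_of_fn P T hT.1 hT.2 x hx)
    (reach_fnFamily P A g hA hAg) (Nat.zero_le _)

end local_

end Cfsg.Agent.Lib.Helper33
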