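import Cfsg.Prelude.Def_ConjugacyFunctors
import Cfsg.Agent.Lib.Helper33.Chain

set_option autoImplicit false
set_option linter.style.haveILetI false
set_option linter.unusedSectionVars false

universe u

namespace Cfsg.Agent.Lib.Helper33

open Cfsg Subgroup

variable {p : ℕ} {W : ∀ (Q : Type u) [Group Q], Subgroup Q}

/-- The induced functor commutes with homomorphisms that are injective on the subgroup. -/
theorem induced_map_of_injOn {Y X : Type u} [Group Y] [Group X] (hW : IsCharPFunctor.{u} p W)
    (f : Y →* X) (Q : Subgroup Y) [Finite Q] (hQ : IsPGroup p Q)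
    (hinj : ∀ q ∈ Q, f q = 1 → q = 1) :
    (inducedFunctor W Q).map f = inducedFunctor W (Q.map f) := by
  have hbij : Function.Bijective (f.subgroupMap Q) := by
    refine ⟨?_, f.subgroupMap_surjective Q⟩
    rw [injective_iff_map_eq_one]
    intro a ha
    have h1 : f (a : Y) = 1 := by
      have := congrArg Subtype.val ha
      simpa using this
    exact Subtype.ext (hinj a a.2 h1)
  obtain ⟨φ, hφ⟩ : ∃ φ : ↥Q ≃* ↥(Q.map f), φ = MulEquiv.ofBijective (f.subgroupMap Q) hbij :=
    ⟨_, rfl⟩
  have h2 := hW.2 ↥Q ↥(Q.map f) hQ φ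
  unfold inducedFunctor
  rw [← h2, Subgroup.map_map, Subgroup.map_map]
  congr 1
  ext q
  rw [hφ]
  rfl

theorem induced_map_of_injective {Y X : Type u} [Group Y] [Group X] (hW : IsCharPFunctor.{u} p W)
    (f : Y →* X) (hf : Function.Injective f) (Q : Subgroup Y) [Finite Q] (hQ : IsPGroup p Q) :
    (inducedFunctor W Q).map f = inducedFunctor W (Q.map f) :=
  induced_map_of_injOn hW f Q hQ (fun _ _ h => hf (h.trans (map_one f).symm))

theorem induced_le {X : Type u} [Group X] (P : Subgroup X) : inducedFunctor W P ≤ P := by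
  unfold inducedFunctor
  exact Subgroup.map_subtype_le _

theorem isConjugacyFunctor_induced {X : Type u} [Group X] [Finite X] (hW : IsCharPFunctor.{u} p W) :
    IsConjugacyFunctor p (inducedFunctor (G := X) W) := by
  intro P hP
  refine ⟨induced_le P, ?_, ?_⟩
  · intro hne
    have hnt : Nontrivial ↥P := (Subgroup.nontrivial_iff_ne_bot P).mpr hne
    have h1 := hW.1 ↥P hP hnt
    unfold inducedFunctor
    rw [Ne, Subgroup.map_eq_bot_iff_of_injective _ (Subgroup.subtype_injective P)]
    exact h1
  · intro g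
    exact (induced_map_of_injective hW (MulAut.conj g).toMonoidHom (MulAut.conj g).injective P hP).symm

/-- The family of conjugacy functors induced on `X`. -/
def indFam (𝓦 : Set (∀ (Q : Type u) [Group Q], Subgroup Q)) (X : Type u) [Group X] :
    Set (Subgroup X → Subgroup X) :=
  (fun W => inducedFunctor (G := X) W) '' 𝓦

theorem indFam_conj {𝓦 : Set (∀ (Q : Type u) [Group Q], Subgroup Q)}
    (h𝓦 : ∀ W ∈ 𝓦, IsCharPFunctor.{u} p W) (X : Type u) [Group X] [Finite X] :
    ∀ W' ∈ indFam 𝓦 X, IsConjugacyFunctor p W' := by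
  rintro _ ⟨W, hW, rfl⟩
  exact isConjugacyFunctor_induced (h𝓦 W hW)

end Cfsg.Agent.Lib.Helper33
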