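import Cfsg.Agent.Lib.Helper33.KInfMap
import Cfsg.Agent.S1978

set_option autoImplicit false
set_option linter.style.haveILetI false
set_option linter.unusedSectionVars false

/-!
# The K-infinity subgroups are isomorphism-invariant `p`-group functors
-/

universe u

namespace Cfsg.Agent.Lib.Helper33

open Cfsg Subgroup

variable {Q R : Type*} [Group Q] [Group R]

theorem map_sSup_lowerStar (φ : Q ≃* R) (X : Subgroup Q) :
    (sSup (kLowerStarFamily X)).map φ.toMonoidHom = sSup (kLowerStarFamily (X.map φ.toMonoidHom)) := by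
  have hinj : Function.Injective φ.toMonoidHom := φ.injective
  have hsurj : Function.Surjective φ.toMonoidHom := φ.surjective
  apply le_antisymm
  · rw [Subgroup.map_le_iff_le_comap]
    apply sSup_le
    intro B hB
    rw [← Subgroup.map_le_iff_le_comap]
    exact le_sSup ((lowerStar_map_iff hinj).mpr hB)
  · apply sSup_le
    intro B' hB'
    have h1 : (B'.comap φ.toMonoidHom).map φ.toMonoidHom = B' :=
      Subgroup.map_comap_eq_self_of_surjective hsurj B'
    rw [← h1] at hB' ⊢
    exact Subgroup.map_mono (le_sSup ((lowerStar_map_iff hinj).mp hB'))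

theorem map_sSup_upperStar (φ : Q ≃* R) (X : Subgroup Q) :
    (sSup (kUpperStarFamily X)).map φ.toMonoidHom = sSup (kUpperStarFamily (X.map φ.toMonoidHom)) := by
  have hinj : Function.Injective φ.toMonoidHom := φ.injective
  have hsurj : Function.Surjective φ.toMonoidHom := φ.surjective
  apply le_antisymm
  · rw [Subgroup.map_le_iff_le_comap]
    apply sSup_le
    intro B hB
    rw [← Subgroup.map_le_iff_le_comap]
    exact le_sSup ((upperStar_map_iff hinj).mpr hB)
  · apply sSup_le
    intro B' hB'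
    have h1 : (B'.comap φ.toMonoidHom).map φ.toMonoidHom = B' :=
      Subgroup.map_comap_eq_self_of_surjective hsurj B'
    rw [← h1] at hB' ⊢
    exact Subgroup.map_mono (le_sSup ((upperStar_map_iff hinj).mp hB'))

theorem map_kSeqOdd (φ : Q ≃* R) (n : ℕ) :
    (kSeqOdd Q n).map φ.toMonoidHom = kSeqOdd R n := by
  induction n with
  | zero =>
    show (⊤ : Subgroup Q).map φ.toMonoidHom = ⊤
    exact Subgroup.map_top_of_surjective _ φ.surjective
  | succ n ih =>
    show (sSup (kUpperStarFamily (sSup (kLowerStarFamily (kSeqOdd Q n))))).map φ.toMonoidHom =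
      sSup (kUpperStarFamily (sSup (kLowerStarFamily (kSeqOdd R n))))
    rw [map_sSup_upperStar, map_sSup_lowerStar, ih]

theorem map_kSeqEven (φ : Q ≃* R) (n : ℕ) :
    (kSeqEven Q n).map φ.toMonoidHom = kSeqEven R n := by
  show (sSup (kLowerStarFamily (kSeqOdd Q n))).map φ.toMonoidHom =
    sSup (kLowerStarFamily (kSeqOdd R n))
  rw [map_sSup_lowerStar, map_kSeqOdd]

theorem map_kInfLower {Q R : Type u} [Group Q] [Group R] (φ : Q ≃* R) :
    (kInfLower Q).map φ.toMonoidHom = kInfLower R := by
  unfold kInfLower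
  rw [Subgroup.map_iSup]
  congr 1
  funext n
  exact map_kSeqEven φ n

theorem map_kInfUpper {Q R : Type u} [Group Q] [Group R] (φ : Q ≃* R) :
    (kInfUpper Q).map φ.toMonoidHom = kInfUpper R := by
  unfold kInfUpper
  rw [Subgroup.map_iInf _ φ.injective]
  congr 1
  funext n
  exact map_kSeqOdd φ n

theorem isCharPFunctor_kInfLower (p : ℕ) [Fact p.Prime] :
    IsCharPFunctor.{u} p (fun (Q : Type u) [Group Q] => kInfLower Q) := by
  refine ⟨?_, fun Q R _ _ _ _ φ => map_kInfLower φ⟩
  intro Q _ _ hQ hnt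
  have h1 := (Cfsg.Agent.S1978.result hQ).1
  have h2 := (Cfsg.Agent.S1978.result hQ).2.1
  intro hbot
  have hc : Subgroup.center Q ≤ ⊥ := by
    rw [← hbot]; exact h2.trans h1
  haveI := hnt
  have := hQ.center_nontrivial
  rw [Subgroup.nontrivial_iff_ne_bot] at this
  exact this (le_bot_iff.mp hc)

theorem isCharPFunctor_kInfUpper (p : ℕ) [Fact p.Prime] :
    IsCharPFunctor.{u} p (fun (Q : Type u) [Group Q] => kInfUpper Q) := by
  refine ⟨?_, fun Q R _ _ _ _ φ => map_kInfUpper φ⟩
  intro Q _ _ hQ hnt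
  have h1 := (Cfsg.Agent.S1978.result hQ).2.2.1
  have h2 := (Cfsg.Agent.S1978.result hQ).2.2.2
  intro hbot
  have hc : Subgroup.center Q ≤ ⊥ := by
    rw [← hbot]; exact h2.trans h1
  haveI := hnt
  have := hQ.center_nontrivial
  rw [Subgroup.nontrivial_iff_ne_bot] at this
  exact this (le_bot_iff.mp hc)

end Cfsg.Agent.Lib.Helper33
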