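import Cfsg.Agent.Lib.Helper33.KInfStable
import Cfsg.Agent.Lib.Helper33.SecMaster
import Cfsg.Agent.S1969

set_option autoImplicit false
set_option linter.style.haveILetI false
set_option linter.unusedSectionVars false

/-!
# The K-infinity subgroups control strong fusion in groups all of whose sections are `p`-stable
-/

universe u

namespace Cfsg.Agent.Lib.Helper33

open Cfsg Subgroup

/-- In a group all of whose sections are `p`-stable, the K-infinity subgroups control strong fusion
in every section. -/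
theorem kinf_csf_of_stable {G : Type u} [Group G] [Finite G] {p : ℕ} [Fact p.Prime]
    (hst : ∀ (X : Type u) [Group X] [Finite X], Sec G X → IsNormalizerPStable p X)
    (W : ∀ (Q : Type u) [Group Q], Subgroup Q) (hW : IsCharPFunctor.{u} p W)
    (hWK : (∀ (Q : Type u) [Group Q], W Q = kInfLower Q) ∨
      (∀ (Q : Type u) [Group Q], W Q = kInfUpper Q)) :
    ∀ (X : Type u) [Group X] [Finite X], Sec G X → ∀ T : Sylow p X,
      ControlsStrongFusion p (inducedFunctor (G := X) W (T : Subgroup X)) := by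
  intro X _ _ hX T
  have h𝓦 : ∀ W' ∈ ({W} : Set (∀ (Q : Type u) [Group Q], Subgroup Q)),
      IsCharPFunctor.{u} p W' := by
    intro W' hW'
    rw [Set.mem_singleton_iff] at hW'
    rw [hW']; exact hW
  have hloc' : ∀ (X' : Type u) [Group X'] [Finite X'], Sec G X' →
      centralizer ((pCore p X' : Subgroup X') : Set X') ≤ pCore p X' →
      FamilyControlsStrongFusionIn p (indFam {W} X') ⊤ := by
    intro X' _ _ hX' hc
    obtain ⟨T'⟩ : Nonempty (Sylow p X') := inferInstance
    apply fcsf_of_ctlAt T'.isPGroup' T'.not_dvd_index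
    intro A g _ hAg
    refine ⟨g, Chain.single
      ⟨inducedFunctor W, ⟨W, rfl, rfl⟩, ⟨Subgroup.mem_top _, ?_⟩⟩ hAg, fun _ _ => rfl⟩
    haveI := kinf_normal_of_stable (fun X'' _ _ hX'' => hst X'' (hX'.trans hX'')) hc T' W hW hWK
    rw [Subgroup.normalizer_eq_top (inducedFunctor W (T' : Subgroup X'))]
    exact Subgroup.mem_top _
  have hY := sec_master h𝓦 hloc' _ X rfl hX
  have hctl := ctlAt_of_fcsf (indFam_conj h𝓦 _) hY T.isPGroup' T.not_dvd_index
  refine ⟨T, induced_le _, ?_⟩
  intro A hA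
  refine ⟨hA, ?_⟩
  intro g hg
  have hAg : rc g⁻¹ A ⊆ ((T : Subgroup X) : Set _) := by
    rintro _ ⟨a, ha, rfl⟩
    apply hg
    exact ⟨a, ha, by simp⟩
  obtain ⟨g', hch, hag⟩ := hctl A g⁻¹ hA hAg
  have hmem : g' ∈ Subgroup.normalizer
      ((inducedFunctor W (T : Subgroup X) : Subgroup _) : Set _) := by
    apply Cfsg.Agent.S1969.chain_mem_of_forall ?_ hch
    rintro V ⟨W', hW', rfl⟩
    rw [Set.mem_singleton_iff] at hW'
    rw [hW']
  refine ⟨g'⁻¹, Subgroup.inv_mem _ hmem, ?_⟩
  intro a ha
  have := hag a ha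
  rw [inv_inv] at this ⊢
  exact this.symm

end Cfsg.Agent.Lib.Helper33
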