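import Cfsg.Agent.Lib.Helper33.KInfSection
import Cfsg.Agent.Lib.Helper33.EngelHom
import Cfsg.Agent.S0093
import Cfsg.Agent.S1978
import Cfsg.Agent.Lib.Helper55.SolvCore
import Cfsg.Agent.Lib.Helper11.Quad

set_option autoImplicit false
set_option linter.style.haveILetI false
set_option linter.unusedSectionVars false

/-!
# Local quadratic elements when a K-infinity subgroup is not normal
-/

universe u

namespace Cfsg.Agent.Lib.Helper33

open Cfsg Subgroup

open scoped commutatorElement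

/-- If one of the K-infinity subgroups of the Sylow subgroup `S` is not normal in `Y`, some element of
`S` outside `O_p(Y)` acts quadratically on `Z(O_p(Y))`. -/
theorem exists_quadratic_center_of_not_normal {Y : Type u} [Group Y] [Finite Y] {p : ℕ}
    [hp : Fact p.Prime]
    (S : Sylow p Y) (W : ∀ (Q : Type u) [Group Q], Subgroup Q) (hWc : IsCharPFunctor.{u} p W)
    (hW : (∀ (Q : Type u) [Group Q], W Q = kInfLower Q) ∨ (∀ (Q : Type u) [Group Q], W Q = kInfUpper Q))
    (hWn : ¬ (inducedFunctor (G := Y) W (S : Subgroup Y)).Normal) :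
    ∃ g : Y, g ∈ (S : Subgroup Y) ∧ g ∉ pCore p Y ∧
      ⁅⁅pCore p Y ⊓ centralizer (pCore p Y : Set Y), Subgroup.zpowers g⁆, Subgroup.zpowers g⁆ = ⊥ := by
  obtain ⟨T, hT⟩ : ∃ T : Subgroup Y, T = pCore p Y := ⟨_, rfl⟩
  rw [← hT]
  haveI hTn : T.Normal := by rw [hT]; exact Cfsg.Agent.Lib.Helper55.pCore_normal' p
  have hTS : T ≤ (S : Subgroup Y) := by rw [hT]; exact Cfsg.Agent.Lib.Helper11.pCore_le_sylow S
  have hTp : IsPGroup p ↥T := S.isPGroup'.to_le hTS
  obtain ⟨H, hHchar, -, hHT, hCH⟩ := Cfsg.Agent.S0093.result hTp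
  haveI := hHchar
  obtain ⟨A, hA⟩ : ∃ A : Subgroup Y, A = H.map T.subtype := ⟨_, rfl⟩
  have hinj : Function.Injective T.subtype := Subgroup.subtype_injective T
  haveI hAn : A.Normal := by
    rw [hA]; exact ConjAct.normal_of_characteristic_of_normal
  have hAT : A ≤ T := by rw [hA]; exact Subgroup.map_subtype_le _
  have hTtop : (⊤ : Subgroup ↥T).map T.subtype = T := by
    rw [← MonoidHom.range_eq_map, Subgroup.range_subtype]
  have hTA : ⁅T, A⁆ ≤ A ⊓ centralizer (A : Set Y) := by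
    rw [hA, ← map_inf_centralizer hinj]
    nth_rewrite 1 [← hTtop]
    rw [← Subgroup.map_commutator, Subgroup.commutator_comm]
    exact Subgroup.map_mono hHT
  have hCTA : T ⊓ centralizer (A : Set Y) ≤ A := by
    rintro x ⟨hxT, hxC⟩
    have h1 : (⟨x, hxT⟩ : ↥T) ∈ centralizer (H : Set ↥T) := by
      rw [Subgroup.mem_centralizer_iff]
      intro h hh
      apply Subtype.ext
      have hhA : (h : Y) ∈ A := by rw [hA]; exact ⟨h, hh, rfl⟩
      exact Subgroup.mem_centralizer_iff.mp hxC _ hhA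
    rw [hA]
    exact ⟨⟨x, hxT⟩, hCH h1, rfl⟩
  obtain ⟨B₀, hB₀S, hB₀T, h3, h2⟩ := exists_cubic_of_not_normal S T A hTS hAT hTA W hWc hW hWn
  obtain ⟨g, hgB, hgT⟩ := SetLike.not_le_iff_exists.mp hB₀T
  have hZB : Subgroup.zpowers g ≤ B₀ := (Subgroup.zpowers_le).mpr hgB
  refine ⟨g, hB₀S hgB, hgT, ?_⟩
  have hZT : T ⊓ centralizer (T : Set Y) ≤ A ⊓ centralizer (A : Set Y) := by
    intro x hx
    have hxC : x ∈ centralizer (A : Set Y) :=
      Subgroup.centralizer_le (by exact_mod_cast hAT) hx.2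
    exact ⟨hCTA ⟨hx.1, hxC⟩, hxC⟩
  rw [eq_bot_iff, ← h2]
  exact Subgroup.commutator_mono (Subgroup.commutator_mono hZT hZB) hZB

/-- The centre of a `p`-subgroup lies in its induced K-infinity subgroups. -/
theorem center_le_induced_kInf {G : Type u} [Group G] [Finite G] {p : ℕ} [hp : Fact p.Prime]
    (P : Subgroup G) (hP : IsPGroup p ↥P) :
    P ⊓ centralizer (P : Set G) ≤ inducedFunctor (G := G) kInfLower P ∧
      P ⊓ centralizer (P : Set G) ≤ inducedFunctor (G := G) kInfUpper P := by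
  have h := Cfsg.Agent.S1978.result hP
  have hz : ∀ x ∈ P ⊓ centralizer (P : Set G), ∃ y : ↥P, y ∈ Subgroup.center ↥P ∧ (y : G) = x := by
    rintro x ⟨hxP, hxC⟩
    refine ⟨⟨x, hxP⟩, ?_, rfl⟩
    rw [Subgroup.mem_center_iff]
    intro q
    apply Subtype.ext
    exact Subgroup.mem_centralizer_iff.mp hxC q q.2
  constructor
  · intro x hx
    obtain ⟨y, hy, rfl⟩ := hz x hx
    exact ⟨y, h.1 (h.2.1 hy), rfl⟩
  · intro x hx
    obtain ⟨y, hy, rfl⟩ := hz x hx
    exact ⟨y, h.2.2.1 (h.2.2.2 hy), rfl⟩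

/-- The local hypothesis of the weak closure theorems for the K-infinity functors. -/
theorem kinf_local {G : Type u} [Group G] [Finite G] {p : ℕ} [hp : Fact p.Prime]
    (W : ∀ (Q : Type u) [Group Q], Subgroup Q) (hWc : IsCharPFunctor.{u} p W)
    (hW : (∀ (Q : Type u) [Group Q], W Q = kInfLower Q) ∨ (∀ (Q : Type u) [Group Q], W Q = kInfUpper Q))
    (H T : Subgroup G) (hTH : T ≤ H) (hTp : IsPGroup p ↥T) (hTi : ¬ p ∣ T.relIndex H)
    (hn : ¬ H ≤ normalizer ((inducedFunctor (G := G) W T : Subgroup G) : Set G)) :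
    ∃ g : G, g ∈ T ∧ g ∉ pCoreOf p H ∧
      ⁅⁅pCoreOf p H ⊓ centralizer ((pCoreOf p H : Subgroup G) : Set G), Subgroup.zpowers g⁆,
        Subgroup.zpowers g⁆ = ⊥ := by
  have hinj : Function.Injective H.subtype := Subgroup.subtype_injective H
  have hTp' : IsPGroup p (T.subgroupOf H) := hTp.comap_subtype
  obtain ⟨S, hS⟩ : ∃ S : Sylow p H, (S : Subgroup H) = T.subgroupOf H :=
    ⟨hTp'.toSylow hTi, rfl⟩
  have hSmap : (S : Subgroup H).map H.subtype = T := by
    rw [hS]; exact Subgroup.map_subgroupOf_eq_of_le hTH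
  have hWmap : (inducedFunctor (G := ↥H) W (S : Subgroup H)).map H.subtype =
      inducedFunctor (G := G) W T := by
    rw [induced_map_of_injective hWc H.subtype hinj (S : Subgroup H) S.isPGroup', hSmap]
  have hWn : ¬ (inducedFunctor (G := ↥H) W (S : Subgroup H)).Normal := by
    intro hnorm
    apply hn
    intro h hh
    rw [← hWmap, Subgroup.mem_normalizer_iff]
    intro x
    constructor
    · rintro ⟨y, hy, rfl⟩
      exact ⟨⟨h, hh⟩ * y * ⟨h, hh⟩⁻¹, hnorm.conj_mem y hy ⟨h, hh⟩, by simp⟩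
    · rintro ⟨y, hy, hyx⟩
      refine ⟨⟨h, hh⟩⁻¹ * y * ⟨h, hh⟩, ?_, ?_⟩
      · have := hnorm.conj_mem y hy (⟨h, hh⟩⁻¹)
        simpa using this
      · have : x = h⁻¹ * (y : G) * h := by
          have h2 : (y : G) = h * x * h⁻¹ := hyx
          rw [h2]; group
        rw [this]; simp
  obtain ⟨g, hgS, hgQ, hq⟩ := exists_quadratic_center_of_not_normal S W hWc hW hWn
  refine ⟨(g : G), ?_, ?_, ?_⟩
  · rw [← hSmap]; exact ⟨g, hgS, rfl⟩
  · rintro ⟨y, hy, hyg⟩
    apply hgQ
    have : y = g := Subtype.ext hyg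
    rw [← this]; exact hy
  · have hz : (Subgroup.zpowers g).map H.subtype = Subgroup.zpowers (g : G) := by
      rw [MonoidHom.map_zpowers]; rfl
    have hc : (pCore p ↥H ⊓ centralizer (pCore p ↥H : Set ↥H)).map H.subtype =
        pCoreOf p H ⊓ centralizer ((pCoreOf p H : Subgroup G) : Set G) := by
      rw [map_inf_centralizer hinj]; rfl
    rw [← hz, ← hc, ← Subgroup.map_commutator, ← Subgroup.map_commutator, hq, Subgroup.map_bot]

end Cfsg.Agent.Lib.Helper33
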