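import Cfsg.Agent.Lib.Helper33.KInfQuartic

set_option autoImplicit false
set_option linter.style.haveILetI false
set_option linter.unusedSectionVars false

/-!
# A quartic element, quadratic on `Z(O_p)`, when a K-infinity subgroup is not normal
-/

universe u

namespace Cfsg.Agent.Lib.Helper33

open Cfsg Subgroup

open scoped commutatorElement

/-- If one of the K-infinity subgroups of the Sylow subgroup `S` is not normal in `Y`, some element of
`S` outside `O_p(Y)` is `4`-Engel on every chief factor of `Y` inside `O_p(Y)`. -/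
theorem exists_quartic_quad_of_not_normal {Y : Type u} [Group Y] [Finite Y] {p : ℕ} [hp : Fact p.Prime]
    (S : Sylow p Y) (W : ∀ (Q : Type u) [Group Q], Subgroup Q) (hWc : IsCharPFunctor.{u} p W)
    (hW : (∀ (Q : Type u) [Group Q], W Q = kInfLower Q) ∨ (∀ (Q : Type u) [Group Q], W Q = kInfUpper Q))
    (hWn : ¬ (inducedFunctor (G := Y) W (S : Subgroup Y)).Normal) :
    ∃ g : Y, g ∈ (S : Subgroup Y) ∧ g ∉ pCore p Y ∧ (∀ U V : Subgroup Y, IsChiefFactor U V →
      U ≤ pCore p Y → iterCommutator U (Subgroup.zpowers g) 4 ≤ V) ∧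
      ⁅⁅pCore p Y ⊓ centralizer ((pCore p Y : Subgroup Y) : Set Y), Subgroup.zpowers g⁆,
        Subgroup.zpowers g⁆ = ⊥ := by
  obtain ⟨T, hT⟩ : ∃ T : Subgroup Y, T = pCore p Y := ⟨_, rfl⟩
  rw [← hT]
  haveI hTn : T.Normal := by rw [hT]; exact Cfsg.Agent.Lib.Helper55.pCore_normal' p
  have hTS : T ≤ (S : Subgroup Y) := by rw [hT]; exact Cfsg.Agent.Lib.Helper11.pCore_le_sylow S
  have hTp : IsPGroup p ↥T := S.isPGroup'.to_le hTS
  obtain ⟨H, hHchar, -, hHT, hCH⟩ := Cfsg.Agent.S0093.result hTp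
  haveI := hHchar
  obtain ⟨A, hA⟩ : ∃ A : Subgroup Y, A = H.map T.subtype := ⟨_, rfl⟩
  have hinj : Function.Injective T.subtype := Subgroup.subtype_injective T
  haveI hAn : A.Normal := by
    rw [hA]; exact ConjAct.normal_of_characteristic_of_normal
  have hAT : A ≤ T := by rw [hA]; exact Subgroup.map_subtype_le _
  have hTtop : (⊤ : Subgroup ↥T).map T.subtype = T := by
    rw [← MonoidHom.range_eq_map, Subgroup.range_subtype]
  have hTA : ⁅T, A⁆ ≤ A ⊓ centralizer (A : Set Y) := by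
    rw [hA, ← map_inf_centralizer hinj]
    nth_rewrite 1 [← hTtop]
    rw [← Subgroup.map_commutator, Subgroup.commutator_comm]
    exact Subgroup.map_mono hHT
  have hCTA : T ⊓ centralizer (A : Set Y) ≤ A := by
    rintro x ⟨hxT, hxC⟩
    have h1 : (⟨x, hxT⟩ : ↥T) ∈ centralizer (H : Set ↥T) := by
      rw [Subgroup.mem_centralizer_iff]
      intro h hh
      apply Subtype.ext
      have hhA : (h : Y) ∈ A := by rw [hA]; exact ⟨h, hh, rfl⟩
      exact Subgroup.mem_centralizer_iff.mp hxC _ hhA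
    rw [hA]
    exact ⟨⟨x, hxT⟩, hCH h1, rfl⟩
  obtain ⟨B₀, hB₀S, hB₀T, h3, h2⟩ := exists_cubic_of_not_normal S T A hTS hAT hTA W hWc hW hWn
  obtain ⟨g, hgB, hgT⟩ := SetLike.not_le_iff_exists.mp hB₀T
  have hZB : Subgroup.zpowers g ≤ B₀ := (Subgroup.zpowers_le).mpr hgB
  refine ⟨g, hB₀S hgB, hgT, ?_, ?_⟩
  swap
  · rw [eq_bot_iff, ← h2]
    have hZle : T ⊓ centralizer (T : Set Y) ≤ A ⊓ centralizer (A : Set Y) := by
      rintro x ⟨hxT, hxC⟩
      have hxCA : x ∈ centralizer (A : Set Y) := Subgroup.centralizer_le hAT hxC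
      exact ⟨hCTA ⟨hxT, hxCA⟩, hxCA⟩
    exact Subgroup.commutator_mono (Subgroup.commutator_mono hZle hZB) hZB
  have hA3 : iterCommutator A (Subgroup.zpowers g) 3 = ⊥ := by
    rw [eq_bot_iff, ← h3]
    show ⁅⁅⁅A, Subgroup.zpowers g⁆, Subgroup.zpowers g⁆, Subgroup.zpowers g⁆ ≤ _
    exact Subgroup.commutator_mono (Subgroup.commutator_mono (Subgroup.commutator_mono le_rfl hZB)
      hZB) hZB
  have hZ2 : iterCommutator (A ⊓ centralizer (A : Set Y)) (Subgroup.zpowers g) 2 = ⊥ := by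
    rw [eq_bot_iff, ← h2]
    show ⁅⁅A ⊓ centralizer (A : Set Y), Subgroup.zpowers g⁆, Subgroup.zpowers g⁆ ≤ _
    exact Subgroup.commutator_mono (Subgroup.commutator_mono le_rfl hZB) hZB
  have key := engel_of_critical T A hTp hAT hTA hCTA (Subgroup.zpowers g) (i := 3) (j := 2)
    (by norm_num) (by norm_num)
    (fun U V _ hUA => by
      have := iterC_mono hUA (Subgroup.zpowers g) 3
      rw [hA3] at this
      exact this.trans bot_le)
    (fun U V _ hUZ => by
      have := iterC_mono hUZ (Subgroup.zpowers g) 2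
      rw [hZ2] at this
      exact this.trans bot_le)
  exact key

end Cfsg.Agent.Lib.Helper33
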