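import Cfsg.Agent.Lib.Helper33.KInfEngel
import Cfsg.Agent.Lib.Helper33.KInfChar
import Cfsg.Agent.Lib.Helper33.Induced
import Cfsg.Agent.Lib.Helper33.WellPlaced
import Cfsg.Agent.S1979

set_option autoImplicit false
set_option linter.style.haveILetI false
set_option linter.unusedSectionVars false

/-!
# The cubic subgroup in a group whose K-infinity subgroup is not normal
-/

universe u

namespace Cfsg.Agent.Lib.Helper33

open Cfsg Subgroup

open scoped commutatorElement

/-- If one of the K-infinity subgroups of the Sylow subgroup `S` is not normal in `Y`, then for every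
normal subgroup `A ≤ T` with `[T, A] ≤ Z(A)` (`T` a normal subgroup inside `S`) there is a subgroup
`B₀ ≤ S` outside `T` acting cubically on `A` and quadratically on `Z(A)`. -/
theorem exists_cubic_of_not_normal {Y : Type u} [Group Y] [Finite Y] {p : ℕ} [hp : Fact p.Prime]
    (S : Sylow p Y) (T A : Subgroup Y) [hTn : T.Normal] [hAn : A.Normal] (hTS : T ≤ (S : Subgroup Y))
    (hAT : A ≤ T) (hTA : ⁅T, A⁆ ≤ A ⊓ centralizer (A : Set Y))
    (W : ∀ (Q : Type u) [Group Q], Subgroup Q) (hWc : IsCharPFunctor.{u} p W)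
    (hW : (∀ (Q : Type u) [Group Q], W Q = kInfLower Q) ∨ (∀ (Q : Type u) [Group Q], W Q = kInfUpper Q))
    (hWn : ¬ (inducedFunctor (G := Y) W (S : Subgroup Y)).Normal) :
    ∃ B₀ : Subgroup Y, B₀ ≤ (S : Subgroup Y) ∧ ¬ B₀ ≤ T ∧ ⁅⁅⁅A, B₀⁆, B₀⁆, B₀⁆ = ⊥ ∧
      ⁅⁅A ⊓ centralizer (A : Set Y), B₀⁆, B₀⁆ = ⊥ := by
  obtain ⟨ι, hι⟩ : ∃ ι : ↥(S : Subgroup Y) →* Y, ι = (S : Subgroup Y).subtype := ⟨_, rfl⟩
  have hinj : Function.Injective ι := by rw [hι]; exact Subgroup.subtype_injective _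
  obtain ⟨T', hT'⟩ : ∃ T' : Subgroup ↥(S : Subgroup Y), T' = T.subgroupOf (S : Subgroup Y) :=
    ⟨_, rfl⟩
  obtain ⟨A', hA'⟩ : ∃ A' : Subgroup ↥(S : Subgroup Y), A' = A.subgroupOf (S : Subgroup Y) :=
    ⟨_, rfl⟩
  have hT'map : T'.map ι = T := by rw [hT', hι]; exact Subgroup.map_subgroupOf_eq_of_le hTS
  have hA'map : A'.map ι = A := by
    rw [hA', hι]; exact Subgroup.map_subgroupOf_eq_of_le (hAT.trans hTS)
  haveI hA'n : A'.Normal := by rw [hA']; infer_instance
  have hA'T' : A' ≤ T' := by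
    rw [← Subgroup.map_le_map_iff_of_injective hinj, hT'map, hA'map]; exact hAT
  have hTA' : ⁅T', A'⁆ ≤ A' ⊓ centralizer (A' : Set ↥(S : Subgroup Y)) := by
    rw [← Subgroup.map_le_map_iff_of_injective hinj, Subgroup.map_commutator,
      map_inf_centralizer hinj, hT'map, hA'map]
    exact hTA
  have hSp : IsPGroup p ↥(S : Subgroup Y) := S.isPGroup'
  by_cases hall : ∀ n : ℕ, kSeqEven ↥(S : Subgroup Y) n ≤ T' ∧ kSeqOdd ↥(S : Subgroup Y) (n + 1) ≤ T'
  · exfalso
    apply hWn
    have h1979 := Cfsg.Agent.S1979.result hSp T' hall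
    have hWT' : inducedFunctor (G := ↥(S : Subgroup Y)) W T' = W ↥(S : Subgroup Y) := by
      unfold inducedFunctor
      rcases hW with h | h
      · rw [h, h]; exact h1979.1
      · rw [h, h]; exact h1979.2
    have hT'p : IsPGroup p ↥T' := hSp.to_subgroup T'
    have h2 := induced_map_of_injective hWc ι hinj T' hT'p
    rw [hT'map, hWT'] at h2
    have h3 : inducedFunctor (G := Y) W (S : Subgroup Y) = inducedFunctor (G := Y) W T := by
      rw [← h2, hι]
      rfl
    rw [h3]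
    have hTp : IsPGroup p ↥T := S.isPGroup'.to_le hTS
    have h4 := normalizer_le_normalizer_functor (isConjugacyFunctor_induced (X := Y) hWc) hTp
    rw [Subgroup.normalizer_eq_top_iff.mpr hTn] at h4
    exact Subgroup.normalizer_eq_top_iff.mp (top_le_iff.mp h4)
  · obtain ⟨B₀', hB₀T, h3, h2⟩ := exists_cubic_of_kSeq hTA' hA'T' hall
    refine ⟨B₀'.map ι, ?_, ?_, ?_, ?_⟩
    · rw [hι]; exact Subgroup.map_subtype_le _
    · rw [← hT'map, Subgroup.map_le_map_iff_of_injective hinj]; exact hB₀T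
    · rw [← hA'map, ← Subgroup.map_commutator, ← Subgroup.map_commutator,
        ← Subgroup.map_commutator, h3, Subgroup.map_bot]
    · rw [← hA'map, ← map_inf_centralizer hinj, ← Subgroup.map_commutator,
        ← Subgroup.map_commutator, h2, Subgroup.map_bot]

end Cfsg.Agent.Lib.Helper33
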