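import Cfsg.Agent.Lib.Helper33.PStabMain
import Cfsg.Agent.Lib.Helper33.KInfSection
import Cfsg.Agent.Lib.Helper33.KInfQuartic

set_option autoImplicit false
set_option linter.style.haveILetI false
set_option linter.unusedSectionVars false
set_option maxHeartbeats 1000000

/-!
# The K-infinity subgroups are normal in constrained groups all of whose sections are `p`-stable
-/

universe u

namespace Cfsg.Agent.Lib.Helper33

open Cfsg Subgroup

open scoped commutatorElement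

section pgroup

variable {P : Type*} [Group P]

/-- A refinement of `exists_cubic_of_kSeq` keeping track of the shape of the bad subgroup. -/
theorem exists_bad_of_kSeq {T' A' : Subgroup P} [hA'n : A'.Normal]
    (hTA : ⁅T', A'⁆ ≤ A' ⊓ centralizer (A' : Set P)) (hA'T : A' ≤ T')
    (hnot : ¬ ∀ n : ℕ, kSeqEven P n ≤ T' ∧ kSeqOdd P (n + 1) ≤ T') :
    ∃ B : Subgroup P, ¬ B ≤ T' ∧
      (B ∈ kLowerStarFamily A' ∨ ⁅⁅A', B⁆, B⁆ = ⊥ ∨
        (B ∈ classTwoSubgroups P ∧ A' ≤ normalizer (B : Set P) ∧ ⁅A', ⁅B, B⁆⁆ = ⊥ ∧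
          ⁅⁅A' ⊓ centralizer (A' : Set P), B⁆, B⁆ = ⊥)) := by
  classical
  obtain ⟨Za, hZa⟩ : ∃ Za : Subgroup P, Za = A' ⊓ centralizer (A' : Set P) := ⟨_, rfl⟩
  rw [← hZa] at hTA ⊢
  have hA'2 : A' ∈ classTwoSubgroups P := by
    show ⁅A', A'⁆ ≤ centralizer (A' : Set P)
    exact ((Subgroup.commutator_mono hA'T le_rfl).trans hTA).trans (by rw [hZa]; exact inf_le_right)
  have hex : ∃ n : ℕ, ¬ (kSeqEven P n ≤ T' ∧ kSeqOdd P (n + 1) ≤ T') := by
    by_contra h
    apply hnot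
    intro n
    by_contra h2
    exact h ⟨n, h2⟩
  obtain ⟨n, hn, hmin⟩ : ∃ n, ¬ (kSeqEven P n ≤ T' ∧ kSeqOdd P (n + 1) ≤ T') ∧
      ∀ m < n, kSeqEven P m ≤ T' ∧ kSeqOdd P (m + 1) ≤ T' := by
    refine ⟨Nat.find hex, Nat.find_spec hex, fun m hm => ?_⟩
    by_contra h
    exact Nat.find_min hex hm h
  have hA'up : ∀ R : Subgroup P, R ≤ T' → A' ∈ kUpperStarFamily R := by
    intro R hR
    refine ⟨hA'2, ?_⟩
    rw [← hZa, Subgroup.commutator_comm]
    exact (Subgroup.commutator_mono hR le_rfl).trans hTA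
  have hA'odd : A' ≤ kSeqOdd P n := by
    rcases Nat.eq_zero_or_pos n with h0 | hpos
    · rw [h0]; exact le_top
    · obtain ⟨n', rfl⟩ : ∃ n', n = n' + 1 := ⟨n - 1, by omega⟩
      rw [kSeqOdd_succ_eq]
      exact le_sSup (hA'up _ (hmin n' (by omega)).1)
  by_cases heven : kSeqEven P n ≤ T'
  · -- odd case
    have hodd : ¬ kSeqOdd P (n + 1) ≤ T' := fun h => hn ⟨heven, h⟩
    rw [kSeqOdd_succ_eq] at hodd
    obtain ⟨B, hB, hBT⟩ : ∃ B ∈ kUpperStarFamily (kSeqEven P n), ¬ B ≤ T' := by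
      by_contra h
      apply hodd
      apply sSup_le
      intro B hB
      by_contra h2
      exact h ⟨B, hB, h2⟩
    obtain ⟨hB2, hBK⟩ := hB
    by_cases hA'low : A' ∈ kLowerStarFamily (kSeqOdd P n)
    · have hA'even : A' ≤ kSeqEven P n := by rw [kSeqEven_eq]; exact le_sSup hA'low
      have h1 : ⁅A', B⁆ ≤ B ⊓ centralizer (B : Set P) := by
        rw [Subgroup.commutator_comm]
        exact (Subgroup.commutator_mono le_rfl hA'even).trans hBK
      exact ⟨B, hBT, Or.inr (Or.inl (double_bot_of_le_center h1))⟩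
    · have hfail : ¬ ∀ A₁ ∈ classTwoSubgroups P, A₁ ≤ kSeqOdd P n → A' ≤ normalizer (A₁ : Set P) →
          ⁅A', ⁅A₁, A₁⁆⁆ = ⊥ → ⁅⁅A' ⊓ centralizer (A' : Set P), A₁⁆, A₁⁆ = ⊥ →
            ⁅A', A₁⁆ ≤ A' ⊓ centralizer (A' : Set P) := by
        intro h
        exact hA'low ⟨hA'2, normal_le_normalizer' _ _, h⟩
      obtain ⟨A₁, hA₁2, -, hA'N, hc1, hZ2, hnle⟩ : ∃ A₁ ∈ classTwoSubgroups P, A₁ ≤ kSeqOdd P n ∧
          A' ≤ normalizer (A₁ : Set P) ∧ ⁅A', ⁅A₁, A₁⁆⁆ = ⊥ ∧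
          ⁅⁅A' ⊓ centralizer (A' : Set P), A₁⁆, A₁⁆ = ⊥ ∧
          ¬ ⁅A', A₁⁆ ≤ A' ⊓ centralizer (A' : Set P) := by
        by_contra h
        apply hfail
        intro A₁ h1 h2 h3 h4 h5
        by_contra h6
        exact h ⟨A₁, h1, h2, h3, h4, h5, h6⟩
      rw [← hZa] at hZ2 hnle
      refine ⟨A₁, ?_, Or.inr (Or.inr ⟨hA₁2, hA'N, hc1, hZ2⟩)⟩
      intro hA₁T
      apply hnle
      rw [Subgroup.commutator_comm]
      exact (Subgroup.commutator_mono hA₁T le_rfl).trans hTA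
  · -- even case
    rw [kSeqEven_eq] at heven
    obtain ⟨B, hB, hBT⟩ : ∃ B ∈ kLowerStarFamily (kSeqOdd P n), ¬ B ≤ T' := by
      by_contra h
      apply heven
      apply sSup_le
      intro B hB
      by_contra h2
      exact h ⟨B, hB, h2⟩
    exact ⟨B, hBT, Or.inl (lowerStar_anti hA'odd hB)⟩

end pgroup

section stable

/-- `p`-stability of the action on a normal section `V / Z`. -/
theorem quad_section {Y : Type*} [Group Y] [Finite Y] {p : ℕ} [Fact p.Prime]
    (Z V : Subgroup Y) [hZn : Z.Normal] [hVn : V.Normal] (hV : IsPGroup p V)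
    (hst : IsNormalizerPStable p (Y ⧸ Z)) (a : Y)
    (ha : ⁅⁅V, Subgroup.zpowers a⁆, Subgroup.zpowers a⁆ ≤ Z) :
    ∃ D C : Subgroup Y, D.Normal ∧ a ∈ D ∧ (∀ c ∈ C, ∀ v ∈ V, ⁅c, v⁆ ∈ Z) ∧
      ∀ d ∈ D, ∃ k : ℕ, d ^ (p ^ k) ∈ C := by
  obtain ⟨π, hπ⟩ : ∃ π : Y →* Y ⧸ Z, π = QuotientGroup.mk' Z := ⟨_, rfl⟩
  have hπs : Function.Surjective π := by rw [hπ]; exact QuotientGroup.mk'_surjective Z
  have hker : π.ker = Z := by rw [hπ]; exact QuotientGroup.ker_mk' Z
  obtain ⟨Vb, hVb⟩ : ∃ Vb : Subgroup (Y ⧸ Z), Vb = V.map π := ⟨_, rfl⟩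
  haveI hVbn : Vb.Normal := by rw [hVb]; exact Subgroup.Normal.map hVn π hπs
  have hVbp : IsPGroup p Vb := by rw [hVb]; exact hV.map π
  have hquad : ⁅⁅Vb, Subgroup.zpowers (π a)⁆, Subgroup.zpowers (π a)⁆ = ⊥ := by
    rw [hVb, ← MonoidHom.map_zpowers, ← Subgroup.map_commutator, ← Subgroup.map_commutator,
      Subgroup.map_eq_bot_iff, hker]
    exact ha
  have h1 := Cfsg.Agent.S3079.isPStableOn_of_isNormalizerPStable hst Vb hVbp (π a) hquad
  haveI : (pCore p ((Y ⧸ Z) ⧸ centralizer (Vb : Set (Y ⧸ Z)))).Normal :=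
    Cfsg.Agent.Lib.Helper55.pCore_normal' p
  refine ⟨((pCore p ((Y ⧸ Z) ⧸ centralizer (Vb : Set (Y ⧸ Z)))).comap
      (QuotientGroup.mk' (centralizer (Vb : Set (Y ⧸ Z))))).comap π,
    (centralizer (Vb : Set (Y ⧸ Z))).comap π, inferInstance, ?_, ?_, ?_⟩
  · exact h1
  · intro c hc v hv
    have hc' : π c ∈ centralizer (Vb : Set (Y ⧸ Z)) := hc
    have hv' : π v ∈ Vb := by rw [hVb]; exact Subgroup.mem_map_of_mem π hv
    have h2 := Subgroup.mem_centralizer_iff.mp hc' _ hv'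
    rw [← hker, MonoidHom.mem_ker, map_commutatorElement, commutatorElement_eq_one_iff_mul_comm]
    exact h2.symm
  · intro d hd
    have hd' : QuotientGroup.mk' (centralizer (Vb : Set (Y ⧸ Z))) (π d) ∈
        pCore p ((Y ⧸ Z) ⧸ centralizer (Vb : Set (Y ⧸ Z))) := hd
    obtain ⟨k, hk⟩ := (Cfsg.Agent.Lib.Helper55.pCore_isPGroup p) ⟨_, hd'⟩
    have hk' : (QuotientGroup.mk' (centralizer (Vb : Set (Y ⧸ Z))) (π d)) ^ (p ^ k) = 1 := by
      have := congrArg Subtype.val hk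
      simpa using this
    rw [← map_pow, QuotientGroup.mk'_apply, QuotientGroup.eq_one_iff, ← map_pow] at hk'
    exact ⟨k, hk'⟩

/-- A subgroup whose elements have `p`-power powers stabilizing the series `1 ≤ Z(A) ≤ A` of a
self-centralizing `p`-subgroup `A` is a `p`-group. -/
theorem isPGroup_of_series {Y : Type*} [Group Y] [Finite Y] {p : ℕ} [hp : Fact p.Prime]
    (A : Subgroup Y) (hA : IsPGroup p A) (hCA : centralizer (A : Set Y) ≤ A)
    (D C₁ C₂ : Subgroup Y)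
    (hC₁ : ∀ c ∈ C₁, ∀ z ∈ A ⊓ centralizer (A : Set Y), ⁅c, z⁆ ∈ (⊥ : Subgroup Y))
    (hC₂ : ∀ c ∈ C₂, ∀ v ∈ A, ⁅c, v⁆ ∈ A ⊓ centralizer (A : Set Y))
    (hD₁ : ∀ d ∈ D, ∃ k : ℕ, d ^ (p ^ k) ∈ C₁) (hD₂ : ∀ d ∈ D, ∃ k : ℕ, d ^ (p ^ k) ∈ C₂) :
    IsPGroup p D := by
  rintro ⟨d, hd⟩
  obtain ⟨k₁, hk₁⟩ := hD₁ d hd
  obtain ⟨k₂, hk₂⟩ := hD₂ d hd
  obtain ⟨e, he⟩ : ∃ e : Y, e = d ^ (p ^ (k₁ + k₂)) := ⟨_, rfl⟩
  have he₁ : e ∈ C₁ := by
    rw [he, pow_add, pow_mul]; exact C₁.pow_mem hk₁ _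
  have he₂ : e ∈ C₂ := by
    rw [he, pow_add, mul_comm, pow_mul]; exact C₂.pow_mem hk₂ _
  obtain ⟨Za, hZa⟩ : ∃ Za : Subgroup Y, Za = A ⊓ centralizer (A : Set Y) := ⟨_, rfl⟩
  rw [← hZa] at hC₁ hC₂
  have hZap : IsPGroup p Za := by rw [hZa]; exact hA.to_le inf_le_left
  obtain ⟨j, hj⟩ := hZap.exists_card_eq
  have hpowc : ∀ v ∈ A, ∀ m : ℕ, ⁅e ^ m, v⁆ = ⁅e, v⁆ ^ m := by
    intro v hv m
    induction m with
    | zero => simp
    | succ m ih =>
      have hz : ⁅e, v⁆ ∈ Za := hC₂ e he₂ v hv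
      have h1 : ⁅e ^ m, ⁅e, v⁆⁆ = 1 := by
        have := hC₁ (e ^ m) (C₁.pow_mem he₁ m) _ hz
        rwa [Subgroup.mem_bot] at this
      rw [commutatorElement_eq_one_iff_mul_comm] at h1
      have h2 : ⁅e ^ (m + 1), v⁆ = e ^ m * ⁅e, v⁆ * (e ^ m)⁻¹ * ⁅e ^ m, v⁆ := by
        rw [pow_succ]
        simp only [commutatorElement_def]; group
      rw [h2, h1, ih, pow_succ']
      group
  have hen : e ^ (p ^ j) ∈ centralizer (A : Set Y) := by
    rw [Subgroup.mem_centralizer_iff]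
    intro v hv
    have hz : ⁅e, v⁆ ∈ Za := hC₂ e he₂ v hv
    have h1 : ⁅e, v⁆ ^ (p ^ j) = 1 := by
      have h2 : (⟨⁅e, v⁆, hz⟩ : ↥Za) ^ Nat.card ↥Za = 1 := pow_card_eq_one'
      rw [hj] at h2
      have := congrArg Subtype.val h2
      simpa using this
    have h3 := hpowc v hv (p ^ j)
    rw [h1, commutatorElement_eq_one_iff_mul_comm] at h3
    exact h3.symm
  obtain ⟨i, hi⟩ := hA ⟨_, hCA hen⟩
  have hi' : (e ^ (p ^ j)) ^ (p ^ i) = 1 := by
    have := congrArg Subtype.val hi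
    simpa using this
  refine ⟨k₁ + k₂ + j + i, ?_⟩
  apply Subtype.ext
  simp only [Subgroup.coe_pow, Subgroup.coe_one]
  rw [pow_add, pow_add (p) (k₁ + k₂) j, pow_mul, pow_mul, ← he]
  exact hi'

theorem exists_pow_coprime_order_kinf {Γ : Type*} [Group Γ] [Finite Γ] {p : ℕ} [hp : Fact p.Prime]
    (γ : Γ) : ∃ k : ℕ, (orderOf (γ ^ (p ^ k))).Coprime p := by
  have hpos : 0 < orderOf γ := orderOf_pos γ
  obtain ⟨a, m, hm, hnm⟩ := Nat.exists_eq_pow_mul_and_not_dvd hpos.ne' p hp.out.ne_one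
  refine ⟨a, ?_⟩
  have h1 : orderOf (γ ^ (p ^ a)) = m := by
    rw [orderOf_pow' γ (pow_ne_zero a hp.out.ne_zero), hnm, Nat.gcd_eq_right (dvd_mul_right _ _)]
    exact Nat.mul_div_cancel_left m (pow_pos hp.out.pos a)
  rw [h1]
  exact (Nat.Prime.coprime_iff_not_dvd hp.out).mpr hm |>.symm

/-- In a constrained group the critical subgroup of `O_p` is self-centralizing. -/
theorem centralizer_le_of_critical {Y : Type*} [Group Y] [Finite Y] {p : ℕ} [hp : Fact p.Prime]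
    (T A : Subgroup Y) [hTn : T.Normal] [hAn : A.Normal] (hT : T = pCore p Y)
    (hc : centralizer (T : Set Y) ≤ T) (hCTA : T ⊓ centralizer (A : Set Y) ≤ A) :
    centralizer (A : Set Y) ≤ A := by
  have hTp : IsPGroup p T := by rw [hT]; exact Cfsg.Agent.Lib.Helper55.pCore_isPGroup p
  haveI hCn : (centralizer (A : Set Y)).Normal := inferInstance
  have h1 : ∀ y ∈ centralizer (A : Set Y), (orderOf y).Coprime p → y = 1 := by
    intro y hy hcop
    have hcomm : ∀ t ∈ T, ⁅t, y⁆ = 1 := by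
      apply coprime_commutator_eq_one T hTp y hcop (fun x hx => hTn.conj_mem x hx y)
      intro t ht
      have h2 : ⁅t, y⁆ ∈ centralizer (A : Set Y) := by
        rw [commutatorElement_def]
        exact (centralizer (A : Set Y)).mul_mem (hCn.conj_mem y hy t)
          ((centralizer (A : Set Y)).inv_mem hy)
      have h3 : ⁅t, y⁆ ∈ T := by
        rw [commutatorElement_def]
        have : t * y * t⁻¹ * y⁻¹ = t * (y * t⁻¹ * y⁻¹) := by group
        rw [this]
        exact T.mul_mem ht (hTn.conj_mem _ (T.inv_mem ht) y)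
      have h4 : ⁅t, y⁆ ∈ A := hCTA ⟨h3, h2⟩
      exact Subgroup.mem_centralizer_iff.mp hy _ h4
    have hyT : y ∈ T := by
      apply hc
      rw [Subgroup.mem_centralizer_iff]
      intro t ht
      have := hcomm t ht
      rw [commutatorElement_eq_one_iff_mul_comm] at this
      exact this
    obtain ⟨a, ha⟩ := hTp ⟨y, hyT⟩
    have ha' : y ^ (p ^ a) = 1 := by
      have := congrArg Subtype.val ha
      simpa using this
    have h5 : orderOf y ∣ p ^ a := orderOf_dvd_of_pow_eq_one ha'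
    have h6 : orderOf y = 1 :=
      Nat.eq_one_of_dvd_coprimes (Nat.Coprime.pow_right a hcop) dvd_rfl h5
    exact orderOf_eq_one_iff.mp h6
  have hCp : IsPGroup p (centralizer (A : Set Y)) := by
    rintro ⟨x, hx⟩
    obtain ⟨k, hk⟩ := exists_pow_coprime_order_kinf (p := p) x
    refine ⟨k, ?_⟩
    apply Subtype.ext
    simp only [Subgroup.coe_pow, Subgroup.coe_one]
    exact h1 _ ((centralizer (A : Set Y)).pow_mem hx _) hk
  have hCT : centralizer (A : Set Y) ≤ T := by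
    rw [hT]; exact Cfsg.Agent.Lib.Helper55.le_pCore p _ hCp
  exact fun x hx => hCTA ⟨hCT hx, hx⟩

/-- **Normality of the K-infinity subgroups**: in a constrained group all of whose sections are
`p`-stable, the K-infinity subgroups of a Sylow `p`-subgroup are normal. -/
theorem kinf_normal_of_stable {Y : Type u} [Group Y] [Finite Y] {p : ℕ} [hp : Fact p.Prime]
    (hst : ∀ (X : Type u) [Group X] [Finite X], Sec Y X → IsNormalizerPStable p X)
    (hc : centralizer ((pCore p Y : Subgroup Y) : Set Y) ≤ pCore p Y) (S : Sylow p Y)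
    (W : ∀ (Q : Type u) [Group Q], Subgroup Q) (hWc : IsCharPFunctor.{u} p W)
    (hW : (∀ (Q : Type u) [Group Q], W Q = kInfLower Q) ∨
      (∀ (Q : Type u) [Group Q], W Q = kInfUpper Q)) :
    (inducedFunctor (G := Y) W (S : Subgroup Y)).Normal := by
  obtain ⟨T, hT⟩ : ∃ T : Subgroup Y, T = pCore p Y := ⟨_, rfl⟩
  rw [← hT] at hc
  haveI hTn : T.Normal := by rw [hT]; exact Cfsg.Agent.Lib.Helper55.pCore_normal' p
  have hTS : T ≤ (S : Subgroup Y) := by rw [hT]; exact Cfsg.Agent.Lib.Helper11.pCore_le_sylow S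
  have hTp : IsPGroup p ↥T := S.isPGroup'.to_le hTS
  obtain ⟨H, hHchar, -, hHT, hCH⟩ := Cfsg.Agent.S0093.result hTp
  haveI := hHchar
  obtain ⟨A, hA⟩ : ∃ A : Subgroup Y, A = H.map T.subtype := ⟨_, rfl⟩
  have hinjT : Function.Injective T.subtype := Subgroup.subtype_injective T
  haveI hAn : A.Normal := by
    rw [hA]; exact ConjAct.normal_of_characteristic_of_normal
  have hAT : A ≤ T := by rw [hA]; exact Subgroup.map_subtype_le _
  have hAp : IsPGroup p A := hTp.to_le hAT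
  have hTtop : (⊤ : Subgroup ↥T).map T.subtype = T := by
    rw [← MonoidHom.range_eq_map, Subgroup.range_subtype]
  have hTA : ⁅T, A⁆ ≤ A ⊓ centralizer (A : Set Y) := by
    rw [hA, ← map_inf_centralizer hinjT]
    nth_rewrite 1 [← hTtop]
    rw [← Subgroup.map_commutator, Subgroup.commutator_comm]
    exact Subgroup.map_mono hHT
  have hCTA : T ⊓ centralizer (A : Set Y) ≤ A := by
    rintro x ⟨hxT, hxC⟩
    have h1 : (⟨x, hxT⟩ : ↥T) ∈ centralizer (H : Set ↥T) := by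
      rw [Subgroup.mem_centralizer_iff]
      intro h hh
      apply Subtype.ext
      have hhA : (h : Y) ∈ A := by rw [hA]; exact ⟨h, hh, rfl⟩
      exact Subgroup.mem_centralizer_iff.mp hxC _ hhA
    rw [hA]
    exact ⟨⟨x, hxT⟩, hCH h1, rfl⟩
  have hCA : centralizer (A : Set Y) ≤ A := centralizer_le_of_critical T A hT hc hCTA
  -- pass to the Sylow subgroup
  obtain ⟨ι, hι⟩ : ∃ ι : ↥(S : Subgroup Y) →* Y, ι = (S : Subgroup Y).subtype := ⟨_, rfl⟩
  have hinj : Function.Injective ι := by rw [hι]; exact Subgroup.subtype_injective _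
  obtain ⟨T', hT'⟩ : ∃ T' : Subgroup ↥(S : Subgroup Y), T' = T.subgroupOf (S : Subgroup Y) :=
    ⟨_, rfl⟩
  obtain ⟨A', hA'⟩ : ∃ A' : Subgroup ↥(S : Subgroup Y), A' = A.subgroupOf (S : Subgroup Y) :=
    ⟨_, rfl⟩
  have hT'map : T'.map ι = T := by rw [hT', hι]; exact Subgroup.map_subgroupOf_eq_of_le hTS
  have hA'map : A'.map ι = A := by
    rw [hA', hι]; exact Subgroup.map_subgroupOf_eq_of_le (hAT.trans hTS)
  haveI hA'n : A'.Normal := by rw [hA']; infer_instance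
  have hA'T' : A' ≤ T' := by
    rw [← Subgroup.map_le_map_iff_of_injective hinj, hT'map, hA'map]; exact hAT
  have hTA' : ⁅T', A'⁆ ≤ A' ⊓ centralizer (A' : Set ↥(S : Subgroup Y)) := by
    rw [← Subgroup.map_le_map_iff_of_injective hinj, Subgroup.map_commutator,
      map_inf_centralizer hinj, hT'map, hA'map]
    exact hTA
  have hSp : IsPGroup p ↥(S : Subgroup Y) := S.isPGroup'
  have hall : ∀ n : ℕ, kSeqEven ↥(S : Subgroup Y) n ≤ T' ∧
      kSeqOdd ↥(S : Subgroup Y) (n + 1) ≤ T' := by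
    by_contra hall
    obtain ⟨B', hB'T, hcases⟩ := exists_bad_of_kSeq hTA' hA'T' hall
    apply hB'T
    rw [← Subgroup.map_le_map_iff_of_injective hinj, hT'map]
    obtain ⟨B, hB⟩ : ∃ B : Subgroup Y, B = B'.map ι := ⟨_, rfl⟩
    rw [← hB]
    have hBS : B ≤ (S : Subgroup Y) := by rw [hB, hι]; exact Subgroup.map_subtype_le _
    have hBp : IsPGroup p B := S.isPGroup'.to_le hBS
    have hstY : IsNormalizerPStable p Y := hst Y (Sec.refl Y)
    rcases hcases with hlow | hquad | ⟨hB2, hAB, hc1, hc2⟩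
    · -- lower-star member
      have h1 : B ∈ kLowerStarFamily A := by
        rw [hB, ← hA'map]; exact (lowerStar_map_iff hinj).mpr hlow
      rw [hT]
      exact lowerStar_le_pCore _ Y rfl hst A B hAn hAp hCA hBp h1
    · -- quadratic action on `A`
      have h1 : ⁅⁅A, B⁆, B⁆ = ⊥ := by
        rw [hB, ← hA'map, ← Subgroup.map_commutator, ← Subgroup.map_commutator, hquad,
          Subgroup.map_bot]
      intro b hb
      rw [hT]
      apply quad_mem_pCore hstY A hAp hCA b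
      rw [eq_bot_iff, ← h1]
      have hzb : Subgroup.zpowers b ≤ B := Subgroup.zpowers_le.mpr hb
      exact Subgroup.commutator_mono (Subgroup.commutator_mono le_rfl hzb) hzb
    · -- quadratic action on `A / Z(A)` and on `Z(A)`
      obtain ⟨Za, hZa⟩ : ∃ Za : Subgroup Y, Za = A ⊓ centralizer (A : Set Y) := ⟨_, rfl⟩
      haveI hZan : Za.Normal := by rw [hZa]; infer_instance
      have hZaA : Za ≤ A := by rw [hZa]; exact inf_le_left
      have hZap : IsPGroup p Za := hAp.to_le hZaA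
      have hB2' : B ∈ classTwoSubgroups Y := by rw [hB]; exact (classTwo_map_iff hinj).mpr hB2
      have hAB' : A ≤ normalizer (B : Set Y) := by
        rw [hB, ← hA'map]; exact (map_le_normalizer_map_iff hinj).mpr hAB
      have hc1' : ⁅A, ⁅B, B⁆⁆ = ⊥ := by
        rw [hB, ← hA'map, ← Subgroup.map_commutator, ← Subgroup.map_commutator, hc1,
          Subgroup.map_bot]
      have hc2' : ⁅⁅Za, B⁆, B⁆ = ⊥ := by
        rw [hZa, hB, ← hA'map, ← map_inf_centralizer hinj, ← Subgroup.map_commutator,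
          ← Subgroup.map_commutator, hc2, Subgroup.map_bot]
      have hBBZ : ⁅B, B⁆ ≤ Za := by
        have h1 : ⁅B, B⁆ ≤ centralizer (A : Set Y) := by
          rw [← Subgroup.commutator_eq_bot_iff_le_centralizer, Subgroup.commutator_comm]
          exact hc1'
        rw [hZa]
        exact le_inf (h1.trans hCA) h1
      have hABB : ⁅A, B⁆ ≤ B := commutator_le_of_le_normalizer' hAB'
      intro b hb
      have hzb : Subgroup.zpowers b ≤ B := Subgroup.zpowers_le.mpr hb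
      have hq1 : ⁅⁅Za, Subgroup.zpowers b⁆, Subgroup.zpowers b⁆ ≤ (⊥ : Subgroup Y) := by
        rw [← hc2']
        exact Subgroup.commutator_mono (Subgroup.commutator_mono le_rfl hzb) hzb
      have hq2 : ⁅⁅A, Subgroup.zpowers b⁆, Subgroup.zpowers b⁆ ≤ Za := by
        refine le_trans ?_ hBBZ
        exact Subgroup.commutator_mono ((Subgroup.commutator_mono le_rfl hzb).trans hABB) hzb
      obtain ⟨D₁, C₁, hD₁n, hbD₁, hC₁, hD₁⟩ := quad_section (⊥ : Subgroup Y) Za hZap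
        (hst _ (Sec.quotient ⊥)) b hq1
      obtain ⟨D₂, C₂, hD₂n, hbD₂, hC₂, hD₂⟩ := quad_section Za A hAp
        (hst _ (Sec.quotient Za)) b hq2
      haveI := hD₁n
      haveI := hD₂n
      have hDp : IsPGroup p (D₁ ⊓ D₂ : Subgroup Y) := by
        apply isPGroup_of_series A hAp hCA (D₁ ⊓ D₂) C₁ C₂
        · rw [← hZa]; exact hC₁
        · rw [← hZa]; exact hC₂
        · exact fun d hd => hD₁ d hd.1
        · exact fun d hd => hD₂ d hd.2
      rw [hT]
      exact Cfsg.Agent.Lib.Helper55.le_pCore p (D₁ ⊓ D₂) hDp ⟨hbD₁, hbD₂⟩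
  -- all terms of the K-sequence lie in `T'`
  have h1979 := Cfsg.Agent.S1979.result hSp T' hall
  have hWT' : inducedFunctor (G := ↥(S : Subgroup Y)) W T' = W ↥(S : Subgroup Y) := by
    unfold inducedFunctor
    rcases hW with h | h
    · rw [h, h]; exact h1979.1
    · rw [h, h]; exact h1979.2
  have hT'p : IsPGroup p ↥T' := hSp.to_subgroup T'
  have h2 := induced_map_of_injective hWc ι hinj T' hT'p
  rw [hT'map, hWT'] at h2
  have h3 : inducedFunctor (G := Y) W (S : Subgroup Y) = inducedFunctor (G := Y) W T := by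
    rw [← h2, hι]
    rfl
  rw [h3]
  have h4 := normalizer_le_normalizer_functor (isConjugacyFunctor_induced (X := Y) hWc) hTp
  rw [Subgroup.normalizer_eq_top_iff.mpr hTn] at h4
  exact Subgroup.normalizer_eq_top_iff.mp (top_le_iff.mp h4)

end stable

end Cfsg.Agent.Lib.Helper33
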