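import Cfsg.Agent.Lib.Helper33.PStabQuot
import Cfsg.Agent.Lib.Helper33.KInfStable

set_option autoImplicit false
set_option linter.style.haveILetI false
set_option linter.unusedSectionVars false
set_option maxHeartbeats 1000000

/-!
# Normality of the K-infinity subgroups when all quotients are `p`-stable
-/

universe u

namespace Cfsg.Agent.Lib.Helper33

open Cfsg Subgroup

open scoped commutatorElement

/-- **Normality of the K-infinity subgroups**: in a constrained group all of whose quotients are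
`p`-stable, the K-infinity subgroups of a Sylow `p`-subgroup are normal. -/
theorem kinf_normal_of_stable_quot {Y : Type u} [Group Y] [Finite Y] {p : ℕ} [hp : Fact p.Prime]
    (hst : ∀ (N : Subgroup Y) [N.Normal], IsNormalizerPStable p (Y ⧸ N))
    (hc : centralizer ((pCore p Y : Subgroup Y) : Set Y) ≤ pCore p Y) (S : Sylow p Y)
    (W : ∀ (Q : Type u) [Group Q], Subgroup Q) (hWc : IsCharPFunctor.{u} p W)
    (hW : (∀ (Q : Type u) [Group Q], W Q = kInfLower Q) ∨
      (∀ (Q : Type u) [Group Q], W Q = kInfUpper Q)) :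
    (inducedFunctor (G := Y) W (S : Subgroup Y)).Normal := by
  obtain ⟨T, hT⟩ : ∃ T : Subgroup Y, T = pCore p Y := ⟨_, rfl⟩
  rw [← hT] at hc
  haveI hTn : T.Normal := by rw [hT]; exact Cfsg.Agent.Lib.Helper55.pCore_normal' p
  have hTS : T ≤ (S : Subgroup Y) := by rw [hT]; exact Cfsg.Agent.Lib.Helper11.pCore_le_sylow S
  have hTp : IsPGroup p ↥T := S.isPGroup'.to_le hTS
  obtain ⟨H, hHchar, -, hHT, hCH⟩ := Cfsg.Agent.S0093.result hTp
  haveI := hHchar
  obtain ⟨A, hA⟩ : ∃ A : Subgroup Y, A = H.map T.subtype := ⟨_, rfl⟩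
  have hinjT : Function.Injective T.subtype := Subgroup.subtype_injective T
  haveI hAn : A.Normal := by
    rw [hA]; exact ConjAct.normal_of_characteristic_of_normal
  have hAT : A ≤ T := by rw [hA]; exact Subgroup.map_subtype_le _
  have hAp : IsPGroup p A := hTp.to_le hAT
  have hTtop : (⊤ : Subgroup ↥T).map T.subtype = T := by
    rw [← MonoidHom.range_eq_map, Subgroup.range_subtype]
  have hTA : ⁅T, A⁆ ≤ A ⊓ centralizer (A : Set Y) := by
    rw [hA, ← map_inf_centralizer hinjT]
    nth_rewrite 1 [← hTtop]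
    rw [← Subgroup.map_commutator, Subgroup.commutator_comm]
    exact Subgroup.map_mono hHT
  have hCTA : T ⊓ centralizer (A : Set Y) ≤ A := by
    rintro x ⟨hxT, hxC⟩
    have h1 : (⟨x, hxT⟩ : ↥T) ∈ centralizer (H : Set ↥T) := by
      rw [Subgroup.mem_centralizer_iff]
      intro h hh
      apply Subtype.ext
      have hhA : (h : Y) ∈ A := by rw [hA]; exact ⟨h, hh, rfl⟩
      exact Subgroup.mem_centralizer_iff.mp hxC _ hhA
    rw [hA]
    exact ⟨⟨x, hxT⟩, hCH h1, rfl⟩
  have hCA : centralizer (A : Set Y) ≤ A := centralizer_le_of_critical T A hT hc hCTA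
  -- pass to the Sylow subgroup
  obtain ⟨ι, hι⟩ : ∃ ι : ↥(S : Subgroup Y) →* Y, ι = (S : Subgroup Y).subtype := ⟨_, rfl⟩
  have hinj : Function.Injective ι := by rw [hι]; exact Subgroup.subtype_injective _
  obtain ⟨T', hT'⟩ : ∃ T' : Subgroup ↥(S : Subgroup Y), T' = T.subgroupOf (S : Subgroup Y) :=
    ⟨_, rfl⟩
  obtain ⟨A', hA'⟩ : ∃ A' : Subgroup ↥(S : Subgroup Y), A' = A.subgroupOf (S : Subgroup Y) :=
    ⟨_, rfl⟩
  have hT'map : T'.map ι = T := by rw [hT', hι]; exact Subgroup.map_subgroupOf_eq_of_le hTS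
  have hA'map : A'.map ι = A := by
    rw [hA', hι]; exact Subgroup.map_subgroupOf_eq_of_le (hAT.trans hTS)
  haveI hA'n : A'.Normal := by rw [hA']; infer_instance
  have hA'T' : A' ≤ T' := by
    rw [← Subgroup.map_le_map_iff_of_injective hinj, hT'map, hA'map]; exact hAT
  have hTA' : ⁅T', A'⁆ ≤ A' ⊓ centralizer (A' : Set ↥(S : Subgroup Y)) := by
    rw [← Subgroup.map_le_map_iff_of_injective hinj, Subgroup.map_commutator,
      map_inf_centralizer hinj, hT'map, hA'map]
    exact hTA
  have hSp : IsPGroup p ↥(S : Subgroup Y) := S.isPGroup'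
  have hall : ∀ n : ℕ, kSeqEven ↥(S : Subgroup Y) n ≤ T' ∧
      kSeqOdd ↥(S : Subgroup Y) (n + 1) ≤ T' := by
    by_contra hall
    obtain ⟨B', hB'T, hcases⟩ := exists_bad_of_kSeq hTA' hA'T' hall
    apply hB'T
    rw [← Subgroup.map_le_map_iff_of_injective hinj, hT'map]
    obtain ⟨B, hB⟩ : ∃ B : Subgroup Y, B = B'.map ι := ⟨_, rfl⟩
    rw [← hB]
    have hBS : B ≤ (S : Subgroup Y) := by rw [hB, hι]; exact Subgroup.map_subtype_le _
    have hBp : IsPGroup p B := S.isPGroup'.to_le hBS
    have hstY : IsNormalizerPStable p Y := nps_of_equiv QuotientGroup.quotientBot (hst ⊥)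
    rcases hcases with hlow | hquad | ⟨hB2, hAB, hc1, hc2⟩
    · -- lower-star member
      have h1 : B ∈ kLowerStarFamily A := by
        rw [hB, ← hA'map]; exact (lowerStar_map_iff hinj).mpr hlow
      rw [hT]
      exact lowerStar_le_pCore_of_quot hst A B hAn hAp hCA hBp h1
    · -- quadratic action on `A`
      have h1 : ⁅⁅A, B⁆, B⁆ = ⊥ := by
        rw [hB, ← hA'map, ← Subgroup.map_commutator, ← Subgroup.map_commutator, hquad,
          Subgroup.map_bot]
      intro b hb
      rw [hT]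
      apply quad_mem_pCore hstY A hAp hCA b
      rw [eq_bot_iff, ← h1]
      have hzb : Subgroup.zpowers b ≤ B := Subgroup.zpowers_le.mpr hb
      exact Subgroup.commutator_mono (Subgroup.commutator_mono le_rfl hzb) hzb
    · -- quadratic action on `A / Z(A)` and on `Z(A)`
      obtain ⟨Za, hZa⟩ : ∃ Za : Subgroup Y, Za = A ⊓ centralizer (A : Set Y) := ⟨_, rfl⟩
      haveI hZan : Za.Normal := by rw [hZa]; infer_instance
      have hZaA : Za ≤ A := by rw [hZa]; exact inf_le_left
      have hZap : IsPGroup p Za := hAp.to_le hZaA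
      have hB2' : B ∈ classTwoSubgroups Y := by rw [hB]; exact (classTwo_map_iff hinj).mpr hB2
      have hAB' : A ≤ normalizer (B : Set Y) := by
        rw [hB, ← hA'map]; exact (map_le_normalizer_map_iff hinj).mpr hAB
      have hc1' : ⁅A, ⁅B, B⁆⁆ = ⊥ := by
        rw [hB, ← hA'map, ← Subgroup.map_commutator, ← Subgroup.map_commutator, hc1,
          Subgroup.map_bot]
      have hc2' : ⁅⁅Za, B⁆, B⁆ = ⊥ := by
        rw [hZa, hB, ← hA'map, ← map_inf_centralizer hinj, ← Subgroup.map_commutator,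
          ← Subgroup.map_commutator, hc2, Subgroup.map_bot]
      have hBBZ : ⁅B, B⁆ ≤ Za := by
        have h1 : ⁅B, B⁆ ≤ centralizer (A : Set Y) := by
          rw [← Subgroup.commutator_eq_bot_iff_le_centralizer, Subgroup.commutator_comm]
          exact hc1'
        rw [hZa]
        exact le_inf (h1.trans hCA) h1
      have hABB : ⁅A, B⁆ ≤ B := commutator_le_of_le_normalizer' hAB'
      intro b hb
      have hzb : Subgroup.zpowers b ≤ B := Subgroup.zpowers_le.mpr hb
      have hq1 : ⁅⁅Za, Subgroup.zpowers b⁆, Subgroup.zpowers b⁆ ≤ (⊥ : Subgroup Y) := by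
        rw [← hc2']
        exact Subgroup.commutator_mono (Subgroup.commutator_mono le_rfl hzb) hzb
      have hq2 : ⁅⁅A, Subgroup.zpowers b⁆, Subgroup.zpowers b⁆ ≤ Za := by
        refine le_trans ?_ hBBZ
        exact Subgroup.commutator_mono ((Subgroup.commutator_mono le_rfl hzb).trans hABB) hzb
      obtain ⟨D₁, C₁, hD₁n, hbD₁, hC₁, hD₁⟩ := quad_section (⊥ : Subgroup Y) Za hZap
        (hst ⊥) b hq1
      obtain ⟨D₂, C₂, hD₂n, hbD₂, hC₂, hD₂⟩ := quad_section Za A hAp
        (hst Za) b hq2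
      haveI := hD₁n
      haveI := hD₂n
      have hDp : IsPGroup p (D₁ ⊓ D₂ : Subgroup Y) := by
        apply isPGroup_of_series A hAp hCA (D₁ ⊓ D₂) C₁ C₂
        · rw [← hZa]; exact hC₁
        · rw [← hZa]; exact hC₂
        · exact fun d hd => hD₁ d hd.1
        · exact fun d hd => hD₂ d hd.2
      rw [hT]
      exact Cfsg.Agent.Lib.Helper55.le_pCore p (D₁ ⊓ D₂) hDp ⟨hbD₁, hbD₂⟩
  -- all terms of the K-sequence lie in `T'`
  have h1979 := Cfsg.Agent.S1979.result hSp T' hall
  have hWT' : inducedFunctor (G := ↥(S : Subgroup Y)) W T' = W ↥(S : Subgroup Y) := by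
    unfold inducedFunctor
    rcases hW with h | h
    · rw [h, h]; exact h1979.1
    · rw [h, h]; exact h1979.2
  have hT'p : IsPGroup p ↥T' := hSp.to_subgroup T'
  have h2 := induced_map_of_injective hWc ι hinj T' hT'p
  rw [hT'map, hWT'] at h2
  have h3 : inducedFunctor (G := Y) W (S : Subgroup Y) = inducedFunctor (G := Y) W T := by
    rw [← h2, hι]
    rfl
  rw [h3]
  have h4 := normalizer_le_normalizer_functor (isConjugacyFunctor_induced (X := Y) hWc) hTp
  rw [Subgroup.normalizer_eq_top_iff.mpr hTn] at h4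
  exact Subgroup.normalizer_eq_top_iff.mp (top_le_iff.mp h4)


end Cfsg.Agent.Lib.Helper33
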