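import Cfsg.Agent.S1972
import Cfsg.Agent.Lib.Helper33.KInfQuartic

set_option autoImplicit false
set_option linter.style.haveILetI false
set_option linter.unusedSectionVars false

/-!
# The K-infinity subgroups control transfer for `p ≥ 5`: focal subgroup form
-/

universe u

namespace Cfsg.Agent.Lib.Helper33

open Cfsg Subgroup

open scoped commutatorElement

theorem kinf_fct {G : Type u} [Group G] [Finite G] {p : ℕ} [Fact p.Prime] (hp : 5 ≤ p)
    (W : ∀ (Q : Type u) [Group Q], Subgroup Q) (hW : Cfsg.IsCharPFunctor.{u} p W)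
    (hWK : (∀ (Q : Type u) [Group Q], W Q = Cfsg.kInfLower Q) ∨
      (∀ (Q : Type u) [Group Q], W Q = Cfsg.kInfUpper Q)) :
    Cfsg.FamilyControlsTransferIn p (indFam {W} G) ⊤ := by
  have h𝓦 : ∀ W' ∈ ({W} : Set (∀ (Q : Type u) [Group Q], Subgroup Q)),
      Cfsg.IsCharPFunctor.{u} p W' := by
    intro W' hW'
    rw [Set.mem_singleton_iff] at hW'
    rw [hW']; exact hW
  have hloc' : ∀ (X : Type u) [Group X] [Finite X], Sec G X →
      Subgroup.centralizer ((Cfsg.pCore p X : Subgroup X) : Set X) ≤ Cfsg.pCore p X →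
      (∀ (Y : Type u) [Group Y] [Finite Y], Sec G Y →
        Nat.card Y < Nat.card X →
        Cfsg.FamilyControlsTransferIn p (indFam {W} Y) ⊤) →
      Cfsg.FamilyControlsTransferIn p (indFam {W} X) ⊤ := by
    intro X _ _ hX hc ih
    apply Cfsg.Agent.S1972.aux W hW hX hc ih
    intro T hTn
    obtain ⟨g, hgT, hgQ, hE⟩ := exists_quartic_of_not_normal T W hW hWK hTn
    refine ⟨g, hgT, hgQ, fun U V hc hU => ?_⟩
    haveI := hc.2.2.1
    exact iterC_le_of_le (normal_le_normalizer _ V) (by omega) (hE U V hc hU)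
  exact sec_master_T h𝓦 hloc' _ G rfl (Sec.refl G)

/-- focal subgroup form, for every Sylow subgroup -/
theorem kinf_focal_le {G : Type u} [Group G] [Finite G] {p : ℕ} [Fact p.Prime] (hp : 5 ≤ p)
    (W : ∀ (Q : Type u) [Group Q], Subgroup Q) (hW : Cfsg.IsCharPFunctor.{u} p W)
    (hWK : (∀ (Q : Type u) [Group Q], W Q = Cfsg.kInfLower Q) ∨
      (∀ (Q : Type u) [Group Q], W Q = Cfsg.kInfUpper Q)) (S : Sylow p G) :
    (S : Subgroup G) ⊓ ⁅(⊤ : Subgroup G), ⊤⁆ ≤
      ⁅normalizer ((Cfsg.inducedFunctor (G := G) W (S : Subgroup G) : Subgroup G) : Set G),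
        normalizer ((Cfsg.inducedFunctor (G := G) W (S : Subgroup G) : Subgroup G) : Set G)⁆ := by
  have h𝓦 : ∀ W' ∈ ({W} : Set (∀ (Q : Type u) [Group Q], Subgroup Q)),
      Cfsg.IsCharPFunctor.{u} p W' := by
    intro W' hW'
    rw [Set.mem_singleton_iff] at hW'
    rw [hW']; exact hW
  have h1 := focLe_of_fct (indFam_conj h𝓦 G) (kinf_fct hp W hW hWK) le_top S.isPGroup'
    (by rw [Subgroup.relIndex_top_right]; exact S.not_dvd_index)
  unfold FocW indFam at h1
  rw [Set.image_singleton, iSup_singleton, top_inf_eq] at h1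
  exact h1.trans inf_le_right

end Cfsg.Agent.Lib.Helper33
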