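import Mathlib

set_option autoImplicit false

namespace Cfsg.Agent.Lib.Helper33

/-- If an element `e` with `e ^ 2 = 1` centralizes only the identity of the finite normal
subgroup `N`, then conjugation by `e` inverts `N`. -/
theorem conj_eq_inv_of_fpf {H : Type*} [Group H] [Finite H] (N : Subgroup H) [N.Normal] (e : H)
    (he : e * e = 1) (hfpf : ∀ n ∈ N, e * n * e⁻¹ = n → n = 1) :
    ∀ n ∈ N, e * n * e⁻¹ = n⁻¹ := by
  let φ : N →* N :=
    { toFun := fun n => ⟨e * n * e⁻¹, Subgroup.Normal.conj_mem inferInstance n.1 n.2 e⟩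
      map_one' := by ext; simp
      map_mul' := by intro a b; ext; simp }
  have hφ : MonoidHom.FixedPointFree φ := by
    intro n hn
    have h1 : e * (n : H) * e⁻¹ = n := congrArg Subtype.val hn
    have := hfpf n.1 n.2 h1
    ext; exact this
  have hinv : e⁻¹ = e := by
    rw [inv_eq_iff_mul_eq_one]; exact he
  have h2 : Function.Involutive φ := by
    intro n
    ext
    show e * (e * (n : H) * e⁻¹) * e⁻¹ = n
    rw [hinv]
    calc e * (e * (n : H) * e) * e = (e * e) * n * (e * e) := by group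
      _ = n := by rw [he]; simp
  intro n hn
  have := congrFun (hφ.coe_eq_inv_of_involutive h2) ⟨n, hn⟩
  exact congrArg Subtype.val this

theorem klein_exists_other {H : Type*} [Group H] [Finite H] (z : H)
    (E : Subgroup H) (hE : IsKleinFour ↥E) (hzE : z ∈ E) : ∃ e ∈ E, e ≠ 1 ∧ e ≠ z := by
  by_contra hcon
  have hsub : ∀ x : E, x = 1 ∨ x = ⟨z, hzE⟩ := by
    intro x
    by_cases hx : (x : H) = 1
    · left; ext; exact hx
    · right; ext
      by_contra hxz
      exact hcon ⟨x.1, x.2, hx, hxz⟩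
  have hcard : Nat.card E = 4 := hE.card_four
  classical
  have : Fintype E := Fintype.ofFinite E
  rw [Nat.card_eq_fintype_card] at hcard
  have hle : Fintype.card E ≤ 2 := by
    have hss : (Finset.univ : Finset E) ⊆ {1, ⟨z, hzE⟩} := by
      intro x _
      rcases hsub x with h | h
      · simp [h]
      · simp [h]
    calc Fintype.card E = (Finset.univ : Finset E).card := rfl
      _ ≤ ({1, ⟨z, hzE⟩} : Finset E).card := Finset.card_le_card hss
      _ ≤ 2 := Finset.card_le_two
  omega

theorem klein_core {H : Type*} [Group H] [Finite H] (z : H) (hz : orderOf z = 2)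
    (hN : ∀ N : Subgroup H, N.Normal → N ≠ ⊤ → N ⊓ Subgroup.centralizer ({z} : Set H) = ⊥)
    (E : Subgroup H) (hE : IsKleinFour ↥E) (hzE : z ∈ E) (hc : ∀ e ∈ E, e ≠ 1 → IsConj z e)
    (N : Subgroup H) [hNn : N.Normal] (hNtop : N ≠ ⊤) : N = ⊥ := by
  -- fixed-point-freeness for every non-identity element of E
  have hfpf : ∀ e ∈ E, e ≠ 1 → ∀ n ∈ N, e * n * e⁻¹ = n → n = 1 := by
    intro e heE he1 n hn hcomm
    obtain ⟨c, hc'⟩ := isConj_iff.mp (hc e heE he1)
    have hmem : c⁻¹ * n * c ∈ N ⊓ Subgroup.centralizer ({z} : Set H) := by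
      refine Subgroup.mem_inf.mpr ⟨?_, ?_⟩
      · have := hNn.conj_mem n hn c⁻¹
        simpa using this
      · rw [Subgroup.mem_centralizer_iff]
        intro y hy
        rw [Set.mem_singleton_iff] at hy
        subst hy
        have h3 : e * n = n * e := by
          calc e * n = (e * n * e⁻¹) * e := by group
            _ = n * e := by rw [hcomm]
        rw [← hc'] at h3
        calc y * (c⁻¹ * n * c) = c⁻¹ * ((c * y * c⁻¹) * n) * c := by group
          _ = c⁻¹ * (n * (c * y * c⁻¹)) * c := by rw [h3]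
          _ = c⁻¹ * n * c * y := by group
    rw [hN N hNn hNtop, Subgroup.mem_bot] at hmem
    have : n = c * (c⁻¹ * n * c) * c⁻¹ := by group
    rw [this, hmem]; simp
  have hsq : ∀ e ∈ E, e * e = 1 := by
    intro e he
    have := IsKleinFour.mul_self (⟨e, he⟩ : E)
    exact congrArg Subtype.val this
  have hz1 : z ≠ 1 := by
    intro h; rw [h, orderOf_one] at hz; omega
  have hex : ∃ e ∈ E, e ≠ 1 ∧ e ≠ z := klein_exists_other z E hE hzE
  obtain ⟨e, heE, he1, hez⟩ := hex
  have hze1 : z * e ≠ 1 := by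
    intro h
    have : e = z := by
      calc e = (z * z) * e := by rw [hsq z hzE]; simp
        _ = z * (z * e) := by group
        _ = z := by rw [h]; simp
    exact hez this
  have hzeE : z * e ∈ E := mul_mem hzE heE
  have i1 := conj_eq_inv_of_fpf N z (hsq z hzE) (hfpf z hzE hz1)
  have i2 := conj_eq_inv_of_fpf N e (hsq e heE) (hfpf e heE he1)
  rw [Subgroup.eq_bot_iff_forall]
  intro n hn
  apply hfpf (z * e) hzeE hze1 n hn
  have hninv : n⁻¹ ∈ N := inv_mem hn
  calc z * e * n * (z * e)⁻¹ = z * (e * n * e⁻¹) * z⁻¹ := by group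
    _ = z * n⁻¹ * z⁻¹ := by rw [i2 n hn]
    _ = (n⁻¹)⁻¹ := i1 n⁻¹ hninv
    _ = n := inv_inv n

end Cfsg.Agent.Lib.Helper33
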