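import Cfsg.Agent.Lib.Helper4.LcDefs

/-! LC-CORTH + LC-CDBL (helper4's Lc hive, S0406): the code of `Λ` is self-orthogonal and doubly even. -/

set_option autoImplicit false
open Matrix

namespace Cfsg.Agent.Lib.Helper4.Lc

open Cfsg.Agent.Lib.Golay.Cross48 (Hyp Qf bf)

variable {Λ : AddSubgroup V}

/-- LC-CORTH -/
theorem code_orth (h : Fr Λ) : ∀ v ∈ code Λ, ∀ w ∈ code Λ, ∑ i, v i * w i = 0 := by
  intro v hv w hw
  obtain ⟨a, ha, rfl⟩ := (mem_code Λ v).1 hv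
  obtain ⟨a', ha', rfl⟩ := (mem_code Λ w).1 hw
  have h8 := h.dot8 _ ha _ ha'
  have hdot : dot (dbl a) (dbl a') = 4 * ∑ i, a i * a' i := by
    unfold dot
    rw [Finset.mul_sum]
    apply Finset.sum_congr rfl
    intro i _
    rw [dbl_apply, dbl_apply]
    ring
  rw [hdot] at h8
  have h2 : (2 : ℤ) ∣ ∑ i, a i * a' i := by
    obtain ⟨c, hc⟩ := h8
    exact ⟨c, by omega⟩
  have hcast : ∑ i, red a i * red a' i = (((∑ i, a i * a' i : ℤ)) : ZMod 2) := by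
    rw [Int.cast_sum]
    apply Finset.sum_congr rfl
    intro i _
    rw [red_apply, red_apply, Int.cast_mul]
  rw [hcast]
  exact (ZMod.intCast_zmod_eq_zero_iff_dvd _ 2).2 (by exact_mod_cast h2)

theorem lccdbl_sq_mod (n : ℤ) : (4 : ℤ) ∣ n ^ 2 - (if ((n : ZMod 2) ≠ 0) then 1 else 0) := by
  have hiff : ((n : ZMod 2) = 0) ↔ (2 : ℤ) ∣ n := by
    have := ZMod.intCast_zmod_eq_zero_iff_dvd n 2
    exact_mod_cast this
  rcases Int.even_or_odd n with ⟨k, hk⟩ | ⟨k, hk⟩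
  · have h0 : (n : ZMod 2) = 0 := hiff.2 ⟨k, by omega⟩
    rw [if_neg (not_not.2 h0), sub_zero]
    exact ⟨k ^ 2, by rw [hk]; ring⟩
  · have h0 : (n : ZMod 2) ≠ 0 := by
      intro h0
      obtain ⟨c, hc⟩ := hiff.1 h0
      omega
    rw [if_pos h0]
    exact ⟨k ^ 2 + k, by rw [hk]; ring⟩

/-- LC-CDBL -/
theorem code_dbl (h : Fr Λ) : ∀ w ∈ code Λ, 4 ∣ hammingNorm w := by
  intro w hw
  obtain ⟨a, ha, rfl⟩ := (mem_code Λ w).1 hw
  have h16 := h.sq16 _ ha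
  have hsq : sq (dbl a) = 4 * ∑ i, a i ^ 2 := by
    unfold sq
    rw [Finset.mul_sum]
    apply Finset.sum_congr rfl
    intro i _
    rw [dbl_apply]
    ring
  rw [hsq] at h16
  have h4 : (4 : ℤ) ∣ ∑ i, a i ^ 2 := by
    obtain ⟨c, hc⟩ := h16
    exact ⟨c, by omega⟩
  have hnorm : ((hammingNorm (red a) : ℕ) : ℤ) = ∑ i, (if ((a i : ZMod 2) ≠ 0) then (1 : ℤ) else 0) := by
    unfold hammingNorm
    rw [Finset.card_filter]
    push_cast
    apply Finset.sum_congr rfl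
    intro i _
    rw [red_apply]
  have hdiff : (4 : ℤ) ∣ ∑ i, a i ^ 2 - ∑ i, (if ((a i : ZMod 2) ≠ 0) then (1 : ℤ) else 0) := by
    rw [← Finset.sum_sub_distrib]
    exact Finset.dvd_sum (fun i _ => lccdbl_sq_mod (a i))
  have h4' : (4 : ℤ) ∣ ((hammingNorm (red a) : ℕ) : ℤ) := by
    rw [hnorm]
    have := dvd_sub h4 hdiff
    rwa [sub_sub_cancel] at this
  exact_mod_cast h4'

end Cfsg.Agent.Lib.Helper4.Lc
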