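import Mathlib
import Cfsg.Agent.Lib.Helper75.LoCountDefs

/-! COUNT-GL (helper75's LO-COUNT sub-split of helper21's Lo sub-hive, We hive S2347): the order of `GL_(m+1)(q)`. -/

set_option autoImplicit false
set_option linter.unusedSectionVars false

namespace Cfsg.Agent.Lib.Helper21.Lo

open Matrix

variable {F : Type*} [Field F] [Fintype F] [DecidableEq F]

/-- COUNT-GL (E/M, arithmetic). `|GL_(m+1)| = (q^(m+1) - 1) q^m ∏_{i<m} (q^m - q^i)`. -/
theorem count_card_GL (m : ℕ) :
    Nat.card (GL (Fin (m + 1)) F) =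
      (Fintype.card F ^ (m + 1) - 1) * Fintype.card F ^ m *
        ∏ i : Fin m, (Fintype.card F ^ m - Fintype.card F ^ (i : ℕ)) := by
  rw [Matrix.card_GL_field, Fin.prod_univ_succ]
  have h0 : Fintype.card F ^ (m + 1) - Fintype.card F ^ ((0 : Fin (m + 1)) : ℕ) =
      Fintype.card F ^ (m + 1) - 1 := by
    rw [Fin.val_zero, pow_zero]
  have h1 : ∀ i : Fin m, Fintype.card F ^ (m + 1) - Fintype.card F ^ ((i.succ : Fin (m + 1)) : ℕ) =
      Fintype.card F * (Fintype.card F ^ m - Fintype.card F ^ (i : ℕ)) := by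
    intro i
    rw [Fin.val_succ, Nat.mul_sub, pow_succ, pow_succ, mul_comm (Fintype.card F ^ m),
      mul_comm (Fintype.card F ^ (i : ℕ))]
  rw [h0, Finset.prod_congr rfl (fun i _ => h1 i), Finset.prod_mul_distrib, Finset.prod_const,
    Finset.card_univ, Fintype.card_fin, mul_assoc]

end Cfsg.Agent.Lib.Helper21.Lo
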