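import Cfsg.Agent.Lib.Helper33.LsCFIXIcore
import Cfsg.Agent.Lib.Helper60.LsFDUAL

/-! LS-C-FIXI of the Ls hive (helper6, S2334/S2335): `cfixj_core` + F-DUAL (helper60). -/

set_option autoImplicit false

namespace Cfsg.Agent.Lib.Helper6.Ls

open Module Cfsg.Agent.Lib.Helper99

section concrete

variable {F : Type*} [Field F] [Fintype F] {q : ℕ}

/-- C-FIXI -/
theorem exists_isotropic_pt (hF : Fintype.card F = q ^ 2) (n : ℕ) (e u : Fin n → F)
    (hee : Cfsg.hermForm n F q e e = 0) (huu : Cfsg.hermForm n F q u u = 0)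
    (heu : Cfsg.hermForm n F q e u = 0)
    (μ : SUg F n q → ℂ) (h1 : μ 1 = 1)
    (hmul : ∀ a ∈ (lineGrp e u : Subgroup (SUg F n q)), ∀ b ∈ (lineGrp e u : Subgroup (SUg F n q)),
      μ (a * b) = μ a * μ b) :
    ∃ v : LinePt F, ∀ z ∈ (Zgrp (v.1.1 • e + v.1.2 • u) : Subgroup (SUg F n q)), μ z = 1 :=
  cfixj_core hF (exists_isotropic_char hF) n e u hee huu heu μ h1 hmul

end concrete

end Cfsg.Agent.Lib.Helper6.Ls
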