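import Cfsg.Agent.Lib.Helper6.Ls.Defs
import Cfsg.Agent.Lib.Helper6.Ls.LinePt
import Cfsg.Agent.Lib.Helper13.UnitaryConfig
import Cfsg.Agent.Lib.Helper13.UnitaryLift
import Cfsg.Agent.Lib.Helper13.UnitaryTorus
import Cfsg.Agent.Lib.Helper95.LsCFIXA
import Cfsg.Agent.Lib.Helper99.SURoot1
import Cfsg.Prelude.Def_Classical

/-! LS-C-FIXI core of the Ls hive (helper6, S2334/S2335): a character of the abelian group of a totally
isotropic line is trivial on the root subgroup of some point (F-DUAL taken as a hypothesis). -/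

set_option autoImplicit false

namespace Cfsg.Agent.Lib.Helper6.Ls

open Module Cfsg.Agent.Lib.Helper99

section concrete

variable {F : Type*} [Field F] [Fintype F] {q : ℕ}

/-- the root element `utv p c` as an element of `SUg` -/
noncomputable def cfixj_z {n : ℕ} (q : ℕ) (p : Fin n → F) (c : F) : SUg F n q := toSUg (utv q p c)

theorem cfixj_coe (hF : Fintype.card F = q ^ 2) {n : ℕ} (p : Fin n → F)
    (hp : Cfsg.hermForm n F q p p = 0) (c : F) (hc : c + c ^ q = 0) :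
    ((cfixj_z q p c : SUg F n q) : GL (Fin n) F) = utv q p c := by
  unfold cfixj_z toSUg
  rw [dif_pos (utv_mem_suGL hF p hp c hc)]

theorem cfixj_mem_Zgrp (hF : Fintype.card F = q ^ 2) {n : ℕ} (p : Fin n → F)
    (hp : Cfsg.hermForm n F q p p = 0) (c : F) (hc : c + c ^ q = 0) :
    (cfixj_z q p c : SUg F n q) ∈ Zgrp p :=
  Subgroup.subset_closure ⟨c, hc, cfixj_coe hF p hp c hc⟩

/-- `g` acts on the line data as `x ↦ x + (A h(x,e) + B h(x,u)) e + (C h(x,e) + D h(x,u)) u` -/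
def cfixj_Acts {n : ℕ} (q : ℕ) (e u : Fin n → F) (g : SUg F n q) (A B C D : F) : Prop :=
  ∀ x : Fin n → F, ((g : GL (Fin n) F) : Matrix (Fin n) (Fin n) F).mulVec x =
    x + (A * Cfsg.hermForm n F q x e + B * Cfsg.hermForm n F q x u) • e
      + (C * Cfsg.hermForm n F q x e + D * Cfsg.hermForm n F q x u) • u

theorem cfixj_Acts_ext {n : ℕ} (e u : Fin n → F) (g g' : SUg F n q) (A B C D : F)
    (hg : cfixj_Acts q e u g A B C D) (hg' : cfixj_Acts q e u g' A B C D) : g = g' := by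
  apply Subtype.ext
  apply Units.ext
  rw [Matrix.ext_iff_mulVec]
  intro x
  rw [hg x, hg' x]

theorem cfixj_Acts_one {n : ℕ} (e u : Fin n → F) : cfixj_Acts q e u (1 : SUg F n q) 0 0 0 0 := by
  intro x
  rw [Subgroup.coe_one, Units.val_one, Matrix.one_mulVec]
  simp

theorem cfixj_Acts_mul (hF : Fintype.card F = q ^ 2) {n : ℕ} (e u : Fin n → F)
    (hee : Cfsg.hermForm n F q e e = 0) (huu : Cfsg.hermForm n F q u u = 0)
    (heu : Cfsg.hermForm n F q e u = 0) (g g' : SUg F n q) (A B C D A' B' C' D' : F)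
    (hg : cfixj_Acts q e u g A B C D) (hg' : cfixj_Acts q e u g' A' B' C' D') :
    cfixj_Acts q e u (g * g') (A + A') (B + B') (C + C') (D + D') := by
  have hue : Cfsg.hermForm n F q u e = 0 := hermForm_eq_zero_comm hF heu
  intro x
  rw [Subgroup.coe_mul, Units.val_mul, ← Matrix.mulVec_mulVec, hg' x, hg _]
  simp only [Helper13.hermForm_add_left, Helper13.hermForm_smul_left, hee, huu, heu, hue,
    mul_zero, add_zero]
  module

theorem cfixj_Acts_z (hF : Fintype.card F = q ^ 2) {n : ℕ} (e u : Fin n → F)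
    (hee : Cfsg.hermForm n F q e e = 0) (huu : Cfsg.hermForm n F q u u = 0)
    (heu : Cfsg.hermForm n F q e u = 0) (p : Fin n → F) (a b : F) (hp : p = a • e + b • u)
    (c : F) (hc : c + c ^ q = 0) :
    cfixj_Acts q e u (cfixj_z q p c) (c * a ^ (q + 1)) (c * a * b ^ q) (c * a ^ q * b)
      (c * b ^ (q + 1)) := by
  have hpp : Cfsg.hermForm n F q p p = 0 := by
    rw [hp]
    exact cfixa_herm_line hF e u hee huu heu (a, b) (a, b)
  intro x
  rw [cfixj_coe hF p hpp c hc, utv_mulVec p hpp, hp, Helper13.hermForm_add_right hF,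
    Helper13.hermForm_smul_right, Helper13.hermForm_smul_right]
  rw [pow_succ, pow_succ]
  module

theorem cfixj_mem_line (hF : Fintype.card F = q ^ 2) {n : ℕ} (e u : Fin n → F)
    (hee : Cfsg.hermForm n F q e e = 0) (huu : Cfsg.hermForm n F q u u = 0)
    (heu : Cfsg.hermForm n F q e u = 0) (p : Fin n → F) (a b : F) (hp : p = a • e + b • u)
    (c : F) (hc : c + c ^ q = 0) :
    (cfixj_z q p c : SUg F n q) ∈ (lineGrp e u : Subgroup (SUg F n q)) := by
  have hpp : Cfsg.hermForm n F q p p = 0 := by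
    rw [hp]
    exact cfixa_herm_line hF e u hee huu heu (a, b) (a, b)
  have h1 := cfixj_mem_Zgrp hF p hpp c hc
  subst hp
  exact (le_iSup (fun v : F × F => (Zgrp (v.1 • e + v.2 • u) : Subgroup (SUg F n q))) (a, b)) h1

/-- the Siegel element `S(t)` of the line group -/
theorem cfixj_exists_S (hF : Fintype.card F = q ^ 2) {n : ℕ} (e u : Fin n → F)
    (hee : Cfsg.hermForm n F q e e = 0) (huu : Cfsg.hermForm n F q u u = 0)
    (heu : Cfsg.hermForm n F q e u = 0) (t : F) :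
    ∃ g : SUg F n q, g ∈ (lineGrp e u : Subgroup (SUg F n q)) ∧
      cfixj_Acts q e u g 0 (-t ^ q) t 0 := by
  obtain ⟨τ, hτ0, hτ⟩ := exists_trace_zero hF (F := F)
  have hτq : τ ^ q = -τ := (eq_neg_of_add_eq_zero_right hτ)
  have hneg : -τ + (-τ) ^ q = 0 := Helper13.trace_zero_neg hF hτ
  have h3 : -(τ * (t / τ) ^ (q + 1)) + (-(τ * (t / τ) ^ (q + 1))) ^ q = 0 :=
    Helper13.trace_zero_neg hF (Cfsg.Agent.Lib.Helper99.SURoot.mul_norm_trace_zero hF τ (t / τ) hτ)
  have hp1 : e + (t / τ) • u = (1 : F) • e + (t / τ) • u := by rw [one_smul]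
  have hp2 : e = (1 : F) • e + (0 : F) • u := by rw [one_smul, zero_smul, add_zero]
  have hp3 : u = (0 : F) • e + (1 : F) • u := by rw [one_smul, zero_smul, zero_add]
  have hq0 : q ≠ 0 := by
    have := Helper13.two_le_q hF
    omega
  refine ⟨cfixj_z q (e + (t / τ) • u) τ * cfixj_z q e (-τ) *
    cfixj_z q u (-(τ * (t / τ) ^ (q + 1))), ?_, ?_⟩
  · exact Subgroup.mul_mem _ (Subgroup.mul_mem _
      (cfixj_mem_line hF e u hee huu heu _ 1 (t / τ) hp1 τ hτ)
      (cfixj_mem_line hF e u hee huu heu _ 1 0 hp2 (-τ) hneg))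
      (cfixj_mem_line hF e u hee huu heu _ 0 1 hp3 _ h3)
  · have hA := cfixj_Acts_mul hF e u hee huu heu _ _ _ _ _ _ _ _ _ _
      (cfixj_Acts_mul hF e u hee huu heu _ _ _ _ _ _ _ _ _ _
        (cfixj_Acts_z hF e u hee huu heu _ 1 (t / τ) hp1 τ hτ)
        (cfixj_Acts_z hF e u hee huu heu _ 1 0 hp2 (-τ) hneg))
      (cfixj_Acts_z hF e u hee huu heu _ 0 1 hp3 _ h3)
    have e1 : τ * 1 ^ (q + 1) + -τ * 1 ^ (q + 1) + -(τ * (t / τ) ^ (q + 1)) * 0 ^ (q + 1) = 0 := by
      simp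
    have e2 : τ * 1 * (t / τ) ^ q + -τ * 1 * 0 ^ q + -(τ * (t / τ) ^ (q + 1)) * 0 * 1 ^ q
        = -t ^ q := by
      rw [div_pow, hτq, zero_pow hq0]
      field_simp
      ring
    have e3 : τ * 1 ^ q * (t / τ) + -τ * 1 ^ q * 0 + -(τ * (t / τ) ^ (q + 1)) * 0 ^ q * 1 = t := by
      rw [zero_pow hq0, one_pow]
      field_simp
      ring
    have e4 : τ * (t / τ) ^ (q + 1) + -τ * 0 ^ (q + 1) + -(τ * (t / τ) ^ (q + 1)) * 1 ^ (q + 1)
        = 0 := by
      simp
    rw [e1, e2, e3, e4] at hA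
    exact hA

/-- C-FIXI with F-DUAL as a hypothesis -/
theorem cfixj_core (hF : Fintype.card F = q ^ 2)
    (hdual : ∀ (μ1 μ2 ν : F → ℂ),
      μ1 0 = 1 → (∀ c c', c + c ^ q = 0 → c' + c' ^ q = 0 → μ1 (c + c') = μ1 c * μ1 c') →
      μ2 0 = 1 → (∀ c c', c + c ^ q = 0 → c' + c' ^ q = 0 → μ2 (c + c') = μ2 c * μ2 c') →
      ν 0 = 1 → (∀ t t', ν (t + t') = ν t * ν t') →
      ∃ α β : F, (α ≠ 0 ∨ β ≠ 0) ∧ ∀ c : F, c + c ^ q = 0 →
        μ1 (c * α ^ (q + 1)) * ν (c * α ^ q * β) * μ2 (c * β ^ (q + 1)) = 1)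
    (n : ℕ) (e u : Fin n → F)
    (hee : Cfsg.hermForm n F q e e = 0) (huu : Cfsg.hermForm n F q u u = 0)
    (heu : Cfsg.hermForm n F q e u = 0)
    (μ : SUg F n q → ℂ) (h1 : μ 1 = 1)
    (hmul : ∀ a ∈ (lineGrp e u : Subgroup (SUg F n q)), ∀ b ∈ (lineGrp e u : Subgroup (SUg F n q)),
      μ (a * b) = μ a * μ b) :
    ∃ v : LinePt F, ∀ z ∈ (Zgrp (v.1.1 • e + v.1.2 • u) : Subgroup (SUg F n q)), μ z = 1 := by
  have hq0 : q ≠ 0 := by
    have := Helper13.two_le_q hF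
    omega
  have hp2 : e = (1 : F) • e + (0 : F) • u := by rw [one_smul, zero_smul, add_zero]
  have hp3 : u = (0 : F) • e + (1 : F) • u := by rw [one_smul, zero_smul, zero_add]
  choose S hSmem hSact using cfixj_exists_S hF e u hee huu heu
  -- the three characters
  have hadd : ∀ p : Fin n → F, Cfsg.hermForm n F q p p = 0 → ∀ c c' : F, c + c ^ q = 0 →
      c' + c' ^ q = 0 →
      (cfixj_z q p (c + c') : SUg F n q) = cfixj_z q p c * cfixj_z q p c' := by
    intro p hpp c c' hc hc'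
    apply Subtype.ext
    rw [Subgroup.coe_mul, cfixj_coe hF p hpp c hc, cfixj_coe hF p hpp c' hc',
      cfixj_coe hF p hpp _ (czg_trace_add hF hc hc'), Helper13.utv_add p hpp]
  have hzero : ∀ p : Fin n → F, Cfsg.hermForm n F q p p = 0 → (cfixj_z q p 0 : SUg F n q) = 1 := by
    intro p hpp
    apply Subtype.ext
    rw [cfixj_coe hF p hpp 0 (czg_trace_zero hF), Helper13.utv_zero p hpp]
    rfl
  have hSadd : ∀ t t' : F, S (t + t') = S t * S t' := by
    intro t t'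
    have hA := cfixj_Acts_mul hF e u hee huu heu _ _ _ _ _ _ _ _ _ _ (hSact t) (hSact t')
    rw [add_zero, ← neg_add, ← frob_add hF] at hA
    exact cfixj_Acts_ext e u _ _ _ _ _ _ (hSact (t + t')) hA
  have hS0 : S 0 = 1 := by
    have hA := hSact 0
    rw [zero_pow hq0, neg_zero] at hA
    exact cfixj_Acts_ext e u _ _ _ _ _ _ hA (cfixj_Acts_one e u)
  obtain ⟨α, β, hne, hαβ⟩ := hdual (fun c => μ (cfixj_z q e c)) (fun c => μ (cfixj_z q u c))
    (fun t => μ (S t))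
    (by
      show μ (cfixj_z q e 0) = 1
      rw [hzero e hee, h1])
    (by
      intro c c' hc hc'
      show μ (cfixj_z q e (c + c')) = μ (cfixj_z q e c) * μ (cfixj_z q e c')
      rw [hadd e hee c c' hc hc']
      exact hmul _ (cfixj_mem_line hF e u hee huu heu _ 1 0 hp2 c hc) _
        (cfixj_mem_line hF e u hee huu heu _ 1 0 hp2 c' hc'))
    (by
      show μ (cfixj_z q u 0) = 1
      rw [hzero u huu, h1])
    (by
      intro c c' hc hc'
      show μ (cfixj_z q u (c + c')) = μ (cfixj_z q u c) * μ (cfixj_z q u c')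
      rw [hadd u huu c c' hc hc']
      exact hmul _ (cfixj_mem_line hF e u hee huu heu _ 0 1 hp3 c hc) _
        (cfixj_mem_line hF e u hee huu heu _ 0 1 hp3 c' hc'))
    (by
      show μ (S 0) = 1
      rw [hS0, h1])
    (by
      intro t t'
      show μ (S (t + t')) = μ (S t) * μ (S t')
      rw [hSadd t t']
      exact hmul _ (hSmem t) _ (hSmem t'))
  have hv : ((α, β) : F × F) ≠ 0 := by
    intro h
    rw [Prod.mk_eq_zero] at h
    rcases hne with h' | h'
    · exact h' h.1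
    · exact h' h.2
  refine ⟨⟨(α, β), hv⟩, ?_⟩
  intro z hz
  change z ∈ (Zgrp (α • e + β • u) : Subgroup (SUg F n q)) at hz
  have hpp : Cfsg.hermForm n F q (α • e + β • u) (α • e + β • u) = 0 :=
    cfixa_herm_line hF e u hee huu heu (α, β) (α, β)
  rw [mem_Zgrp_iff hF _ hpp] at hz
  obtain ⟨c, hc, hzc⟩ := hz
  have hcq : c ^ q = -c := (eq_neg_of_add_eq_zero_right hc)
  have hc1 : c * α ^ (q + 1) + (c * α ^ (q + 1)) ^ q = 0 :=
    Cfsg.Agent.Lib.Helper99.SURoot.mul_norm_trace_zero hF c α hc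
  have hc2 : c * β ^ (q + 1) + (c * β ^ (q + 1)) ^ q = 0 :=
    Cfsg.Agent.Lib.Helper99.SURoot.mul_norm_trace_zero hF c β hc
  have hz1 : z = cfixj_z q (α • e + β • u) c := by
    apply Subtype.ext
    rw [hzc, cfixj_coe hF _ hpp c hc]
  have hz2 : z = cfixj_z q e (c * α ^ (q + 1)) * S (c * α ^ q * β) *
      cfixj_z q u (c * β ^ (q + 1)) := by
    rw [hz1]
    apply cfixj_Acts_ext e u _ _ _ _ _ _ (cfixj_Acts_z hF e u hee huu heu _ α β rfl c hc)
    have hA := cfixj_Acts_mul hF e u hee huu heu _ _ _ _ _ _ _ _ _ _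
      (cfixj_Acts_mul hF e u hee huu heu _ _ _ _ _ _ _ _ _ _
        (cfixj_Acts_z hF e u hee huu heu _ 1 0 hp2 _ hc1) (hSact (c * α ^ q * β)))
      (cfixj_Acts_z hF e u hee huu heu _ 0 1 hp3 _ hc2)
    have e1 : c * α ^ (q + 1) * 1 ^ (q + 1) + 0 + c * β ^ (q + 1) * 0 ^ (q + 1)
        = c * α ^ (q + 1) := by
      simp
    have e2 : c * α ^ (q + 1) * 1 * 0 ^ q + -(c * α ^ q * β) ^ q + c * β ^ (q + 1) * 0 * 1 ^ q
        = c * α * β ^ q := by
      rw [zero_pow hq0, mul_pow, mul_pow, Helper13.pow_q_pow_q hF, hcq]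
      ring
    have e3 : c * α ^ (q + 1) * 1 ^ q * 0 + c * α ^ q * β + c * β ^ (q + 1) * 0 ^ q * 1
        = c * α ^ q * β := by
      rw [zero_pow hq0]
      ring
    have e4 : c * α ^ (q + 1) * 0 ^ (q + 1) + 0 + c * β ^ (q + 1) * 1 ^ (q + 1)
        = c * β ^ (q + 1) := by
      simp
    rw [e1, e2, e3, e4] at hA
    exact hA
  have hm1 := cfixj_mem_line hF e u hee huu heu _ 1 0 hp2 _ hc1
  have hm2 := hSmem (c * α ^ q * β)
  have hm3 := cfixj_mem_line hF e u hee huu heu _ 0 1 hp3 _ hc2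
  rw [hz2, hmul _ (Subgroup.mul_mem _ hm1 hm2) _ hm3, hmul _ hm1 _ hm2]
  exact hαβ c hc

end concrete

end Cfsg.Agent.Lib.Helper6.Ls
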