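import Mathlib
import Cfsg.Agent.Lib.Helper22.FStar
import Cfsg.Agent.Lib.Helper91.Components

/-! # Mc hive (S1305), leaf MC4c. -/

set_option autoImplicit false
open Cfsg Subgroup

namespace Cfsg.Agent.Lib.Helper22.Mc

universe u

theorem mc4c_central {X : Type u} [Group X] {n n' z z' : X} (h2 : Commute z n')
    (h3 : Commute z' n) (h5 : Commute z z') :
    (n * z) * (n' * z') * (n * z)⁻¹ * (n' * z')⁻¹ = n * n' * n⁻¹ * n'⁻¹ := by
  have hzu : Commute z (n' * z') := h2.mul_right h5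
  calc (n * z) * (n' * z') * (n * z)⁻¹ * (n' * z')⁻¹
      = n * (z * (n' * z') * z⁻¹) * n⁻¹ * (n' * z')⁻¹ := by group
    _ = n * (n' * z') * n⁻¹ * (n' * z')⁻¹ := by rw [hzu.mul_inv_cancel]
    _ = n * n' * (z' * n⁻¹ * z'⁻¹) * n'⁻¹ := by group
    _ = n * n' * n⁻¹ * n'⁻¹ := by rw [h3.inv_right.mul_inv_cancel]

theorem mc4c_key {X : Type u} [Group X] (φ : X ≃* X) (A B : Subgroup X)
    (hA : ∀ x ∈ A, φ x ∈ A) (hB : ∀ y ∈ B, φ y ∈ B)
    {x y : X} (hx : x ∈ A) (hy : y ∈ B) (h : φ (x * y) = x * y) :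
    x⁻¹ * φ x ∈ A ∧ x⁻¹ * φ x ∈ B := by
  refine ⟨A.mul_mem (A.inv_mem hx) (hA x hx), ?_⟩
  have : x⁻¹ * φ x = y * (φ y)⁻¹ := by
    rw [map_mul] at h
    rw [inv_mul_eq_iff_eq_mul, ← mul_assoc, eq_mul_inv_iff_mul_eq]
    exact h
  rw [this]
  exact B.mul_mem hy (B.inv_mem (hB y hy))

theorem mc4c_fix {X : Type u} [Group X] (φ : X ≃* X) (A B : Subgroup X)
    (hAB : ∀ x ∈ A, ∀ y ∈ B, x * y = y * x)
    (hA : ∀ x ∈ A, φ x ∈ A) (hB : ∀ y ∈ B, φ y ∈ B)
    {x x' y y' : X} (hx : x ∈ A) (hx' : x' ∈ A) (hy : y ∈ B) (hy' : y' ∈ B)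
    (h : φ (x * y) = x * y) (h' : φ (x' * y') = x' * y') :
    φ (x * x' * x⁻¹ * x'⁻¹) = x * x' * x⁻¹ * x'⁻¹ := by
  obtain ⟨hzA, hzB⟩ := mc4c_key φ A B hA hB hx hy h
  obtain ⟨hzA', hzB'⟩ := mc4c_key φ A B hA hB hx' hy' h'
  have e1 : φ x = x * (x⁻¹ * φ x) := by group
  have e2 : φ x' = x' * (x'⁻¹ * φ x') := by group
  rw [map_mul, map_mul, map_mul, map_inv, map_inv, e1, e2]
  exact mc4c_central (hAB x' hx' _ hzB).symm (hAB x hx _ hzB').symm (hAB _ hzA' _ hzB).symm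

theorem mc4c_comm_mul {X : Type u} [Group X] {x x' y y' : X} (h1 : Commute y x')
    (h2 : Commute y x) (h3 : Commute y' x) (h4 : Commute y' x') :
    (x * y) * (x' * y') * (x * y)⁻¹ * (x' * y')⁻¹ =
      (x * x' * x⁻¹ * x'⁻¹) * (y * y' * y⁻¹ * y'⁻¹) := by
  have hk : Commute (y * y' * y⁻¹) x := (h2.mul_left h3).mul_left h2.inv_left
  have hk' : Commute (y * y' * y⁻¹ * y'⁻¹) x' :=
    ((h1.mul_left h4).mul_left h1.inv_left).mul_left h4.inv_left
  calc (x * y) * (x' * y') * (x * y)⁻¹ * (x' * y')⁻¹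
      = x * (y * x' * y⁻¹) * ((y * y' * y⁻¹) * x⁻¹) * y'⁻¹ * x'⁻¹ := by group
    _ = x * x' * (x⁻¹ * (y * y' * y⁻¹)) * y'⁻¹ * x'⁻¹ := by
        rw [h1.mul_inv_cancel, hk.inv_right.eq]
    _ = x * x' * x⁻¹ * ((y * y' * y⁻¹ * y'⁻¹) * x'⁻¹) := by group
    _ = x * x' * x⁻¹ * (x'⁻¹ * (y * y' * y⁻¹ * y'⁻¹)) := by rw [hk'.inv_right.eq]
    _ = (x * x' * x⁻¹ * x'⁻¹) * (y * y' * y⁻¹ * y'⁻¹) := by group

/-- MC4c. With `E = E(X)`, `N = J J^a`: commutators of elements of `C_E(a)` lie in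
`C_N(a) · C_{C_E(N)}(a)`. -/
theorem mc4c {X : Type u} [Group X] [Finite X] (a : X) (ha : a ^ 2 = 1) (J : Subgroup X)
    (hJ : IsComponent J) :
    ∀ y ∈ layer X ⊓ centralizer ({a} : Set X), ∀ y' ∈ layer X ⊓ centralizer ({a} : Set X),
      y * y' * y⁻¹ * y'⁻¹ ∈ ((J ⊔ J.map (MulAut.conj a).toMonoidHom) ⊓ centralizer ({a} : Set X)) ⊔
        (centralizer ((J ⊔ J.map (MulAut.conj a).toMonoidHom : Subgroup X) : Set X) ⊓ layer X ⊓
          centralizer ({a} : Set X)) := by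
  have haa : a * a = 1 := by rw [← pow_two]; exact ha
  have hainv : a⁻¹ = a := inv_eq_of_mul_eq_one_right haa
  have hφφ : ∀ x, (MulAut.conj a) ((MulAut.conj a) x) = x := by
    intro x
    show a * (a * x * a⁻¹) * a⁻¹ = x
    rw [hainv]
    calc a * (a * x * a) * a = (a * a) * x * (a * a) := by group
      _ = x := by rw [haa, one_mul, mul_one]
  have hJa : IsComponent (J.map (MulAut.conj a).toMonoidHom) :=
    Cfsg.Agent.Lib.Helper22.isComponent_map_equiv (MulAut.conj a) hJ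
  -- abbreviations
  obtain ⟨Ja, hJa_def⟩ : ∃ Ja : Subgroup X, Ja = J.map (MulAut.conj a).toMonoidHom := ⟨_, rfl⟩
  rw [← hJa_def] at hJa ⊢
  have hJJa : ∀ x ∈ J, (MulAut.conj a) x ∈ Ja := by
    intro x hx
    rw [hJa_def]
    exact ⟨x, hx, rfl⟩
  have hJaJ : ∀ x ∈ Ja, (MulAut.conj a) x ∈ J := by
    intro x hx
    rw [hJa_def] at hx
    obtain ⟨j, hj, rfl⟩ := hx
    have : (MulAut.conj a) ((MulAut.conj a).toMonoidHom j) = j := hφφ j
    rw [this]
    exact hj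
  -- N is invariant
  have hNinv : ∀ n ∈ J ⊔ Ja, (MulAut.conj a) n ∈ J ⊔ Ja := by
    intro n hn
    have hle : J ⊔ Ja ≤ (J ⊔ Ja).comap (MulAut.conj a).toMonoidHom := by
      apply sup_le
      · intro x hx
        exact (le_sup_right : Ja ≤ J ⊔ Ja) (hJJa x hx)
      · intro x hx
        exact (le_sup_left : J ≤ J ⊔ Ja) (hJaJ x hx)
    exact hle hn
  have hEn : (layer X).Normal := Cfsg.Agent.Lib.Helper22.layer_normal X
  -- C is invariant
  have hCinv : ∀ c ∈ centralizer ((J ⊔ Ja : Subgroup X) : Set X) ⊓ layer X,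
      (MulAut.conj a) c ∈ centralizer ((J ⊔ Ja : Subgroup X) : Set X) ⊓ layer X := by
    intro c hc
    refine Subgroup.mem_inf.mpr ⟨?_, hEn.conj_mem c hc.2 a⟩
    rw [mem_centralizer_iff]
    intro m hm
    have hm' := hNinv m hm
    have h1 := (mem_centralizer_iff.mp hc.1) _ hm'
    have h2 := congrArg (MulAut.conj a) h1
    rw [map_mul, map_mul, hφφ] at h2
    exact h2
  -- N and C commute
  have hNC : ∀ n ∈ J ⊔ Ja, ∀ c ∈ centralizer ((J ⊔ Ja : Subgroup X) : Set X) ⊓ layer X,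
      n * c = c * n := by
    intro n hn c hc
    exact (mem_centralizer_iff.mp hc.1) n hn
  have hCN : ∀ c ∈ centralizer ((J ⊔ Ja : Subgroup X) : Set X) ⊓ layer X, ∀ n ∈ J ⊔ Ja,
      c * n = n * c := fun c hc n hn => (hNC n hn c hc).symm
  -- E ≤ N ⊔ C
  have hE : layer X ≤ (J ⊔ Ja) ⊔ (centralizer ((J ⊔ Ja : Subgroup X) : Set X) ⊓ layer X) := by
    apply sSup_le
    intro L hL
    have hL' : IsComponent L := hL
    by_cases h1 : L = J
    · rw [h1]; exact le_sup_left.trans le_sup_left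
    by_cases h2 : L = Ja
    · rw [h2]; exact le_sup_right.trans le_sup_left
    refine le_trans ?_ le_sup_right
    refine le_inf ?_ (Cfsg.Agent.Lib.Helper22.component_le_layer hL')
    rw [le_centralizer_iff]
    apply sup_le
    · intro j hj
      rw [mem_centralizer_iff]
      intro l hl
      exact Cfsg.Agent.Lib.Helper91.component_commute_of_ne hL' hJ h1 l hl j hj
    · intro j hj
      rw [mem_centralizer_iff]
      intro l hl
      exact Cfsg.Agent.Lib.Helper91.component_commute_of_ne hL' hJa h2 l hl j hj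
  intro y hy y' hy'
  obtain ⟨n, hn, c, hc, rfl⟩ :=
    Cfsg.Agent.Lib.Helper22.exists_mul_of_mem_sup_of_commute hNC (hE hy.1)
  obtain ⟨n', hn', c', hc', rfl⟩ :=
    Cfsg.Agent.Lib.Helper22.exists_mul_of_mem_sup_of_commute hNC (hE hy'.1)
  have hfix : (MulAut.conj a) (n * c) = n * c := by
    have := mem_centralizer_singleton_iff.mp hy.2
    show a * (n * c) * a⁻¹ = n * c
    rw [← this]; group
  have hfix' : (MulAut.conj a) (n' * c') = n' * c' := by
    have := mem_centralizer_singleton_iff.mp hy'.2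
    show a * (n' * c') * a⁻¹ = n' * c'
    rw [← this]; group
  have hfixc : (MulAut.conj a) (c * n) = c * n := by rw [← hNC n hn c hc]; exact hfix
  have hfixc' : (MulAut.conj a) (c' * n') = c' * n' := by rw [← hNC n' hn' c' hc']; exact hfix'
  have hN1 := mc4c_fix (MulAut.conj a) _ _ hNC hNinv hCinv hn hn' hc hc' hfix hfix'
  have hC1 := mc4c_fix (MulAut.conj a) _ _ hCN hCinv hNinv hc hc' hn hn' hfixc hfixc'
  have hmemC : ∀ w : X, (MulAut.conj a) w = w → w ∈ centralizer ({a} : Set X) := by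
    intro w hw
    rw [mem_centralizer_singleton_iff]
    have hw' : a * w * a⁻¹ = w := hw
    calc w * a = (a * w * a⁻¹) * a := by rw [hw']
      _ = a * w := by group
  rw [mc4c_comm_mul (hCN c hc n' hn') (hCN c hc n hn) (hCN c' hc' n hn) (hCN c' hc' n' hn')]
  apply Subgroup.mul_mem
  · apply Subgroup.mem_sup_left
    refine ⟨?_, hmemC _ hN1⟩
    exact Subgroup.mul_mem _ (Subgroup.mul_mem _ (Subgroup.mul_mem _ hn hn')
      (Subgroup.inv_mem _ hn)) (Subgroup.inv_mem _ hn')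
  · apply Subgroup.mem_sup_right
    refine ⟨?_, hmemC _ hC1⟩
    exact Subgroup.mul_mem _ (Subgroup.mul_mem _ (Subgroup.mul_mem _ hc hc')
      (Subgroup.inv_mem _ hc)) (Subgroup.inv_mem _ hc')

end Cfsg.Agent.Lib.Helper22.Mc
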