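import Mathlib
import Cfsg.Prelude.Def_CaseTheorems
import Cfsg.Agent.Lib.Helper84.PCore

/-!
# N57 mini-hive (S1957, owner helper84): leaf N57-O2 `o2_facts`
-/

set_option autoImplicit false
open Cfsg

namespace Cfsg.Agent.Lib.Helper84.N57

variable {G : Type*} [Group G] [Finite G]

omit [Finite G] in
theorem n57o2_conj_mem (N : Subgroup G) (g : G) (hg : g ∈ N) (x : G)
    (hx : x ∈ (Cfsg.pCore 2 ↥N).map N.subtype) :
    g * x * g⁻¹ ∈ (Cfsg.pCore 2 ↥N).map N.subtype := by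
  obtain ⟨o, ho, rfl⟩ := hx
  have hn : (Cfsg.pCore 2 ↥N).Normal := Cfsg.Agent.Lib.Helper84.pCore_normal 2 ↥N
  refine ⟨(⟨g, hg⟩ : ↥N) * o * (⟨g, hg⟩ : ↥N)⁻¹, hn.conj_mem o ho _, ?_⟩
  simp

/-- N57-O2: the G-level facts about O_2(N) for a subgroup N of characteristic 2. -/
theorem o2_facts (N : Subgroup G) (hchar : Cfsg.IsOfCharacteristicTwo ↥N) :
    (Cfsg.pCore 2 ↥N).map N.subtype ≤ N ∧ IsPGroup 2 ↥((Cfsg.pCore 2 ↥N).map N.subtype) ∧
    N ≤ Subgroup.normalizer (((Cfsg.pCore 2 ↥N).map N.subtype : Subgroup G) : Set G) ∧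
    (∀ h ∈ N, (∀ q ∈ (Cfsg.pCore 2 ↥N).map N.subtype, h * q = q * h) → h ∈ (Cfsg.pCore 2 ↥N).map N.subtype) ∧
    (∀ A : Subgroup G, A ≤ N → IsPGroup 2 ↥A → N ≤ Subgroup.normalizer (A : Set G) →
      A ≤ (Cfsg.pCore 2 ↥N).map N.subtype) := by
  have : Fact (Nat.Prime 2) := ⟨Nat.prime_two⟩
  have hO2 : IsPGroup 2 ↥(Cfsg.pCore 2 ↥N) := Cfsg.Agent.Lib.Helper84.pCore_isPGroup 2 ↥N
  refine ⟨Subgroup.map_subtype_le _, hO2.map N.subtype, ?_, ?_, ?_⟩
  · intro g hg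
    rw [Subgroup.mem_normalizer_iff]
    intro x
    constructor
    · exact n57o2_conj_mem N g hg x
    · intro hx
      have := n57o2_conj_mem N g⁻¹ (N.inv_mem hg) _ hx
      have e : g⁻¹ * (g * x * g⁻¹) * g⁻¹⁻¹ = x := by group
      rwa [e] at this
  · intro h hh hcomm
    have hc : (⟨h, hh⟩ : ↥N) ∈ Subgroup.centralizer ((Cfsg.pCore 2 ↥N : Subgroup ↥N) : Set ↥N) := by
      rw [Subgroup.mem_centralizer_iff]
      intro o ho
      apply Subtype.ext
      have := hcomm (o : G) ⟨o, ho, rfl⟩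
      simpa using this.symm
    exact ⟨⟨h, hh⟩, hchar hc, rfl⟩
  · intro A hAN hA2 hNA
    have hAn : (A.subgroupOf N).Normal := by
      constructor
      intro a ha g
      rw [Subgroup.mem_subgroupOf] at ha ⊢
      have hg := hNA g.2
      rw [Subgroup.mem_normalizer_iff] at hg
      have := (hg (a : G)).1 ha
      simpa using this
    have hA2' : IsPGroup 2 ↥(A.subgroupOf N) :=
      hA2.comap_of_injective N.subtype N.subtype_injective
    have hle := Cfsg.Agent.Lib.Helper84.le_pCore hAn hA2'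
    intro a ha
    exact ⟨⟨a, hAN ha⟩, hle (Subgroup.mem_subgroupOf.2 ha), rfl⟩

end Cfsg.Agent.Lib.Helper84.N57
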