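import Mathlib
import Cfsg.Prelude.Def_ClassicalGeometry
import Cfsg.Agent.Lib.Helper4.NdDefs
import Cfsg.Agent.Lib.Helper34.NdA2
import Cfsg.Agent.Lib.Helper99.NdA3
import Cfsg.Agent.Lib.Helper68.NdA4

/-! ND-A7 (unip_main) of the S5956 hive (helper4): assembly of ND-A2, ND-A3, ND-A4, ND-A4b and an
own copy `a7_good_iSup` of ND-G3. -/

set_option autoImplicit false
open Matrix
open Cfsg.Agent.Lib.Helper99 (Nd dker sympB)

namespace Cfsg.Agent.Lib.Helper4.NdH

universe u v

variable {F : Type u} [Field F] {V : Type v} [AddCommGroup V] [Module F V]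

/-- own copy of ND-G3 : an orthogonal sum of nondegenerate invariant subspaces. -/
theorem a7_good_iSup [FiniteDimensional F V] (B : V →ₗ[F] V →ₗ[F] F) (g : V →ₗ[F] V)
    {t : ℕ} (P : Fin t → Submodule F V) (hind : iSupIndep P)
    (hperp : ∀ j j', j ≠ j' → Perp B (P j) (P j')) (hnd : ∀ j, Nd B (P j)) (hinv : ∀ j, Inv g (P j))
    (J : Finset (Fin t)) : Good B g (∑ j ∈ J, Module.finrank F (P j)) := by
  classical
  refine ⟨⨆ j ∈ J, P j, a3_finrank_biSup P hind J, ?_, ?_⟩
  · intro u hu hu'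
    obtain ⟨μ, rfl⟩ := (Submodule.mem_iSup_finset_iff_exists_sum P u).mp hu
    apply Finset.sum_eq_zero
    intro k hk
    have hPk : P k ≤ ⨆ j ∈ J, P j := le_biSup P hk
    apply hnd k (μ k) (μ k).2
    intro w hw
    have h1 := hu' w (hPk hw)
    rw [map_sum, LinearMap.sum_apply, Finset.sum_eq_single k] at h1
    · exact h1
    · intro j _ hjk
      exact hperp j k hjk (μ j) (μ j).2 w hw
    · intro hk'
      exact absurd hk hk'
  · intro w hw
    have hmap : (⨆ j ∈ J, P j).map g ≤ ⨆ j ∈ J, P j := by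
      rw [Submodule.map_iSup]
      apply iSup_le
      intro j
      rw [Submodule.map_iSup]
      apply iSup_le
      intro hj
      refine le_trans ?_ (le_biSup P hj)
      rintro _ ⟨x, hx, rfl⟩
      exact hinv j x hx
    exact hmap ⟨w, hw, rfl⟩

/-- the dimensions of an independent family with supremum `⊤` add up to `finrank V`. -/
theorem a7_sum_finrank [FiniteDimensional F V] {t : ℕ} (P : Fin t → Submodule F V)
    (hind : iSupIndep P) (htop : iSup P = ⊤) :
    ∑ j, Module.finrank F (P j) = Module.finrank F V := by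
  classical
  have hint : DirectSum.IsInternal P :=
    DirectSum.isInternal_submodule_of_iSupIndep_of_iSup_eq_top hind htop
  have e := LinearEquiv.ofBijective (DirectSum.coeLinearMap P) hint
  rw [← e.finrank_eq, Module.finrank_directSum]

/-- ND-A7 (MAIN, from A2, A3, A4, A4b, G3) -/
theorem unip_main [FiniteDimensional F V] (h2 : (2 : F) ≠ 0) (B : V →ₗ[F] V →ₗ[F] F)
    (hB : Alt B) (hV : Nd B ⊤) (u : V →ₗ[F] V) (hu : Isom B u) (K : ℕ)
    (hK : (u - 1 : Module.End F V) ^ K = 0) :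
    ∃ μ : Multiset ℕ, (∀ a ∈ μ, 0 < a ∧ a ≤ K) ∧ Adm μ ∧ μ.sum = Module.finrank F V ∧
      HasType (u - 1 : Module.End F V) μ ∧ ∀ ν ≤ μ, Adm ν → Good B u ν.sum := by
  obtain ⟨t, P, e, hP, heK⟩ := exists_pieces h2 B hB hV u hu K hK
  obtain ⟨hT, hdim, hnd⟩ := pieces_facts B hB hV u K hK hP
  obtain ⟨hadm, hsum, hmem⟩ := adm_sum_pc e
  refine ⟨∑ j, pc (e j), ?_, hadm, ?_, hT, ?_⟩
  · intro a ha
    obtain ⟨j, rfl⟩ := hmem a ha
    exact ⟨hP.pos j, heK j⟩
  · rw [hsum Finset.univ, ← a7_sum_finrank P hP.indep hP.top]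
    exact Finset.sum_congr rfl (fun j _ => (hdim j).symm)
  · intro ν hν hνadm
    obtain ⟨J, rfl⟩ := exists_subfamily e ν hν hνadm
    rw [hsum J]
    have h := a7_good_iSup B u P hP.indep hP.perp hnd hP.inv J
    have hEq : ∑ j ∈ J, Module.finrank F (P j) = ∑ j ∈ J, pdim (e j) :=
      Finset.sum_congr rfl (fun j _ => hdim j)
    rwa [hEq] at h

end Cfsg.Agent.Lib.Helper4.NdH
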