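import Mathlib
import Cfsg.Prelude.Def_ClassicalGeometry
import Cfsg.Agent.Lib.Helper4.NdDefs
import Cfsg.Agent.Lib.Helper36.AltEven

set_option autoImplicit false
open Matrix
open Cfsg.Agent.Lib.Helper99 (Nd dker sympB)

namespace Cfsg.Agent.Lib.Helper4.NdH

universe u v

variable {F : Type u} [Field F] {V : Type v} [AddCommGroup V] [Module F V]

/-- an alternating bilinear form has even rank -/
theorem b2_even_rank_of_alt {W : Type*} [AddCommGroup W] [Module F W] [FiniteDimensional F W]
    (γ : LinearMap.BilinForm F W) (hγ : γ.IsAlt) :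
    Even (Module.finrank F W - Module.finrank F (LinearMap.ker γ)) := by
  obtain ⟨C, hC⟩ := (LinearMap.ker γ).exists_isCompl
  have hfr := Submodule.finrank_add_eq_of_isCompl hC
  have hCe : Even (Module.finrank F C) := by
    apply Cfsg.Agent.Lib.Helper36.even_finrank_of_isAlt_nondegenerate (γ.restrict C)
    · intro v
      exact hγ v
    · have hsep : ∀ v : C, (∀ w : C, γ v w = 0) → v = 0 := by
        intro v hv
        have hvK : (v : W) ∈ LinearMap.ker γ := by
          rw [LinearMap.mem_ker]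
          apply LinearMap.ext
          intro z
          have hz : z ∈ LinearMap.ker γ ⊔ C := by rw [hC.sup_eq_top]; trivial
          obtain ⟨k, hk, c, hc, rfl⟩ := Submodule.mem_sup.mp hz
          rw [map_add, hv ⟨c, hc⟩, add_zero]
          have h1 : γ k (v : W) = 0 := by
            rw [LinearMap.mem_ker] at hk
            rw [hk]; rfl
          have h2 := hγ.neg_eq k (v : W)
          rw [h1, neg_zero] at h2
          rw [← h2]; rfl
        have : (v : W) ∈ LinearMap.ker γ ⊓ C := ⟨hvK, v.2⟩
        rw [hC.inf_eq_bot, Submodule.mem_bot] at this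
        exact Subtype.ext this
      refine ⟨fun v hv => hsep v hv, fun v hv => hsep v (fun w => ?_)⟩
      have h1 : (γ.restrict C) w v = 0 := hv w
      have h2 := hγ.neg_eq (v : W) (w : W)
      have h3 : γ (w : W) (v : W) = 0 := h1
      rw [h3] at h2
      exact neg_eq_zero.mp h2
  have : Module.finrank F W - Module.finrank F (LinearMap.ker γ) = Module.finrank F C := by omega
  rw [this]; exact hCe

theorem b2_four_dvd [FiniteDimensional F V] (B : V →ₗ[F] V →ₗ[F] F) (hB : Alt B)
    (N : V →ₗ[F] V) (hNN : ∀ v, N (N v) = 0) (hNalt : ∀ v, B (N v) v = 0)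
    (hker : ∀ u v, N u = 0 → N v = 0 → B u v = 0)
    (W : Submodule F V) (hW : Nd B W) (hinv : ∀ w ∈ W, N w ∈ W) :
    4 ∣ Module.finrank F W := by
  classical
  have hBalt : LinearMap.BilinForm.IsAlt (B : LinearMap.BilinForm F V) := fun v => hB v
  set B' : LinearMap.BilinForm F W := LinearMap.BilinForm.restrict B W with hB'
  have hB'alt : B'.IsAlt := fun v => hB (v : V)
  have hsep : ∀ v : W, (∀ w : W, B' v w = 0) → v = 0 := by
    intro v hv
    apply Subtype.ext
    exact hW v v.2 (fun w hw => hv ⟨w, hw⟩)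
  have hnd' : B'.Nondegenerate := by
    refine ⟨fun v hv => hsep v hv, fun v hv => hsep v (fun w => ?_)⟩
    have h2 := hB'alt.neg_eq v w
    rw [hv w] at h2
    exact neg_eq_zero.mp h2
  set NW : W →ₗ[F] W := N.restrict hinv with hNW
  have hNWapp : ∀ w : W, ((NW w : W) : V) = N (w : V) := fun w => rfl
  -- isotropic bound
  have hiso : LinearMap.ker NW ≤ B'.orthogonal (LinearMap.ker NW) := by
    intro k hk
    rw [LinearMap.BilinForm.mem_orthogonal_iff]
    intro k' hk'
    rw [LinearMap.mem_ker] at hk hk'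
    have h1 : N (k : V) = 0 := by rw [← hNWapp, hk]; rfl
    have h2 : N (k' : V) = 0 := by rw [← hNWapp, hk']; rfl
    exact hker _ _ h2 h1
  have horth := LinearMap.BilinForm.finrank_orthogonal hnd' (LinearMap.ker NW)
  have hle1 := Submodule.finrank_mono hiso
  -- range ≤ ker
  have hrk : LinearMap.range NW ≤ LinearMap.ker NW := by
    rintro _ ⟨w, rfl⟩
    rw [LinearMap.mem_ker]
    apply Subtype.ext
    rw [hNWapp, hNWapp, hNN]; rfl
  have hle2 := Submodule.finrank_mono hrk
  have hrn := LinearMap.finrank_range_add_finrank_ker NW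
  -- alternating form
  set γ : LinearMap.BilinForm F W := B'.comp NW LinearMap.id with hγ
  have hγapp : ∀ v w : W, γ v w = B (N (v : V)) (w : V) := fun v w => rfl
  have hγalt : γ.IsAlt := fun v => by rw [hγapp]; exact hNalt _
  have hkerγ : LinearMap.ker γ = LinearMap.ker NW := by
    ext v
    rw [LinearMap.mem_ker, LinearMap.mem_ker]
    constructor
    · intro h
      apply hsep
      intro w
      have : γ v w = 0 := by rw [h]; rfl
      exact this
    · intro h
      apply LinearMap.ext
      intro w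
      rw [hγapp, ← hNWapp, h]
      simp
  have hev := b2_even_rank_of_alt γ hγalt
  rw [hkerγ] at hev
  have hkle := Submodule.finrank_le (LinearMap.ker NW)
  obtain ⟨c, hc⟩ := hev
  omega

/-- the fixed-point-free involution `i ↦ i ± 1` of `Fin d`, `d` even -/
def b2_tau (d : ℕ) (hde : Even d) (i : Fin d) : Fin d :=
  ⟨if i.val % 2 = 0 then i.val + 1 else i.val - 1, by
    obtain ⟨k, hk⟩ := hde
    have := i.2
    split_ifs <;> omega⟩

theorem b2_tau_tau (d : ℕ) (hde : Even d) (i : Fin d) : b2_tau d hde (b2_tau d hde i) = i := by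
  apply Fin.ext
  unfold b2_tau
  simp only
  split_ifs <;> omega

theorem b2_tau_ne (d : ℕ) (hde : Even d) (i : Fin d) : b2_tau d hde i ≠ i := by
  intro h
  have := congrArg Fin.val h
  unfold b2_tau at this
  simp only at this
  split_ifs at this <;> omega

/-- the permutation matrix of `b2_tau` -/
def b2_A (F : Type u) [Field F] (d : ℕ) (hde : Even d) : Matrix (Fin d) (Fin d) F :=
  Matrix.of fun i j => if b2_tau d hde i = j then (1 : F) else 0

theorem b2_A_transpose (d : ℕ) (hde : Even d) : (b2_A F d hde)ᵀ = b2_A F d hde := by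
  ext i j
  simp only [b2_A, Matrix.transpose_apply, Matrix.of_apply]
  by_cases h : b2_tau d hde j = i
  · have : b2_tau d hde i = j := by rw [← h, b2_tau_tau]
    rw [if_pos h, if_pos this]
  · have : ¬ b2_tau d hde i = j := by
      intro h'
      apply h
      rw [← h', b2_tau_tau]
    rw [if_neg h, if_neg this]

/-- the bad involution as a matrix -/
def b2_X (F : Type u) [Field F] (d : ℕ) (hde : Even d) :
    Matrix (Fin d ⊕ Fin d) (Fin d ⊕ Fin d) F :=
  Matrix.fromBlocks 1 (b2_A F d hde) 0 1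

theorem b2_X_mem (d : ℕ) (hde : Even d) : b2_X F d hde ∈ Matrix.symplecticGroup (Fin d) F := by
  rw [SymplecticGroup.mem_iff]
  unfold b2_X Matrix.J
  rw [Matrix.fromBlocks_transpose, Matrix.fromBlocks_multiply, Matrix.fromBlocks_multiply]
  simp [b2_A_transpose]

theorem b2_X_sq (h2 : (2 : F) = 0) (d : ℕ) (hde : Even d) : b2_X F d hde * b2_X F d hde = 1 := by
  unfold b2_X
  rw [Matrix.fromBlocks_multiply]
  have : b2_A F d hde + b2_A F d hde = 0 := by
    rw [← two_smul F, h2, zero_smul]
  simp [this]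

theorem b2_X_ne (d : ℕ) (hd : 1 ≤ d) (hde : Even d) (z : F) :
    b2_X F d hde ≠ z • (1 : Matrix (Fin d ⊕ Fin d) (Fin d ⊕ Fin d) F) := by
  intro h
  have := congrFun (congrFun h (Sum.inl ⟨0, hd⟩)) (Sum.inr (b2_tau d hde ⟨0, hd⟩))
  simp [b2_X, b2_A] at this

theorem b2_X_mulVec_inl (d : ℕ) (hde : Even d) (w : Fin d ⊕ Fin d → F) (i : Fin d) :
    (b2_X F d hde *ᵥ w) (Sum.inl i) = w (Sum.inl i) + w (Sum.inr (b2_tau d hde i)) := by
  unfold b2_X
  rw [Matrix.fromBlocks_mulVec]
  simp [b2_A, Matrix.mulVec, dotProduct]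

theorem b2_X_mulVec_inr (d : ℕ) (hde : Even d) (w : Fin d ⊕ Fin d → F) (i : Fin d) :
    (b2_X F d hde *ᵥ w) (Sum.inr i) = w (Sum.inr i) := by
  unfold b2_X
  rw [Matrix.fromBlocks_mulVec]
  simp


theorem b2_sum_invol (h2 : (2 : F) = 0) (d : ℕ) (hde : Even d) (f : Fin d → F)
    (hf : ∀ i, f (b2_tau d hde i) = f i) : ∑ i, f i = 0 := by
  apply Finset.sum_involution (fun i _ => b2_tau d hde i)
  · intro i _
    rw [hf, ← two_mul, h2, zero_mul]
  · intro i _ _
    exact b2_tau_ne d hde i
  · intro i _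
    exact Finset.mem_univ _
  · intro i _
    exact b2_tau_tau d hde i

/-- ND-B2 -/
theorem exists_bad_invol (h2 : (2 : F) = 0) (d : ℕ) (hd : 1 ≤ d) (hde : Even d) (m : ℕ)
    (hm : m % 4 = 2) :
    ∃ x : Matrix.symplecticGroup (Fin d) F, x * x = 1 ∧
      (∀ z : F, (x : Matrix (Fin d ⊕ Fin d) (Fin d ⊕ Fin d) F) ≠
        z • (1 : Matrix (Fin d ⊕ Fin d) (Fin d ⊕ Fin d) F)) ∧
      ¬ Good (sympB (F := F) d)
        (Matrix.toLin' (x : Matrix (Fin d ⊕ Fin d) (Fin d ⊕ Fin d) F)) m := by
  refine ⟨⟨b2_X F d hde, b2_X_mem d hde⟩, ?_, ?_, ?_⟩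
  · apply Subtype.ext
    exact b2_X_sq h2 d hde
  · intro z
    exact b2_X_ne d hd hde z
  · rintro ⟨W, hWm, hWnd, hWinv⟩
    set N : (Fin d ⊕ Fin d → F) →ₗ[F] (Fin d ⊕ Fin d → F) :=
      Matrix.toLin' (b2_X F d hde) - 1 with hN
    have hNl : ∀ w i, N w (Sum.inl i) = w (Sum.inr (b2_tau d hde i)) := by
      intro w i
      rw [hN, LinearMap.sub_apply, Matrix.toLin'_apply, Pi.sub_apply, b2_X_mulVec_inl]
      simp
    have hNr : ∀ w i, N w (Sum.inr i) = 0 := by
      intro w i
      rw [hN, LinearMap.sub_apply, Matrix.toLin'_apply, Pi.sub_apply, b2_X_mulVec_inr]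
      simp
    have hzero : ∀ w, N w = 0 → ∀ j, w (Sum.inr j) = 0 := by
      intro w hw j
      have := hNl w (b2_tau d hde j)
      rw [hw, b2_tau_tau] at this
      exact this.symm
    have h4 : 4 ∣ Module.finrank F W := by
      apply b2_four_dvd (sympB (F := F) d) (fun v => Cfsg.Agent.Lib.Helper99.sympB_self d v) N
      · intro w
        ext i
        rcases i with i | i
        · rw [hNl, hNr]; rfl
        · rw [hNr]; rfl
      · intro w
        rw [Cfsg.Agent.Lib.Helper99.sympB_apply, Cfsg.Agent.Lib.Helper99.sympForm_expand]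
        apply b2_sum_invol h2 d hde
        intro i
        rw [hNr, hNr, hNl, hNl, b2_tau_tau]
        ring
      · intro a b ha hb
        rw [Cfsg.Agent.Lib.Helper99.sympB_apply, Cfsg.Agent.Lib.Helper99.sympForm_expand]
        apply Finset.sum_eq_zero
        intro i _
        rw [hzero a ha, hzero b hb]
        ring
      · exact hWnd
      · intro w hw
        have : N w = Matrix.toLin' (b2_X F d hde) w - w := by
          rw [hN, LinearMap.sub_apply]; rfl
        rw [this]
        exact W.sub_mem (hWinv w hw) hw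
    rw [hWm] at h4
    omega

end Cfsg.Agent.Lib.Helper4.NdH
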