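import Cfsg.Agent.Lib.Helper33.NormP
import Cfsg.Agent.Lib.Helper33.SylowSub

set_option autoImplicit false
set_option linter.style.haveILetI false
set_option linter.unusedSectionVars false

namespace Cfsg.Agent.Lib.Helper33

open Subgroup MulAction

section pgroup

variable {E : Type*} [Group E] [Finite E] {p : ℕ} [hp : Fact p.Prime]

/-- A proper subgroup of a finite `p`-group lies in a normal subgroup of index `p`. -/
theorem exists_normal_index_p_ge (hE : IsPGroup p E) (H : Subgroup E) (hH : H ≠ ⊤) :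
    ∃ E₁ : Subgroup E, E₁.Normal ∧ E₁.index = p ∧ H ≤ E₁ := by
  obtain ⟨k, hk⟩ := IsPGroup.iff_card.mp hE
  obtain ⟨n, hn⟩ := IsPGroup.iff_card.mp (hE.to_subgroup H)
  have hlt : n < k := by
    have h1 : Nat.card H < Nat.card E := by
      by_contra hc
      have hge : Nat.card E ≤ Nat.card H := Nat.le_of_not_lt hc
      exact hH (Subgroup.eq_top_of_card_eq H (le_antisymm (Subgroup.card_le_card_group H) hge))
    rw [hn, hk] at h1
    exact (Nat.pow_lt_pow_iff_right hp.out.one_lt).mp h1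
  obtain ⟨E₁, hE₁c, hHE₁⟩ := Sylow.exists_subgroup_card_pow_prime_le p (n := n) (m := k - 1)
    (by rw [hk]; exact pow_dvd_pow p (Nat.sub_le k 1)) H hn (by omega)
  have hidx : E₁.index = p := by
    have h1 := E₁.card_mul_index
    rw [hE₁c, hk] at h1
    have hk1 : k = (k - 1) + 1 := by omega
    have h2 : p ^ k = p ^ (k - 1) * p := by rw [← pow_succ, ← hk1]
    rw [h2] at h1
    exact Nat.eq_of_mul_eq_mul_left (pow_pos hp.out.pos _) h1
  refine ⟨E₁, ?_, hidx, hHE₁⟩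
  apply Subgroup.normal_of_index_eq_minFac_card
  rw [hidx, hk]
  exact (Nat.Prime.pow_minFac hp.out (by omega)).symm

variable {E₁ : Subgroup E} [hn : E₁.Normal]

theorem orderOf_mk_eq (hidx : E₁.index = p) {h : E} (hh : h ∉ E₁) :
    orderOf (QuotientGroup.mk h : E ⧸ E₁) = p := by
  have hcard : Nat.card (E ⧸ E₁) = p := by rw [← Subgroup.index_eq_card, hidx]
  apply orderOf_eq_prime
  · rw [← hcard]; exact pow_card_eq_one'
  · intro h1
    exact hh ((QuotientGroup.eq_one_iff h).mp h1)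

theorem exists_pow_mul_mem (hidx : E₁.index = p) {h : E} (hh : h ∉ E₁) (e : E) :
    ∃ a < p, (h ^ a)⁻¹ * e ∈ E₁ := by
  classical
  have hcard : Nat.card (E ⧸ E₁) = p := by rw [← Subgroup.index_eq_card, hidx]
  have hne : (QuotientGroup.mk h : E ⧸ E₁) ≠ 1 := fun h1 => hh ((QuotientGroup.eq_one_iff h).mp h1)
  have htop := zpowers_eq_top_of_prime_card hcard hne
  have hmem : (QuotientGroup.mk e : E ⧸ E₁) ∈ zpowers (QuotientGroup.mk h : E ⧸ E₁) := by
    rw [htop]; exact Subgroup.mem_top _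
  rw [mem_zpowers_iff_mem_range_orderOf, orderOf_mk_eq hidx hh] at hmem
  obtain ⟨a, ha, hae⟩ := Finset.mem_image.mp hmem
  refine ⟨a, Finset.mem_range.mp ha, ?_⟩
  rw [← QuotientGroup.eq_one_iff, QuotientGroup.mk_mul, QuotientGroup.mk_inv, QuotientGroup.mk_pow,
    ← hae, inv_mul_cancel]

theorem pow_eq_of_mem (hidx : E₁.index = p) {h : E} (hh : h ∉ E₁) {a b : ℕ} (ha : a < p)
    (hb : b < p) (hab : (h ^ b)⁻¹ * h ^ a ∈ E₁) : a = b := by
  have h1 : (QuotientGroup.mk h : E ⧸ E₁) ^ a = (QuotientGroup.mk h : E ⧸ E₁) ^ b := by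
    have := (QuotientGroup.eq_one_iff _).mpr hab
    rw [QuotientGroup.mk_mul, QuotientGroup.mk_inv, QuotientGroup.mk_pow, QuotientGroup.mk_pow,
      inv_mul_eq_one] at this
    exact this.symm
  have ho := orderOf_mk_eq hidx hh
  apply pow_injOn_Iio_orderOf (x := (QuotientGroup.mk h : E ⧸ E₁))
  · rw [ho]; exact ha
  · rw [ho]; exact hb
  · exact h1

end pgroup

section BL

variable {E : Type*} [Group E] [Finite E] {p : ℕ} [hp : Fact p.Prime] {Ω : Type*} [MulAction E Ω]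
  [Fintype Ω] {A : Type*} [CommGroup A]

open Classical in
/-- The product over a non-trivial orbit vanishes. -/
theorem prod_orbit_eq_one (hE : IsPGroup p E) (gens : Set E) (hgen : Subgroup.closure gens = ⊤)
    (F : Ω → A) (hF : ∀ h ∈ gens, ∀ ω, ∏ a ∈ Finset.range p, F (h ^ a • ω) = 1) (ω : Ω)
    (hω : ∃ e : E, e • ω ≠ ω) :
    ∏ ω' ∈ Finset.univ.filter (fun ω' => ω' ∈ MulAction.orbit E ω), F ω' = 1 := by
  classical
  have hstab : MulAction.stabilizer E ω ≠ ⊤ := by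
    intro h
    obtain ⟨e, he⟩ := hω
    apply he
    have : e ∈ MulAction.stabilizer E ω := h ▸ Subgroup.mem_top e
    exact this
  obtain ⟨E₁, hE₁n, hidx, hle⟩ := exists_normal_index_p_ge hE _ hstab
  haveI := hE₁n
  obtain ⟨h, hhg, hhE₁⟩ : ∃ h ∈ gens, h ∉ E₁ := by
    by_contra hcon
    have hsub : gens ⊆ (E₁ : Set E) := by
      intro x hx
      by_contra hx1
      exact hcon ⟨x, hx, hx1⟩
    have h1 : (⊤ : Subgroup E) ≤ E₁ := hgen ▸ (Subgroup.closure_le E₁).mpr hsub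
    have h2 : E₁ = ⊤ := top_le_iff.mp h1
    rw [h2, Subgroup.index_top] at hidx
    exact hp.out.one_lt.ne hidx
  obtain ⟨o₀, ho₀⟩ : ∃ o₀ : Finset Ω,
      o₀ = Finset.univ.filter (fun ω' => ∃ e ∈ E₁, e • ω = ω') := ⟨_, rfl⟩
  have hmem₀ : ∀ ω', ω' ∈ o₀ ↔ ∃ e ∈ E₁, e • ω = ω' := by
    intro ω'; rw [ho₀]; simp
  have hdecomp : Finset.univ.filter (fun ω' => ω' ∈ MulAction.orbit E ω) =
      (Finset.range p).biUnion (fun a => o₀.image (fun ω' => h ^ a • ω')) := by
    ext ω'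
    simp only [Finset.mem_filter, Finset.mem_univ, true_and, Finset.mem_biUnion, Finset.mem_range,
      Finset.mem_image]
    constructor
    · rintro ⟨e, rfl⟩
      obtain ⟨a, ha, hmem⟩ := exists_pow_mul_mem hidx hhE₁ e
      refine ⟨a, ha, ((h ^ a)⁻¹ * e) • ω, (hmem₀ _).mpr ⟨_, hmem, rfl⟩, ?_⟩
      rw [← mul_smul, mul_inv_cancel_left]
    · rintro ⟨a, _, ω'', hω'', rfl⟩
      obtain ⟨e, _, rfl⟩ := (hmem₀ _).mp hω''
      exact ⟨h ^ a * e, mul_smul _ _ _⟩
  have hdisj : ((Finset.range p : Finset ℕ) : Set ℕ).PairwiseDisjoint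
      (fun a => o₀.image (fun ω' => h ^ a • ω')) := by
    intro a ha b hb hab
    rw [Function.onFun, Finset.disjoint_left]
    intro ω' h1 h2
    apply hab
    obtain ⟨ω₁, hω₁, rfl⟩ := Finset.mem_image.mp h1
    obtain ⟨ω₂, hω₂, h3⟩ := Finset.mem_image.mp h2
    obtain ⟨e₁, he₁, rfl⟩ := (hmem₀ _).mp hω₁
    obtain ⟨e₂, he₂, rfl⟩ := (hmem₀ _).mp hω₂
    have h4 : (e₁⁻¹ * ((h ^ a)⁻¹ * h ^ b) * e₂) ∈ MulAction.stabilizer E ω := by
      rw [MulAction.mem_stabilizer_iff]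
      have h5 : h ^ b • e₂ • ω = h ^ a • e₁ • ω := h3
      rw [mul_smul, mul_smul, mul_smul, h5, ← mul_smul (h ^ a)⁻¹, inv_mul_cancel, one_smul,
        ← mul_smul, inv_mul_cancel, one_smul]
    have h6 := hle h4
    have h7 : (h ^ a)⁻¹ * h ^ b ∈ E₁ := by
      have := E₁.mul_mem (E₁.mul_mem he₁ h6) (E₁.inv_mem he₂)
      have e : e₁ * (e₁⁻¹ * ((h ^ a)⁻¹ * h ^ b) * e₂) * e₂⁻¹ = (h ^ a)⁻¹ * h ^ b := by group
      rwa [e] at this
    exact (pow_eq_of_mem hidx hhE₁ (Finset.mem_range.mp (Finset.mem_coe.mp hb))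
      (Finset.mem_range.mp (Finset.mem_coe.mp ha)) h7).symm
  rw [hdecomp, Finset.prod_biUnion hdisj]
  have h8 : ∀ a ∈ Finset.range p, ∏ ω' ∈ o₀.image (fun ω' => h ^ a • ω'), F ω' =
      ∏ ω' ∈ o₀, F (h ^ a • ω') := by
    intro a _
    exact Finset.prod_image (fun x _ y _ hxy => MulAction.injective (h ^ a) hxy)
  rw [Finset.prod_congr rfl h8, Finset.prod_comm]
  apply Finset.prod_eq_one
  intro ω' _
  exact hF h hhg ω'

open Classical in
/-- Only the fixed points contribute. -/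
theorem prod_eq_prod_fixed (hE : IsPGroup p E) (gens : Set E)
    (hgen : Subgroup.closure gens = ⊤) (F : Ω → A)
    (hF : ∀ h ∈ gens, ∀ ω, ∏ a ∈ Finset.range p, F (h ^ a • ω) = 1) :
    ∀ (n : ℕ) (Ω' : Finset Ω), Ω'.card = n → (∀ e : E, ∀ ω ∈ Ω', e • ω ∈ Ω') →
      ∏ ω ∈ Ω', F ω = ∏ ω ∈ Ω'.filter (fun ω => ∀ e : E, e • ω = ω), F ω := by
  classical
  intro n
  induction n using Nat.strong_induction_on with
  | _ n ih =>
  intro Ω' hn hinv
  by_cases hfix : ∀ ω ∈ Ω', ∀ e : E, e • ω = ω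
  · rw [Finset.filter_true_of_mem hfix]
  obtain ⟨ω, hωΩ, e, he⟩ : ∃ ω ∈ Ω', ∃ e : E, e • ω ≠ ω := by
    by_contra hcon
    apply hfix
    intro ω hω e
    by_contra h1
    exact hcon ⟨ω, hω, e, h1⟩
  obtain ⟨o, ho⟩ : ∃ o : Finset Ω,
      o = Finset.univ.filter (fun ω' => ω' ∈ MulAction.orbit E ω) := ⟨_, rfl⟩
  have hmo : ∀ ω', ω' ∈ o ↔ ω' ∈ MulAction.orbit E ω := by intro ω'; rw [ho]; simp
  have hoΩ : o ⊆ Ω' := by
    intro ω' hω'
    obtain ⟨e', rfl⟩ := (hmo ω').mp hω'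
    exact hinv e' ω hωΩ
  have hωo : ω ∈ o := (hmo ω).mpr (MulAction.mem_orbit_self ω)
  have hcard : (Ω' \ o).card < n := by
    rw [← hn]
    apply Finset.card_lt_card
    refine ⟨Finset.sdiff_subset, ?_⟩
    intro h1
    have := h1 hωΩ
    rw [Finset.mem_sdiff] at this
    exact this.2 hωo
  have hinv' : ∀ e : E, ∀ ω' ∈ Ω' \ o, e • ω' ∈ Ω' \ o := by
    intro e' ω' hω'
    rw [Finset.mem_sdiff] at hω' ⊢
    refine ⟨hinv e' ω' hω'.1, ?_⟩
    intro h1
    apply hω'.2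
    rw [hmo] at h1 ⊢
    have := MulAction.mem_orbit_of_mem_orbit e'⁻¹ h1
    rwa [inv_smul_smul] at this
  have h1 := ih _ hcard (Ω' \ o) rfl hinv'
  have h2 : ∏ ω' ∈ o, F ω' = 1 := by
    rw [ho]; exact prod_orbit_eq_one hE gens hgen F hF ω ⟨e, he⟩
  rw [← Finset.prod_sdiff hoΩ, h2, mul_one, h1]
  apply Finset.prod_congr _ (fun _ _ => rfl)
  ext ω'
  simp only [Finset.mem_filter, Finset.mem_sdiff]
  constructor
  · rintro ⟨⟨h3, _⟩, h4⟩
    exact ⟨h3, h4⟩
  · rintro ⟨h3, h4⟩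
    refine ⟨⟨h3, ?_⟩, h4⟩
    intro h5
    obtain ⟨e', he'⟩ := (hmo ω').mp h5
    apply he
    have h6 : ω = e'⁻¹ • ω' := by rw [← he', inv_smul_smul]
    have h7 : ω = ω' := by rw [h6, h4]
    rw [h7]; exact h4 e

end BL

section CL

variable {G : Type*} [Group G] [Finite G] {p : ℕ} [hp : Fact p.Prime]

open Classical in
/-- **Core lemma.** If `C` is the unique maximal subgroup over the Sylow subgroup `S`, and `F` is a
function on `G / C` whose `p`-step products along the conjugates (in `S`) of some element of `S`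
outside every normal `p`-subgroup vanish, then the product of `F` over `G / C` is its value at the
trivial coset. -/
theorem core_lemma (S : Sylow p G) (C : Subgroup G) (hSC : (S : Subgroup G) ≤ C)
    (hmax : ∀ H : Subgroup G, (S : Subgroup G) ≤ H → H ≠ ⊤ → H ≤ C)
    (𝔈 : Set G) (h𝔈 : ∀ x ∈ 𝔈, ∀ s : G, s * x * s⁻¹ ∈ 𝔈) (g : G) (hg𝔈 : g ∈ 𝔈)
    (hgS : g ∈ (S : Subgroup G))
    (hgQ : ∀ N : Subgroup G, N.Normal → IsPGroup p N → g ∉ N)
    {A : Type*} [CommGroup A] [Fintype (G ⧸ C)] (F : G ⧸ C → A)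
    (hF : ∀ h ∈ 𝔈, h ∈ (S : Subgroup G) → ∀ ω : G ⧸ C,
      ∏ a ∈ Finset.range p, F (h ^ a • ω) = 1) :
    ∏ ω : G ⧸ C, F ω = F ((1 : G) : G ⧸ C) := by
  obtain ⟨E, hEdef⟩ : ∃ E : Subgroup G,
      E = Subgroup.closure (𝔈 ∩ ((S : Subgroup G) : Set G)) := ⟨_, rfl⟩
  have hES : E ≤ (S : Subgroup G) := by
    rw [hEdef, Subgroup.closure_le]; exact Set.inter_subset_right
  have hEp : IsPGroup p E := S.isPGroup'.to_le hES
  -- conjugates of `E` inside `S` are inside `E`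
  have hwc : ∀ t : G, cj t E ≤ (S : Subgroup G) → cj t E = E := by
    intro t ht
    have hle : cj t E ≤ E := by
      rw [cj_le_iff, hEdef, Subgroup.closure_le]
      rintro x ⟨hx𝔈, hxS⟩
      rw [SetLike.mem_coe, mem_cj, inv_inv]
      have h1 : t * x * t⁻¹ ∈ (S : Subgroup G) := by
        apply ht
        apply conj_mem_cj
        rw [hEdef]
        exact Subgroup.subset_closure ⟨hx𝔈, hxS⟩
      exact Subgroup.subset_closure ⟨h𝔈 x hx𝔈 t, h1⟩
    exact Subgroup.eq_of_le_of_card_ge hle (by rw [card_cj])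
  have hSN : (S : Subgroup G) ≤ normalizer (E : Set G) := by
    intro s hs
    apply cj_eq_self_iff.mp
    apply hwc
    have : cj s E ≤ cj s (S : Subgroup G) := cj_mono hES
    rwa [cj_eq_self_of_mem hs] at this
  have hgE : g ∈ E := by rw [hEdef]; exact Subgroup.subset_closure ⟨hg𝔈, hgS⟩
  have hNC : normalizer (E : Set G) ≤ C := by
    apply hmax _ hSN
    intro htop
    haveI : E.Normal := Subgroup.normalizer_eq_top_iff.mp htop
    exact hgQ E inferInstance hEp hgE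
  -- the group `E` acts on `G ⧸ C`
  have hBL := prod_eq_prod_fixed (E := ↥E) (Ω := G ⧸ C) (p := p) hEp
    (((↑) : ↥E → G) ⁻¹' (𝔈 ∩ ((S : Subgroup G) : Set G)))
    (by
      have := Subgroup.closure_closure_coe_preimage (k := 𝔈 ∩ ((S : Subgroup G) : Set G))
      rw [← hEdef] at this
      exact this) F
    (by
      rintro ⟨h, hhE⟩ ⟨hh1, hh2⟩ ω
      exact hF h hh1 hh2 ω) _ Finset.univ rfl (fun _ _ _ => Finset.mem_univ _)
  rw [hBL]
  have hfix : Finset.univ.filter (fun ω : G ⧸ C => ∀ e : ↥E, e • ω = ω) =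
      {((1 : G) : G ⧸ C)} := by
    ext ω
    simp only [Finset.mem_filter, Finset.mem_univ, true_and, Finset.mem_singleton]
    constructor
    · intro hω
      obtain ⟨t, rfl⟩ := QuotientGroup.mk_surjective ω
      -- `t⁻¹ E t ≤ C`
      have h1 : cj t⁻¹ E ≤ C := by
        intro x hx
        rw [mem_cj, inv_inv] at hx
        have h2 := hω ⟨t * x * t⁻¹, hx⟩
        have h3 : ((t * x * t⁻¹ * t : G) : G ⧸ C) = (t : G ⧸ C) := h2
        rw [QuotientGroup.eq] at h3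
        have e : (t * x * t⁻¹ * t)⁻¹ * t = x⁻¹ := by group
        rw [e] at h3
        have := C.inv_mem h3
        rwa [inv_inv] at this
      obtain ⟨c, hc, hcS⟩ := sylow_sub hSC S.isPGroup'
        (by
          intro hdvd
          apply S.not_dvd_index
          exact dvd_trans hdvd (Subgroup.relIndex_dvd_index_of_le hSC))
        h1 (isPGroup_cj hEp)
      rw [← cj_mul] at hcS
      have h4 := cj_eq_self_iff.mp (hwc _ hcS)
      have h5 : c * t⁻¹ ∈ C := hNC h4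
      have h6 : t⁻¹ ∈ C := by
        have := C.mul_mem (C.inv_mem hc) h5
        rwa [inv_mul_cancel_left] at this
      rw [QuotientGroup.eq, mul_one]
      exact h6
    · rintro rfl ⟨e, he⟩
      show ((e * 1 : G) : G ⧸ C) = ((1 : G) : G ⧸ C)
      rw [QuotientGroup.eq, mul_one, mul_one]
      exact C.inv_mem (hSC (hES he))
  rw [hfix, Finset.prod_singleton]

end CL

end Cfsg.Agent.Lib.Helper33
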