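import Mathlib

set_option autoImplicit false
set_option linter.style.haveILetI false
set_option linter.unusedSectionVars false

namespace Cfsg.Agent.Lib.Helper33

open Polynomial in
/-- In characteristic `p`, `1 + X + ⋯ + X^(p-1) = (X - 1)^(p-1)`. -/
theorem geom_sum_X_eq (p : ℕ) [hp : Fact p.Prime] :
    (∑ i ∈ Finset.range p, (X : (ZMod p)[X]) ^ i) = (X - 1) ^ (p - 1) := by
  rw [← cyclotomic_prime (ZMod p) p]
  have h := cyclotomic_mul_prime_pow_eq (ZMod p) (p := p) (m := 1)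
    (by intro h; exact hp.out.one_lt.ne' (Nat.dvd_one.mp h)) (k := 1) one_pos
  rw [pow_one, mul_one, cyclotomic_one, Nat.sub_self, pow_zero] at h
  exact h

/-- If `(ρ - 1)^(p-1) = 0` in characteristic `p` then `1 + ρ + ⋯ + ρ^(p-1) = 0`. -/
theorem geom_sum_eq_zero_of_pow {p : ℕ} [hp : Fact p.Prime] {M : Type*} [AddCommGroup M]
    [Module (ZMod p) M] (ρ : Module.End (ZMod p) M) (h : (ρ - 1) ^ (p - 1) = 0) :
    ∑ i ∈ Finset.range p, ρ ^ i = 0 := by
  have key := congrArg (Polynomial.aeval ρ) (geom_sum_X_eq p)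
  simp only [map_sum, map_pow, map_sub, Polynomial.aeval_X, map_one] at key
  rw [key, h]

/-- Multiplicative form: a `p`-step norm vanishes when `(φ - 1)^(p-1)` does. -/
theorem prod_pow_apply_eq_one {p : ℕ} [hp : Fact p.Prime] {U : Type*} [CommGroup U]
    (hexp : ∀ u : U, u ^ p = 1) (φ : MulAut U)
    (hφ : ∀ u : U, (fun w : U => φ w * w⁻¹)^[p - 1] u = 1) (u : U) :
    ∏ a ∈ Finset.range p, (φ ^ a) u = 1 := by
  have hM : ∀ x : Additive U, p • x = 0 := by
    intro x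
    have h1 := hexp (Additive.toMul x)
    have h2 : p • x = Additive.ofMul ((Additive.toMul x) ^ p) := rfl
    rw [h2, h1]; rfl
  letI inst : Module (ZMod p) (Additive U) := AddCommGroup.zmodModule (n := p) hM
  obtain ⟨ρ, hρ⟩ : ∃ ρ : Module.End (ZMod p) (Additive U),
      ρ = (MonoidHom.toAdditive φ.toMonoidHom).toZModLinearMap p := ⟨_, rfl⟩
  have hρa : ∀ x : Additive U, ρ x = Additive.ofMul (φ (Additive.toMul x)) := by
    intro x; rw [hρ]; rfl
  have hpow : ∀ (a : ℕ) (x : Additive U), (ρ ^ a) x = Additive.ofMul ((φ ^ a) (Additive.toMul x)) := by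
    intro a
    induction a with
    | zero => intro x; rfl
    | succ a ih =>
      intro x
      rw [pow_succ', Module.End.mul_apply, ih, hρa, pow_succ', MulAut.mul_apply]
      rfl
  have hiter : ∀ (k : ℕ) (x : Additive U), ((ρ - 1) ^ k) x =
      Additive.ofMul ((fun w : U => φ w * w⁻¹)^[k] (Additive.toMul x)) := by
    intro k
    induction k with
    | zero => intro x; rfl
    | succ k ih =>
      intro x
      rw [pow_succ', Module.End.mul_apply, ih, Function.iterate_succ_apply']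
      rw [LinearMap.sub_apply, hρa, Module.End.one_apply]
      rw [← div_eq_mul_inv]
      rfl
  have h0 : (ρ - 1) ^ (p - 1) = 0 := by
    apply LinearMap.ext
    intro x
    rw [hiter, hφ]
    rfl
  have hsum := geom_sum_eq_zero_of_pow ρ h0
  have h1 := congrArg (fun f : Module.End (ZMod p) (Additive U) => f (Additive.ofMul u)) hsum
  simp only [LinearMap.sum_apply, LinearMap.zero_apply] at h1
  have h2 : (∑ a ∈ Finset.range p, (ρ ^ a) (Additive.ofMul u)) =
      Additive.ofMul (∏ a ∈ Finset.range p, (φ ^ a) u) := by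
    rw [ofMul_prod]
    apply Finset.sum_congr rfl
    intro a _
    rw [hpow]
    rfl
  rw [h2] at h1
  exact h1

theorem list_map_range_prod {M : Type*} [CommMonoid M] (f : ℕ → M) (n : ℕ) :
    ((List.range n).map f).prod = ∏ i ∈ Finset.range n, f i := by
  induction n with
  | zero => simp
  | succ n ih =>
    rw [List.range_succ, List.map_append, List.prod_append, ih, Finset.prod_range_succ]
    simp

/-- Group form: if `X/Y` is abelian of exponent `p` (`Y ≤ X` normal in `G`) and `(h - 1)^(p-1)` kills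
`X/Y`, then the product of the conjugates `h^a u h^{-a}`, `a < p`, lies in `Y` for `u ∈ X`. -/
theorem list_prod_conj_mem {G : Type*} [Group G] {p : ℕ} [hp : Fact p.Prime] (X Y : Subgroup G)
    [hX : X.Normal] [hY : Y.Normal]
    (hcomm : ∀ a ∈ X, ∀ b ∈ X, a * b * a⁻¹ * b⁻¹ ∈ Y) (hexp : ∀ a ∈ X, a ^ p ∈ Y) (h : G)
    (hh : ∀ u ∈ X, (fun w : G => h * w * h⁻¹ * w⁻¹)^[p - 1] u ∈ Y) (u : G) (hu : u ∈ X) :
    ((List.range p).map (fun a => h ^ a * u * (h ^ a)⁻¹)).prod ∈ Y := by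
  obtain ⟨π, hπ⟩ : ∃ π : G →* G ⧸ Y, π = QuotientGroup.mk' Y := ⟨_, rfl⟩
  have hπs : Function.Surjective π := by rw [hπ]; exact QuotientGroup.mk'_surjective Y
  have hker : ∀ x : G, π x = 1 ↔ x ∈ Y := by
    intro x; rw [hπ]; exact QuotientGroup.eq_one_iff x
  obtain ⟨Xb, hXb⟩ : ∃ Xb : Subgroup (G ⧸ Y), Xb = X.map π := ⟨_, rfl⟩
  haveI hXbn : Xb.Normal := by rw [hXb]; exact Subgroup.Normal.map hX π hπs
  have hXbc : ∀ a ∈ Xb, ∀ b ∈ Xb, a * b = b * a := by
    rw [hXb]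
    rintro _ ⟨a, ha, rfl⟩ _ ⟨b, hb, rfl⟩
    have h1 := (hker _).mpr (hcomm a ha b hb)
    rw [map_mul, map_mul, map_mul, map_inv, map_inv] at h1
    calc π a * π b = (π a * π b * (π a)⁻¹ * (π b)⁻¹) * (π b * π a) := by group
      _ = π b * π a := by rw [h1, one_mul]
  letI : CommGroup ↥Xb :=
    { (inferInstance : Group ↥Xb) with
      mul_comm := fun x y => Subtype.ext (hXbc x x.2 y y.2) }
  have hXbp : ∀ x : ↥Xb, x ^ p = 1 := by
    rintro ⟨x, hx⟩
    apply Subtype.ext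
    rw [hXb] at hx
    obtain ⟨a, ha, rfl⟩ := hx
    show (π a) ^ p = 1
    rw [← map_pow]
    exact (hker _).mpr (hexp a ha)
  obtain ⟨φ, hφ⟩ : ∃ φ : MulAut ↥Xb, φ = MulAut.conjNormal (H := Xb) (π h) := ⟨_, rfl⟩
  have hφa : ∀ w : ↥Xb, ((φ w : ↥Xb) : G ⧸ Y) = π h * (w : G ⧸ Y) * (π h)⁻¹ := by
    intro w; rw [hφ]; exact MulAut.conjNormal_apply _ _
  have hφpow : ∀ (a : ℕ) (w : ↥Xb), (((φ ^ a) w : ↥Xb) : G ⧸ Y) =
      π h ^ a * (w : G ⧸ Y) * (π h ^ a)⁻¹ := by
    intro a w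
    rw [hφ, ← map_pow]
    exact MulAut.conjNormal_apply _ _
  have hiter : ∀ (k : ℕ) (x : G) (hx : x ∈ X),
      (((fun w : ↥Xb => φ w * w⁻¹)^[k] ⟨π x, by rw [hXb]; exact ⟨x, hx, rfl⟩⟩ : ↥Xb) : G ⧸ Y) =
        π ((fun w : G => h * w * h⁻¹ * w⁻¹)^[k] x) := by
    intro k
    induction k with
    | zero => intro x hx; rfl
    | succ k ih =>
      intro x hx
      rw [Function.iterate_succ_apply', Function.iterate_succ_apply']
      obtain ⟨w, hw⟩ : ∃ w : ↥Xb, w = (fun w : ↥Xb => φ w * w⁻¹)^[k]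
        ⟨π x, by rw [hXb]; exact ⟨x, hx, rfl⟩⟩ := ⟨_, rfl⟩
      rw [← hw]
      have h1 : ((φ w * w⁻¹ : ↥Xb) : G ⧸ Y) = π h * (w : G ⧸ Y) * (π h)⁻¹ * (w : G ⧸ Y)⁻¹ := by
        rw [Subgroup.coe_mul, hφa, Subgroup.coe_inv]
      rw [h1, hw, ih x hx]
      simp only [map_mul, map_inv]
  have huX : π u ∈ Xb := by rw [hXb]; exact ⟨u, hu, rfl⟩
  have key := prod_pow_apply_eq_one hXbp φ (by
    rintro ⟨x, hx⟩
    have hx' := hx
    rw [hXb] at hx'
    obtain ⟨a, ha, rfl⟩ := hx'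
    apply Subtype.ext
    rw [hiter (p - 1) a ha]
    exact (hker _).mpr (hh a ha)) ⟨π u, huX⟩
  rw [← hker, map_list_prod, List.map_map]
  have h2 := congrArg (Subtype.val : ↥Xb → G ⧸ Y) key
  rw [← list_map_range_prod] at h2
  have h3 : ((((List.range p).map (fun a => (φ ^ a) ⟨π u, huX⟩)).prod : ↥Xb) : G ⧸ Y) =
      ((List.range p).map (fun a => (((φ ^ a) ⟨π u, huX⟩ : ↥Xb) : G ⧸ Y))).prod := by
    rw [← Subgroup.coe_subtype, map_list_prod, List.map_map]
    rfl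
  rw [h3] at h2
  rw [← h2.trans (OneMemClass.coe_one Xb)]
  congr 1
  apply List.map_congr_left
  intro a _
  rw [hφpow]
  simp only [Function.comp, map_mul, map_inv, map_pow]

end Cfsg.Agent.Lib.Helper33
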