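import Cfsg.Agent.Lib.Helper33.SecCase5
import Cfsg.Agent.Lib.Helper54.PConstr3

set_option autoImplicit false
set_option linter.style.haveILetI false
set_option linter.unusedSectionVars false

universe u

namespace Cfsg.Agent.Lib.Helper33

open Cfsg Subgroup

section general

variable {X Y : Type*} [Group X] [Group Y]

theorem image_rc (f : X →* Y) (y : X) (B : Set X) : f '' (rc y B) = rc (f y) (f '' B) := by
  unfold rc
  rw [Set.image_image, Set.image_image]
  apply Set.image_congr
  intro a _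
  simp only [map_mul, map_inv]

theorem sylow_not_dvd_relIndex [Finite X] {p : ℕ} [Fact p.Prime] (P : Sylow p X) {L : Subgroup X}
    (hPL : (P : Subgroup X) ≤ L) : ¬ p ∣ (P : Subgroup X).relIndex L := by
  intro h
  apply P.not_dvd_index
  rw [← Subgroup.relIndex_mul_index hPL]
  exact Dvd.dvd.mul_right h _

end general

variable {p : ℕ} [Fact p.Prime] {𝓦 : Set (∀ (Q : Type u) [Group Q], Subgroup Q)}
variable {X Y : Type u} [Group X] [Group Y] [Finite X] [Finite Y]

/-- Lifting of chains through a quotient by a normal `p'`-subgroup. -/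
theorem chain_lift_pprime (h𝓦 : ∀ W ∈ 𝓦, IsCharPFunctor.{u} p W) (f : X →* Y)
    (hf : Function.Surjective f) (hker : (Nat.card f.ker).Coprime p) (P : Sylow p X) :
    ∀ (A' : Set Y) (h' : Y), Chain (indFam 𝓦 Y) ⊤ ((P : Subgroup X).map f) A' h' →
      ∀ B : Set X, B ⊆ (P : Subgroup X) → f '' B = A' →
        ∃ h : X, f h = h' ∧ Chain (indFam 𝓦 X) ⊤ (P : Subgroup X) B h := by
  have hinj : ∀ q ∈ (P : Subgroup X), f q = 1 → q = 1 := by
    intro q hq hq1
    obtain ⟨k, hk⟩ := P.isPGroup' ⟨q, hq⟩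
    have hqk : q ^ p ^ k = 1 := by
      have := congrArg Subtype.val hk
      simpa using this
    have h1 : orderOf q ∣ p ^ k := orderOf_dvd_of_pow_eq_one hqk
    have h2 : orderOf q ∣ Nat.card f.ker := by
      have : orderOf (⟨q, MonoidHom.mem_ker.mpr hq1⟩ : f.ker) ∣ Nat.card f.ker :=
        orderOf_dvd_natCard _
      rwa [Subgroup.orderOf_mk] at this
    have h3 : orderOf q = 1 :=
      Nat.eq_one_of_dvd_coprimes (Nat.Coprime.pow_right k hker) h2 h1
    exact orderOf_eq_one_iff.mp h3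
  intro A' h' hch
  induction hch with
  | nil A' =>
    intro B _ _
    exact ⟨1, map_one f, Chain.nil B⟩
  | cons A' y' g' hy hA _ ih =>
    intro B hB hBA
    obtain ⟨W', ⟨W, hW, rfl⟩, hyW⟩ := hy
    have hWc : IsConjugacyFunctor p (inducedFunctor (G := X) W) :=
      isConjugacyFunctor_induced (h𝓦 W hW)
    have hmapW : (inducedFunctor W (P : Subgroup X)).map f =
        inducedFunctor W ((P : Subgroup X).map f) :=
      induced_map_of_injOn (h𝓦 W hW) f (P : Subgroup X) P.isPGroup' hinj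
    have hWP : inducedFunctor W (P : Subgroup X) ≤ (P : Subgroup X) := induced_le _
    have hyW' : y' ∈ normalizer (((inducedFunctor W (P : Subgroup X)).map f : Subgroup Y) : Set Y) := by
      rw [hmapW]; exact hyW.2
    obtain ⟨y₀, hy₀, hfy₀⟩ := Cfsg.Agent.Lib.Helper54.exists_mem_normalizer_map_eq p f hf hker
      (inducedFunctor W (P : Subgroup X)) (P.isPGroup'.to_le hWP) y' hyW'
    obtain ⟨N₀, hN₀⟩ : ∃ N₀ : Subgroup X,
        N₀ = normalizer ((inducedFunctor W (P : Subgroup X) : Subgroup X) : Set X) := ⟨_, rfl⟩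
    have hPN₀ : (P : Subgroup X) ≤ N₀ := by
      rw [hN₀]
      exact Subgroup.le_normalizer.trans (normalizer_le_normalizer_functor hWc P.isPGroup')
    haveI hkn : f.ker.Normal := MonoidHom.normal_ker f
    -- the conjugate lies in `P ker f`
    have hsub1 : rc y₀ B ⊆ ((P : Subgroup X) ⊔ f.ker : Subgroup X) := by
      intro x hx
      have h1 : f x ∈ rc y' A' := by
        rw [← hBA, ← hfy₀, ← image_rc]; exact ⟨x, hx, rfl⟩
      have h2 := hA h1
      rw [SetLike.mem_coe, ← Subgroup.comap_map_eq]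
      exact h2
    obtain ⟨B₁, hB₁⟩ : ∃ B₁ : Subgroup X, B₁ = Subgroup.closure (rc y₀ B) := ⟨_, rfl⟩
    have hB₁cj : B₁ = cj y₀⁻¹ (Subgroup.closure B) := by rw [hB₁, closure_rc]
    have hclB : Subgroup.closure B ≤ (P : Subgroup X) := (Subgroup.closure_le _).mpr hB
    have hB₁p : IsPGroup p B₁ := by
      rw [hB₁cj]; exact isPGroup_cj (P.isPGroup'.to_le hclB)
    obtain ⟨L, hL⟩ : ∃ L : Subgroup X, L = ((P : Subgroup X) ⊔ f.ker) ⊓ N₀ := ⟨_, rfl⟩
    have hB₁L : B₁ ≤ L := by
      rw [hL]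
      refine le_inf ?_ ?_
      · rw [hB₁]; exact (Subgroup.closure_le _).mpr hsub1
      · rw [hB₁cj]
        have : cj y₀⁻¹ N₀ = N₀ := cj_eq_self_of_mem (by rw [hN₀]; exact inv_mem hy₀)
        rw [← this]
        exact cj_mono (hclB.trans hPN₀)
    have hPL : (P : Subgroup X) ≤ L := by rw [hL]; exact le_inf le_sup_left hPN₀
    obtain ⟨c, hc, hcB⟩ := sylow_sub hPL P.isPGroup' (sylow_not_dvd_relIndex P hPL) hB₁L hB₁p
    rw [hL] at hc
    obtain ⟨t, ht, k', hk', htk⟩ := Subgroup.mem_sup_of_normal_right.mp hc.1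
    have hk'N : k' ∈ N₀ := by
      have : k' = t⁻¹ * c := by rw [← htk]; group
      rw [this]
      exact N₀.mul_mem (N₀.inv_mem (hPN₀ ht)) hc.2
    have hk'B : cj k' B₁ ≤ (P : Subgroup X) := by
      have h1 : cj t⁻¹ (cj c B₁) ≤ cj t⁻¹ (P : Subgroup X) := cj_mono hcB
      rw [← cj_mul, cj_eq_self_of_mem (inv_mem ht)] at h1
      have : t⁻¹ * c = k' := by rw [← htk]; group
      rwa [this] at h1
    -- the corrected lift
    obtain ⟨y, hy⟩ : ∃ y : X, y = y₀ * k'⁻¹ := ⟨_, rfl⟩
    have hfy : f y = y' := by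
      rw [hy, map_mul, map_inv, hfy₀, MonoidHom.mem_ker.mp hk']; simp
    have hyN : y ∈ N₀ := by
      rw [hy]; exact N₀.mul_mem (by rw [hN₀]; exact hy₀) (N₀.inv_mem hk'N)
    have hyB : rc y B ⊆ (P : Subgroup X) := by
      rw [hy, rc_mul]
      intro x hx
      rw [mem_rc] at hx
      apply hk'B
      rw [mem_cj, hB₁]
      apply Subgroup.subset_closure
      simpa using hx
    have hfB : f '' (rc y B) = rc y' A' := by rw [image_rc, hfy, hBA]
    obtain ⟨h, hfh, hch⟩ := ih (rc y B) hyB hfB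
    refine ⟨y * h, by rw [map_mul, hfy, hfh], ?_⟩
    exact Chain.cons B y h ⟨inducedFunctor W, ⟨W, hW, rfl⟩, ⟨Subgroup.mem_top _, hN₀ ▸ hyN⟩⟩ hyB hch

/-- Lifting of chains through a quotient by a normal `p`-subgroup, using control in proper
subgroups containing `P`. -/
theorem good_lift_pcore (h𝓦 : ∀ W ∈ 𝓦, IsCharPFunctor.{u} p W) (f : X →* Y)
    (hf : Function.Surjective f) (P : Sylow p X) (hkerP : f.ker ≤ (P : Subgroup X))
    (hPne : ¬ (P : Subgroup X) ≤ f.ker)
    (hnorm : ∀ V : Subgroup X, f.ker < V → V ≤ (P : Subgroup X) → normalizer (V : Set X) ≠ ⊤)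
    (hsub : SubGood P (indFam 𝓦 X)) :
    ∀ (A' : Set Y) (h' : Y), Chain (indFam 𝓦 Y) ⊤ ((P : Subgroup X).map f) A' h' →
      ∀ B : Set X, B ⊆ (P : Subgroup X) → f '' B = A' →
        ∃ h : X, f h = h' ∧ GoodF (indFam 𝓦 X) (P : Subgroup X) B h ∧
          rc h B ⊆ (P : Subgroup X) := by
  have hcomap : ((P : Subgroup X).map f).comap f = (P : Subgroup X) := by
    rw [Subgroup.comap_map_eq, sup_eq_left.mpr hkerP]
  have hP'p : IsPGroup p ((P : Subgroup X).map f) := P.isPGroup'.map f
  have hP'ne : (P : Subgroup X).map f ≠ ⊥ := by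
    intro h
    apply hPne
    rw [← hcomap, h]
    intro x hx
    exact hx
  intro A' h' hch
  induction hch with
  | nil A' =>
    intro B hB _
    exact ⟨1, map_one f, GoodF.one B, by rw [rc_one]; exact hB⟩
  | cons A' y' g' hy hA _ ih =>
    intro B hB hBA
    obtain ⟨W', ⟨W, hW, rfl⟩, hyW⟩ := hy
    have hWc : IsConjugacyFunctor p (inducedFunctor (G := Y) W) :=
      isConjugacyFunctor_induced (h𝓦 W hW)
    obtain ⟨V, hV⟩ : ∃ V : Subgroup X, V = (inducedFunctor W ((P : Subgroup X).map f)).comap f :=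
      ⟨_, rfl⟩
    obtain ⟨y, rfl⟩ := hf y'
    have hyV : y ∈ normalizer (V : Set X) := by
      rw [hV]
      apply Subgroup.le_normalizer_comap f
      exact hyW.2
    have hVP : V ≤ (P : Subgroup X) := by
      have h1 : V ≤ ((P : Subgroup X).map f).comap f := by
        rw [hV]; exact Subgroup.comap_mono (functor_le hWc hP'p)
      rwa [hcomap] at h1
    have hkV : f.ker < V := by
      refine lt_of_le_of_ne (by rw [hV]; exact Subgroup.ker_le_comap f _) ?_
      intro he
      have h1 := (hWc _ hP'p).2.1 hP'ne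
      apply h1
      rw [eq_bot_iff]
      intro z hz
      obtain ⟨x, rfl⟩ := hf z
      have : x ∈ V := by rw [hV]; exact hz
      rw [← he] at this
      exact this
    have hPV : (P : Subgroup X) ≤ normalizer (V : Set X) := by
      have h1 : ((P : Subgroup X).map f).comap f ≤
          (normalizer ((inducedFunctor W ((P : Subgroup X).map f) : Subgroup Y) : Set Y)).comap f :=
        Subgroup.comap_mono
          (Subgroup.le_normalizer.trans (normalizer_le_normalizer_functor hWc hP'p))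
      have h2 := h1.trans (Subgroup.le_normalizer_comap f)
      rw [hcomap] at h2
      rw [hV]; exact h2
    have hyB : rc y B ⊆ (P : Subgroup X) := by
      intro x hx
      have h1 : f x ∈ rc (f y) A' := by
        rw [← hBA, ← image_rc]; exact ⟨x, hx, rfl⟩
      have h2 := hA h1
      rw [SetLike.mem_coe, ← hcomap]
      exact h2
    have hgy : GoodF (indFam 𝓦 X) (P : Subgroup X) B y :=
      hsub _ (hnorm V hkV hVP) hPV B y hyV hB hyB
    have hfB : f '' (rc y B) = rc (f y) A' := by rw [image_rc, hBA]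
    obtain ⟨h, hfh, hgh, hhB⟩ := ih (rc y B) hyB hfB
    refine ⟨y * h, by rw [map_mul, hfh], hgy.trans hgh, ?_⟩
    rw [rc_mul]; exact hhB

end Cfsg.Agent.Lib.Helper33
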