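import Cfsg.Agent.Lib.Helper33.PStabMain
import Cfsg.Agent.Lib.Helper33.SylowSub
import Cfsg.Agent.Lib.Helper33.SecLift
import Cfsg.Agent.Lib.Helper33.NormalPComp
import Cfsg.Agent.Lib.Helper32.Burnside

set_option autoImplicit false
set_option linter.style.haveILetI false
set_option linter.unusedSectionVars false

/-!
# A normal `p`-complement in the normalizer of a self-centralizing subgroup of a Sylow subgroup
-/

namespace Cfsg.Agent.Lib.Helper33

open Cfsg Subgroup

/-- If `K ≤ S` contains its centralizer in the Sylow subgroup `S`, `S` normalizes `K` and every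
`p'`-element of `N_G(K)` centralizes `K`, then `N_G(K)` has a normal `p`-complement. -/
theorem hnpc_normalizer_of_coprime_centralize {G : Type*} [Group G] [Finite G] {p : ℕ}
    [hp : Fact p.Prime] (S : Sylow p G) (K : Subgroup G)
    (hSN : (S : Subgroup G) ≤ normalizer (K : Set G))
    (hCK : (S : Subgroup G) ⊓ centralizer (K : Set G) ≤ K)
    (h : ∀ g ∈ normalizer (K : Set G), (orderOf g).Coprime p → g ∈ centralizer (K : Set G)) :
    HasNormalPComplement p ↥(normalizer (K : Set G)) := by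
  obtain ⟨N, hN⟩ : ∃ N : Subgroup G, N = normalizer (K : Set G) := ⟨_, rfl⟩
  obtain ⟨C, hC⟩ : ∃ C : Subgroup G, C = centralizer (K : Set G) := ⟨_, rfl⟩
  rw [← hN] at hSN h ⊢
  rw [← hC] at hCK h
  have hCN : C ≤ N := by rw [hC, hN]; exact Subgroup.centralizer_le_normalizer _
  have hNC : N ≤ normalizer (C : Set G) := by
    rw [hC, hN]; exact normalizer_le_normalizer_centralizer K
  obtain ⟨P⟩ : Nonempty (Sylow p ↥C) := inferInstance
  have hPK : ∀ x : ↥C, x ∈ (P : Subgroup ↥C) → (x : G) ∈ K := by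
    obtain ⟨P', hP'⟩ : ∃ P' : Subgroup G, P' = (P : Subgroup ↥C).map C.subtype := ⟨_, rfl⟩
    have hP'p : IsPGroup p P' := by rw [hP']; exact P.isPGroup'.map _
    have hP'C : P' ≤ C := by rw [hP']; exact Subgroup.map_subtype_le _
    obtain ⟨c, hcN, hc⟩ := sylow_sub hSN S.isPGroup' (sylow_not_dvd_relIndex S hSN)
      (hP'C.trans hCN) hP'p
    intro x hx
    have hxP' : (x : G) ∈ P' := by rw [hP']; exact ⟨x, hx, rfl⟩
    have h1 : c * (x : G) * c⁻¹ ∈ (S : Subgroup G) := hc (conj_mem_cj hxP')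
    have h2 : c * (x : G) * c⁻¹ ∈ C := (Subgroup.mem_normalizer_iff.mp (hNC hcN) _).mp x.2
    have h3 : c * (x : G) * c⁻¹ ∈ K := hCK ⟨h1, h2⟩
    have hcN' : c ∈ normalizer (K : Set G) := by rw [← hN]; exact hcN
    exact (Subgroup.mem_normalizer_iff.mp hcN' _).mpr h3
  have hPc : (P : Subgroup ↥C) ≤ Subgroup.center ↥C := by
    intro x hx
    rw [Subgroup.mem_center_iff]
    intro y
    apply Subtype.ext
    have hy : (y : G) ∈ centralizer (K : Set G) := by rw [← hC]; exact y.2
    have := Subgroup.mem_centralizer_iff.mp hy _ (hPK x hx)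
    simp only [Subgroup.coe_mul]
    exact this.symm
  obtain ⟨Kc, -, -, -, hKc⟩ := Cfsg.Agent.Lib.Helper32.exists_normal_pComplement_of_le_center P hPc
  apply hasNormalPComplement_of_coprime_elements ((Kc.map C.subtype).subgroupOf N)
  intro x
  rw [Subgroup.mem_subgroupOf]
  constructor
  · rintro ⟨y, hy, hyx⟩
    have h1 := (hKc y).mp hy
    rw [← Subgroup.orderOf_coe] at h1
    have h2 : orderOf (x : G) = orderOf x := Subgroup.orderOf_coe x
    rw [← h2, ← hyx]
    exact h1
  · intro hx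
    have h2 : orderOf (x : G) = orderOf x := Subgroup.orderOf_coe x
    rw [← h2] at hx
    have hxC : (x : G) ∈ C := h _ x.2 hx
    refine ⟨⟨(x : G), hxC⟩, (hKc _).mpr ?_, rfl⟩
    rw [← Subgroup.orderOf_coe]
    exact hx

end Cfsg.Agent.Lib.Helper33
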