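import Mathlib
import Cfsg.Agent.Lib.Helper41.OmBNDefs

/-! OmBN hive (S2549, helper41): core of LEAF CENTER `center_core`, with the instances `v = vw c` of ROOTOM
(`eichler_mem_omega`) as a hypothesis.  A central element of `Ω` commutes with the root elements `E(e_k, c)`, `E(f_k, c)`,
`c ∈ W`, hence is block diagonal; and the centre of `Ω` is normalised by the full orthogonal group. -/

set_option autoImplicit false

namespace Cfsg.Agent.Lib.Helper41.OmBN

open Matrix Cfsg Cfsg.Agent.Lib.Helper13 Cfsg.Agent.Lib.Helper8 Cfsg.Agent.Lib.Helper43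
  Cfsg.Agent.Lib.Helper41.SpBN

variable {F : Type*} [Field F] {m : ℕ} {a b : F}

/-- commuting with `E(u, c)` forces `z u ∈ ⟨c, u⟩` -/
theorem center_key (u u' w : MIdx m → F)
    (huu' : QuadraticMap.polar (⇑(minusForm m F a b)) u u' = 1)
    (hwu' : QuadraticMap.polar (⇑(minusForm m F a b)) w u' = 0)
    (z g : OG F m a b) (hg : ActsAs F m a b g u w) (hcomm : g * z = z * g)
    (y : MIdx m → F) (hy : QuadraticMap.polar (⇑(minusForm m F a b)) w y ≠ 0) :
    ∃ α γ : F, mat z *ᵥ u = α • w + γ • u := by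
  set y' : MIdx m → F := y - (QuadraticMap.polar (⇑(minusForm m F a b)) u y) • u' with hy'
  set t : F := QuadraticMap.polar (⇑(minusForm m F a b)) w y with ht
  have h1 : QuadraticMap.polar (⇑(minusForm m F a b)) u y' = 0 := by
    rw [hy', QuadraticMap.polar_sub_right, QuadraticMap.polar_smul_right, huu']
    simp
  have h2 : QuadraticMap.polar (⇑(minusForm m F a b)) w y' = t := by
    rw [hy', QuadraticMap.polar_sub_right, QuadraticMap.polar_smul_right, hwu', smul_zero,
      sub_zero]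
  have hgy : mat g *ᵥ y' = y' - t • u := by
    rw [hg y', eichlerLin_apply, h1, h2]
    simp
  set p : F := QuadraticMap.polar (⇑(minusForm m F a b)) u (mat z *ᵥ y') with hp
  set q : F := QuadraticMap.polar (⇑(minusForm m F a b)) w (mat z *ᵥ y') with hq
  have hL : mat (z * g) *ᵥ y' = mat z *ᵥ y' - t • (mat z *ᵥ u) := by
    rw [mat_mul, ← Matrix.mulVec_mulVec, hgy, Matrix.mulVec_sub, Matrix.mulVec_smul]
  have hR : mat (g * z) *ᵥ y' = mat z *ᵥ y' + p • w - q • u
      - (minusForm m F a b w * p) • u := by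
    rw [mat_mul, ← Matrix.mulVec_mulVec, hg (mat z *ᵥ y'), eichlerLin_apply]
  rw [hcomm, hL] at hR
  refine ⟨t⁻¹ * (-p), t⁻¹ * (q + minusForm m F a b w * p), ?_⟩
  have h3 : t • (mat z *ᵥ u) = (-p) • w + (q + minusForm m F a b w * p) • u := by
    have h4 : t • (mat z *ᵥ u) = mat z *ᵥ y' - (mat z *ᵥ y' - t • (mat z *ᵥ u)) := by
      abel
    rw [h4, hR, add_smul, neg_smul]
    abel
  have h5 : mat z *ᵥ u = t⁻¹ • (t • (mat z *ᵥ u)) := by
    rw [smul_smul, inv_mul_cancel₀ hy, one_smul]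
  rw [h5, h3, smul_add, smul_smul, smul_smul]

theorem center_vw_inl (c : Fin 2 → F) (s : Fin m ⊕ Fin m) : vw F m c (Sum.inl s) = 0 := rfl

theorem center_vw_inr (c : Fin 2 → F) (t : Fin 2) : vw F m c (Sum.inr t) = c t := rfl

theorem center_mulVec_single (M : Matrix (MIdx m) (MIdx m) F) (i j : MIdx m) :
    (M *ᵥ Pi.single j 1) i = M i j := by
  rw [Matrix.mulVec_single_one]
  rfl

/-- an element of `Ω` that is central in `Ω` commutes (in `O`) with every element of `Ω` -/
theorem center_comm (z : ↥(Cfsg.Omega F ⇑(minusForm m F a b)))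
    (hz : z ∈ Subgroup.center ↥(Cfsg.Omega F ⇑(minusForm m F a b))) (g : OG F m a b)
    (hg : g ∈ Cfsg.Omega F ⇑(minusForm m F a b)) : g * (z : OG F m a b) = (z : OG F m a b) * g := by
  have := Subgroup.mem_center_iff.mp hz ⟨g, hg⟩
  exact congrArg Subtype.val this

/-- the column of a central element of `Ω` at a hyperbolic basis vector `u = e_k` or `f_k` lies in `⟨c, u⟩`
for every non-zero `c ∈ W` -/
theorem center_col [Fintype F] (hab : Aniso a b)
    (hroot : ∀ (k : Fin m) (u : MIdx m → F) (c : Fin 2 → F), (u = ve F k ∨ u = vf F k) →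
      ∀ g : OG F m a b, ActsAs F m a b g u (vw F m c) → g ∈ Cfsg.Omega F ⇑(minusForm m F a b))
    (z : ↥(Cfsg.Omega F ⇑(minusForm m F a b)))
    (hz : z ∈ Subgroup.center ↥(Cfsg.Omega F ⇑(minusForm m F a b)))
    (k : Fin m) (u u' : MIdx m → F) (hu : u = ve F k ∧ u' = vf F k ∨ u = vf F k ∧ u' = ve F k)
    (c : Fin 2 → F) (hc : c ≠ 0) :
    ∃ α γ : F, mat (z : OG F m a b) *ᵥ u = α • vw F m c + γ • u := by
  have hQu : minusForm m F a b u = 0 := by
    rcases hu with ⟨rfl, -⟩ | ⟨rfl, -⟩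
    · exact minusForm_single_inl m F a b k
    · exact minusForm_single_inr m F a b k
  have huw : QuadraticMap.polar (⇑(minusForm m F a b)) u (vw F m c) = 0 := by
    rcases hu with ⟨rfl, -⟩ | ⟨rfl, -⟩
    · rw [ve, polar_minusForm_inl]; rfl
    · rw [vf, polar_minusForm_inr]; rfl
  have huu' : QuadraticMap.polar (⇑(minusForm m F a b)) u u' = 1 := by
    rcases hu with ⟨rfl, rfl⟩ | ⟨rfl, rfl⟩
    · rw [ve, polar_minusForm_inl, vf, Pi.single_eq_same]
    · rw [vf, polar_minusForm_inr, ve, Pi.single_eq_same]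
  have hwu' : QuadraticMap.polar (⇑(minusForm m F a b)) (vw F m c) u' = 0 := by
    rw [QuadraticMap.polar_comm]
    rcases hu with ⟨-, rfl⟩ | ⟨-, rfl⟩
    · rw [vf, polar_minusForm_inr]; rfl
    · rw [ve, polar_minusForm_inl]; rfl
  have hw0 : vw F m c ≠ 0 := by
    intro h
    apply hc
    funext t
    have := congrFun h (Sum.inr t)
    simpa [center_vw_inr] using this
  obtain ⟨y, hy⟩ : ∃ y, QuadraticMap.polar (⇑(minusForm m F a b)) (vw F m c) y ≠ 0 := by
    by_contra hcon
    push Not at hcon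
    exact hw0 ((nondeg (m := m) hab).1 (vw F m c) hcon)
  set g := eichlerElt (minusForm m F a b) (nondeg hab) u (vw F m c) hQu huw with hg
  have hgA : ActsAs F m a b g u (vw F m c) := actsAs_eichlerElt hab u (vw F m c) hQu huw
  have hgΩ : g ∈ Cfsg.Omega F ⇑(minusForm m F a b) :=
    hroot k u c (by rcases hu with ⟨h, -⟩ | ⟨h, -⟩ <;> simp [h]) g hgA
  exact center_key u u' (vw F m c) huu' hwu' (z : OG F m a b) g hgA (center_comm z hz g hgΩ) y hy

/-- a central element of `Ω` is block diagonal: the columns at `e_k`, `f_k` -/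
theorem center_diag [Fintype F] (hab : Aniso a b)
    (hroot : ∀ (k : Fin m) (u : MIdx m → F) (c : Fin 2 → F), (u = ve F k ∨ u = vf F k) →
      ∀ g : OG F m a b, ActsAs F m a b g u (vw F m c) → g ∈ Cfsg.Omega F ⇑(minusForm m F a b))
    (z : ↥(Cfsg.Omega F ⇑(minusForm m F a b)))
    (hz : z ∈ Subgroup.center ↥(Cfsg.Omega F ⇑(minusForm m F a b)))
    (s : Fin m ⊕ Fin m) (i : MIdx m) (hi : i ≠ Sum.inl s) :
    mat (z : OG F m a b) i (Sum.inl s) = 0 := by
  classical
  -- the two basis vectors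
  obtain ⟨k, u, u', hu, hus⟩ : ∃ (k : Fin m) (u u' : MIdx m → F),
      (u = ve F k ∧ u' = vf F k ∨ u = vf F k ∧ u' = ve F k) ∧ u = Pi.single (Sum.inl s) 1 := by
    rcases s with k | k
    · exact ⟨k, ve F k, vf F k, Or.inl ⟨rfl, rfl⟩, rfl⟩
    · exact ⟨k, vf F k, ve F k, Or.inr ⟨rfl, rfl⟩, rfl⟩
  have hcol : ∀ j, mat (z : OG F m a b) j (Sum.inl s) = (mat (z : OG F m a b) *ᵥ u) j := by
    intro j
    rw [hus, center_mulVec_single]
  rw [hcol]
  rcases i with s' | t
  · obtain ⟨α, γ, h⟩ := center_col hab hroot z hz k u u' hu (Pi.single 0 1) (by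
      intro h
      have := congrFun h 0
      simp at this)
    rw [h, hus]
    have hne : s' ≠ s := fun h => hi (by rw [h])
    simp [center_vw_inl, hne]
  · obtain ⟨α, γ, h⟩ := center_col hab hroot z hz k u u' hu (Pi.single (t + 1) 1) (by
      intro h
      have := congrFun h (t + 1)
      simp at this)
    rw [h, hus]
    have hne : t ≠ t + 1 := by
      fin_cases t <;> decide
    simp [center_vw_inr, hne]

/-- a central element of `Ω` is block diagonal: the columns at `W` -/
theorem center_wcol [Fintype F] (hab : Aniso a b)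
    (hroot : ∀ (k : Fin m) (u : MIdx m → F) (c : Fin 2 → F), (u = ve F k ∨ u = vf F k) →
      ∀ g : OG F m a b, ActsAs F m a b g u (vw F m c) → g ∈ Cfsg.Omega F ⇑(minusForm m F a b))
    (z : ↥(Cfsg.Omega F ⇑(minusForm m F a b)))
    (hz : z ∈ Subgroup.center ↥(Cfsg.Omega F ⇑(minusForm m F a b)))
    (s : Fin m ⊕ Fin m) (t : Fin 2) :
    mat (z : OG F m a b) (Sum.inl s) (Sum.inr t) = 0 := by
  classical
  -- the partner index
  set s' : Fin m ⊕ Fin m := s.swap with hs'
  have hcolv : mat (z : OG F m a b) *ᵥ Pi.single (Sum.inl s') 1 =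
      mat (z : OG F m a b) (Sum.inl s') (Sum.inl s') • Pi.single (Sum.inl s') 1 := by
    funext i
    rw [center_mulVec_single]
    by_cases hi : i = Sum.inl s'
    · rw [hi]; simp
    · rw [center_diag hab hroot z hz s' i hi]
      simp [hi]
  have hσ : mat (z : OG F m a b) (Sum.inl s') (Sum.inl s') ≠ 0 := by
    intro h0
    rw [h0, zero_smul] at hcolv
    have h1 : mat (z : OG F m a b)⁻¹ *ᵥ (mat (z : OG F m a b) *ᵥ Pi.single (Sum.inl s') 1) =
        Pi.single (Sum.inl s') 1 := by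
      rw [Matrix.mulVec_mulVec, mat_inv_mul, Matrix.one_mulVec]
    rw [hcolv, Matrix.mulVec_zero] at h1
    have := congrFun h1 (Sum.inl s')
    simp at this
  have hpol : ∀ y : MIdx m → F,
      QuadraticMap.polar (⇑(minusForm m F a b)) (Pi.single (Sum.inl s') 1) y = y (Sum.inl s) := by
    intro y
    rcases s with k | k
    · exact polar_minusForm_inr m F a b k y
    · exact polar_minusForm_inl m F a b k y
  have h1 := iso_polar (minusForm m F a b) (z : OG F m a b) (Pi.single (Sum.inl s') 1)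
    (Pi.single (Sum.inr t) 1)
  change QuadraticMap.polar (⇑(minusForm m F a b)) (mat (z : OG F m a b) *ᵥ Pi.single (Sum.inl s') 1)
    (mat (z : OG F m a b) *ᵥ Pi.single (Sum.inr t) 1) = _ at h1
  rw [hcolv, QuadraticMap.polar_smul_left, hpol, hpol, center_mulVec_single] at h1
  have h2 : (Pi.single (Sum.inr t) (1 : F) : MIdx m → F) (Sum.inl s) = 0 := by simp
  rw [h2, smul_eq_mul] at h1
  rcases mul_eq_zero.mp h1 with h | h
  · exact absurd h hσ
  · exact h

/-- core of LEAF CENTER: every central element of `Ω` lies in `B` -/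
theorem center_mem_Bo [Fintype F] (hab : Aniso a b)
    (hroot : ∀ (k : Fin m) (u : MIdx m → F) (c : Fin 2 → F), (u = ve F k ∨ u = vf F k) →
      ∀ g : OG F m a b, ActsAs F m a b g u (vw F m c) → g ∈ Cfsg.Omega F ⇑(minusForm m F a b))
    (z : ↥(Cfsg.Omega F ⇑(minusForm m F a b)))
    (hz : z ∈ Subgroup.center ↥(Cfsg.Omega F ⇑(minusForm m F a b))) :
    (z : OG F m a b) ∈ Bo F m a b := by
  rw [mem_Bo_iff]
  intro i j hij
  rcases j with s | t
  · apply center_diag hab hroot z hz s i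
    rintro rfl
    exact lt_irrefl _ hij
  · rcases i with s | t'
    · exact center_wcol hab hroot z hz s t
    · exfalso
      rw [oord_w, oord_w] at hij
      exact lt_irrefl _ hij

/-- LEAF CENTER with ROOTOM as a hypothesis -/
theorem center_core_aux [Fintype F] (hab : Aniso a b)
    (hroot : ∀ (k : Fin m) (u : MIdx m → F) (c : Fin 2 → F), (u = ve F k ∨ u = vf F k) →
      ∀ g : OG F m a b, ActsAs F m a b g u (vw F m c) → g ∈ Cfsg.Omega F ⇑(minusForm m F a b)) :
    ∀ z : ↥(Cfsg.Omega F ⇑(minusForm m F a b)), z ∈ Subgroup.center ↥(Cfsg.Omega F ⇑(minusForm m F a b)) →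
      ∀ g : OG F m a b, g⁻¹ * (z : OG F m a b) * g ∈ Bo F m a b := by
  intro z hz g
  have hn : (Cfsg.Omega F ⇑(minusForm m F a b)).Normal := inferInstance
  have hmem : g⁻¹ * (z : OG F m a b) * g ∈ Cfsg.Omega F ⇑(minusForm m F a b) := by
    have := hn.conj_mem (z : OG F m a b) z.2 g⁻¹
    rwa [inv_inv] at this
  have hcen : (⟨g⁻¹ * (z : OG F m a b) * g, hmem⟩ : ↥(Cfsg.Omega F ⇑(minusForm m F a b))) ∈
      Subgroup.center ↥(Cfsg.Omega F ⇑(minusForm m F a b)) := by
    rw [Subgroup.mem_center_iff]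
    intro h
    apply Subtype.ext
    show (h : OG F m a b) * (g⁻¹ * (z : OG F m a b) * g) = g⁻¹ * (z : OG F m a b) * g * (h : OG F m a b)
    have hh : g * (h : OG F m a b) * g⁻¹ ∈ Cfsg.Omega F ⇑(minusForm m F a b) := hn.conj_mem _ h.2 g
    have hc := center_comm z hz _ hh
    calc (h : OG F m a b) * (g⁻¹ * (z : OG F m a b) * g)
        = g⁻¹ * ((g * (h : OG F m a b) * g⁻¹) * (z : OG F m a b)) * g := by group
      _ = g⁻¹ * ((z : OG F m a b) * (g * (h : OG F m a b) * g⁻¹)) * g := by rw [hc]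
      _ = g⁻¹ * (z : OG F m a b) * g * (h : OG F m a b) := by group
  exact center_mem_Bo hab hroot ⟨_, hmem⟩ hcen


end Cfsg.Agent.Lib.Helper41.OmBN
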