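import Mathlib
import Cfsg.Agent.Lib.Helper41.OmBNDefs
import Cfsg.Agent.Lib.Helper33.OmBN_CENTERcore
import Cfsg.Agent.Lib.Helper8.OrthTransp

/-! OmBN hive (S2549, helper41): LEAF CENTER `center_core`.  The instances `v = vw c` of ROOTOM are proved
directly: for `d ≠ 0` in `W`, `E(u, d) = [r_d, E(u, y)]` for a suitable `y ⟂ u`, where `r_d` is the reflection
in `d` (it fixes `u = e_k, f_k`). -/

set_option autoImplicit false

namespace Cfsg.Agent.Lib.Helper41.OmBN

open Matrix Cfsg Cfsg.Agent.Lib.Helper13 Cfsg.Agent.Lib.Helper8 Cfsg.Agent.Lib.Helper43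
  Cfsg.Agent.Lib.Helper41.SpBN

variable {F : Type*} [Field F] {m : ℕ} {a b : F}

theorem center_Q_vw (c : Fin 2 → F) :
    minusForm m F a b (vw F m c) = c 0 ^ 2 + a * c 0 * c 1 + b * c 1 ^ 2 := by
  rw [← minusForm_coe]
  unfold Cfsg.quadFormMinus
  simp [center_vw_inl, center_vw_inr]

/-- the Eichler transformations `E(u, c)`, `u = e_k` or `f_k`, `c ∈ W`, are commutators -/
theorem center_root [Fintype F] (hab : Aniso a b) (k : Fin m) (u u' : MIdx m → F)
    (hu : u = ve F k ∧ u' = vf F k ∨ u = vf F k ∧ u' = ve F k) (c : Fin 2 → F)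
    (g : OG F m a b) (hg : ActsAs F m a b g u (vw F m c)) :
    g ∈ Cfsg.Omega F ⇑(minusForm m F a b) := by
  classical
  have hQu : minusForm m F a b u = 0 := by
    rcases hu with ⟨rfl, -⟩ | ⟨rfl, -⟩
    · exact minusForm_single_inl m F a b k
    · exact minusForm_single_inr m F a b k
  have huw : ∀ c' : Fin 2 → F, QuadraticMap.polar (⇑(minusForm m F a b)) u (vw F m c') = 0 := by
    intro c'
    rcases hu with ⟨rfl, -⟩ | ⟨rfl, -⟩
    · rw [ve, polar_minusForm_inl]; rfl
    · rw [vf, polar_minusForm_inr]; rfl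
  have huu' : QuadraticMap.polar (⇑(minusForm m F a b)) u u' = 1 := by
    rcases hu with ⟨rfl, rfl⟩ | ⟨rfl, rfl⟩
    · rw [ve, polar_minusForm_inl, vf, Pi.single_eq_same]
    · rw [vf, polar_minusForm_inr, ve, Pi.single_eq_same]
  have hwu' : QuadraticMap.polar (⇑(minusForm m F a b)) (vw F m c) u' = 0 := by
    rw [QuadraticMap.polar_comm]
    rcases hu with ⟨-, rfl⟩ | ⟨-, rfl⟩
    · rw [vf, polar_minusForm_inr]; rfl
    · rw [ve, polar_minusForm_inl]; rfl
  by_cases hc : c = 0
  · -- `g = 1`
    have : g = 1 := by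
      apply iso_ext
      intro x
      rw [hg x, eichlerLin_apply, hc]
      have h0 : vw F m (0 : Fin 2 → F) = 0 := by
        funext i
        rcases i with i | i <;> rfl
      rw [h0]
      simp [QuadraticMap.polar_zero_left]
    rw [this]
    exact Subgroup.one_mem _
  · set d := vw F m c with hd
    have hQd : minusForm m F a b d ≠ 0 := by
      rw [hd, center_Q_vw]
      intro h
      obtain ⟨h0, h1⟩ := hab (c 0) (c 1) h
      apply hc
      funext t
      fin_cases t
      · exact h0
      · exact h1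
    have hd0 : d ≠ 0 := by
      intro h
      apply hQd
      rw [h, map_zero]
    obtain ⟨y₀, hy₀⟩ : ∃ y, QuadraticMap.polar (⇑(minusForm m F a b)) d y ≠ 0 := by
      by_contra hcon
      push Not at hcon
      exact hd0 ((nondeg (m := m) hab).1 d hcon)
    -- `y₁ ⟂ u` with `B(d, y₁) ≠ 0`
    set y₁ : MIdx m → F := y₀ - (QuadraticMap.polar (⇑(minusForm m F a b)) u y₀) • u' with hy₁
    have h1 : QuadraticMap.polar (⇑(minusForm m F a b)) u y₁ = 0 := by
      rw [hy₁, QuadraticMap.polar_sub_right, QuadraticMap.polar_smul_right, huu']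
      simp
    have h2 : QuadraticMap.polar (⇑(minusForm m F a b)) d y₁ =
        QuadraticMap.polar (⇑(minusForm m F a b)) d y₀ := by
      rw [hy₁, QuadraticMap.polar_sub_right, QuadraticMap.polar_smul_right, hwu', smul_zero,
        sub_zero]
    -- scale
    set t : F := QuadraticMap.polar (⇑(minusForm m F a b)) d y₀ with ht
    set y : MIdx m → F := (-(minusForm m F a b d) * t⁻¹) • y₁ with hy
    have huy : QuadraticMap.polar (⇑(minusForm m F a b)) u y = 0 := by
      rw [hy, QuadraticMap.polar_smul_right, h1, smul_zero]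
    have hdy : QuadraticMap.polar (⇑(minusForm m F a b)) d y = -(minusForm m F a b d) := by
      rw [hy, QuadraticMap.polar_smul_right, h2, smul_eq_mul, mul_assoc, inv_mul_cancel₀ hy₀,
        mul_one]
    -- the reflection
    set r : OG F m a b := reflElt (minusForm m F a b) d hQd with hr
    have hru : mat r *ᵥ u = u := by
      show Cfsg.reflectionMatrix (⇑(minusForm m F a b)) d *ᵥ u = u
      apply reflectionMatrix_mulVec_of_polar_eq_zero
      rw [QuadraticMap.polar_comm]
      exact huw c
    have hry : mat r *ᵥ y = y + d := by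
      show Cfsg.reflectionMatrix (⇑(minusForm m F a b)) d *ᵥ y = y + d
      rw [reflectionMatrix_mulVec, hdy, mul_neg, inv_mul_cancel₀ hQd, neg_smul, one_smul,
        sub_neg_eq_add]
    set e := eichlerElt (minusForm m F a b) (nondeg hab) u y hQu huy with he
    have hcomm : r * e * r⁻¹ * e⁻¹ ∈ Cfsg.Omega F ⇑(minusForm m F a b) :=
      Subgroup.commutator_mem_commutator (Subgroup.mem_top r) (Subgroup.mem_top e)
    have hyd : QuadraticMap.polar (⇑(minusForm m F a b)) u (y + d) = 0 := by
      rw [QuadraticMap.polar_add_right, huy, hd, huw c, add_zero]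
    have hconj : r * e * r⁻¹ = eichlerElt (minusForm m F a b) (nondeg hab) u (y + d) hQu hyd := by
      rw [he, conj_eichlerElt]
      exact eichlerElt_congr _ _ _ _ _ _ _ _ _ _ hru hry
    have hfinal : r * e * r⁻¹ * e⁻¹ = g := by
      rw [hconj, he, eichlerElt_inv, eichlerElt_mul]
      apply ActsAs.unique _ hg
      have := actsAs_eichlerElt hab u (y + d + -y) hQu (by
        rw [QuadraticMap.polar_add_right, hyd, QuadraticMap.polar_neg_right, huy, neg_zero,
          add_zero])
      have hsum : y + d + -y = vw F m c := by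
        rw [hd]; abel
      rw [eichlerElt_congr _ _ u (y + d + -y) u (vw F m c) hQu _ hQu (huw c) rfl hsum]
      exact actsAs_eichlerElt hab u (vw F m c) hQu (huw c)
    rw [← hfinal]
    exact hcomm

/-- LEAF CENTER: for `m = 0`, `B = ⊤`.  For `m ≥ 1`: a central element of `Ω` is block diagonal, and so is every
conjugate of it. -/
theorem center_core [Fintype F] (hab : Aniso a b) :
    ∀ z : ↥(Cfsg.Omega F ⇑(minusForm m F a b)), z ∈ Subgroup.center ↥(Cfsg.Omega F ⇑(minusForm m F a b)) →
      ∀ g : OG F m a b, g⁻¹ * (z : OG F m a b) * g ∈ Bo F m a b := by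
  apply center_core_aux hab
  intro k u c hu g hg
  rcases hu with h | h
  · exact center_root hab k u (vf F k) (Or.inl ⟨h, rfl⟩) c g hg
  · exact center_root hab k u (ve F k) (Or.inr ⟨h, rfl⟩) c g hg

end Cfsg.Agent.Lib.Helper41.OmBN
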