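import Mathlib
import Cfsg.Prelude.Def_Solvable
import Cfsg.Prelude.Def_Transfer
import Cfsg.Agent.Lib.Helper22.Fitting

set_option autoImplicit false

/-!
# `Ω₁` of a normal abelian `2`-subgroup and its centralizer
-/

namespace Cfsg.Agent.Lib.Helper33.FFW

open Cfsg

variable {X : Type*} [Group X]

/-- the elements of order dividing `2` of an abelian subgroup -/
def omTwo (V : Subgroup X) (hVc : ∀ x ∈ V, ∀ y ∈ V, x * y = y * x) : Subgroup X where
  carrier := {v | v ∈ V ∧ v ^ 2 = 1}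
  mul_mem' := by
    rintro a b ⟨ha, ha2⟩ ⟨hb, hb2⟩
    refine ⟨V.mul_mem ha hb, ?_⟩
    have hc : Commute a b := hVc a ha b hb
    rw [hc.mul_pow, ha2, hb2, one_mul]
  one_mem' := ⟨V.one_mem, one_pow 2⟩
  inv_mem' := by
    rintro a ⟨ha, ha2⟩
    exact ⟨V.inv_mem ha, by rw [inv_pow, ha2, inv_one]⟩

theorem mem_omTwo {V : Subgroup X} {hVc : ∀ x ∈ V, ∀ y ∈ V, x * y = y * x} {v : X} :
    v ∈ omTwo V hVc ↔ v ∈ V ∧ v ^ 2 = 1 := Iff.rfl

theorem omTwo_le (V : Subgroup X) (hVc : ∀ x ∈ V, ∀ y ∈ V, x * y = y * x) : omTwo V hVc ≤ V :=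
  fun _ h => h.1

theorem omTwo_elemAb (V : Subgroup X) (hVc : ∀ x ∈ V, ∀ y ∈ V, x * y = y * x) :
    IsElementaryAbelian 2 (omTwo V hVc) := by
  refine ⟨?_, fun a ha => ha.2⟩
  rw [isMulCommutative_iff_of_setLike]
  intro a ha b hb
  exact hVc a ha.1 b hb.1

instance omTwo_normal (V : Subgroup X) [hV : V.Normal] (hVc : ∀ x ∈ V, ∀ y ∈ V, x * y = y * x) :
    (omTwo V hVc).Normal := by
  refine ⟨?_⟩
  rintro v ⟨hv, hv2⟩ g
  refine ⟨hV.conj_mem v hv g, ?_⟩
  rw [conj_pow, hv2, mul_one, mul_inv_cancel]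

/-- an element of odd order centralizing `Ω₁(V)` centralizes the abelian `2`-group `V` -/
theorem odd_centralizes {V : Subgroup X} [hVn : V.Normal] (hVc : ∀ x ∈ V, ∀ y ∈ V, x * y = y * x)
    {x : X} {m : ℕ} (hm : Odd m) (hxm : x ^ m = 1)
    (hx : ∀ w ∈ V, w ^ 2 = 1 → x * w * x⁻¹ = w) :
    ∀ n : ℕ, ∀ v ∈ V, v ^ (2 ^ n) = 1 → x * v * x⁻¹ = v := by
  intro n
  induction n with
  | zero =>
    intro v _ hv1
    rw [pow_zero, pow_one] at hv1
    rw [hv1]; group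
  | succ n ih =>
    intro v hv hv1
    have hv2 : (v ^ 2) ^ (2 ^ n) = 1 := by
      rw [← pow_mul, ← pow_succ']; exact hv1
    have h1 : x * v ^ 2 * x⁻¹ = v ^ 2 := ih (v ^ 2) (V.pow_mem hv 2) hv2
    obtain ⟨u, hu⟩ : ∃ u, u = x * v * x⁻¹ := ⟨_, rfl⟩
    have huV : u ∈ V := hu ▸ hVn.conj_mem v hv x
    have hu2 : u ^ 2 = v ^ 2 := by rw [hu, conj_pow]; exact h1
    obtain ⟨c, hc⟩ : ∃ c, c = u * v⁻¹ := ⟨_, rfl⟩
    have hcV : c ∈ V := hc ▸ V.mul_mem huV (V.inv_mem hv)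
    have hc2 : c ^ 2 = 1 := by
      have hcomm : Commute u v⁻¹ := hVc u huV v⁻¹ (V.inv_mem hv)
      rw [hc, hcomm.mul_pow, hu2, inv_pow, mul_inv_cancel]
    have hxc : x * c * x⁻¹ = c := hx c hcV hc2
    have huv : u = c * v := by rw [hc]; group
    have key : ∀ k : ℕ, x ^ k * v * (x ^ k)⁻¹ = c ^ k * v := by
      intro k
      induction k with
      | zero => simp
      | succ k ihk =>
        have e1 : x ^ (k + 1) * v * (x ^ (k + 1))⁻¹ = x * (x ^ k * v * (x ^ k)⁻¹) * x⁻¹ := by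
          rw [pow_succ']; group
        rw [e1, ihk]
        have e2 : x * (c ^ k * v) * x⁻¹ = (x * c * x⁻¹) ^ k * (x * v * x⁻¹) := by
          rw [conj_pow]; group
        rw [e2, hxc, ← hu, huv, pow_succ, mul_assoc]
    have h2 := key m
    rw [hxm] at h2
    have h3 : c ^ m = 1 := by
      have : v = c ^ m * v := by simpa using h2
      have h4 : c ^ m * v = 1 * v := by rw [one_mul]; exact this.symm
      exact mul_right_cancel h4
    obtain ⟨j, hj⟩ := hm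
    have h4 : c = 1 := by
      rw [hj, pow_succ, pow_mul, hc2, one_pow, one_mul] at h3
      exact h3
    rw [← hu, huv, h4, one_mul]

/-- If `O₂(X / C_X(V)) = 1` for the normal abelian `2`-subgroup `V`, then `C_X(Ω₁(V)) = C_X(V)`. -/
theorem centralizer_omTwo_eq [Finite X] {V : Subgroup X} [hVn : V.Normal]
    (hVc : ∀ x ∈ V, ∀ y ∈ V, x * y = y * x) (hV2 : IsPGroup 2 V)
    (hO : pCore 2 (X ⧸ Subgroup.centralizer (V : Set X)) = ⊥) :
    Subgroup.centralizer (omTwo V hVc : Set X) = Subgroup.centralizer (V : Set X) := by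
  apply le_antisymm _ (Subgroup.centralizer_le (omTwo_le V hVc))
  obtain ⟨K, hK⟩ : ∃ K, K = Subgroup.centralizer (omTwo V hVc : Set X) := ⟨_, rfl⟩
  rw [← hK]
  have hKn : K.Normal := by rw [hK]; infer_instance
  obtain ⟨π, hπ⟩ : ∃ π, π = QuotientGroup.mk' (Subgroup.centralizer (V : Set X)) := ⟨_, rfl⟩
  have hπs : Function.Surjective π := hπ ▸ QuotientGroup.mk'_surjective _
  have hn : (K.map π).Normal := Subgroup.Normal.map hKn π hπs
  have hodd : ∀ x ∈ K, ∀ m : ℕ, Odd m → x ^ m = 1 → x ∈ Subgroup.centralizer (V : Set X) := by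
    intro x hx m hm hxm
    have hxw : ∀ w ∈ V, w ^ 2 = 1 → x * w * x⁻¹ = w := by
      intro w hw hw2
      have h1 : w * x = x * w := by
        rw [hK] at hx
        exact Subgroup.mem_centralizer_iff.mp hx w ⟨hw, hw2⟩
      rw [← h1]; group
    rw [Subgroup.mem_centralizer_iff]
    intro v hv
    obtain ⟨n, hn⟩ := (IsPGroup.iff_orderOf.mp hV2) ⟨v, hv⟩
    have hvn : v ^ (2 ^ n) = 1 := by
      have h2 := pow_orderOf_eq_one (⟨v, hv⟩ : ↥V)
      rw [hn] at h2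
      have := congrArg Subtype.val h2
      simpa using this
    have h3 := odd_centralizes hVc hm hxm hxw n v hv hvn
    calc v * x = (x * v * x⁻¹) * x := by rw [h3]
      _ = x * v := by group
  have hp : IsPGroup 2 ↥(K.map π) := by
    rintro ⟨g, k, hk, rfl⟩
    have hk0 : orderOf k ≠ 0 := (orderOf_pos k).ne'
    obtain ⟨a, m, hm, hkm⟩ := Nat.exists_eq_two_pow_mul_odd hk0
    refine ⟨a, ?_⟩
    apply Subtype.ext
    have h1 : (k ^ (2 ^ a)) ^ m = 1 := by
      rw [← pow_mul, ← hkm]; exact pow_orderOf_eq_one k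
    have h2 := hodd (k ^ (2 ^ a)) (K.pow_mem hk _) m hm h1
    show (π k) ^ (2 ^ a) = 1
    rw [← map_pow, hπ]
    exact (QuotientGroup.eq_one_iff _).mpr h2
  have hle : K.map π ≤ pCore 2 (X ⧸ Subgroup.centralizer (V : Set X)) := by
    rw [hπ] at hn hp ⊢
    exact Cfsg.Agent.Lib.Helper22.le_pCore' hn hp
  rw [hO, le_bot_iff] at hle
  intro k hk
  have h1 : π k ∈ K.map π := Subgroup.mem_map_of_mem π hk
  rw [hle, Subgroup.mem_bot, hπ] at h1
  exact (QuotientGroup.eq_one_iff _).mp h1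

/-- transport of `O₂(X/K) = 1` along an equality of normal subgroups -/
theorem pCore_quot_eq_bot_of_eq {p : ℕ} {K₁ K₂ : Subgroup X} [K₁.Normal] [K₂.Normal]
    (h : K₁ = K₂) (hO : pCore p (X ⧸ K₁) = ⊥) : pCore p (X ⧸ K₂) = ⊥ := by
  subst h
  exact hO

end Cfsg.Agent.Lib.Helper33.FFW
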