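import Cfsg.Agent.Lib.Helper33.OmegaFac

set_option autoImplicit false
set_option linter.style.haveILetI false
set_option linter.unusedSectionVars false

universe u

namespace Cfsg.Agent.Lib.Helper33

open Cfsg Subgroup

section ncl

variable {X : Type*} [Group X]

/-- The subgroup generated by the `L`-conjugates of `Z`. -/
def ncl (L Z : Subgroup X) : Subgroup X := ⨆ n : L, cj (n : X) Z

theorem cj_le_ncl {L Z : Subgroup X} {n : X} (hn : n ∈ L) : cj n Z ≤ ncl L Z :=
  le_iSup (fun n : L => cj (n : X) Z) ⟨n, hn⟩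

theorem le_ncl (L Z : Subgroup X) : Z ≤ ncl L Z := by
  have := cj_le_ncl (L := L) (Z := Z) L.one_mem
  rwa [cj_one] at this

theorem ncl_le {L Z V : Subgroup X} (hZ : Z ≤ V) (hL : L ≤ normalizer (V : Set X)) :
    ncl L Z ≤ V := by
  apply iSup_le
  intro n
  rw [← cj_eq_self_iff.mpr (hL n.2)]
  exact cj_mono hZ

theorem ncl_mono {L L' Z : Subgroup X} (h : L ≤ L') : ncl L Z ≤ ncl L' Z := by
  apply iSup_le
  intro n
  exact cj_le_ncl (h n.2)

theorem cj_ncl_le {L Z : Subgroup X} {m : X} (hm : m ∈ L) : cj m (ncl L Z) ≤ ncl L Z := by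
  rw [ncl, cj_def, Subgroup.map_iSup]
  apply iSup_le
  intro n
  rw [← cj_def, ← cj_mul]
  exact cj_le_ncl (L.mul_mem hm n.2)

theorem le_normalizer_ncl (L Z : Subgroup X) :
    L ≤ normalizer ((ncl L Z : Subgroup X) : Set X) := by
  intro m hm
  apply cj_eq_self_iff.mp
  apply le_antisymm (cj_ncl_le hm)
  rw [le_cj_iff]
  exact cj_ncl_le (L.inv_mem hm)

theorem ncl_le_of_fac {L L' Z : Subgroup X}
    (h : ∀ x ∈ L, ∃ a ∈ L', ∃ c ∈ centralizer (Z : Set X), x = a * c) :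
    ncl L Z ≤ ncl L' Z := by
  apply iSup_le
  intro n
  obtain ⟨a, ha, c, hc, hn⟩ := h n n.2
  rw [hn, cj_mul, cj_eq_self_iff.mpr (Subgroup.centralizer_le_normalizer _ hc)]
  exact cj_le_ncl ha

/-- The normal closure of `Z ≤ N` in `N`, viewed in `X`, is `ncl N Z`. -/
theorem map_normalClosure_eq_ncl {N Z : Subgroup X} (hZN : Z ≤ N) :
    (Subgroup.normalClosure ((Z.subgroupOf N : Subgroup ↥N) : Set ↥N)).map N.subtype =
      ncl N Z := by
  apply le_antisymm
  · rw [Subgroup.map_le_iff_le_comap]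
    haveI : ((ncl N Z).comap N.subtype).Normal :=
      Subgroup.normal_subgroupOf_of_le_normalizer (le_normalizer_ncl N Z)
    apply Subgroup.normalClosure_le_normal
    intro z hz
    exact le_ncl N Z (Subgroup.mem_subgroupOf.mp hz)
  · apply ncl_le
    · intro z hz
      exact ⟨⟨z, hZN hz⟩, Subgroup.subset_normalClosure (Subgroup.mem_subgroupOf.mpr hz), rfl⟩
    · intro n hn
      apply cj_eq_self_iff.mp
      have hle : ∀ m ∈ N, cj m ((Subgroup.normalClosure
          ((Z.subgroupOf N : Subgroup ↥N) : Set ↥N)).map N.subtype) ≤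
          (Subgroup.normalClosure ((Z.subgroupOf N : Subgroup ↥N) : Set ↥N)).map N.subtype := by
        intro m hm x hx
        obtain ⟨_, ⟨y, hy, rfl⟩, rfl⟩ := mem_cj'.mp hx
        have := (Subgroup.normalClosure_normal
          (s := ((Z.subgroupOf N : Subgroup ↥N) : Set ↥N))).conj_mem y hy ⟨m, hm⟩
        exact ⟨_, this, rfl⟩
      apply le_antisymm (hle n hn)
      rw [le_cj_iff]
      exact hle n⁻¹ (N.inv_mem hn)

end ncl

section theta

variable {p : ℕ} [Fact p.Prime] {G : Type u} [Group G]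

/-- `FacIn` for a subgroup `H ≥ T` normalizing a `p`-subgroup that contains `Ω₁Z(T)`. -/
theorem facIn_subgroup {W : ∀ (Q : Type u) [Group Q], Subgroup Q} (hW : IsCharPFunctor.{u} p W)
    (hloc : ∀ (X : Type u) [Group X] [Finite X], Sec G X →
      centralizer ((pCore p X : Subgroup X) : Set X) ≤ pCore p X →
      ∀ T : Sylow p X, FacIn p W ⊤ (T : Subgroup X))
    {X : Type u} [Group X] [Finite X] (hX : Sec G X) (T : Sylow p X) (H : Subgroup X)
    (hTH : (T : Subgroup X) ≤ H) (U : Subgroup X) (hUp : IsPGroup p U)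
    (hZU : omegaOne p ((T : Subgroup X) ⊓ centralizer ((T : Subgroup X) : Set X)) ≤ U)
    (hHU : H ≤ normalizer (U : Set X)) : FacIn p W H (T : Subgroup X) := by
  obtain ⟨T', hT'⟩ : ∃ T' : Sylow p ↥H, T' = T.subtype hTH := ⟨_, rfl⟩
  have hT'c : (T' : Subgroup ↥H).map H.subtype = (T : Subgroup X) := by
    rw [hT', Sylow.coe_subtype, Subgroup.subgroupOf_map_subtype, inf_eq_left.mpr hTH]
  have hZ'map : (omegaOne p ((T' : Subgroup ↥H) ⊓
      centralizer ((T' : Subgroup ↥H) : Set ↥H))).map H.subtype =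
      omegaOne p ((T : Subgroup X) ⊓ centralizer ((T : Subgroup X) : Set X)) := by
    rw [Cfsg.Agent.Lib.Helper10.map_omegaZ_of_injOn p
      (fun x _ h => Subgroup.subtype_injective H (h.trans (map_one _).symm)), hT'c]
  have hfacN := omega_fac hW hloc (Nat.card H) ↥H rfl (hX.trans (Sec.subgroup H)) T' (by
      have h5 : omegaOne p ((T' : Subgroup ↥H) ⊓
          centralizer ((T' : Subgroup ↥H) : Set ↥H)) ≤ U.subgroupOf H := by
        intro x hx
        rw [Subgroup.mem_subgroupOf]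
        apply hZU
        rw [← hZ'map]
        exact ⟨x, hx, rfl⟩
      haveI : (U.subgroupOf H).Normal := Subgroup.normal_subgroupOf_of_le_normalizer hHU
      exact h5.trans (Cfsg.Agent.Lib.Helper55.le_pCore p _ (IsPGroup.comap_subtype hUp)))
  have hfacN' := facIn_map_of_injective hW H.subtype (Subgroup.subtype_injective H)
    (T' : Subgroup ↥H) T'.isPGroup' hfacN
  rwa [Subgroup.range_subtype, hT'c] at hfacN'

variable [Finite G]

theorem ncl_le_of_normalizes {W : ∀ (Q : Type u) [Group Q], Subgroup Q}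
    (hW : IsCharPFunctor.{u} p W)
    (hloc : ∀ (X : Type u) [Group X] [Finite X], Sec G X →
      centralizer ((pCore p X : Subgroup X) : Set X) ≤ pCore p X →
      ∀ T : Sylow p X, FacIn p W ⊤ (T : Subgroup X))
    (S : Sylow p G) (H : Subgroup G) (hSH : (S : Subgroup G) ≤ H) (U : Subgroup G)
    (hUS : U ≤ (S : Subgroup G))
    (hZU : omegaOne p ((S : Subgroup G) ⊓ centralizer ((S : Subgroup G) : Set G)) ≤ U)
    (hHU : H ≤ normalizer (U : Set G)) :
    ncl H (omegaOne p ((S : Subgroup G) ⊓ centralizer ((S : Subgroup G) : Set G))) ≤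
      ncl (H ⊓ normalizer ((inducedFunctor (G := G) W (S : Subgroup G) : Subgroup G) : Set G))
        (omegaOne p ((S : Subgroup G) ⊓ centralizer ((S : Subgroup G) : Set G))) := by
  have hfac := facIn_subgroup hW hloc (Sec.refl G) S H hSH U (S.isPGroup'.to_le hUS) hZU hHU
  apply ncl_le_of_fac
  intro x hx
  obtain ⟨a, ha, b, hb, hab⟩ := hfac x⁻¹ (H.inv_mem hx)
  refine ⟨b⁻¹, Subgroup.inv_mem _ hb, a⁻¹, Subgroup.inv_mem _ (Subgroup.mem_inf.mp ha).2, ?_⟩
  rw [← mul_inv_rev, ← hab, inv_inv]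

/-- **Θ**: the closures of `Ω₁Z(S)` under `N_H(W₁(S))` and under `N_H(W₂(S))` agree. -/
theorem ncl_eq {W₁ W₂ : ∀ (Q : Type u) [Group Q], Subgroup Q}
    (hW₁ : IsCharPFunctor.{u} p W₁) (hW₂ : IsCharPFunctor.{u} p W₂)
    (hloc₁ : ∀ (X : Type u) [Group X] [Finite X], Sec G X →
      centralizer ((pCore p X : Subgroup X) : Set X) ≤ pCore p X →
      ∀ T : Sylow p X, FacIn p W₁ ⊤ (T : Subgroup X))
    (hloc₂ : ∀ (X : Type u) [Group X] [Finite X], Sec G X →
      centralizer ((pCore p X : Subgroup X) : Set X) ≤ pCore p X →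
      ∀ T : Sylow p X, FacIn p W₂ ⊤ (T : Subgroup X))
    (S : Sylow p G)
    (hZ₁ : omegaOne p ((S : Subgroup G) ⊓ centralizer ((S : Subgroup G) : Set G)) ≤
      inducedFunctor (G := G) W₁ (S : Subgroup G))
    (hZ₂ : omegaOne p ((S : Subgroup G) ⊓ centralizer ((S : Subgroup G) : Set G)) ≤
      inducedFunctor (G := G) W₂ (S : Subgroup G)) :
    ∀ (n : ℕ) (H : Subgroup G), Nat.card H = n → (S : Subgroup G) ≤ H →
      ncl (H ⊓ normalizer ((inducedFunctor (G := G) W₁ (S : Subgroup G) : Subgroup G) : Set G))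
        (omegaOne p ((S : Subgroup G) ⊓ centralizer ((S : Subgroup G) : Set G))) =
      ncl (H ⊓ normalizer ((inducedFunctor (G := G) W₂ (S : Subgroup G) : Subgroup G) : Set G))
        (omegaOne p ((S : Subgroup G) ⊓ centralizer ((S : Subgroup G) : Set G))) := by
  obtain ⟨Z, hZ⟩ : ∃ Z : Subgroup G,
      Z = omegaOne p ((S : Subgroup G) ⊓ centralizer ((S : Subgroup G) : Set G)) := ⟨_, rfl⟩
  obtain ⟨N₁, hN₁⟩ : ∃ N₁ : Subgroup G, N₁ =
      normalizer ((inducedFunctor (G := G) W₁ (S : Subgroup G) : Subgroup G) : Set G) := ⟨_, rfl⟩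
  obtain ⟨N₂, hN₂⟩ : ∃ N₂ : Subgroup G, N₂ =
      normalizer ((inducedFunctor (G := G) W₂ (S : Subgroup G) : Subgroup G) : Set G) := ⟨_, rfl⟩
  have hSN₁ : (S : Subgroup G) ≤ N₁ := by
    rw [hN₁]
    exact Subgroup.le_normalizer.trans
      (normalizer_le_normalizer_functor (isConjugacyFunctor_induced hW₁) S.isPGroup')
  have hSN₂ : (S : Subgroup G) ≤ N₂ := by
    rw [hN₂]
    exact Subgroup.le_normalizer.trans
      (normalizer_le_normalizer_functor (isConjugacyFunctor_induced hW₂) S.isPGroup')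
  have key₁ : ∀ H : Subgroup G, (S : Subgroup G) ≤ H → H ≤ N₁ → ncl H Z ≤ ncl (H ⊓ N₂) Z := by
    intro H hSH hH
    rw [hZ, hN₂]
    rw [hN₁] at hH
    exact ncl_le_of_normalizes hW₂ hloc₂ S H hSH _ (induced_le _) hZ₁ hH
  have key₂ : ∀ H : Subgroup G, (S : Subgroup G) ≤ H → H ≤ N₂ → ncl H Z ≤ ncl (H ⊓ N₁) Z := by
    intro H hSH hH
    rw [hZ, hN₁]
    rw [hN₂] at hH
    exact ncl_le_of_normalizes hW₁ hloc₁ S H hSH _ (induced_le _) hZ₂ hH
  rw [← hZ, ← hN₁, ← hN₂]
  intro n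
  induction n using Nat.strong_induction_on with
  | _ n ih =>
  intro H hn hSH
  by_cases h1 : H ≤ N₁
  · rw [inf_eq_left.mpr h1]
    exact le_antisymm (key₁ H hSH h1) (ncl_mono inf_le_left)
  by_cases h2 : H ≤ N₂
  · rw [inf_eq_left.mpr h2]
    exact le_antisymm (ncl_mono inf_le_left) (key₂ H hSH h2)
  have hlt₁ : H ⊓ N₁ < H := lt_of_le_of_ne inf_le_left (fun h => h1 (inf_eq_left.mp h))
  have hlt₂ : H ⊓ N₂ < H := lt_of_le_of_ne inf_le_left (fun h => h2 (inf_eq_left.mp h))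
  have e₁ := ih (Nat.card ↥(H ⊓ N₁)) (hn ▸ card_lt_of_lt hlt₁) (H ⊓ N₁) rfl (le_inf hSH hSN₁)
  have e₂ := ih (Nat.card ↥(H ⊓ N₂)) (hn ▸ card_lt_of_lt hlt₂) (H ⊓ N₂) rfl (le_inf hSH hSN₂)
  rw [inf_assoc, inf_idem] at e₁
  rw [inf_assoc H N₂ N₂, inf_idem] at e₂
  rw [e₁, ← e₂, inf_right_comm]

end theta

end Cfsg.Agent.Lib.Helper33
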