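import Cfsg.Agent.Lib.Helper33.SecMaster
import Cfsg.Agent.Lib.Helper10.TFQuot
import Cfsg.Prelude.Def_PLocal
import Cfsg.Prelude.Def_Transfer

set_option autoImplicit false
set_option linter.style.haveILetI false
set_option linter.unusedSectionVars false

universe u

namespace Cfsg.Agent.Lib.Helper33

open Cfsg Subgroup

section oz

variable {X : Type*} [Group X] (p : ℕ)

theorem oz_le (P : Subgroup X) :
    omegaOne p (P ⊓ centralizer (P : Set X)) ≤ P ⊓ centralizer (P : Set X) := by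
  unfold omegaOne
  rw [Subgroup.closure_le]
  intro x hx
  exact hx.1

theorem oz_comm (P : Subgroup X) {a b : X}
    (ha : a ∈ omegaOne p (P ⊓ centralizer (P : Set X)))
    (hb : b ∈ omegaOne p (P ⊓ centralizer (P : Set X))) : a * b = b * a := by
  have h1 := (oz_le p P ha).2
  have h2 := (oz_le p P hb).1
  exact (Subgroup.mem_centralizer_iff.mp h1 b h2).symm

theorem oz_pow (P : Subgroup X) {a : X}
    (ha : a ∈ omegaOne p (P ⊓ centralizer (P : Set X))) : a ^ p = 1 := by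
  unfold omegaOne at ha
  induction ha using Subgroup.closure_induction with
  | mem x hx => exact hx.2
  | one => exact one_pow _
  | mul x y hx hy ihx ihy =>
    have hc : Commute x y := oz_comm p P hx hy
    rw [hc.mul_pow, ihx, ihy, mul_one]
  | inv x hx ihx => rw [inv_pow, ihx, inv_one]

theorem mem_oz {P : Subgroup X} {x : X} (h1 : x ∈ P) (h2 : x ∈ centralizer (P : Set X))
    (h3 : x ^ p = 1) : x ∈ omegaOne p (P ⊓ centralizer (P : Set X)) :=
  Subgroup.subset_closure ⟨⟨h1, h2⟩, h3⟩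

theorem oz_isElementaryAbelian_of_le (P : Subgroup X) {A : Subgroup X}
    (hA : A ≤ omegaOne p (P ⊓ centralizer (P : Set X))) : IsElementaryAbelian p A := by
  refine ⟨⟨⟨fun a b => Subtype.ext ?_⟩⟩, fun a ha => oz_pow p P (hA ha)⟩
  exact oz_comm p P (hA a.2) (hA b.2)

theorem cj_oz (g : X) (P : Subgroup X) :
    cj g (omegaOne p (P ⊓ centralizer (P : Set X))) =
      omegaOne p (cj g P ⊓ centralizer ((cj g P : Subgroup X) : Set X)) := by
  rw [cj_def, cj_def]
  exact Cfsg.Agent.Lib.Helper10.map_omegaZ_of_injOn p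
    (fun x _ h => (MulAut.conj g).injective (h.trans (map_one _).symm))

theorem normalizer_le_normalizer_oz (P : Subgroup X) :
    normalizer (P : Set X) ≤
      normalizer ((omegaOne p (P ⊓ centralizer (P : Set X)) : Subgroup X) : Set X) := by
  intro n hn
  apply cj_eq_self_iff.mp
  rw [cj_oz, cj_eq_self_iff.mpr hn]

end oz

/-- `H = C_H(Ω₁Z(T)) N_H(W(T))`. -/
def FacIn (p : ℕ) (W : ∀ (Q : Type u) [Group Q], Subgroup Q) {X : Type u} [Group X]
    (H T : Subgroup X) : Prop :=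
  ∀ x ∈ H, ∃ a ∈ H ⊓ centralizer ((omegaOne p (T ⊓ centralizer (T : Set X)) : Subgroup X) : Set X),
    ∃ b ∈ H ⊓ normalizer ((inducedFunctor (G := X) W T : Subgroup X) : Set X), x = a * b

variable {p : ℕ} {W : ∀ (Q : Type u) [Group Q], Subgroup Q}

theorem facIn_map_of_injective {Y X : Type u} [Group Y] [Group X] (hW : IsCharPFunctor.{u} p W)
    (f : Y →* X) (hf : Function.Injective f) (T : Subgroup Y) [Finite T] (hT : IsPGroup p T)
    (h : FacIn p W (⊤ : Subgroup Y) T) : FacIn p W f.range (T.map f) := by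
  rintro _ ⟨y, rfl⟩
  obtain ⟨a, ha, b, hb, rfl⟩ := h y (Subgroup.mem_top y)
  refine ⟨f a, Subgroup.mem_inf.mpr ⟨⟨a, rfl⟩, ?_⟩, f b, Subgroup.mem_inf.mpr ⟨⟨b, rfl⟩, ?_⟩,
    map_mul f a b⟩
  · rw [← Cfsg.Agent.Lib.Helper10.map_omegaZ_of_injOn p
      (fun x _ h => hf (h.trans (map_one f).symm))]
    rw [Subgroup.mem_centralizer_iff]
    rintro _ ⟨z, hz, rfl⟩
    rw [← map_mul, ← map_mul, Subgroup.mem_centralizer_iff.mp ha.2 z hz]
  · rw [← induced_map_of_injective hW f hf T hT]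
    exact Subgroup.le_normalizer_map f ⟨b, hb.2, rfl⟩

/-- **Λ**: if `Ω₁Z(T) ≤ O_p(X)` then `X = C_X(Ω₁Z(T)) N_X(W(T))`, given this in the sections with
`C(O_p) ≤ O_p`. -/
theorem omega_fac [Fact p.Prime] {G : Type u} [Group G] (hW : IsCharPFunctor.{u} p W)
    (hloc : ∀ (X : Type u) [Group X] [Finite X], Sec G X →
      centralizer ((pCore p X : Subgroup X) : Set X) ≤ pCore p X →
      ∀ T : Sylow p X, FacIn p W ⊤ (T : Subgroup X)) :
    ∀ (n : ℕ) (X : Type u) [Group X] [Finite X], Nat.card X = n → Sec G X →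
      ∀ T : Sylow p X,
        omegaOne p ((T : Subgroup X) ⊓ centralizer ((T : Subgroup X) : Set X)) ≤ pCore p X →
        FacIn p W ⊤ (T : Subgroup X) := by
  intro n
  induction n using Nat.strong_induction_on with
  | _ n ih =>
  intro X _ _ hn hX T hZQ
  by_cases h3 : centralizer ((pCore p X : Subgroup X) : Set X) ≤ pCore p X
  · exact hloc X hX h3 T
  obtain ⟨Q, hQ⟩ : ∃ Q : Subgroup X, Q = pCore p X := ⟨_, rfl⟩
  haveI hQn : Q.Normal := by rw [hQ]; exact Cfsg.Agent.Lib.Helper55.pCore_normal' p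
  have hQP : Q ≤ (T : Subgroup X) := by rw [hQ]; exact Cfsg.Agent.Lib.Helper11.pCore_le_sylow T
  have hQp : IsPGroup p Q := T.isPGroup'.to_le hQP
  rw [← hQ] at h3 hZQ
  obtain ⟨Z, hZ⟩ : ∃ Z : Subgroup X,
      Z = omegaOne p ((T : Subgroup X) ⊓ centralizer ((T : Subgroup X) : Set X)) := ⟨_, rfl⟩
  rw [← hZ] at hZQ
  have hZT : Z ≤ (T : Subgroup X) := by rw [hZ]; exact (oz_le p _).trans inf_le_left
  by_cases h1 : pPrimeCore p X = ⊥
  swap
  · -- the case `O_{p'}(X) ≠ 1`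
    obtain ⟨K, hK⟩ : ∃ K : Subgroup X, K = pPrimeCore p X := ⟨_, rfl⟩
    haveI hKn : K.Normal := by rw [hK]; exact Cfsg.Agent.Lib.Helper55.pPrimeCore_normal' p
    have hKc : (Nat.card K).Coprime p := by
      rw [hK]; exact Cfsg.Agent.Lib.Helper55.pPrimeCore_card_coprime p
    have hKne : K ≠ ⊥ := by rw [hK]; exact h1
    obtain ⟨π, hπ⟩ : ∃ π : X →* X ⧸ K, π = QuotientGroup.mk' K := ⟨_, rfl⟩
    have hπs : Function.Surjective π := by rw [hπ]; exact QuotientGroup.mk'_surjective K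
    have hinj : ∀ x ∈ (T : Subgroup X), π x = 1 → x = 1 := by
      intro x hx hx1
      rw [hπ] at hx1
      exact Cfsg.Agent.Lib.Helper10.eq_one_of_mem_pgroup_of_mk_eq_one K hKc T.isPGroup' x hx hx1
    obtain ⟨T', hT'⟩ : ∃ T' : Sylow p (X ⧸ K), T' = T.mapSurjective hπs := ⟨_, rfl⟩
    have hT'c : (T' : Subgroup (X ⧸ K)) = (T : Subgroup X).map π := by
      rw [hT']; exact Sylow.coe_mapSurjective hπs T
    have hZ' : omegaOne p ((T' : Subgroup (X ⧸ K)) ⊓
        centralizer ((T' : Subgroup (X ⧸ K)) : Set (X ⧸ K))) = Z.map π := by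
      rw [hT'c, hZ, Cfsg.Agent.Lib.Helper10.map_omegaZ_of_injOn p hinj]
    have hW' : inducedFunctor (G := X ⧸ K) W (T' : Subgroup (X ⧸ K)) =
        (inducedFunctor (G := X) W (T : Subgroup X)).map π := by
      rw [hT'c, induced_map_of_injOn hW π _ T.isPGroup' hinj]
    have hfac' := ih (Nat.card (X ⧸ K)) (hn ▸ card_quotient_lt K hKne) (X ⧸ K) rfl
      (hX.trans (Sec.quotient K)) T' (by
        rw [hZ']
        have h5 : Z.map π ≤ Q.map π := Subgroup.map_mono hZQ
        haveI : (Q.map π).Normal := Subgroup.Normal.map hQn π hπs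
        exact h5.trans (Cfsg.Agent.Lib.Helper55.le_pCore p _ (hQp.map π)))
    have hKZ : K ≤ centralizer (Z : Set X) := by
      intro k hk
      rw [Subgroup.mem_centralizer_iff]
      intro z hz
      have hdis : Disjoint K Q := by
        rw [Subgroup.disjoint_def]
        intro x hxK hxQ
        exact eq_one_of_mem_sylow_of_mem_coprime T K hKc (hQP hxQ) hxK
      exact ((Subgroup.commute_of_normal_of_disjoint K Q hKn hQn hdis k z hk (hZQ hz)).eq).symm
    intro x _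
    obtain ⟨ab, hab, bb, hbb, hx⟩ := hfac' (π x) (Subgroup.mem_top _)
    rw [hZ'] at hab
    rw [hW'] at hbb
    rw [hπ] at hab hbb
    obtain ⟨a, ha, haπ⟩ := Cfsg.Agent.Lib.Helper10.exists_mem_centralizer_mk_eq K hKc
      (T.isPGroup'.to_le hZT) ab hab.2
    obtain ⟨b, hb, hbπ⟩ := Cfsg.Agent.Lib.Helper10.exists_mem_normalizer_mk_eq K hKc
      (T.isPGroup'.to_le (induced_le _)) bb hbb.2
    have hk : (a * b)⁻¹ * x ∈ K := by
      rw [← QuotientGroup.ker_mk' K, MonoidHom.mem_ker, map_mul, map_inv, map_mul, haπ, hbπ,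
        ← hπ, hx]
      group
    refine ⟨a * (b * ((a * b)⁻¹ * x) * b⁻¹), Subgroup.mem_inf.mpr ⟨mem_top _, ?_⟩, b,
      Subgroup.mem_inf.mpr ⟨mem_top _, hb⟩, by group⟩
    rw [← hZ]
    exact Subgroup.mul_mem _ ha (hKZ (hKn.conj_mem _ hk b))
  -- now `O_{p'}(X) = 1` and `C(Q) ≰ Q`
  obtain ⟨C, hC⟩ : ∃ C : Subgroup X, C = centralizer (Q : Set X) := ⟨_, rfl⟩
  haveI hCn : C.Normal := by rw [hC]; infer_instance
  rw [← hC] at h3
  obtain ⟨M, hM⟩ : ∃ M : Subgroup X, M = C ⊔ Q := ⟨_, rfl⟩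
  haveI hMn : M.Normal := by rw [hM]; infer_instance
  obtain ⟨R, hR⟩ : ∃ R : Subgroup X, R = (T : Subgroup X) ⊓ M := ⟨_, rfl⟩
  have hRi : ¬ p ∣ R.relIndex M := by
    rw [hR]; exact Cfsg.Agent.Lib.Helper32.not_dvd_relIndex_inf_normal T M
  have hRp : IsPGroup p R := T.isPGroup'.to_le (hR ▸ inf_le_left)
  obtain ⟨N, hN⟩ : ∃ N : Subgroup X, N = normalizer (R : Set X) := ⟨_, rfl⟩
  have hMtop : normalizer (M : Set X) = ⊤ := Subgroup.normalizer_eq_top_iff.mpr hMn
  have hTN : (T : Subgroup X) ≤ N := by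
    rw [hN, hR]
    intro t ht
    apply cj_eq_self_iff.mp
    rw [cj_inf, cj_eq_self_of_mem ht, cj_eq_self_iff.mpr (by rw [hMtop]; exact mem_top t)]
  have hNne : N ≠ ⊤ := by
    intro htop
    haveI : R.Normal := Subgroup.normalizer_eq_top_iff.mp (hN ▸ htop)
    have hRQ : R ≤ Q := by rw [hQ]; exact Cfsg.Agent.Lib.Helper55.le_pCore p R hRp
    apply h3
    have hTC : (T : Subgroup X) ⊓ C ≤ Q := by
      refine le_trans ?_ hRQ
      rw [hR, hM]
      exact inf_le_inf_left _ le_sup_left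
    have := le_sylow_of_central_sylow T h1 C (by
      intro z hz c hc
      rw [hC] at hc
      exact (Subgroup.mem_centralizer_iff.mp hc z (hTC hz)).symm)
    exact (le_inf this le_rfl).trans hTC
  obtain ⟨T', hT'⟩ : ∃ T' : Sylow p ↥N, T' = T.subtype hTN := ⟨_, rfl⟩
  have hT'c : (T' : Subgroup ↥N).map N.subtype = (T : Subgroup X) := by
    rw [hT', Sylow.coe_subtype, Subgroup.subgroupOf_map_subtype, inf_eq_left.mpr hTN]
  have hZ'map : (omegaOne p ((T' : Subgroup ↥N) ⊓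
      centralizer ((T' : Subgroup ↥N) : Set ↥N))).map N.subtype = Z := by
    rw [Cfsg.Agent.Lib.Helper10.map_omegaZ_of_injOn p
      (fun x _ h => Subgroup.subtype_injective N (h.trans (map_one _).symm)), hT'c, hZ]
  have hfacN := ih (Nat.card N) (hn ▸ card_subgroup_lt N hNne) ↥N rfl
    (hX.trans (Sec.subgroup N)) T' (by
      have h5 : omegaOne p ((T' : Subgroup ↥N) ⊓
          centralizer ((T' : Subgroup ↥N) : Set ↥N)) ≤ Q.subgroupOf N := by
        intro x hx
        rw [Subgroup.mem_subgroupOf]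
        apply hZQ
        rw [← hZ'map]
        exact ⟨x, hx, rfl⟩
      haveI : (Q.subgroupOf N).Normal := inferInstance
      exact h5.trans (Cfsg.Agent.Lib.Helper55.le_pCore p _ (IsPGroup.comap_subtype hQp)))
  have hfacN' := facIn_map_of_injective hW N.subtype (Subgroup.subtype_injective N)
    (T' : Subgroup ↥N) T'.isPGroup' hfacN
  rw [Subgroup.range_subtype, hT'c] at hfacN'
  intro x _
  obtain ⟨x₁, hx₁, y, hy, rfl⟩ := frattini_gen (H := ⊤) (M := M) (R := R)
    (by rw [hMtop]) le_top (hR ▸ inf_le_right) hRp hRi (Subgroup.mem_top x)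
  rw [hM] at hx₁
  obtain ⟨c, hc, q, hq, rfl⟩ := Subgroup.mem_sup_of_normal_right.mp hx₁
  have hqy : q * y ∈ N := N.mul_mem (hTN (hQP hq)) (hN ▸ hy.2)
  obtain ⟨a, ha, b, hb, hab⟩ := hfacN' (q * y) hqy
  refine ⟨c * a, Subgroup.mem_inf.mpr ⟨mem_top _, ?_⟩, b, Subgroup.mem_inf.mpr ⟨mem_top _, hb.2⟩,
    by rw [mul_assoc c q y, hab, mul_assoc]⟩
  have ha2 := (Subgroup.mem_inf.mp ha).2
  rw [← hZ] at ha2 ⊢
  apply Subgroup.mul_mem _ _ ha2
  rw [hC] at hc
  exact Subgroup.centralizer_le hZQ hc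

end Cfsg.Agent.Lib.Helper33
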