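import Cfsg.Agent.Lib.Helper33.PStabBasic
import Cfsg.Agent.Lib.Helper11.NormPStable

set_option autoImplicit false
set_option linter.style.haveILetI false
set_option linter.unusedSectionVars false

/-!
# Quadratic elements centralize irreducible `p`-subgroups in a `p`-stable group
-/

namespace Cfsg.Agent.Lib.Helper33

open Cfsg Subgroup

open scoped commutatorElement

/-- In a `p`-stable group, an element of a subgroup `Γ` acting irreducibly on the `p`-subgroup `P`
which acts quadratically on `P` centralizes `P`. -/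
theorem quad_centralizes_irreducible {H : Type*} [Group H] [Finite H] {p : ℕ} [Fact p.Prime]
    (hst : IsNormalizerPStable p H) (P Γ : Subgroup H) (hP : IsPGroup p P) (hPne : P ≠ ⊥)
    (hΓ : Γ ≤ normalizer (P : Set H))
    (hirr : ∀ U : Subgroup H, U ≤ P → Γ ≤ normalizer (U : Set H) → U = ⊥ ∨ U = P)
    (a : H) (ha : a ∈ Γ) (hq : ⁅⁅P, Subgroup.zpowers a⁆, Subgroup.zpowers a⁆ = ⊥) :
    a ∈ centralizer (P : Set H) := by
  obtain ⟨N, hN⟩ : ∃ N : Subgroup H, N = normalizer (P : Set H) := ⟨_, rfl⟩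
  rw [← hN] at hΓ
  have hPN : P ≤ N := by rw [hN]; exact Subgroup.le_normalizer
  have hstN : IsNormalizerPStable p ↥N :=
    Cfsg.Agent.Lib.Helper11.isNormalizerPStable_subgroup N hst
  obtain ⟨V, hV⟩ : ∃ V : Subgroup ↥N, V = P.subgroupOf N := ⟨_, rfl⟩
  haveI hVn : V.Normal := by
    rw [hV, hN]; infer_instance
  have hVp : IsPGroup p V := by rw [hV]; exact hP.comap_subtype
  have hinj : Function.Injective N.subtype := Subgroup.subtype_injective N
  have hVmap : V.map N.subtype = P := by rw [hV]; exact Subgroup.map_subgroupOf_eq_of_le hPN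
  have hVne : V ≠ ⊥ := by
    intro h
    apply hPne
    rw [← hVmap, h, Subgroup.map_bot]
  have hmin : ∀ M : Subgroup ↥N, M.Normal → M ≤ V → M = ⊥ ∨ M = V := by
    intro M hMn hMV
    have h1 : M.map N.subtype ≤ P := by rw [← hVmap]; exact Subgroup.map_mono hMV
    have h2 : Γ ≤ normalizer ((M.map N.subtype : Subgroup H) : Set H) := by
      intro γ hγ
      have key : ∀ g : H, g ∈ N → ∀ u ∈ M.map N.subtype, g * u * g⁻¹ ∈ M.map N.subtype := by
        rintro g hg _ ⟨m, hm, rfl⟩
        exact ⟨⟨g, hg⟩ * m * ⟨g, hg⟩⁻¹, hMn.conj_mem m hm ⟨g, hg⟩, rfl⟩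
      rw [Subgroup.mem_normalizer_iff]
      intro u
      constructor
      · exact key γ (hΓ hγ) u
      · intro hu
        have := key γ⁻¹ (N.inv_mem (hΓ hγ)) _ hu
        have e : γ⁻¹ * (γ * u * γ⁻¹) * γ⁻¹⁻¹ = u := by group
        rwa [e] at this
    rcases hirr _ h1 h2 with h | h
    · left
      exact (Subgroup.map_eq_bot_iff_of_injective M hinj).mp h
    · right
      apply Subgroup.map_injective hinj
      rw [h, hVmap]
  have haN : a ∈ N := hΓ ha
  have hquad : ⁅⁅V, Subgroup.zpowers (⟨a, haN⟩ : ↥N)⁆, Subgroup.zpowers (⟨a, haN⟩ : ↥N)⁆ = ⊥ := by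
    rw [← Subgroup.map_eq_bot_iff_of_injective _ hinj, Subgroup.map_commutator,
      Subgroup.map_commutator, hVmap, MonoidHom.map_zpowers]
    exact hq
  have h3 := quad_centralizes_min_normal hstN V hVp hVne hmin ⟨a, haN⟩ hquad
  rw [Subgroup.mem_centralizer_iff] at h3 ⊢
  intro x hx
  have hxV : (⟨x, hPN hx⟩ : ↥N) ∈ V := by rw [hV]; exact Subgroup.mem_subgroupOf.mpr hx
  have := h3 _ hxV
  exact congrArg Subtype.val this

end Cfsg.Agent.Lib.Helper33
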