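import Cfsg.Agent.Lib.Helper33.PStabMain

set_option autoImplicit false
set_option linter.style.haveILetI false
set_option linter.unusedSectionVars false
set_option maxHeartbeats 1000000

/-!
# Quadratic action of a lower-star member on a minimal noncentral normal subgroup
-/

namespace Cfsg.Agent.Lib.Helper33

open Cfsg Subgroup

open scoped commutatorElement

/-- The core of the proof of `lowerStar_le_pCore`: a member `B` of the lower-star family of `Q`
acts quadratically on `X / C_X(L)` for a minimal normal subgroup `X ≤ Q` not centralized by `L`. -/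
theorem quad_on_minimal {Γ : Type*} [Group Γ] [Finite Γ] {p : ℕ} [hp : Fact p.Prime]
    (T L Q B : Subgroup Γ) [hTn : T.Normal] [hLn : L.Normal] (hTp : IsPGroup p T)
    (hLgen : ∀ N : Subgroup Γ, N.Normal → (∀ y ∈ L, (orderOf y).Coprime p → y ∈ N) → L ≤ N)
    (hQT : Q ≤ T) (hH : L ⊔ normalizer (B : Set Γ) ⊔ T = ⊤)
    (hBQ : B ∈ kLowerStarFamily Q) (hZT : B ⊓ centralizer (B : Set Γ) ≤ T)
    (X : Subgroup Γ) [hXn : X.Normal] (hXQ : X ≤ Q) (hXL : ¬ L ≤ centralizer (X : Set Γ))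
    (hprop : ∀ N : Subgroup Γ, N.Normal → N ≤ X → N ≠ X → N ≤ centralizer (L : Set Γ)) :
    ⁅⁅X, B⁆, B⁆ ≤ X ⊓ centralizer (L : Set Γ) := by
  obtain ⟨hB2, hQB, hBtest⟩ := hBQ
  obtain ⟨ZB, hZB⟩ : ∃ ZB : Subgroup Γ, ZB = B ⊓ centralizer (B : Set Γ) := ⟨_, rfl⟩
  rw [← hZB] at hBtest hZT
  have hZBB : ZB ≤ B := hZB ▸ inf_le_left
  have hZBC : ZB ≤ centralizer (B : Set Γ) := hZB ▸ inf_le_right
  have hXT : X ≤ T := hXQ.trans hQT
  obtain ⟨Y, hY⟩ : ∃ Y : Subgroup Γ, Y = X ⊓ centralizer (L : Set Γ) := ⟨_, rfl⟩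
  haveI hYn : Y.Normal := by rw [hY]; infer_instance
  have hYX : Y ≤ X := hY ▸ inf_le_left
  have hYL : Y ≤ centralizer (L : Set Γ) := hY ▸ inf_le_right
  have hYneX : Y ≠ X := by
    intro h
    apply hXL
    rw [Subgroup.le_centralizer_iff, ← h]
    exact hYL
  have hchief : IsChiefFactor X Y := by
    refine ⟨lt_of_le_of_ne hYX hYneX, hXn, hYn, ?_⟩
    intro N hNn hYN hNX
    by_cases hNe : N = X
    · exact Or.inr hNe
    · left
      apply le_antisymm _ hYN
      rw [hY]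
      exact le_inf hNX (hprop N hNn hNX hNe)
  have hTX : ⁅T, X⁆ ≤ Y := chief_central hTp hchief
  have hXX : ⁅X, X⁆ ≤ Y := (Subgroup.commutator_mono hXT le_rfl).trans hTX
  have hYLbot : ⁅Y, L⁆ = ⊥ := by
    rw [Subgroup.commutator_eq_bot_iff_le_centralizer]; exact hYL
  -- `[X, L] = X`
  have hXLeq : ⁅X, L⁆ = X := by
    by_contra hne
    have h1 : ⁅X, L⁆ ≤ centralizer (L : Set Γ) :=
      hprop ⁅X, L⁆ inferInstance (Subgroup.commutator_le_left X L) hne
    apply hXL
    apply hLgen _ inferInstance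
    intro y hyL hy
    have h2 := coprime_commutator_eq_one X (hTp.to_le hXT) y hy
      (fun x hx => hXn.conj_mem x hx y)
      (fun x hx => by
        have h3 : ⁅x, y⁆ ∈ ⁅X, L⁆ := Subgroup.commutator_mem_commutator hx hyL
        exact (Subgroup.mem_centralizer_iff.mp (h1 h3) y hyL).symm)
    rw [Subgroup.mem_centralizer_iff]
    intro x hx
    have h3 := h2 x hx
    rw [commutatorElement_eq_one_iff_mul_comm] at h3
    exact h3
  -- `Y` is central in `X`
  have hYZ : Y ≤ centralizer (X : Set Γ) := by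
    have h1 : ⁅⁅L, Y⁆, X⁆ = ⊥ := by
      rw [Subgroup.commutator_comm L Y, hYLbot, Subgroup.commutator_bot_left]
    have h2 : ⁅⁅Y, X⁆, L⁆ = ⊥ := by
      rw [eq_bot_iff, ← hYLbot]
      exact Subgroup.commutator_mono (Subgroup.commutator_le_left Y X) le_rfl
    have h3 := Subgroup.commutator_commutator_eq_bot_of_rotate h1 h2
    rw [hXLeq, Subgroup.commutator_comm, Subgroup.commutator_eq_bot_iff_le_centralizer] at h3
    exact h3
  have hX2 : X ∈ classTwoSubgroups Γ := hXX.trans hYZ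
  have hXXc : ∀ v ∈ X, ∀ x ∈ X, ∀ w ∈ X, w * ⁅v, x⁆ = ⁅v, x⁆ * w := by
    intro v hv x hx w hw
    exact (Subgroup.mem_centralizer_iff.mp (hYZ (hXX (Subgroup.commutator_mem_commutator hv hx))) w
      hw)
  -- the radical
  obtain ⟨Rad, hRad⟩ : ∃ Rad : Subgroup Γ, ∀ v : Γ, v ∈ Rad ↔
      (v ∈ X ∧ ∀ x ∈ X, ⁅v, x⁆ ∈ centralizer (B : Set Γ)) := by
    refine ⟨{ carrier := {v | v ∈ X ∧ ∀ x ∈ X, ⁅v, x⁆ ∈ centralizer (B : Set Γ)}
              mul_mem' := ?_, one_mem' := ?_, inv_mem' := ?_ }, fun v => Iff.rfl⟩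
    · rintro v w ⟨hv, hv'⟩ ⟨hw, hw'⟩
      refine ⟨X.mul_mem hv hw, ?_⟩
      intro x hx
      have e : ⁅v * w, x⁆ = v * ⁅w, x⁆ * v⁻¹ * ⁅v, x⁆ := by
        simp only [commutatorElement_def]; group
      have e2 : v * ⁅w, x⁆ * v⁻¹ = ⁅w, x⁆ := by
        rw [hXXc w hw x hx v hv]; group
      rw [e, e2]
      exact Subgroup.mul_mem _ (hw' x hx) (hv' x hx)
    · refine ⟨X.one_mem, ?_⟩
      intro x _
      rw [commutatorElement_one_left]
      exact Subgroup.one_mem _
    · rintro v ⟨hv, hv'⟩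
      refine ⟨X.inv_mem hv, ?_⟩
      intro x hx
      have e : ⁅v⁻¹, x⁆ = v⁻¹ * ⁅v, x⁆⁻¹ * v := by
        simp only [commutatorElement_def]; group
      have e2 : v⁻¹ * ⁅v, x⁆⁻¹ * v = ⁅v, x⁆⁻¹ := by
        have h1 := hXXc v hv x hx v hv
        have h2 : v * ⁅v, x⁆⁻¹ = ⁅v, x⁆⁻¹ * v := by
          calc v * ⁅v, x⁆⁻¹ = ⁅v, x⁆⁻¹ * (⁅v, x⁆ * v) * ⁅v, x⁆⁻¹ := by group
            _ = ⁅v, x⁆⁻¹ * (v * ⁅v, x⁆) * ⁅v, x⁆⁻¹ := by rw [h1]
            _ = ⁅v, x⁆⁻¹ * v := by group
        calc v⁻¹ * ⁅v, x⁆⁻¹ * v = v⁻¹ * (⁅v, x⁆⁻¹ * v) := by group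
          _ = v⁻¹ * (v * ⁅v, x⁆⁻¹) := by rw [h2]
          _ = ⁅v, x⁆⁻¹ := by group
      rw [e, e2]
      exact Subgroup.inv_mem _ (hv' x hx)
  have hRadX : Rad ≤ X := fun v hv => ((hRad v).mp hv).1
  have hYRad : Y ≤ Rad := by
    intro v hv
    rw [hRad]
    refine ⟨hYX hv, ?_⟩
    intro x hx
    have : ⁅v, x⁆ = 1 := by
      rw [commutatorElement_eq_one_iff_mul_comm]
      exact (Subgroup.mem_centralizer_iff.mp (hYZ hv) x hx).symm
    rw [this]
    exact Subgroup.one_mem _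
  have hconj : ∀ g v x : Γ, ⁅g * v * g⁻¹, x⁆ = g * ⁅v, g⁻¹ * x * g⁆ * g⁻¹ := by
    intro g v x
    simp only [commutatorElement_def]; group
  have hRadN : normalizer (Rad : Set Γ) = ⊤ := by
    rw [eq_top_iff, ← hH]
    refine sup_le (sup_le ?_ ?_) ?_
    · -- `L`
      apply le_normalizer_of_conj_mem
      intro g hg v hv
      obtain ⟨hvX, hv'⟩ := (hRad v).mp hv
      rw [hRad]
      refine ⟨hXn.conj_mem v hvX g, ?_⟩
      intro x hx
      have hx' : g⁻¹ * x * g ∈ X := by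
        have := hXn.conj_mem x hx g⁻¹
        rwa [inv_inv] at this
      have h1 : ⁅v, g⁻¹ * x * g⁆ ∈ centralizer (L : Set Γ) :=
        hYL (hXX (Subgroup.commutator_mem_commutator hvX hx'))
      have h2 := Subgroup.mem_centralizer_iff.mp h1 g hg
      rw [hconj, h2]
      have e : ⁅v, g⁻¹ * x * g⁆ * g * g⁻¹ = ⁅v, g⁻¹ * x * g⁆ := by group
      rw [e]
      exact hv' _ hx'
    · -- the normalizer of `B`
      apply le_normalizer_of_conj_mem
      intro g hg v hv
      obtain ⟨hvX, hv'⟩ := (hRad v).mp hv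
      rw [hRad]
      refine ⟨hXn.conj_mem v hvX g, ?_⟩
      intro x hx
      have hx' : g⁻¹ * x * g ∈ X := by
        have := hXn.conj_mem x hx g⁻¹
        rwa [inv_inv] at this
      rw [hconj]
      exact (Subgroup.mem_normalizer_iff.mp (normalizer_le_normalizer_centralizer B hg) _).mp
        (hv' _ hx')
    · -- `T`
      apply le_normalizer_of_conj_mem
      intro g hg v hv
      have hvX := hRadX hv
      have e : g * v * g⁻¹ = ⁅g, v⁆ * v := by
        rw [commutatorElement_def]; group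
      rw [e]
      exact Rad.mul_mem (hYRad (hTX (Subgroup.commutator_mem_commutator hg hvX))) hv
  haveI hRadn : Rad.Normal := Subgroup.normalizer_eq_top_iff.mp hRadN
  have hXB : ⁅X, B⁆ ≤ X ⊓ B :=
    le_inf (Subgroup.commutator_le_left X B) (commutator_le_of_le_normalizer' (hXQ.trans hQB))
  -- `B` acts quadratically on `X / Y`
  have hquad : ⁅⁅X, B⁆, B⁆ ≤ Y := by
    rcases hchief.2.2.2 Rad hRadn hYRad hRadX with hcase | hcase
    · -- `Rad = Y`
      have h1 : X ⊓ ZB ≤ Rad := by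
        rintro w ⟨hwX, hwZ⟩
        rw [hRad]
        refine ⟨hwX, ?_⟩
        intro x hx
        rw [Subgroup.mem_centralizer_iff]
        intro c hc
        -- `c ⁅w, x⁆ c⁻¹ = ⁅w, x⁆`
        have hwc : c * w = w * c := (Subgroup.mem_centralizer_iff.mp (hZBC hwZ) c hc)
        obtain ⟨e, he⟩ : ∃ e : Γ, e = ⁅c, x⁆ := ⟨_, rfl⟩
        have heB : e ∈ B := by
          rw [he]
          exact (commutator_le_of_le_normalizer' (hXQ.trans hQB))
            (Subgroup.commutator_mem_commutator hx hc |> fun h => by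
              have h2 : ⁅c, x⁆ ∈ ⁅B, X⁆ := Subgroup.commutator_mem_commutator hc hx
              rw [Subgroup.commutator_comm] at h2
              exact h2)
        have heX : e ∈ X := by
          rw [he]
          have h2 : ⁅c, x⁆ ∈ ⁅B, X⁆ := Subgroup.commutator_mem_commutator hc hx
          exact Subgroup.commutator_le_right B X h2
        have hwe : e * w = w * e := (Subgroup.mem_centralizer_iff.mp (hZBC hwZ) e heB)
        have hcx : c * x * c⁻¹ = e * x := by
          rw [he, commutatorElement_def]; group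
        have h5 : c * ⁅w, x⁆ * c⁻¹ = ⁅w, e * x⁆ := by
          have : c * ⁅w, x⁆ * c⁻¹ = ⁅c * w * c⁻¹, c * x * c⁻¹⁆ := by
            simp only [commutatorElement_def]; group
          rw [this, hcx]
          have : c * w * c⁻¹ = w := by rw [hwc]; group
          rw [this]
        have h6 : ⁅w, e * x⁆ = ⁅w, e⁆ * (e * ⁅w, x⁆ * e⁻¹) := by
          simp only [commutatorElement_def]; group
        have h7 : ⁅w, e⁆ = 1 := by
          rw [commutatorElement_eq_one_iff_mul_comm]; exact hwe.symm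
        have h8 : e * ⁅w, x⁆ * e⁻¹ = ⁅w, x⁆ := by
          rw [hXXc w hwX x hx e heX]; group
        rw [h6, h7, h8, one_mul] at h5
        calc c * ⁅w, x⁆ = (c * ⁅w, x⁆ * c⁻¹) * c := by group
          _ = ⁅w, x⁆ * c := by rw [h5]
      have h2 : ⁅⁅X, B⁆, B⁆ ≤ X ⊓ ZB := by
        refine le_inf ((Subgroup.commutator_mono (Subgroup.commutator_le_left X B) le_rfl).trans
          (Subgroup.commutator_le_left X B)) ?_
        have h3 : ⁅⁅X, B⁆, B⁆ ≤ ⁅B, B⁆ :=
          Subgroup.commutator_mono (hXB.trans inf_le_right) le_rfl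
        refine h3.trans ?_
        rw [hZB]
        refine le_inf ?_ hB2
        rw [Subgroup.commutator_le]
        intro a ha b hb
        rw [commutatorElement_def]
        exact B.mul_mem (B.mul_mem (B.mul_mem ha hb) (B.inv_mem ha)) (B.inv_mem hb)
      exact (h2.trans h1).trans hcase.le
    · -- `Rad = X`: `X` is a valid test subgroup
      have h1 : ⁅B, ⁅X, X⁆⁆ = ⊥ := by
        rw [Subgroup.commutator_eq_bot_iff_le_centralizer, Subgroup.le_centralizer_iff,
          Subgroup.commutator_le]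
        intro v hv x hx
        have hvR : v ∈ Rad := by rw [hcase]; exact hv
        exact ((hRad v).mp hvR).2 x hx
      have h2 : ⁅⁅ZB, X⁆, X⁆ = ⊥ := by
        rw [Subgroup.commutator_eq_bot_iff_le_centralizer]
        exact ((Subgroup.commutator_mono hZT le_rfl).trans hTX).trans hYZ
      have h3 := hBtest X hX2 hXQ
        (by rw [Subgroup.normalizer_eq_top_iff.mpr hXn]; exact le_top) h1 h2
      have h4 : ⁅⁅X, B⁆, B⁆ ≤ ⁅ZB, B⁆ := by
        rw [Subgroup.commutator_comm X B]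
        exact Subgroup.commutator_mono h3 le_rfl
      have h5 : ⁅ZB, B⁆ = ⊥ := by
        rw [Subgroup.commutator_eq_bot_iff_le_centralizer]; exact hZBC
      rw [h5] at h4
      exact h4.trans bot_le
  rw [← hY]
  exact hquad

end Cfsg.Agent.Lib.Helper33
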