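import Cfsg.Agent.Lib.Helper33.ModM
import Cfsg.Agent.Lib.Helper33.PStabQuad
import Cfsg.Agent.Lib.Helper33.PStabIrr
import Cfsg.Agent.Lib.Helper33.KInfStable

set_option autoImplicit false
set_option linter.style.haveILetI false
set_option linter.unusedSectionVars false
set_option maxHeartbeats 1000000

/-!
# Lower-star members lie in `O_p` when all quotients are `p`-stable
-/

universe u

namespace Cfsg.Agent.Lib.Helper33

open Cfsg Subgroup

open scoped commutatorElement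

theorem map_cj {G G' : Type*} [Group G] [Group G'] (f : G →* G') (g : G) (B : Subgroup G) :
    (cj g B).map f = cj (f g) (B.map f) := by
  ext x
  constructor
  · rintro ⟨y, hy, rfl⟩
    obtain ⟨b, hb, rfl⟩ := mem_cj'.mp hy
    rw [map_mul, map_mul, map_inv]
    exact conj_mem_cj ⟨b, hb, rfl⟩
  · intro hx
    obtain ⟨y, ⟨b, hb, rfl⟩, rfl⟩ := mem_cj'.mp hx
    exact ⟨g * b * g⁻¹, conj_mem_cj hb, by simp⟩

/-- The subtype bookkeeping around `quad_on_minimal`. -/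
theorem quad_on_section {G : Type*} [Group G] [Finite G] {p : ℕ} [hp : Fact p.Prime]
    (T L A B₁ U : Subgroup G) [hTn : T.Normal] [hLn : L.Normal] (hTp : IsPGroup p T)
    (hLcl : L ≤ Subgroup.closure {y : G | y ∈ L ∧ (orderOf y).Coprime p})
    (hAT : A ≤ T) (hB₁ : B₁ ∈ kLowerStarFamily A) (hZT : B₁ ⊓ centralizer (B₁ : Set G) ≤ T)
    (hUA : U ≤ A) (hUN : L ⊔ T ⊔ B₁ ≤ normalizer (U : Set G))
    (hUL : ¬ L ≤ centralizer (U : Set G)) :
    ∃ X : Subgroup G, X ≤ U ∧ L ⊔ T ⊔ B₁ ≤ normalizer (X : Set G) ∧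
      ¬ L ≤ centralizer (X : Set G) ∧ ⁅⁅X, B₁⁆, B₁⁆ ≤ X ⊓ centralizer (L : Set G) := by
  obtain ⟨Γ₁, hΓ₁⟩ : ∃ Γ₁ : Subgroup G, Γ₁ = L ⊔ T ⊔ B₁ := ⟨_, rfl⟩
  rw [← hΓ₁] at hUN ⊢
  have hLΓ : L ≤ Γ₁ := by rw [hΓ₁]; exact le_sup_left.trans le_sup_left
  have hTΓ : T ≤ Γ₁ := by rw [hΓ₁]; exact le_sup_right.trans le_sup_left
  have hBΓ : B₁ ≤ Γ₁ := by rw [hΓ₁]; exact le_sup_right
  have hAΓ : A ≤ Γ₁ := hAT.trans hTΓ
  have hUΓ : U ≤ Γ₁ := hUA.trans hAΓ
  obtain ⟨ι, hι⟩ : ∃ ι : ↥Γ₁ →* G, ι = Γ₁.subtype := ⟨_, rfl⟩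
  have hinj : Function.Injective ι := by rw [hι]; exact Subgroup.subtype_injective _
  have hmap : ∀ K : Subgroup G, K ≤ Γ₁ → (K.subgroupOf Γ₁).map ι = K := by
    intro K hK; rw [hι]; exact Subgroup.map_subgroupOf_eq_of_le hK
  obtain ⟨T', hT'⟩ : ∃ T' : Subgroup ↥Γ₁, T' = T.subgroupOf Γ₁ := ⟨_, rfl⟩
  obtain ⟨L', hL'⟩ : ∃ L' : Subgroup ↥Γ₁, L' = L.subgroupOf Γ₁ := ⟨_, rfl⟩
  obtain ⟨A', hA'⟩ : ∃ A' : Subgroup ↥Γ₁, A' = A.subgroupOf Γ₁ := ⟨_, rfl⟩
  obtain ⟨B', hB'⟩ : ∃ B' : Subgroup ↥Γ₁, B' = B₁.subgroupOf Γ₁ := ⟨_, rfl⟩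
  obtain ⟨U', hU'⟩ : ∃ U' : Subgroup ↥Γ₁, U' = U.subgroupOf Γ₁ := ⟨_, rfl⟩
  have hT'm : T'.map ι = T := by rw [hT']; exact hmap T hTΓ
  have hL'm : L'.map ι = L := by rw [hL']; exact hmap L hLΓ
  have hA'm : A'.map ι = A := by rw [hA']; exact hmap A hAΓ
  have hB'm : B'.map ι = B₁ := by rw [hB']; exact hmap B₁ hBΓ
  have hU'm : U'.map ι = U := by rw [hU']; exact hmap U hUΓ
  haveI hT'n : T'.Normal := by rw [hT']; infer_instance
  haveI hL'n : L'.Normal := by rw [hL']; infer_instance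
  haveI hU'n : U'.Normal := by
    rw [hU']; exact (Subgroup.normal_subgroupOf_iff_le_normalizer hUΓ).mpr hUN
  have hU'L' : ¬ L' ≤ centralizer (U' : Set ↥Γ₁) := by
    intro h
    apply hUL
    rw [← hL'm, ← hU'm, map_le_centralizer_map_iff hinj]
    exact h
  obtain ⟨X', ⟨hX'n, hX'U, hX'L⟩, hX'min⟩ := wellFounded_lt.has_min
    {X' : Subgroup ↥Γ₁ | X'.Normal ∧ X' ≤ U' ∧ ¬ L' ≤ centralizer (X' : Set ↥Γ₁)}
    ⟨U', hU'n, le_rfl, hU'L'⟩
  haveI := hX'n
  have hprop : ∀ N : Subgroup ↥Γ₁, N.Normal → N ≤ X' → N ≠ X' →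
      N ≤ centralizer (L' : Set ↥Γ₁) := by
    intro N hNn hNX hne
    by_contra hNL
    apply hX'min N ⟨hNn, hNX.trans hX'U, ?_⟩ (lt_of_le_of_ne hNX hne)
    intro h
    exact hNL (Subgroup.le_centralizer_iff.mp h)
  have hL'gen : ∀ N : Subgroup ↥Γ₁, N.Normal →
      (∀ y ∈ L', (orderOf y).Coprime p → y ∈ N) → L' ≤ N := by
    intro N _ hN
    have h1 : Subgroup.closure {y : G | y ∈ L ∧ (orderOf y).Coprime p} ≤ N.map ι := by
      rw [Subgroup.closure_le]
      rintro y ⟨hyL, hyo⟩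
      refine ⟨⟨y, hLΓ hyL⟩, hN _ ?_ ?_, ?_⟩
      · rw [hL']; exact Subgroup.mem_subgroupOf.mpr hyL
      · rw [Subgroup.orderOf_mk]; exact hyo
      · rw [hι]; rfl
    intro x hx
    have hx' : (x : G) ∈ L := by rw [hL'] at hx; exact Subgroup.mem_subgroupOf.mp hx
    obtain ⟨n, hn, hnx⟩ := h1 (hLcl hx')
    have : n = x := hinj (by rw [hnx, hι]; rfl)
    rwa [← this]
  have hH : L' ⊔ normalizer (B' : Set ↥Γ₁) ⊔ T' = ⊤ := by
    rw [eq_top_iff]
    have h1 : L' ⊔ T' ⊔ B' = ⊤ := by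
      rw [hL', hT', hB', ← Subgroup.subgroupOf_sup hLΓ hTΓ,
        ← Subgroup.subgroupOf_sup (sup_le hLΓ hTΓ) hBΓ, ← hΓ₁, Subgroup.subgroupOf_self]
    rw [← h1]
    exact sup_le (sup_le (le_sup_left.trans le_sup_left) le_sup_right)
      ((Subgroup.le_normalizer).trans (le_sup_right.trans le_sup_left))
  have hB'A' : B' ∈ kLowerStarFamily A' := by
    rw [← lowerStar_map_iff hinj, hB'm, hA'm]; exact hB₁
  have hZ'T' : B' ⊓ centralizer (B' : Set ↥Γ₁) ≤ T' := by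
    rw [← Subgroup.map_le_map_iff_of_injective hinj, map_inf_centralizer hinj, hB'm, hT'm]
    exact hZT
  have hA'T' : A' ≤ T' := by
    rw [← Subgroup.map_le_map_iff_of_injective hinj, hA'm, hT'm]; exact hAT
  have hU'A' : U' ≤ A' := by
    rw [← Subgroup.map_le_map_iff_of_injective hinj, hA'm, hU'm]; exact hUA
  have hT'p : IsPGroup p T' := by rw [hT']; exact hTp.comap_subtype
  have key := quad_on_minimal T' L' A' B' hT'p hL'gen hA'T' hH hB'A' hZ'T' X'
    (hX'U.trans hU'A') hX'L hprop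
  refine ⟨X'.map ι, ?_, ?_, ?_, ?_⟩
  · rw [← hU'm]; exact Subgroup.map_mono hX'U
  · have h1 := Subgroup.le_normalizer_map (H := X') ι
    rw [Subgroup.normalizer_eq_top_iff.mpr hX'n, ← MonoidHom.range_eq_map, hι,
      Subgroup.range_subtype] at h1
    rw [hι]
    exact h1
  · intro h
    apply hX'L
    rw [← hL'm, map_le_centralizer_map_iff hinj] at h
    exact h
  · have h1 : ⁅⁅X'.map ι, B₁⁆, B₁⁆ = (⁅⁅X', B'⁆, B'⁆).map ι := by
      rw [Subgroup.map_commutator, Subgroup.map_commutator, hB'm]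
    rw [h1]
    refine (Subgroup.map_mono key).trans (le_inf (Subgroup.map_mono inf_le_left) ?_)
    have h2 : (centralizer (L' : Set ↥Γ₁)).map ι ≤
        centralizer ((L'.map ι : Subgroup G) : Set G) := by
      rw [Subgroup.map_le_iff_le_comap]
      intro c hc
      rw [Subgroup.mem_comap, Subgroup.mem_centralizer_iff]
      rintro _ ⟨l, hl, rfl⟩
      rw [← map_mul, ← map_mul, Subgroup.mem_centralizer_iff.mp hc l hl]
    rw [hL'm] at h2
    exact (Subgroup.map_mono inf_le_right).trans h2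

/-- **Theorem P″**: if all quotients of `G` are `p`-stable, a `p`-subgroup in the lower-star family of
a self-centralizing normal `p`-subgroup lies in `O_p(G)`. -/
theorem lowerStar_le_pCore_of_quot {G : Type u} [Group G] [Finite G] {p : ℕ} [hp : Fact p.Prime]
    (hst : ∀ (N : Subgroup G) [N.Normal], IsNormalizerPStable p (G ⧸ N))
    (A B : Subgroup G) (hAn : A.Normal) (hAp : IsPGroup p A)
    (hCA : centralizer (A : Set G) ≤ A) (hBp : IsPGroup p B) (hBA : B ∈ kLowerStarFamily A) :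
    B ≤ pCore p G := by
  by_contra hBT
  haveI := hAn
  obtain ⟨T, hT⟩ : ∃ T : Subgroup G, T = pCore p G := ⟨_, rfl⟩
  rw [← hT] at hBT
  haveI hTn : T.Normal := by rw [hT]; exact Cfsg.Agent.Lib.Helper55.pCore_normal' p
  have hTp : IsPGroup p T := by rw [hT]; exact Cfsg.Agent.Lib.Helper55.pCore_isPGroup p
  have hAT : A ≤ T := by rw [hT]; exact Cfsg.Agent.Lib.Helper55.le_pCore p A hAp
  have hstG : IsNormalizerPStable p G := nps_of_equiv QuotientGroup.quotientBot (hst ⊥)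
  -- the family of conjugates
  have hfam : ∀ g : G, cj g B ∈ kLowerStarFamily A := by
    intro g
    have h1 := (lowerStar_map_iff (f := (MulAut.conj g).toMonoidHom) (MulAut.conj g).injective
      (B := B) (R := A)).mpr hBA
    have h2 : A.map (MulAut.conj g).toMonoidHom = A := cj_eq_of_normal g A
    rw [h2] at h1
    exact h1
  have hZT : ∀ B₁ : Subgroup G, B₁ ∈ kLowerStarFamily A →
      B₁ ⊓ centralizer (B₁ : Set G) ≤ T := by
    rintro B₁ ⟨-, hAB₁, -⟩ z ⟨hzB, hzC⟩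
    rw [hT]
    apply quad_mem_pCore hstG A hAp hCA z
    rw [eq_bot_iff]
    have hz1 : Subgroup.zpowers z ≤ B₁ := Subgroup.zpowers_le.mpr hzB
    have hz2 : Subgroup.zpowers z ≤ centralizer (B₁ : Set G) := Subgroup.zpowers_le.mpr hzC
    calc ⁅⁅A, Subgroup.zpowers z⁆, Subgroup.zpowers z⁆ ≤ ⁅B₁, centralizer (B₁ : Set G)⁆ :=
          Subgroup.commutator_mono ((Subgroup.commutator_mono le_rfl hz1).trans
            (commutator_le_of_le_normalizer' hAB₁)) hz2
      _ = ⊥ := by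
          rw [Subgroup.commutator_comm]
          exact Subgroup.commutator_eq_bot_iff_le_centralizer.mpr le_rfl
  -- `R` and `L`
  obtain ⟨R, hR⟩ : ∃ R : Subgroup G, R = Subgroup.normalClosure (B : Set G) ⊔ T := ⟨_, rfl⟩
  haveI hRn : R.Normal := by rw [hR]; infer_instance
  have hBR : B ≤ R := by rw [hR]; exact Subgroup.le_normalClosure.trans le_sup_left
  have hTR : T ≤ R := by rw [hR]; exact le_sup_right
  have hcjR : ∀ g : G, cj g B ≤ R := by
    intro g
    have := cj_mono (g := g) hBR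
    rwa [cj_eq_of_normal g R] at this
  obtain ⟨L, hL⟩ : ∃ L : Subgroup G,
      L = Subgroup.normalClosure {y : G | y ∈ R ∧ (orderOf y).Coprime p} := ⟨_, rfl⟩
  haveI hLn : L.Normal := by rw [hL]; exact Subgroup.normalClosure_normal
  have hLR : L ≤ R := by rw [hL]; exact Subgroup.normalClosure_le_normal (fun y hy => hy.1)
  have hLmem : ∀ y ∈ R, (orderOf y).Coprime p → y ∈ L := fun y hy hyo => by
    rw [hL]; exact Subgroup.subset_normalClosure ⟨hy, hyo⟩
  have hRL : ∀ r ∈ R, ∃ k : ℕ, r ^ (p ^ k) ∈ L := by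
    intro r hr
    obtain ⟨k, hk⟩ := exists_pow_coprime_order_kinf (p := p) r
    exact ⟨k, hLmem _ (R.pow_mem hr _) hk⟩
  -- `L` is generated by its `p'`-elements
  have hLcl : L ≤ Subgroup.closure {y : G | y ∈ L ∧ (orderOf y).Coprime p} := by
    obtain ⟨Lp, hLp⟩ : ∃ Lp : Subgroup G,
        Lp = Subgroup.closure {y : G | y ∈ L ∧ (orderOf y).Coprime p} := ⟨_, rfl⟩
    rw [← hLp]
    haveI hLpn : Lp.Normal := by
      rw [← Subgroup.normalizer_eq_top_iff, eq_top_iff]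
      apply le_normalizer_of_cj_le
      intro g _
      rw [cj_def, hLp, MonoidHom.map_closure, Subgroup.closure_le]
      rintro _ ⟨y, ⟨hyL, hyo⟩, rfl⟩
      apply Subgroup.subset_closure
      refine ⟨hLn.conj_mem y hyL g, ?_⟩
      have : orderOf ((MulAut.conj g) y) = orderOf y := (MulAut.conj g).orderOf_eq y
      show (orderOf ((MulAut.conj g) y)).Coprime p
      rw [this]; exact hyo
    rw [hL]
    apply Subgroup.normalClosure_le_normal
    rintro y ⟨hyR, hyo⟩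
    rw [hLp]
    exact Subgroup.subset_closure ⟨hLmem y hyR hyo, hyo⟩
  -- `L` does not centralize `A`
  have hLA : ¬ L ≤ centralizer (A : Set G) := by
    intro h
    apply hBT
    have hLp : IsPGroup p L := hAp.to_le (h.trans hCA)
    have hRp : IsPGroup p R := by
      rintro ⟨r, hr⟩
      obtain ⟨k, hk⟩ := hRL r hr
      obtain ⟨j, hj⟩ := hLp ⟨_, hk⟩
      refine ⟨k + j, Subtype.ext ?_⟩
      have := congrArg Subtype.val hj
      simp only [Subgroup.coe_pow, Subgroup.coe_one] at this ⊢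
      rw [pow_add, pow_mul]; exact this
    rw [hT]
    exact hBR.trans (Cfsg.Agent.Lib.Helper55.le_pCore p R hRp)
  -- the quotient
  obtain ⟨Y₀, hY₀⟩ : ∃ Y₀ : Subgroup G, Y₀ = A ⊓ centralizer (L : Set G) := ⟨_, rfl⟩
  haveI hY₀n : Y₀.Normal := by rw [hY₀]; infer_instance
  have hY₀A : Y₀ ≤ A := hY₀ ▸ inf_le_left
  have hY₀L : Y₀ ≤ centralizer (L : Set G) := hY₀ ▸ inf_le_right
  have hstQ : IsNormalizerPStable p (G ⧸ Y₀) := hst Y₀
  obtain ⟨π, hπ⟩ : ∃ π : G →* G ⧸ Y₀, π = QuotientGroup.mk' Y₀ := ⟨_, rfl⟩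
  have hπs : Function.Surjective π := by rw [hπ]; exact QuotientGroup.mk'_surjective Y₀
  have hπk : π.ker = Y₀ := by rw [hπ]; exact QuotientGroup.ker_mk' Y₀
  have hAq : A.map π ≠ ⊥ := by
    intro h
    apply hLA
    rw [Subgroup.le_centralizer_iff]
    have h1 : A ≤ π.ker := (Subgroup.map_eq_bot_iff A).mp h
    rw [hπk] at h1
    exact h1.trans hY₀L
  haveI hAqn : (A.map π).Normal := Subgroup.Normal.map hAn π hπs
  obtain ⟨Vq, ⟨hVqn, hVqA, hVqne⟩, hVqmin'⟩ := wellFounded_lt.has_min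
    {M : Subgroup (G ⧸ Y₀) | M.Normal ∧ M ≤ A.map π ∧ M ≠ ⊥} ⟨A.map π, hAqn, le_rfl, hAq⟩
  haveI := hVqn
  have hVqmin : ∀ M : Subgroup (G ⧸ Y₀), M.Normal → M ≤ Vq → M = ⊥ ∨ M = Vq := by
    intro M hMn hMV
    by_cases h0 : M = ⊥
    · exact Or.inl h0
    · right
      by_contra hne
      exact hVqmin' M ⟨hMn, hMV.trans hVqA, h0⟩ (lt_of_le_of_ne hMV hne)
  have hVqp : IsPGroup p Vq := (hAp.map π).to_le hVqA
  haveI hTqn : (T.map π).Normal := Subgroup.Normal.map hTn π hπs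
  have hTq : T.map π ≤ centralizer (Vq : Set (G ⧸ Y₀)) :=
    Cfsg.Agent.Lib.Helper10.normal_nilpotent_le_centralizer_of_minimal_normal (T.map π) Vq
      (hTp.map π).isNilpotent hVqne hVqmin
  have hVqab : Vq ≤ centralizer (Vq : Set (G ⧸ Y₀)) :=
    (hVqA.trans (Subgroup.map_mono hAT)).trans hTq
  obtain ⟨X₀, hX₀⟩ : ∃ X₀ : Subgroup G, X₀ = Vq.comap π := ⟨_, rfl⟩
  haveI hX₀n : X₀.Normal := by rw [hX₀]; infer_instance
  have hX₀map : X₀.map π = Vq := by
    rw [hX₀]; exact Subgroup.map_comap_eq_self_of_surjective hπs Vq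
  have hcomapA : ∀ Uq : Subgroup (G ⧸ Y₀), Uq ≤ Vq → Uq.comap π ≤ A := by
    intro Uq hUq x hx
    obtain ⟨a, ha, hax⟩ := hVqA (hUq hx)
    have h1 : a⁻¹ * x ∈ Y₀ := by
      rw [← hπk, MonoidHom.mem_ker, map_mul, map_inv, hax]; group
    have := A.mul_mem ha (hY₀A h1)
    simpa using this
  have hX₀A : X₀ ≤ A := by rw [hX₀]; exact hcomapA Vq le_rfl
  have hX₀ne : ¬ X₀ ≤ Y₀ := by
    intro h
    apply hVqne
    rw [← hX₀map, Subgroup.map_eq_bot_iff, hπk]
    exact h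
  haveI hLqn : (L.map π).Normal := Subgroup.Normal.map hLn π hπs
  -- apply Theorem M
  have hM := modM (p := p) Vq (L.map π) (R.map π) hVqp hVqab hVqne hVqmin
    (by
      rintro _ ⟨r, hr, rfl⟩
      obtain ⟨k, hk⟩ := hRL r hr
      exact ⟨k, ⟨r ^ (p ^ k), hk, map_pow π r _⟩⟩)
    {Bq : Subgroup (G ⧸ Y₀) | ∃ g : G, Bq = (cj g B).map π}
    (by
      rintro _ ⟨g, rfl⟩ gq
      obtain ⟨g', rfl⟩ := hπs gq
      exact ⟨g' * g, by rw [← map_cj, ← cj_mul]⟩)
    (by
      rintro _ ⟨g, rfl⟩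
      exact (isPGroup_cj hBp).map π)
    (by
      rintro _ ⟨g, rfl⟩
      exact Subgroup.map_mono (hcjR g))
    (by
      rintro _ ⟨g, rfl⟩ Uq hUqV hUq
      obtain ⟨B₁, hB₁⟩ : ∃ B₁ : Subgroup G, B₁ = cj g B := ⟨_, rfl⟩
      rw [← hB₁] at hUq ⊢
      have hB₁A : B₁ ∈ kLowerStarFamily A := hB₁ ▸ hfam g
      have hB₁p : IsPGroup p B₁ := hB₁ ▸ isPGroup_cj hBp
      obtain ⟨hUqne, hUqN, hUqirr⟩ := hUq
      obtain ⟨U, hU⟩ : ∃ U : Subgroup G, U = Uq.comap π := ⟨_, rfl⟩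
      have hUmap : U.map π = Uq := by
        rw [hU]; exact Subgroup.map_comap_eq_self_of_surjective hπs Uq
      have hUA : U ≤ A := by rw [hU]; exact hcomapA Uq hUqV
      have hTUq : T.map π ≤ normalizer (Uq : Set (G ⧸ Y₀)) :=
        (hTq.trans (Subgroup.centralizer_le hUqV)).trans (Subgroup.centralizer_le_normalizer _)
      have hUN : L ⊔ T ⊔ B₁ ≤ normalizer (U : Set G) := by
        have h1 : (L ⊔ T ⊔ B₁).map π ≤ normalizer (Uq : Set (G ⧸ Y₀)) := by
          rw [Subgroup.map_sup, Subgroup.map_sup]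
          exact sup_le (sup_le (le_sup_left.trans hUqN) hTUq) (le_sup_right.trans hUqN)
        rw [Subgroup.map_le_iff_le_comap] at h1
        rw [hU]
        exact h1.trans (Subgroup.le_normalizer_comap π)
      have hUL : ¬ L ≤ centralizer (U : Set G) := by
        intro h
        apply hUqne
        rw [← hUmap, Subgroup.map_eq_bot_iff, hπk, hY₀]
        exact le_inf hUA (Subgroup.le_centralizer_iff.mp h)
      obtain ⟨X, hXU, hXN, hXL, hXq⟩ := quad_on_section T L A B₁ U hTp hLcl hAT hB₁A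
        (hZT B₁ hB₁A) hUA hUN hUL
      have hXY₀ : ⁅⁅X, B₁⁆, B₁⁆ ≤ Y₀ := by
        rw [hY₀]
        exact hXq.trans (inf_le_inf_right _ (hXU.trans hUA))
      have hXmap : X.map π = Uq := by
        have h1 : X.map π ≤ Uq := by rw [← hUmap]; exact Subgroup.map_mono hXU
        have h2 : L.map π ⊔ B₁.map π ≤ normalizer ((X.map π : Subgroup (G ⧸ Y₀)) : Set (G ⧸ Y₀)) := by
          have h3 : (L ⊔ B₁).map π ≤ (normalizer (X : Set G)).map π :=
            Subgroup.map_mono ((sup_le (le_sup_left.trans le_sup_left) le_sup_right).trans hXN)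
          rw [Subgroup.map_sup] at h3
          exact h3.trans (Subgroup.le_normalizer_map π)
        rcases hUqirr _ h1 h2 with h | h
        · exfalso
          apply hXL
          rw [Subgroup.map_eq_bot_iff, hπk] at h
          rw [Subgroup.le_centralizer_iff]
          exact h.trans hY₀L
        · exact h
      have hquad : ⁅⁅Uq, B₁.map π⁆, B₁.map π⁆ = ⊥ := by
        rw [← hXmap, ← Subgroup.map_commutator, ← Subgroup.map_commutator,
          Subgroup.map_eq_bot_iff, hπk]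
        exact hXY₀
      intro a ha
      apply quad_centralizes_irreducible hstQ Uq (L.map π ⊔ B₁.map π) (hVqp.to_le hUqV) hUqne
        hUqN hUqirr a (le_sup_right (a := L.map π) ha)
      rw [eq_bot_iff, ← hquad]
      have hza : Subgroup.zpowers a ≤ B₁.map π := Subgroup.zpowers_le.mpr ha
      exact Subgroup.commutator_mono (Subgroup.commutator_mono le_rfl hza) hza)
  -- `R` centralizes `X₀ / Y₀`
  obtain ⟨K, hK⟩ : ∃ K : Subgroup G, K = (centralizer (Vq : Set (G ⧸ Y₀))).comap π := ⟨_, rfl⟩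
  haveI hKn : K.Normal := by rw [hK]; infer_instance
  have hRK : R ≤ K := by
    rw [hR]
    refine sup_le ?_ ?_
    · apply Subgroup.normalClosure_le_normal
      intro b hb
      rw [hK, SetLike.mem_coe, Subgroup.mem_comap]
      apply hM (B.map π) ⟨1, by rw [cj_one]⟩
      exact ⟨b, hb, rfl⟩
    · rw [hK, ← Subgroup.map_le_iff_le_comap]
      exact hTq
  -- hence the `p'`-elements of `R` centralize `X₀`
  have hX₀p : IsPGroup p X₀ := hAp.to_le hX₀A
  have hLX₀ : L ≤ centralizer (X₀ : Set G) := by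
    rw [hL]
    apply Subgroup.normalClosure_le_normal
    rintro y ⟨hyR, hyo⟩
    have hyL : y ∈ L := hLmem y hyR hyo
    have hyK : π y ∈ centralizer (Vq : Set (G ⧸ Y₀)) := by
      have := hRK hyR
      rw [hK, Subgroup.mem_comap] at this
      exact this
    have h1 : ∀ x ∈ X₀, ⁅x, y⁆ ∈ Y₀ := by
      intro x hx
      have hxV : π x ∈ Vq := by rw [hX₀] at hx; exact hx
      have h2 := Subgroup.mem_centralizer_iff.mp hyK _ hxV
      rw [← hπk, MonoidHom.mem_ker, commutatorElement_def, map_mul, map_mul, map_mul, map_inv,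
        map_inv, h2]
      group
    have h3 := coprime_commutator_eq_one X₀ hX₀p y hyo (fun x hx => hX₀n.conj_mem x hx y)
      (fun x hx => (Subgroup.mem_centralizer_iff.mp (hY₀L (h1 x hx)) y hyL).symm)
    rw [SetLike.mem_coe, Subgroup.mem_centralizer_iff]
    intro x hx
    have h4 := h3 x hx
    rw [commutatorElement_eq_one_iff_mul_comm] at h4
    exact h4
  apply hX₀ne
  rw [hY₀]
  exact le_inf hX₀A (Subgroup.le_centralizer_iff.mp hLX₀)

end Cfsg.Agent.Lib.Helper33
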