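import Mathlib

set_option autoImplicit false

/-!
# An internal direct product of isomorphic subgroups is a power
-/

namespace Cfsg.Agent.Lib.Helper33.FFW

variable {G : Type*} [Group G]

/-- If `K` is the join of an independent family of subgroups `E i`, each normalized by `K` and
isomorphic to `S`, then `K ≃* (Fin n → S)` with `n` the number of the `E i`. -/
theorem exists_equiv_pi_of_iSupIndep {ι : Type*} [Fintype ι] (E : ι → Subgroup G) (K : Subgroup G)
    (hnorm : ∀ i, K ≤ Subgroup.normalizer (E i : Set G)) (hind : iSupIndep E)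
    (hsup : ⨆ i, E i = K) {S : Type*} [Group S] (hiso : ∀ i, Nonempty (↥(E i) ≃* S)) :
    Nonempty (↥K ≃* (Fin (Fintype.card ι) → S)) := by
  classical
  have hEK : ∀ i, E i ≤ K := fun i => hsup ▸ le_iSup E i
  have hcomm : Pairwise fun i j : ι => ∀ x y : G, x ∈ E i → y ∈ E j → Commute x y := by
    intro i j hij x y hx hy
    have hdis : Disjoint (E i) (E j) := hind.pairwiseDisjoint hij
    have h1 : x * y * x⁻¹ * y⁻¹ ∈ E i := by
      have h2 : y * x⁻¹ * y⁻¹ ∈ E i :=
        (Subgroup.mem_normalizer_iff.mp (hnorm i (hEK j hy)) x⁻¹).mp ((E i).inv_mem hx)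
      have e : x * y * x⁻¹ * y⁻¹ = x * (y * x⁻¹ * y⁻¹) := by group
      rw [e]
      exact (E i).mul_mem hx h2
    have h2 : x * y * x⁻¹ * y⁻¹ ∈ E j := by
      have h3 : x * y * x⁻¹ ∈ E j :=
        (Subgroup.mem_normalizer_iff.mp (hnorm j (hEK i hx)) y).mp hy
      exact (E j).mul_mem h3 ((E j).inv_mem hy)
    have h3 : x * y * x⁻¹ * y⁻¹ = 1 := Subgroup.disjoint_def.mp hdis h1 h2
    show x * y = y * x
    calc x * y = (x * y * x⁻¹ * y⁻¹) * (y * x) := by group
      _ = y * x := by rw [h3, one_mul]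
  have hinj := Subgroup.injective_noncommPiCoprod_of_iSupIndep (hcomm := hcomm) hind
  have hrange : (Subgroup.noncommPiCoprod hcomm).range = K := by
    rw [Subgroup.noncommPiCoprod_range, hsup]
  let e1 : (∀ i, ↥(E i)) ≃* ↥(Subgroup.noncommPiCoprod hcomm).range :=
    MonoidHom.ofInjective hinj
  let e2 : ↥(Subgroup.noncommPiCoprod hcomm).range ≃* ↥K := MulEquiv.subgroupCongr hrange
  let e3 : (∀ i, ↥(E i)) ≃* (ι → S) :=
    MulEquiv.piCongrRight (fun i => Classical.choice (hiso i))
  let e4 : (ι → S) ≃* (Fin (Fintype.card ι) → S) :=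
    MulEquiv.arrowCongr (Fintype.equivFin ι) (MulEquiv.refl S)
  exact ⟨(e2.symm.trans e1.symm).trans (e3.trans e4)⟩

end Cfsg.Agent.Lib.Helper33.FFW
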