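import Cfsg.Agent.Lib.Helper51.QdZJ
import Cfsg.Agent.S1981
import Cfsg.Agent.Lib.Helper33.KInfChar

set_option autoImplicit false
set_option linter.unusedSectionVars false
set_option linter.unusedVariables false
set_option linter.style.haveILetI false

/-!
# The K-infinity subgroups do not control strong fusion in `Qd(p)`
-/

namespace Cfsg.Agent.Lib.Helper33.QdKInf

open Cfsg Cfsg.Agent.Lib.Helper46.QdOver Cfsg.Agent.Lib.Helper46.SL2 Cfsg.Agent.Lib.Helper46.NatSL2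
  Cfsg.Agent.Lib.Helper46.QdSylow Cfsg.Agent.Lib.Helper51.QdZJ

variable {F : Type*} [Field F]

theorem yy_mul {e : Fin 2 → F} {M : QG F} (hM : M ∈ Se e) (N : QG F) :
    yy e (M * N) = yy e M + yy e N := dd_col_mul hM N

theorem A2_conj_mem {e : Fin 2 → F} {M N : QG F} (hM : M ∈ A2 e) (hN : N ∈ Se e) :
    N * M * N⁻¹ ∈ A2 e := by
  have h1 : N * M ∈ Se e := (Se e).mul_mem hN hM.1
  refine ⟨(Se e).mul_mem h1 ((Se e).inv_mem hN), ?_⟩
  show yy e (N * M * N⁻¹) = 0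
  rw [yy_mul h1, yy_mul hN]
  have h2 : yy e M = 0 := hM.2
  have h3 : yy e N + yy e N⁻¹ = 0 := by
    rw [← yy_mul hN, mul_inv_cancel]
    show dd e (col (1 : QG F)) = 0
    rw [col_one, dd_zero_right]
  rw [h2, add_zero, h3]

theorem exists_factor {e f : Fin 2 → F} (hef : dd e f = 1) {M : QG F} (hM : M ∈ Se e) :
    ∃ M₁ ∈ VV F, ∃ M₂ ∈ A2 e, M = M₁ * M₂ := by
  refine ⟨mk e f 0 0 (yy e M), ?_, mk e f (tt f M) (xx f M) 0, ?_, ?_⟩
  · have := (Co_mk e f 0 0 (yy e M)).1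
    rw [transv_zero] at this
    exact this
  · exact ⟨Co_mem_Se (Co_mk e f _ _ _), (coords_of_Co hef (Co_mk e f (tt f M) (xx f M) 0)).2.2⟩
  · have h1 := Co_coords hef hM
    have h2 := Co_mul hef (Co_mk e f 0 0 (yy e M)) (Co_mk e f (tt f M) (xx f M) 0)
    refine Co_unique h1 ?_
    convert h2 using 1 <;> ring

theorem VV_comm {a b : QG F} (ha : a ∈ VV F) (hb : b ∈ VV F) : a * b = b * a := by
  apply eq_of_ker_col (Subgroup.mul_mem _ ha hb) (Subgroup.mul_mem _ hb ha)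
  rw [col_mul_of_ker _ _ ha, col_mul_of_ker _ _ hb, add_comm]

/-- The Sylow subgroup `Se e` is generated by its abelian normal subgroups. -/
theorem gen_Se {e f : Fin 2 → F} (hef : dd e f = 1) :
    ⨆ A ∈ {A : Subgroup ↥(Se e) | A.Normal ∧ IsMulCommutative ↥A}, A = ⊤ := by
  have hV : (VV F).subgroupOf (Se e) ∈
      {A : Subgroup ↥(Se e) | A.Normal ∧ IsMulCommutative ↥A} := by
    refine ⟨inferInstance, ⟨⟨fun a b => ?_⟩⟩⟩
    apply Subtype.ext
    apply Subtype.ext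
    exact VV_comm (Subgroup.mem_subgroupOf.mp a.2) (Subgroup.mem_subgroupOf.mp b.2)
  have hA : (A2 e).subgroupOf (Se e) ∈
      {A : Subgroup ↥(Se e) | A.Normal ∧ IsMulCommutative ↥A} := by
    refine ⟨⟨fun n hn g => ?_⟩, ⟨⟨fun a b => ?_⟩⟩⟩
    · rw [Subgroup.mem_subgroupOf] at hn ⊢
      exact A2_conj_mem hn g.2
    · apply Subtype.ext
      apply Subtype.ext
      exact A2_comm hef (Subgroup.mem_subgroupOf.mp a.2) (Subgroup.mem_subgroupOf.mp b.2)
  rw [eq_top_iff]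
  rintro ⟨M, hM⟩ -
  obtain ⟨M₁, hM₁, M₂, hM₂, rfl⟩ := exists_factor hef hM
  have h1 : (⟨M₁, VV_le_Se e hM₁⟩ : ↥(Se e)) ∈
      ⨆ A ∈ {A : Subgroup ↥(Se e) | A.Normal ∧ IsMulCommutative ↥A}, A :=
    (le_iSup₂ (f := fun A (_ : A ∈ {A : Subgroup ↥(Se e) | A.Normal ∧ IsMulCommutative ↥A}) => A)
      _ hV) (Subgroup.mem_subgroupOf.mpr hM₁)
  have h2 : (⟨M₂, hM₂.1⟩ : ↥(Se e)) ∈
      ⨆ A ∈ {A : Subgroup ↥(Se e) | A.Normal ∧ IsMulCommutative ↥A}, A :=
    (le_iSup₂ (f := fun A (_ : A ∈ {A : Subgroup ↥(Se e) | A.Normal ∧ IsMulCommutative ↥A}) => A)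
      _ hA) (Subgroup.mem_subgroupOf.mpr hM₂)
  exact Subgroup.mul_mem _ h1 h2

/-- In `Qd(p)`, the K-infinity subgroups of a Sylow `p`-subgroup `T` are `T` itself, which does not
control strong fusion. -/
theorem not_controls_qd (p : ℕ) [Fact p.Prime] (T : Sylow p (QG (ZMod p)))
    (W : ∀ (Q : Type) [Group Q], Subgroup Q)
    (hW : (∀ (Q : Type) [Group Q], W Q = kInfLower Q) ∨ (∀ (Q : Type) [Group Q], W Q = kInfUpper Q)) :
    ¬ ControlsStrongFusion p (inducedFunctor (G := QG (ZMod p)) W (T : Subgroup (QG (ZMod p)))) := by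
  haveI : Finite (QG (ZMod p)) := by
    have : Finite (Matrix.SpecialLinearGroup (Fin 3) (ZMod p)) := by
      unfold Matrix.SpecialLinearGroup
      infer_instance
    infer_instance
  have hcard : Fintype.card (ZMod p) = p ^ 1 := by rw [ZMod.card, pow_one]
  obtain ⟨e, he, hTe⟩ := sylow_eq_Se hcard T
  obtain ⟨y, hy⟩ := exists_dd_ne_zero he
  obtain ⟨f, hf⟩ : ∃ f, f = (dd e y)⁻¹ • y := ⟨_, rfl⟩
  have hef : dd e f = 1 := by rw [hf, dd_smul, inv_mul_cancel₀ hy]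
  have hf0 : f ≠ 0 := by
    rintro rfl
    rw [dd_zero_right] at hef
    exact zero_ne_one hef
  have hTp : IsPGroup p ↥(Se e : Subgroup (QG (ZMod p))) := by rw [← hTe]; exact T.isPGroup'
  have hK := Cfsg.Agent.S1981.result hTp (gen_Se hef)
  have hind : inducedFunctor (G := QG (ZMod p)) W (Se e) = Se e := by
    unfold inducedFunctor
    rcases hW with h | h
    · rw [h, hK.1, ← MonoidHom.range_eq_map, Subgroup.range_subtype]
    · rw [h, hK.2, ← MonoidHom.range_eq_map, Subgroup.range_subtype]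
  rw [hTe, hind]
  rintro ⟨T', hTT', hctl⟩
  obtain ⟨v, hv⟩ : ∃ v : QG (ZMod p), v = tr e := ⟨_, rfl⟩
  have hvV : v ∈ VV (ZMod p) := by rw [hv]; exact tr_mem_ker e
  have hvS : v ∈ Se e := VV_le_Se e hvV
  have hcolv : col v = e := by rw [hv, col_tr]
  obtain ⟨M, hM⟩ := exists_mv_eq he hf0
  obtain ⟨g, hg⟩ : ∃ g : QG (ZMod p), g = emb M := ⟨_, rfl⟩
  have hgv : g * v * g⁻¹ = tr f := by
    apply tr_eq_of_col ((MonoidHom.normal_ker _).conj_mem v hvV g)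
    rw [col_conj' g v hvV, hg, blk_emb, hcolv, hM]
  obtain ⟨e', -, hT'e⟩ := sylow_eq_Se hcard T'
  have hVT' : VV (ZMod p) ≤ (T' : Subgroup (QG (ZMod p))) := by rw [hT'e]; exact VV_le_Se e'
  have hA : ({v} : Set (QG (ZMod p))) ⊆ (T' : Subgroup (QG (ZMod p))) := by
    intro a ha
    rw [Set.mem_singleton_iff] at ha
    rw [ha]
    exact hVT' hvV
  obtain ⟨-, h2⟩ := hctl {v} hA
  obtain ⟨n, hn, hna⟩ := h2 g (by
    rintro _ ⟨a, ha, rfl⟩
    rw [Set.mem_singleton_iff] at ha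
    rw [ha]
    show g * v * g⁻¹ ∈ (T' : Subgroup (QG (ZMod p)))
    rw [hgv]
    exact hVT' (tr_mem_ker f))
  have h3 : g * v * g⁻¹ = n * v * n⁻¹ := hna v rfl
  rw [hgv] at h3
  -- `v` is central in `Se e`
  have hvZ : ∀ N ∈ Se e, v * N = N * v := by
    intro N hN
    apply comm_of_coords hef hvS hN
    have h4 : yy e v = 0 := by
      show dd e (col v) = 0
      rw [hcolv, dd_self]
    rw [tt_of_mem_VV hvV, h4, zero_mul, mul_zero]
  -- hence so is `tr f`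
  have hfZ : ∀ N ∈ Se e, tr f * N = N * tr f := by
    intro N hN
    have hN' : n⁻¹ * N * n⁻¹⁻¹ ∈ Se e :=
      (Subgroup.mem_normalizer_iff.mp (Subgroup.inv_mem _ hn) N).mp hN
    have h5 := hvZ _ hN'
    rw [h3]
    calc n * v * n⁻¹ * N = n * (v * (n⁻¹ * N * n⁻¹⁻¹)) * n⁻¹ := by group
      _ = n * ((n⁻¹ * N * n⁻¹⁻¹) * v) * n⁻¹ := by rw [h5]
      _ = N * (n * v * n⁻¹) := by group
  -- but `tr f` does not commute with a transvection
  have hN₀ : mk e f 1 0 0 ∈ Se e := Co_mem_Se (Co_mk e f 1 0 0)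
  have hfS : tr f ∈ Se e := VV_le_Se e (tr_mem_ker f)
  have h6 := coords_of_comm hef hfS hN₀ (hfZ _ hN₀)
  obtain ⟨c1, -, c3⟩ := coords_of_Co hef (Co_mk e f (1 : ZMod p) 0 0)
  have h7 : yy e (tr f) = 1 := by
    show dd e (col (tr f)) = 1
    rw [col_tr, hef]
  rw [tt_of_mem_VV (tr_mem_ker f), c3, c1, h7, zero_mul, one_mul] at h6
  exact zero_ne_one h6

end Cfsg.Agent.Lib.Helper33.QdKInf
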