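import Cfsg.Agent.Lib.Helper65.RU.Defs

/-! # S2522 leaves AV1, AV2 (helper33): avoidance of subspaces.
The official AV1/AV2 names live in `Lib/Helper25/RUAV1.lean`, `RUAV2.lean`; the copies here carry an
`av_` prefix so that both files can be imported together. -/

set_option autoImplicit false

namespace Cfsg.Agent.Lib.Helper65.RU

open Module

variable {K : Type*} [Field K]

omit [Field K] in
/-- a pigeonhole: `k` properties of scalars, each with at most one witness, leave a scalar free when
the field has more than `k` elements. -/
theorem av_exists_scalar {k : ℕ} (hK : ((k + 1 : ℕ) : Cardinal) ≤ Cardinal.mk K)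
    (P : Fin k → K → Prop) (hP : ∀ i t t', P i t → P i t' → t = t') : ∃ t, ∀ i, ¬ P i t := by
  by_contra hcon
  push Not at hcon
  choose f hf using hcon
  have hinj : Function.Injective f := by
    intro t t' htt
    exact hP (f t) t t' (hf t) (htt ▸ hf t')
  have h1 := Cardinal.lift_mk_le_lift_mk_of_injective hinj
  rw [Cardinal.mk_fin, Cardinal.lift_natCast, Cardinal.lift_uzero] at h1
  have h2 : ((k + 1 : ℕ) : Cardinal) ≤ (k : Cardinal) := hK.trans h1
  have h3 : k + 1 ≤ k := by exact_mod_cast h2
  omega

section abstract

variable {V : Type*} [AddCommGroup V] [Module K V]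

/-- AV1: a vector space over a field with at least `k` elements is not a union of `k` proper subspaces. -/
theorem av_exists_not_mem_of_card_le {k : ℕ} (hK : (k : Cardinal) ≤ Cardinal.mk K) (W : Fin k → Submodule K V)
    (hW : ∀ i, W i ≠ ⊤) : ∃ v : V, ∀ i, v ∉ W i := by
  induction k with
  | zero => exact ⟨0, fun i => i.elim0⟩
  | succ k ih =>
    have hK' : (k : Cardinal) ≤ Cardinal.mk K :=
      le_trans (by exact_mod_cast Nat.le_succ k) hK
    obtain ⟨u, hu⟩ := ih hK' (fun i => W i.castSucc) (fun i => hW _)
    by_cases hul : u ∈ W (Fin.last k)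
    · obtain ⟨w, hw⟩ : ∃ w : V, w ∉ W (Fin.last k) := by
        by_contra hcon
        push Not at hcon
        exact hW (Fin.last k) (eq_top_iff.mpr fun x _ => hcon x)
      obtain ⟨t, ht⟩ := av_exists_scalar (K := K) (k := k) hK
        (fun i t => w + t • u ∈ W i.castSucc) (by
          intro i t t' h1 h2
          by_contra hne
          have h3 : (t - t') • u ∈ W i.castSucc := by
            have : (t - t') • u = (w + t • u) - (w + t' • u) := by
              rw [sub_smul]; abel
            rw [this]
            exact (W i.castSucc).sub_mem h1 h2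
          have h4 : u ∈ W i.castSucc := by
            have := (W i.castSucc).smul_mem (t - t')⁻¹ h3
            rwa [smul_smul, inv_mul_cancel₀ (sub_ne_zero.mpr hne), one_smul] at this
          exact hu i h4)
      refine ⟨w + t • u, fun i => ?_⟩
      refine Fin.lastCases ?_ (fun j => ?_) i
      · intro hmem
        apply hw
        have := (W (Fin.last k)).sub_mem hmem ((W (Fin.last k)).smul_mem t hul)
        simpa using this
      · exact ht j
    · refine ⟨u, fun i => ?_⟩
      refine Fin.lastCases ?_ (fun j => ?_) i
      · exact hul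
      · exact hu j

/-- general form of AV2 -/
theorem av_exists_mem_not_mem {k : ℕ} (hK : ((k + 1 : ℕ) : Cardinal) ≤ Cardinal.mk K)
    (Φ : AffineSubspace K V) (hne : (Φ : Set V).Nonempty)
    (B : Fin k → AffineSubspace K V) (hB : ∀ i, ¬ Φ ≤ B i) : ∃ p ∈ Φ, ∀ i, p ∉ B i := by
  induction k with
  | zero =>
    obtain ⟨p, hp⟩ := hne
    exact ⟨p, hp, fun i => i.elim0⟩
  | succ k ih =>
    have hK' : ((k + 1 : ℕ) : Cardinal) ≤ Cardinal.mk K :=
      le_trans (by exact_mod_cast Nat.le_succ (k + 1)) hK
    obtain ⟨p, hpΦ, hp⟩ := ih hK' (fun i => B i.castSucc) (fun i => hB _)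
    by_cases hpl : p ∈ B (Fin.last k)
    · obtain ⟨q, hqΦ, hq⟩ : ∃ q ∈ Φ, q ∉ B (Fin.last k) := by
        by_contra hcon
        push Not at hcon
        exact hB (Fin.last k) (fun x hx => hcon x hx)
      -- the points `p + t (q - p)`
      have hline : ∀ t : K, p + t • (q - p) ∈ Φ := by
        intro t
        have := AffineMap.lineMap_mem (Q := Φ) t hpΦ hqΦ
        rwa [AffineMap.lineMap_apply, vsub_eq_sub, vadd_eq_add, add_comm] at this
      have hdir : ∀ (A : AffineSubspace K V) (x : V) (t t' : K), t ≠ t' →
          x + t • (q - p) ∈ A → x + t' • (q - p) ∈ A → ∀ s : K, x + s • (q - p) ∈ A := by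
        intro A x t t' hne h1 h2 s
        have h3 : (t - t') • (q - p) ∈ A.direction := by
          have : (t - t') • (q - p) = (x + t • (q - p)) -ᵥ (x + t' • (q - p)) := by
            rw [vsub_eq_sub, sub_smul]; abel
          rw [this]
          exact AffineSubspace.vsub_mem_direction h1 h2
        have h4 : q - p ∈ A.direction := by
          have := A.direction.smul_mem (t - t')⁻¹ h3
          rwa [smul_smul, inv_mul_cancel₀ (sub_ne_zero.mpr hne), one_smul] at this
        have h5 : (s - t) • (q - p) +ᵥ (x + t • (q - p)) ∈ A :=
          AffineSubspace.vadd_mem_of_mem_direction (A.direction.smul_mem _ h4) h1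
        have h6 : (s - t) • (q - p) +ᵥ (x + t • (q - p)) = x + s • (q - p) := by
          rw [vadd_eq_add, sub_smul]; abel
        rwa [h6] at h5
      obtain ⟨t, ht⟩ := av_exists_scalar (K := K) (k := k + 1) hK
        (fun i t => Fin.lastCases (t = 0) (fun j => p + t • (q - p) ∈ B j.castSucc) i) (by
          intro i
          refine Fin.lastCases ?_ (fun j => ?_) i
          · intro t t' h1 h2
            simp only [Fin.lastCases_last] at h1 h2
            rw [h1, h2]
          · intro t t' h1 h2
            simp only [Fin.lastCases_castSucc] at h1 h2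
            by_contra hne
            have := hdir (B j.castSucc) p t t' hne h1 h2 0
            rw [zero_smul, add_zero] at this
            exact hp j this)
      have ht0 : t ≠ 0 := by
        have := ht (Fin.last k)
        simpa only [Fin.lastCases_last] using this
      refine ⟨p + t • (q - p), hline t, fun i => ?_⟩
      refine Fin.lastCases ?_ (fun j => ?_) i
      · intro hmem
        apply hq
        have h0 : p + (0 : K) • (q - p) ∈ B (Fin.last k) := by
          rwa [zero_smul, add_zero]
        have := hdir (B (Fin.last k)) p t 0 ht0 hmem h0 1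
        rwa [one_smul, add_sub_cancel] at this
      · have := ht j.castSucc
        simpa only [Fin.lastCases_castSucc] using this
    · refine ⟨p, hpΦ, fun i => ?_⟩
      refine Fin.lastCases ?_ (fun j => ?_) i
      · exact hpl
      · exact hp j

/-- AV2: an affine subspace over a field with at least four elements is not covered by three affine
subspaces none of which contains it. -/
theorem av_exists_mem_not_mem_three (hK : 4 ≤ Cardinal.mk K) (Φ : AffineSubspace K V)
    (B : Fin 3 → AffineSubspace K V) (hB : ∀ i, ¬ Φ ≤ B i) : ∃ p ∈ Φ, ∀ i, p ∉ B i := by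
  have hne : (Φ : Set V).Nonempty := by
    by_contra hcon
    rw [Set.not_nonempty_iff_eq_empty] at hcon
    apply hB 0
    intro x hx
    have : x ∈ (Φ : Set V) := hx
    rw [hcon] at this
    exact absurd this (Set.notMem_empty x)
  exact av_exists_mem_not_mem (by exact_mod_cast hK) Φ hne B hB

end abstract

end Cfsg.Agent.Lib.Helper65.RU
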