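import Cfsg.Agent.Lib.Helper33.RUAV

/-! # S2522 leaf NE (helper33): a non-eigenvector outside two proper subspaces -/

set_option autoImplicit false

namespace Cfsg.Agent.Lib.Helper65.RU

open Module

variable {K : Type*} [Field K]

section abstract

variable {V : Type*} [AddCommGroup V] [Module K V]

/-- a vector that is dependent with its image is an eigenvector (or zero) -/
theorem ne_exists_eigen (g : V →ₗ[K] V) (v : V) (h : ¬ LinearIndependent K ![v, g v]) :
    ∃ d : K, g v = d • v := by
  by_cases hv : v = 0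
  · exact ⟨0, by simp [hv]⟩
  · rw [LinearIndependent.pair_iff' hv] at h
    push Not at h
    obtain ⟨a, ha⟩ := h
    exact ⟨a, ha.symm⟩

/-- the one-sided case of NE: `a₀` is a non-eigenvector in `W₁`. -/
theorem ne_aux (hK : 4 ≤ Cardinal.mk K) (g : V →ₗ[K] V) (W₁ W₂ : Submodule K V)
    (a₀ : V) (hli : LinearIndependent K ![a₀, g a₀]) (ha₀ : a₀ ∈ W₁)
    (b : V) (hb₁ : b ∉ W₁) (hb₂ : b ∉ W₂) :
    ∃ a : V, LinearIndependent K ![a, g a] ∧ a ∉ W₁ ∧ a ∉ W₂ := by
  by_cases hbli : LinearIndependent K ![b, g b]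
  · exact ⟨b, hbli, hb₁, hb₂⟩
  obtain ⟨c, hc⟩ := ne_exists_eigen g b hbli
  have hpair := LinearIndependent.pair_iff.mp hli
  obtain ⟨t, ht⟩ := av_exists_scalar (K := K) (k := 3) (by exact_mod_cast hK)
    (fun i t => if i = 0 then t = 0 else if i = 1 then b + t • a₀ ∈ W₂ else
      (t ≠ 0 ∧ ∃ d : K, g (b + t • a₀) = d • (b + t • a₀))) (by
      intro i t t' h1 h2
      fin_cases i
      · simp only [Fin.zero_eta, if_true] at h1 h2
        rw [h1, h2]
      · simp only [Fin.mk_one, Fin.isValue, one_ne_zero, if_false, if_true] at h1 h2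
        by_contra hne
        have h3 : (t - t') • a₀ ∈ W₂ := by
          have : (t - t') • a₀ = (b + t • a₀) - (b + t' • a₀) := by
            rw [sub_smul]; abel
          rw [this]
          exact W₂.sub_mem h1 h2
        have h4 : a₀ ∈ W₂ := by
          have := W₂.smul_mem (t - t')⁻¹ h3
          rwa [smul_smul, inv_mul_cancel₀ (sub_ne_zero.mpr hne), one_smul] at this
        apply hb₂
        have := W₂.sub_mem h1 (W₂.smul_mem t h4)
        simpa using this
      · have e20 : ((⟨2, by omega⟩ : Fin 3) = 0) = False := by simp [Fin.ext_iff]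
        have e21 : ((⟨2, by omega⟩ : Fin 3) = 1) = False := by simp [Fin.ext_iff]
        simp only [e20, e21, if_false] at h1 h2
        obtain ⟨ht, d₁, e₁⟩ := h1
        obtain ⟨ht', d₂, e₂⟩ := h2
        simp only [map_add, map_smul, hc] at e₁ e₂
        by_contra hne
        have key := hpair ((c - d₂) * d₁ * t - (c - d₁) * d₂ * t') (-((c - d₂) * t - (c - d₁) * t'))
          (by linear_combination (norm := module) -(c - d₂) • e₁ + (c - d₁) • e₂)
        obtain ⟨k1, k2⟩ := key
        have hcd : c = d₁ := by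
          by_contra hcd
          have hcd' : c - d₁ ≠ 0 := sub_ne_zero.mpr hcd
          have hX : (c - d₂) * t = (c - d₁) * t' := by linear_combination -k2
          have hY : (c - d₁) * t' * d₁ = (c - d₁) * t' * d₂ := by
            linear_combination k1 - d₁ * hX
          have hdd : d₁ = d₂ := mul_left_cancel₀ (mul_ne_zero hcd' ht') hY
          rw [← hdd] at hX
          exact hne (mul_left_cancel₀ hcd' hX)
        rw [← hcd] at e₁
        have := hpair (-(c * t)) t (by linear_combination (norm := module) e₁)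
        exact ht this.2)
  have ht0 : t ≠ 0 := by simpa using ht 0
  have ht1 : b + t • a₀ ∉ W₂ := by simpa using ht 1
  have ht2 : ¬ ∃ d : K, g (b + t • a₀) = d • (b + t • a₀) := by
    have := ht 2
    have e20 : ((2 : Fin 3) = 0) = False := by simp [Fin.ext_iff]
    have e21 : ((2 : Fin 3) = 1) = False := by simp [Fin.ext_iff]
    simp only [e20, e21, if_false, not_and] at this
    exact this ht0
  refine ⟨b + t • a₀, ?_, ?_, ht1⟩
  · by_contra hcon
    exact ht2 (ne_exists_eigen g _ hcon)
  · intro hmem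
    apply hb₁
    have := W₁.sub_mem hmem (W₁.smul_mem t ha₀)
    simpa using this

/-- NE: a non-scalar endomorphism has a non-eigenvector outside two given proper subspaces.
(In a plane through a non-eigenvector `a₀` there are at most two eigenlines.) -/
theorem exists_not_eigen (hK : 4 ≤ Cardinal.mk K) (g : V →ₗ[K] V) (hns : ¬ ∃ c : K, g = c • LinearMap.id)
    (W₁ W₂ : Submodule K V) (h₁ : W₁ ≠ ⊤) (h₂ : W₂ ≠ ⊤) :
    ∃ a : V, LinearIndependent K ![a, g a] ∧ a ∉ W₁ ∧ a ∉ W₂ := by
  obtain ⟨a₀, hli⟩ : ∃ a₀ : V, LinearIndependent K ![a₀, g a₀] := by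
    by_contra hcon
    push Not at hcon
    exact hns (LinearMap.exists_eq_smul_id_of_forall_notLinearIndependent hcon)
  obtain ⟨b, hb⟩ := av_exists_not_mem_of_card_le (K := K) (k := 2)
    (le_trans (by norm_num) hK) ![W₁, W₂] (by
      intro i; fin_cases i
      · exact h₁
      · exact h₂)
  have hb₁ : b ∉ W₁ := hb 0
  have hb₂ : b ∉ W₂ := hb 1
  by_cases ha₁ : a₀ ∈ W₁
  · exact ne_aux hK g W₁ W₂ a₀ hli ha₁ b hb₁ hb₂
  by_cases ha₂ : a₀ ∈ W₂
  · obtain ⟨a, h1, h2, h3⟩ := ne_aux hK g W₂ W₁ a₀ hli ha₂ b hb₂ hb₁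
    exact ⟨a, h1, h3, h2⟩
  exact ⟨a₀, hli, ha₁, ha₂⟩

end abstract

end Cfsg.Agent.Lib.Helper65.RU
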