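import Mathlib
import Cfsg.Agent.Lib.Helper38.RhDefs

/-! RH-T2 core (helper38's Rh hive): `N(A₀) = N(T)` for a non-trivial subgroup `A₀` of a torus `T`, with RH-T1 as a hypothesis. -/

set_option autoImplicit false
set_option linter.style.haveILetI false

namespace Cfsg.Agent.Lib.Helper38.Rh

/-- in a cyclic subgroup `T`, a subgroup `A` is `{y ∈ T | y ^ |A| = 1}` -/
theorem t2_mem_of_pow_eq_one {G : Type*} [Group G] [Finite G] (T A : Subgroup G) (hc : IsCyclic ↥T) (hA : A ≤ T)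
    (y : G) (hy : y ∈ T) (hyd : y ^ Nat.card ↥A = 1) : y ∈ A := by
  classical
  haveI : Fintype ↥T := Fintype.ofFinite ↥T
  haveI : Fintype ↥A := Fintype.ofFinite ↥A
  have hd0 : 0 < Nat.card ↥A := Nat.card_pos
  have hS : (Finset.univ.filter (fun t : ↥T => t ^ Nat.card ↥A = 1)).card ≤ Nat.card ↥A :=
    IsCyclic.card_pow_eq_one_le hd0
  let f : ↥A → ↥T := fun a => ⟨a.1, hA a.2⟩
  have hf : Function.Injective f := by
    intro a b hab
    apply Subtype.ext
    exact congrArg (fun t : ↥T => (t : G)) hab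
  have hI : (Finset.univ.image f).card = Nat.card ↥A := by
    rw [Finset.card_image_of_injective _ hf, Finset.card_univ, Nat.card_eq_fintype_card]
  have hIS : Finset.univ.image f ⊆ Finset.univ.filter (fun t : ↥T => t ^ Nat.card ↥A = 1) := by
    intro t ht
    obtain ⟨a, _, rfl⟩ := Finset.mem_image.1 ht
    rw [Finset.mem_filter]
    refine ⟨Finset.mem_univ _, ?_⟩
    apply Subtype.ext
    have h1 : a ^ Nat.card ↥A = 1 := pow_card_eq_one'
    have h2 : (a : G) ^ Nat.card ↥A = 1 := by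
      have h0 : ((a ^ Nat.card ↥A : ↥A) : G) = ((1 : ↥A) : G) := congrArg (fun t : ↥A => (t : G)) h1
      rwa [Subgroup.coe_pow, Subgroup.coe_one] at h0
    show ((f a) ^ Nat.card ↥A : ↥T).1 = ((1 : ↥T) : G)
    rw [Subgroup.coe_pow, Subgroup.coe_one]
    exact h2
  have hEq : Finset.univ.image f = Finset.univ.filter (fun t : ↥T => t ^ Nat.card ↥A = 1) :=
    Finset.eq_of_subset_of_card_le hIS (by rw [hI]; exact hS)
  have hmem : (⟨y, hy⟩ : ↥T) ∈ Finset.univ.filter (fun t : ↥T => t ^ Nat.card ↥A = 1) := by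
    rw [Finset.mem_filter]
    refine ⟨Finset.mem_univ _, ?_⟩
    apply Subtype.ext
    show ((⟨y, hy⟩ : ↥T) ^ Nat.card ↥A : ↥T).1 = ((1 : ↥T) : G)
    rw [Subgroup.coe_pow, Subgroup.coe_one]
    exact hyd
  rw [← hEq] at hmem
  obtain ⟨a, _, ha⟩ := Finset.mem_image.1 hmem
  have h3 : (a : G) = y := congrArg (fun t : ↥T => (t : G)) ha
  rw [← h3]
  exact a.2

/-- an element normalising the cyclic subgroup `T` maps a subgroup `A` of `T` into itself -/
theorem t2_conj_mem {G : Type*} [Group G] [Finite G] (T A : Subgroup G) (hc : IsCyclic ↥T) (hA : A ≤ T)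
    (g : G) (hg : g ∈ Subgroup.normalizer (T : Set G)) (a : G) (ha : a ∈ A) : g * a * g⁻¹ ∈ A := by
  apply t2_mem_of_pow_eq_one T A hc hA
  · exact (Subgroup.mem_normalizer_iff.1 hg a).1 (hA ha)
  · have h1 : a ^ Nat.card ↥A = 1 := by
      have h0 : (⟨a, ha⟩ : ↥A) ^ Nat.card ↥A = 1 := pow_card_eq_one'
      have h00 : (((⟨a, ha⟩ : ↥A) ^ Nat.card ↥A : ↥A) : G) = ((1 : ↥A) : G) :=
        congrArg (fun t : ↥A => (t : G)) h0
      rwa [Subgroup.coe_pow, Subgroup.coe_one] at h00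
    rw [conj_pow, h1, mul_one, mul_inv_cancel]

/-- RH-T2 with RH-T1 (for the torus `T`) as a hypothesis. -/
theorem t2_core {G : Type*} [Group G] [Finite G] {N : ℕ} (h : TorusHyp G N) {T : Subgroup G} (hT : IsTorus N T)
    (hT1 : ∀ y ∈ T, y ≠ 1 → Subgroup.centralizer ({y} : Set G) = T)
    (A₀ : Subgroup G) (hA : A₀ ≤ T) (hne : A₀ ≠ ⊥) :
    Subgroup.normalizer (A₀ : Set G) = Subgroup.normalizer (T : Set G) := by
  have hc : IsCyclic ↥T := by
    obtain ⟨x, p, hp, hpN, hox, rfl⟩ := hT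
    exact (h x p hp hpN hox).1
  apply le_antisymm
  · -- `N(A₀) ≤ N(T)`
    intro g hg
    obtain ⟨⟨y, hyA⟩, hy1⟩ := (Subgroup.ne_bot_iff_exists_ne_one).1 hne
    have hy1' : y ≠ 1 := fun h0 => hy1 (Subtype.ext h0)
    have hgy : g * y * g⁻¹ ∈ A₀ := (Subgroup.mem_normalizer_iff.1 hg y).1 hyA
    have hgy1 : g * y * g⁻¹ ≠ 1 := by
      intro h0
      apply hy1'
      have : y = g⁻¹ * (g * y * g⁻¹) * g := by group
      rw [this, h0]
      group
    have hC1 := hT1 y (hA hyA) hy1'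
    have hC2 := hT1 (g * y * g⁻¹) (hA hgy) hgy1
    rw [Subgroup.mem_normalizer_iff]
    intro k
    rw [← hC1]
    conv_rhs => rw [hC1, ← hC2]
    rw [Subgroup.mem_centralizer_singleton_iff, Subgroup.mem_centralizer_singleton_iff]
    constructor
    · intro hk
      calc g * k * g⁻¹ * (g * y * g⁻¹) = g * (k * y) * g⁻¹ := by group
        _ = g * (y * k) * g⁻¹ := by rw [hk]
        _ = g * y * g⁻¹ * (g * k * g⁻¹) := by group
    · intro hk
      calc k * y = g⁻¹ * (g * k * g⁻¹ * (g * y * g⁻¹)) * g := by group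
        _ = g⁻¹ * (g * y * g⁻¹ * (g * k * g⁻¹)) * g := by rw [hk]
        _ = y * k := by group
  · -- `N(T) ≤ N(A₀)`
    intro g hg
    rw [Subgroup.mem_normalizer_iff]
    intro k
    constructor
    · intro hk
      exact t2_conj_mem T A₀ hc hA g hg k hk
    · intro hk
      have hg' : g⁻¹ ∈ Subgroup.normalizer (T : Set G) := inv_mem hg
      have := t2_conj_mem T A₀ hc hA g⁻¹ hg' (g * k * g⁻¹) hk
      have h2 : g⁻¹ * (g * k * g⁻¹) * g⁻¹⁻¹ = k := by group
      rwa [h2] at this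

end Cfsg.Agent.Lib.Helper38.Rh
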