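import Mathlib
import Cfsg.Agent.Lib.Helper38.RhDefs
import Cfsg.Agent.Lib.Helper40.RhT1
import Cfsg.Agent.Lib.Helper33.RhT2core

/-! RH-T2 (helper38's Rh hive): `N(A₀) = N(T)` for every non-trivial subgroup `A₀` of a torus `T`. -/

set_option autoImplicit false

namespace Cfsg.Agent.Lib.Helper38.Rh

section abstract
variable {G : Type*} [Group G] [Finite G] {N : ℕ}

/-- RH-T2.  `N(A₀) = N(T)` for every non-trivial subgroup `A₀` of a torus `T`. -/
theorem torus_normalizer_eq (h : TorusHyp G N) {T : Subgroup G} (hT : IsTorus N T) (A₀ : Subgroup G) (hA : A₀ ≤ T)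
    (hne : A₀ ≠ ⊥) : Subgroup.normalizer (A₀ : Set G) = Subgroup.normalizer (T : Set G) :=
  t2_core h hT (fun _ hy hy1 => torus_cent_eq h hT hy hy1) A₀ hA hne

end abstract

end Cfsg.Agent.Lib.Helper38.Rh
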