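import Cfsg.Agent.Lib.Helper66.S3Defs

/-! # S3 hive (S4305): sub-lemmas for leaf K2 `exists_config` (second hand, helper33). -/

set_option autoImplicit false

namespace Cfsg.Agent.Lib.Helper66.S3

universe u

/-- (g) class-2 argument: `F` central, `H' ≤ F`, `H/F` of exponent `p`, `|F|` prime to `p`
force `H` abelian. -/
theorem k2_rp {H : Type*} [Group H] [Finite H] (F : Subgroup H) (p : ℕ)
    (hcent : ∀ h : H, ∀ f ∈ F, h * f = f * h) (hcomm : commutator H ≤ F)
    (hexp : ∀ h : H, h ^ p ∈ F) (hcop : (Nat.card F).Coprime p) : ∀ x y : H, x * y = y * x := by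
  intro x y
  have hcF : x * y * x⁻¹ * y⁻¹ ∈ F := by
    apply hcomm
    rw [commutator_def]
    have := Subgroup.commutator_mem_commutator (Subgroup.mem_top x) (Subgroup.mem_top y)
    rwa [commutatorElement_def] at this
  set c := x * y * x⁻¹ * y⁻¹ with hc
  have hxy : x * y = c * (y * x) := by rw [hc]; group
  have hcz : ∀ h : H, h * c = c * h := fun h => hcent h c hcF
  have hpow : ∀ n : ℕ, x ^ n * y = c ^ n * (y * x ^ n) := by
    intro n
    induction n with
    | zero => simp
    | succ n ih =>
      have hczn : x * c ^ n = c ^ n * x := by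
        have : Commute x c := hcz x
        exact (this.pow_right n).eq
      calc x ^ (n + 1) * y = x * (x ^ n * y) := by rw [pow_succ']; group
        _ = x * (c ^ n * (y * x ^ n)) := by rw [ih]
        _ = (x * c ^ n) * (y * x ^ n) := by group
        _ = (c ^ n * x) * (y * x ^ n) := by rw [hczn]
        _ = c ^ n * ((x * y) * x ^ n) := by group
        _ = c ^ n * ((c * (y * x)) * x ^ n) := by rw [hxy]
        _ = c ^ (n + 1) * (y * x ^ (n + 1)) := by rw [pow_succ, pow_succ']; group
  have hcp : c ^ p = 1 := by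
    have h1 := hpow p
    have h2 : x ^ p * y = y * x ^ p := (hcent y (x ^ p) (hexp x)).symm
    rw [h2] at h1
    have : 1 * (y * x ^ p) = c ^ p * (y * x ^ p) := by rw [one_mul]; exact h1
    exact (mul_right_cancel this).symm
  have hc1 : c = 1 := by
    have hd1 : orderOf c ∣ p := orderOf_dvd_of_pow_eq_one hcp
    have hd2 : orderOf c ∣ Nat.card F := by
      have : orderOf (⟨c, hcF⟩ : F) ∣ Nat.card F := orderOf_dvd_natCard _
      rwa [← Subgroup.orderOf_coe] at this
    have : orderOf c ∣ 1 := by
      have := Nat.dvd_gcd hd2 hd1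
      rwa [hcop] at this
    exact orderOf_eq_one_iff.mp (Nat.dvd_one.mp this)
  rw [hxy, hc1, one_mul]

variable {H V : Type u} [Group H] [CommGroup V] [MulDistribMulAction A3 H]
  [MulDistribMulAction A3 V] [MulDistribMulAction H V]

/-- (a) `V` has exponent `p` for every prime `p` dividing `|V|`. -/
theorem k2_exp (hyp : KPHyp H V) (p : ℕ) (hp : p.Prime) (hpV : p ∣ Nat.card V) :
    ∀ v : V, v ^ p = 1 := by
  have := hyp.finV
  have : Fact p.Prime := ⟨hp⟩
  have hU := hyp.irr (powMonoidHom p : V →* V).range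
    (by
      rintro h _ ⟨v, rfl⟩
      refine ⟨h • v, ?_⟩
      show (h • v) ^ p = h • v ^ p
      rw [smul_pow'])
    (by
      rintro a _ ⟨v, rfl⟩
      refine ⟨a • v, ?_⟩
      show (a • v) ^ p = a • v ^ p
      rw [smul_pow'])
  rcases hU with h | h
  · intro v
    have : (powMonoidHom p : V →* V) v ∈ (powMonoidHom p : V →* V).range := ⟨v, rfl⟩
    rw [h, Subgroup.mem_bot] at this
    exact this
  · exfalso
    have hsurj : Function.Surjective (powMonoidHom p : V →* V) := MonoidHom.range_eq_top.mp h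
    have hinj : Function.Injective (powMonoidHom p : V →* V) :=
      Finite.injective_iff_surjective.mpr hsurj
    obtain ⟨x, hx⟩ := exists_prime_orderOf_dvd_card' p hpV
    have h1 : (powMonoidHom p : V →* V) x = (powMonoidHom p : V →* V) 1 := by
      show x ^ p = 1 ^ p
      rw [one_pow, ← hx, pow_orderOf_eq_one]
    have hx1 : x = 1 := hinj h1
    rw [hx1, orderOf_one] at hx
    exact hp.one_lt.ne hx

/-- (c) an abelian normal `A3`-invariant subgroup of a faithful irreducible configuration has order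
prime to the exponent `p` of `V`. -/
theorem k2_cop (hyp : KPHyp H V) (hf : Faithful H V) (p : ℕ) (hp : p.Prime)
    (hexp : ∀ v : V, v ^ p = 1) (hV : ∃ v : V, v ≠ 1)
    (F : Subgroup H) (hFn : F.Normal) (hFA : ∀ a : A3, ∀ f ∈ F, a • f ∈ F)
    (hFcomm : ∀ x ∈ F, ∀ y ∈ F, x * y = y * x) : (Nat.card F).Coprime p := by
  have := hyp.finV
  have := hyp.finH
  have : Fact p.Prime := ⟨hp⟩
  rw [Nat.coprime_comm, hp.coprime_iff_not_dvd]
  intro hdvd
  -- `p ∣ |V|`
  have hpV : p ∣ Nat.card V := by
    obtain ⟨v, hv⟩ := hV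
    have h1 : orderOf v ∣ p := orderOf_dvd_of_pow_eq_one (hexp v)
    have h2 : orderOf v = p := by
      rcases (Nat.dvd_prime hp).mp h1 with h | h
      · exact absurd (orderOf_eq_one_iff.mp h) hv
      · exact h
    rw [← h2]
    exact orderOf_dvd_natCard v
  -- the subgroup `Ω₁`
  let P : Subgroup H :=
    { carrier := {f | f ∈ F ∧ f ^ p = 1}
      one_mem' := ⟨F.one_mem, one_pow p⟩
      mul_mem' := by
        rintro x y ⟨hx, hx'⟩ ⟨hy, hy'⟩
        refine ⟨F.mul_mem hx hy, ?_⟩
        have hc : Commute x y := hFcomm x hx y hy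
        rw [hc.mul_pow, hx', hy', one_mul]
      inv_mem' := by
        rintro x ⟨hx, hx'⟩
        exact ⟨F.inv_mem hx, by rw [inv_pow, hx', inv_one]⟩ }
  have hPmem : ∀ f : H, f ∈ P ↔ f ∈ F ∧ f ^ p = 1 := fun f => Iff.rfl
  have hPp : IsPGroup p P := by
    rintro ⟨f, hf1, hf2⟩
    refine ⟨1, ?_⟩
    apply Subtype.ext
    rw [pow_one]
    exact hf2
  -- a nontrivial fixed vector
  have h1fix : (1 : V) ∈ MulAction.fixedPoints P V := by
    intro g
    exact smul_one _
  obtain ⟨b, hb, hb1⟩ := hPp.exists_fixed_point_of_prime_dvd_card_of_fixed_point V hpV h1fix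
  -- the fixed point subgroup
  let U : Subgroup V :=
    { carrier := {v | ∀ f ∈ P, f • v = v}
      one_mem' := fun f _ => smul_one f
      mul_mem' := by
        intro x y hx hy f hfP
        rw [smul_mul', hx f hfP, hy f hfP]
      inv_mem' := by
        intro x hx f hfP
        rw [smul_inv', hx f hfP] }
  have hUmem : ∀ v : V, v ∈ U ↔ ∀ f ∈ P, f • v = v := fun v => Iff.rfl
  have hbU : b ∈ U := by
    intro f hfP
    exact hb ⟨f, hfP⟩
  have hUH : ∀ h : H, ∀ u ∈ U, h • u ∈ U := by
    intro h u hu f hfP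
    have hconj : h⁻¹ * f * h ∈ P := by
      refine ⟨?_, ?_⟩
      · have := hFn.conj_mem f hfP.1 h⁻¹
        rwa [inv_inv] at this
      · have : (h⁻¹ * f * h) ^ p = h⁻¹ * f ^ p * h := by
          have := conj_pow (a := h⁻¹) (b := f) (i := p)
          rw [inv_inv] at this
          exact this
        rw [this, hfP.2]; group
    have h2 := hu _ hconj
    calc f • h • u = h • ((h⁻¹ * f * h) • u) := by
          rw [← mul_smul, ← mul_smul]; congr 1; group
      _ = h • u := by rw [h2]
  have hUA : ∀ a : A3, ∀ u ∈ U, a • u ∈ U := by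
    intro a u hu f hfP
    have hmem : a⁻¹ • f ∈ P := by
      refine ⟨hFA a⁻¹ f hfP.1, ?_⟩
      rw [← smul_pow', hfP.2, smul_one]
    have h2 := hu _ hmem
    have h3 := hyp.compat a (a⁻¹ • f) u
    rw [smul_inv_smul, h2] at h3
    exact h3.symm
  rcases hyp.irr U hUH hUA with h | h
  · rw [h, Subgroup.mem_bot] at hbU
    exact hb1 hbU.symm
  · -- `P` acts trivially, hence is trivial
    obtain ⟨x, hx⟩ := exists_prime_orderOf_dvd_card' p hdvd
    have hxP : (x : H) ∈ P := by
      refine ⟨x.2, ?_⟩
      have : x ^ p = 1 := by rw [← hx]; exact pow_orderOf_eq_one x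
      have := congrArg Subtype.val this
      simpa using this
    have hx1 : (x : H) = 1 := by
      apply hf
      intro v
      have : v ∈ U := by rw [h]; exact Subgroup.mem_top v
      exact this _ hxP
    have : x = 1 := Subtype.ext hx1
    rw [this, orderOf_one] at hx
    exact hp.one_lt.ne hx

end Cfsg.Agent.Lib.Helper66.S3
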