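import Mathlib
import Cfsg.Agent.Lib.Helper33.OmTwo
import Cfsg.Agent.Lib.Helper33.FFWeakA
import Cfsg.Agent.Lib.Helper10.FittingCent
import Cfsg.Agent.Lib.Helper10.FixGen
import Cfsg.Agent.Lib.Helper11.Quad
import Cfsg.Agent.Lib.Helper51.ThompsonA
import Cfsg.Agent.Lib.Helper33.Pair
import Cfsg.Agent.Lib.Helper33.SecBasic

set_option autoImplicit false
set_option maxHeartbeats 800000
set_option linter.style.haveILetI false

/-!
# S4302: the group-theoretic preliminaries inside `X`
-/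

namespace Cfsg.Agent.Lib.Helper33.FFW

open Cfsg Subgroup
open scoped Pointwise
open Cfsg.Agent.Lib.Helper33 Cfsg.Agent.Lib.Helper51 Cfsg.Agent.Lib.Helper10

variable {X : Type*} [Group X]

/-- Frattini: `X = ⟨J(T)^X⟩ N_X(J(T))`. -/
theorem normalClosure_sup_normalizer_thompsonAOf [Finite X] (T : Sylow 2 X) :
    normalClosure (thompsonSubgroupAOf (T : Subgroup X) : Set X) ⊔
      normalizer (thompsonSubgroupAOf (T : Subgroup X) : Set X) = ⊤ := by
  obtain ⟨J, hJ⟩ : ∃ J, J = thompsonSubgroupAOf (T : Subgroup X) := ⟨_, rfl⟩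
  rw [← hJ]
  obtain ⟨L, hL⟩ : ∃ L, L = normalClosure (J : Set X) := ⟨_, rfl⟩
  rw [← hL]
  have hLn : L.Normal := hL ▸ normalClosure_normal
  have hnL : (⊤ : Subgroup X) ≤ normalizer (L : Set X) := by
    rw [normalizer_eq_top_iff.mpr hLn]
  have hTi : ¬ 2 ∣ (T : Subgroup X).relIndex ⊤ := by
    rw [relIndex_top_right]; exact T.not_dvd_index
  have hRi := sylow_inf_normal (p := 2) (N := ⊤) (R := (T : Subgroup X)) (C := L) le_top
    T.isPGroup' hTi le_top hnL
  have hJL : J ≤ L := hL ▸ le_normalClosure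
  have hJR : J ≤ (T : Subgroup X) ⊓ L := le_inf (hJ ▸ thompsonAOf_le _) hJL
  have hJeq : thompsonSubgroupAOf ((T : Subgroup X) ⊓ L) = J := by
    rw [hJ]
    exact thompsonAOf_eq_of_le inf_le_left (hJ ▸ hJR)
  rw [eq_top_iff]
  intro x _
  obtain ⟨x₁, hx₁, y, hy, rfl⟩ := frattini_gen (p := 2) (H := ⊤) (M := L)
    (R := (T : Subgroup X) ⊓ L) hnL le_top inf_le_right (T.isPGroup'.to_le inf_le_left) hRi
    (mem_top x)
  refine Subgroup.mul_mem_sup hx₁ ?_
  have := normalizer_le_normalizer_thompsonAOf _ hy.2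
  rwa [hJeq] at this

/-- the normal core of the centralizer is the centralizer of the normal closure -/
theorem normalCore_centralizer (Z : Subgroup X) :
    (centralizer (Z : Set X)).normalCore = centralizer (normalClosure (Z : Set X) : Set X) := by
  apply le_antisymm
  · intro c hc
    rw [normalClosure, centralizer_closure, Subgroup.mem_centralizer_iff]
    intro y hy
    obtain ⟨z, hz, hzy⟩ := Group.mem_conjugatesOfSet_iff.mp hy
    obtain ⟨g, hg⟩ := isConj_iff.mp hzy
    have h1 : g⁻¹ * c * g⁻¹⁻¹ ∈ centralizer (Z : Set X) := hc g⁻¹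
    have h2 := mem_centralizer_iff.mp h1 z hz
    show y * c = c * y
    rw [← hg]
    calc g * z * g⁻¹ * c = g * (z * (g⁻¹ * c * g⁻¹⁻¹)) * g⁻¹ := by group
      _ = g * ((g⁻¹ * c * g⁻¹⁻¹) * z) * g⁻¹ := by rw [h2]
      _ = c * (g * z * g⁻¹) := by group
  · rw [Subgroup.normal_le_normalCore]
    exact centralizer_le le_normalClosure

section vfacts

variable [Finite X] [Group.IsSolvable X] (hF : fittingSubgroup X = pCore 2 X) (T : Sylow 2 X)
include hF

/-- `Z(T) ≤ Z(O₂(X))` when `F(X) = O₂(X)` and `X` is solvable -/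
theorem zT_le : (T : Subgroup X) ⊓ centralizer ((T : Subgroup X) : Set X) ≤
    pCore 2 X ⊓ centralizer (pCore 2 X : Set X) := by
  have hQT : pCore 2 X ≤ (T : Subgroup X) := Cfsg.Agent.Lib.Helper11.pCore_le_sylow T
  have hcent : centralizer (pCore 2 X : Set X) ≤ pCore 2 X := by
    have := centralizer_fitting_le (G := X)
    rwa [hF] at this
  intro z hz
  have h1 : z ∈ centralizer (pCore 2 X : Set X) := centralizer_le hQT hz.2
  exact ⟨hcent h1, h1⟩

omit hF [Finite X] [Group.IsSolvable X] in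
theorem zQ_normal' : (pCore 2 X ⊓ centralizer (pCore 2 X : Set X)).Normal := by
  haveI : (pCore 2 X).Normal := Cfsg.Agent.Lib.Helper22.pCore_normal' 2 X
  infer_instance

/-- `V = ⟨Z(T)^X⟩ ≤ Z(O₂(X))` -/
theorem vT_le : normalClosure (((T : Subgroup X) ⊓ centralizer ((T : Subgroup X) : Set X) :
    Subgroup X) : Set X) ≤ pCore 2 X ⊓ centralizer (pCore 2 X : Set X) :=
  haveI := zQ_normal' (X := X)
  normalClosure_le_normal (zT_le hF T)

theorem vT_comm : ∀ x ∈ normalClosure (((T : Subgroup X) ⊓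
    centralizer ((T : Subgroup X) : Set X) : Subgroup X) : Set X),
    ∀ y ∈ normalClosure (((T : Subgroup X) ⊓ centralizer ((T : Subgroup X) : Set X) :
      Subgroup X) : Set X), x * y = y * x := by
  intro x hx y hy
  have h1 := vT_le hF T hx
  have h2 := vT_le hF T hy
  exact mem_centralizer_iff.mp h2.2 x h1.1

theorem vT_isPGroup : IsPGroup 2 ↥(normalClosure (((T : Subgroup X) ⊓
    centralizer ((T : Subgroup X) : Set X) : Subgroup X) : Set X)) :=
  (Cfsg.Agent.Lib.Helper22.pCore_isPGroup' 2 X).to_le ((vT_le hF T).trans inf_le_left)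

theorem vT_le_T : normalClosure (((T : Subgroup X) ⊓
    centralizer ((T : Subgroup X) : Set X) : Subgroup X) : Set X) ≤ (T : Subgroup X) :=
  ((vT_le hF T).trans inf_le_left).trans (Cfsg.Agent.Lib.Helper11.pCore_le_sylow T)

omit hF [Group.IsSolvable X] [Finite X] in
/-- `V` is generated by fixed points of Sylow subgroups -/
theorem vT_gen : normalClosure (((T : Subgroup X) ⊓
    centralizer ((T : Subgroup X) : Set X) : Subgroup X) : Set X) ≤
    ⨆ S : Sylow 2 X, normalClosure (((T : Subgroup X) ⊓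
      centralizer ((T : Subgroup X) : Set X) : Subgroup X) : Set X) ⊓
        centralizer ((S : Subgroup X) : Set X) := by
  obtain ⟨V, hV⟩ : ∃ V, V = normalClosure (((T : Subgroup X) ⊓
    centralizer ((T : Subgroup X) : Set X) : Subgroup X) : Set X) := ⟨_, rfl⟩
  rw [← hV]
  have hVn : V.Normal := hV ▸ normalClosure_normal
  have hZV : (T : Subgroup X) ⊓ centralizer ((T : Subgroup X) : Set X) ≤ V :=
    hV ▸ le_normalClosure
  conv_lhs => rw [hV, normalClosure]
  rw [closure_le]
  intro y hy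
  obtain ⟨z, hz, hzy⟩ := Group.mem_conjugatesOfSet_iff.mp hy
  obtain ⟨g, hg⟩ := isConj_iff.mp hzy
  refine mem_iSup_of_mem (g • T) ⟨?_, ?_⟩
  · rw [← hg]
    exact hVn.conj_mem z (hZV hz) g
  · change y ∈ centralizer (((g • T : Sylow 2 X) : Subgroup X) : Set X)
    rw [mem_centralizer_iff]
    intro s hs
    have hs' : s ∈ (MulAut.conj g • (T : Subgroup X)) := by
      have := hs
      rw [Sylow.smul_def] at this
      exact this
    obtain ⟨t, ht, hts⟩ := (mem_smul_pointwise_iff_exists _ _ _).mp hs'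
    rw [MulAut.smul_def, MulAut.conj_apply] at hts
    have h1 := mem_centralizer_iff.mp hz.2 t ht
    rw [← hts, ← hg]
    calc g * t * g⁻¹ * (g * z * g⁻¹) = g * (t * z) * g⁻¹ := by group
      _ = g * (z * t) * g⁻¹ := by rw [h1]
      _ = g * z * g⁻¹ * (g * t * g⁻¹) := by group

omit hF [Group.IsSolvable X] in
/-- `O₂(X / C_X(V)) = 1` -/
theorem pCore_quot_vT : pCore 2 (X ⧸ centralizer ((normalClosure (((T : Subgroup X) ⊓
    centralizer ((T : Subgroup X) : Set X) : Subgroup X) : Set X) : Subgroup X) : Set X)) = ⊥ := by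
  unfold Cfsg.pCore
  rw [sSup_eq_bot]
  rintro Nb ⟨hNn, hNp⟩
  haveI := hNn
  exact normal_pgroup_quot_centralizer_eq_bot _ (vT_gen T) Nb hNp

end vfacts

/-- abelian subgroups of `T` of largest order are weak best offenders on any abelian `W ≤ T` -/
theorem isWBO_of_maxAbIn [Finite X] {T W A : Subgroup X} (hWT : W ≤ T)
    (hWc : ∀ x ∈ W, ∀ y ∈ W, x * y = y * x) (hA : A ∈ maxAbIn T) : IsWBO W A := by
  obtain ⟨hAT, hAc, hAmax⟩ := hA
  have hAc' := (isMulComm_iff A).mp hAc
  intro B hB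
  rw [offVal_def', offVal_def']
  obtain ⟨K, hK⟩ : ∃ K, K = W ⊓ centralizer (B : Set X) := ⟨_, rfl⟩
  rw [← hK]
  have hKW : K ≤ W := hK ▸ inf_le_left
  have hKB : ∀ k ∈ K, ∀ b ∈ B, b * k = k * b := by
    intro k hk b hb
    rw [hK] at hk
    exact mem_centralizer_iff.mp hk.2 b hb
  have hcomm : IsMulCommutative (B ⊔ K : Subgroup X) := by
    rw [Subgroup.sup_eq_closure]
    apply Subgroup.isMulCommutative_closure
    rintro x (hx | hx) y (hy | hy)
    · exact hAc' x (hB hx) y (hB hy)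
    · exact hKB y hy x hx
    · exact (hKB x hx y hy).symm
    · exact hWc x (hKW hx) y (hKW hy)
  have hDT : B ⊔ K ≤ T := sup_le (hB.trans hAT) (hKW.trans hWT)
  have h1 := hAmax _ hDT hcomm
  have hBK : B ≤ normalizer (K : Set X) := by
    apply le_normalizer_of_forall_conj_mem
    intro b hb k hk
    have : b * k * b⁻¹ = k := by rw [hKB k hk b hb]; group
    rw [this]; exact hk
  have h2 := card_sup_mul_card_inf hBK
  have h3 : B ⊓ K ≤ W ⊓ centralizer (A : Set X) := by
    intro x hx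
    refine ⟨hKW hx.2, ?_⟩
    change x ∈ centralizer (A : Set X)
    rw [mem_centralizer_iff]
    intro a ha
    exact hAc' a ha x (hB hx.1)
  have h4 := Subgroup.card_le_of_le h3
  calc Nat.card B * Nat.card K = Nat.card ↥(B ⊔ K) * Nat.card ↥(B ⊓ K) := h2.symm
    _ ≤ Nat.card A * Nat.card ↥(W ⊓ centralizer (A : Set X)) := Nat.mul_le_mul h1 h4

end Cfsg.Agent.Lib.Helper33.FFW
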