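import Mathlib
import Cfsg.Agent.Lib.Helper33.FFWeakB
import Cfsg.Agent.Lib.Helper33.PiIndep
import Cfsg.Agent.Lib.Helper10.Faithful
import Cfsg.Agent.Lib.Helper66.OCGroup
import Cfsg.Agent.Lib.Helper38.SLCard

set_option autoImplicit false
set_option maxHeartbeats 1600000
set_option linter.style.haveILetI false

/-!
# S4302: the structure of `L / C_L(W)` when `L` is generated by weak best offenders
-/

namespace Cfsg.Agent.Lib.Helper33.FFW

open Cfsg Cfsg.Agent.Lib.Helper10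
open scoped commutatorElement

theorem sl2_two_equiv_perm' :
    Nonempty (Matrix.SpecialLinearGroup (Fin 2) (ZMod 2) ≃* Equiv.Perm (Fin 3)) := by
  have h6 : Nat.card (Matrix.SpecialLinearGroup (Fin 2) (ZMod 2)) = 6 := by
    rw [Cfsg.Agent.Lib.Helper38.card_SL2]
    simp [ZMod.card]
  apply Cfsg.Agent.Lib.Helper66.OC.equiv_perm_of_card_six h6
  intro h
  have h1 := h ⟨!![1, 1; 0, 1], by decide⟩ ⟨!![1, 0; 1, 1], by decide⟩
  revert h1
  decide

variable {K : Type*} [Group K]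

/-- a weak best offender on `W` maps to a weak best offender in the holomorph -/
theorem isWBO_map_holπ [Finite K] (W : Subgroup K) [W.Normal] {A : Subgroup K}
    (hA : IsWBO W A) : IsWBO (holV W) (A.map (holπ W)) := by
  intro B' hB'
  obtain ⟨B, hB⟩ : ∃ B : Subgroup K, B = A ⊓ B'.comap (holπ W) := ⟨_, rfl⟩
  have hBA : B ≤ A := hB ▸ inf_le_left
  have hmap : B.map (holπ W) = B' := by
    apply le_antisymm
    · rintro _ ⟨b, hb, rfl⟩
      rw [hB] at hb
      exact (Subgroup.mem_inf.mp hb).2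
    · intro x hx
      obtain ⟨a, ha, rfl⟩ := hB' hx
      exact ⟨a, hB ▸ Subgroup.mem_inf.mpr ⟨ha, hx⟩, rfl⟩
  have hBC : B ⊓ Subgroup.centralizer (W : Set K) = A ⊓ Subgroup.centralizer (W : Set K) := by
    apply le_antisymm (inf_le_inf_right _ hBA)
    intro x hx
    obtain ⟨hxA, hxC⟩ := Subgroup.mem_inf.mp hx
    refine Subgroup.mem_inf.mpr ⟨?_, hxC⟩
    rw [hB]
    refine Subgroup.mem_inf.mpr ⟨hxA, ?_⟩
    rw [Subgroup.mem_comap, (holπ_eq_one_iff W).mpr hxC]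
    exact B'.one_mem
  have e1 := offVal_map_holπ W B
  have e2 := offVal_map_holπ W A
  rw [hmap, hBC] at e1
  have hle := hA B hBA
  have hpos : 0 < Nat.card ↥(A ⊓ Subgroup.centralizer (W : Set K)) := Nat.card_pos
  have : offVal (holV W) B' * Nat.card ↥(A ⊓ Subgroup.centralizer (W : Set K)) ≤
      offVal (holV W) (A.map (holπ W)) * Nat.card ↥(A ⊓ Subgroup.centralizer (W : Set K)) := by
    rw [e1, e2]; exact hle
  exact Nat.le_of_mul_le_mul_right this hpos

/-- **Main structure theorem.** Let `W` be a normal elementary abelian `2`-subgroup of the finite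
`2`-solvable group `K` with `O₂(K / C_K(W)) = 1`, and let the normal subgroup `L` be generated (as a
normal subgroup) by abelian `2`-subgroups that are weak best offenders on `W`.  Then `L` centralizes
`W`, or the image of `L` in the holomorph of `W` is a direct product of copies of `S₃`. -/
theorem map_holπ_structure [Finite K] (W : Subgroup K) [W.Normal]
    (hWe : IsElementaryAbelian 2 W) (hsep : IsPSolvable 2 K)
    (hO : pCore 2 (K ⧸ Subgroup.centralizer (W : Set K)) = ⊥)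
    (L : Subgroup K) [hLn : L.Normal] (𝒜 : Set (Subgroup K))
    (h𝒜L : ∀ A ∈ 𝒜, A ≤ L)
    (hL : ∀ K₀ : Subgroup K, K₀.Normal → (∀ A ∈ 𝒜, A ≤ K₀) → L ≤ K₀)
    (h𝒜2 : ∀ A ∈ 𝒜, IsPGroup 2 A) (h𝒜c : ∀ A ∈ 𝒜, ∀ x ∈ A, ∀ y ∈ A, x * y = y * x)
    (h𝒜w : ∀ A ∈ 𝒜, IsWBO W A) :
    L ≤ Subgroup.centralizer (W : Set K) ∨
      ∃ n : ℕ, 1 ≤ n ∧ Nonempty (↥(L.map (holπ W)) ≃* (Fin n → Equiv.Perm (Fin 3))) := by
  haveI : Fact (Nat.Prime 2) := ⟨Nat.prime_two⟩
  obtain ⟨π, hπ⟩ : ∃ π, π = holπ W := ⟨_, rfl⟩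
  obtain ⟨H, hH⟩ : ∃ H, H = L.map π := ⟨_, rfl⟩
  obtain ⟨H₀, hH₀⟩ : ∃ H₀ : Subgroup (Hol W), H₀ =
      ⨆ A : {A : Subgroup (Hol W) // A ≤ H ∧ IsBestOffenderOn 2 (holV W) A},
        (A : Subgroup (Hol W)) := ⟨_, rfl⟩
  have hH₀H : H₀ ≤ H := by
    rw [hH₀]; exact iSup_le (fun A => A.2.1)
  have hHr : H ≤ π.range := hH ▸ Subgroup.map_le_range _ _
  -- `H` is normalized by the range of `π`
  have hHconj : ∀ x : K, H.map (MulAut.conj (π x)).toMonoidHom ≤ H := by
    intro x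
    rw [hH]
    rintro _ ⟨_, ⟨l, hl, rfl⟩, rfl⟩
    refine ⟨x * l * x⁻¹, hLn.conj_mem l hl x, ?_⟩
    simp
  -- `H₀` is normalized by the range of `π`
  have hH₀conj : ∀ x : K, H₀.map (MulAut.conj (π x)).toMonoidHom ≤ H₀ := by
    intro x
    have hxV : π x ∈ Subgroup.normalizer (holV W : Set (Hol W)) := by
      rw [Subgroup.normalizer_eq_top_iff.mpr (holV_normal W)]
      exact Subgroup.mem_top _
    conv_lhs => rw [hH₀]
    rw [Subgroup.map_iSup]
    apply iSup_le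
    rintro ⟨B, hBH, hB⟩
    have h1 : B.map (MulAut.conj (π x)).toMonoidHom ≤ H :=
      (Subgroup.map_mono hBH).trans (hHconj x)
    have h2 := isBestOffenderOn_map_conj hxV hB
    rw [hH₀]
    exact le_iSup (fun A : {A : Subgroup (Hol W) // A ≤ H ∧ IsBestOffenderOn 2 (holV W) A} =>
      (A : Subgroup (Hol W))) ⟨_, h1, h2⟩
  have hrN : π.range ≤ Subgroup.normalizer (H₀ : Set (Hol W)) := by
    apply le_normalizer_of_forall_conj_mem
    rintro _ ⟨x, rfl⟩ e he
    exact hH₀conj x ⟨e, he, by simp⟩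
  -- the preimage of `H₀`
  obtain ⟨K₀, hK₀⟩ : ∃ K₀, K₀ = H₀.comap π := ⟨_, rfl⟩
  haveI hK₀n : K₀.Normal := by
    refine ⟨?_⟩
    intro n hn g
    rw [hK₀, Subgroup.mem_comap] at hn ⊢
    have h1 := (Subgroup.mem_normalizer_iff.mp (hrN ⟨g, rfl⟩) (π n)).mp hn
    simpa using h1
  have hK₀map : K₀.map π = H₀ := by
    rw [hK₀]
    exact Subgroup.map_comap_eq_self (hH₀H.trans hHr)
  have hff₀ : FFHyp 2 (holV W) H₀ := by
    have := ffHyp_map_holπ W hWe hsep hO K₀
    rw [← hπ, hK₀map] at this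
    exact this
  -- every member of `𝒜` maps into `H₀`
  have hHV : H ≤ Subgroup.normalizer (holV W : Set (Hol W)) := by
    rw [hH, hπ]; exact map_holπ_le_normalizer W L
  have hHf : H ⊓ Subgroup.centralizer (holV W : Set (Hol W)) = ⊥ := by
    rw [hH, hπ]; exact map_holπ_inf_centralizer W L
  have hgen : ∀ B : Subgroup (Hol W), B ≤ H → IsBestOffenderOn 2 (holV W) B → B ≤ H₀ := by
    intro B hBH hB
    rw [hH₀]
    exact le_iSup (fun A : {A : Subgroup (Hol W) // A ≤ H ∧ IsBestOffenderOn 2 (holV W) A} =>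
      (A : Subgroup (Hol W))) ⟨B, hBH, hB⟩
  have h𝒜H₀ : ∀ A ∈ 𝒜, A ≤ K₀ := by
    intro A hA
    have hAH : A.map π ≤ H := hH ▸ Subgroup.map_mono (h𝒜L A hA)
    have h2 : IsPGroup 2 ↥(A.map π) := (h𝒜2 A hA).map π
    have hc : ∀ x ∈ A.map π, ∀ y ∈ A.map π, x * y = y * x := by
      rintro _ ⟨a, ha, rfl⟩ _ ⟨b, hb, rfl⟩
      rw [← map_mul, ← map_mul, h𝒜c A hA a ha b hb]
    have hw : IsWBO (holV W) (A.map π) := by
      rw [hπ]; exact isWBO_map_holπ W (h𝒜w A hA)
    have h3 := wbo_le hff₀ hHV hHf (hHr.trans hrN) hgen _ (A.map π) rfl hAH h2 hc hw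
    rw [hK₀, ← Subgroup.map_le_iff_le_comap]
    exact h3
  have hLK₀ : L ≤ K₀ := hL K₀ hK₀n h𝒜H₀
  have hHeq : H = H₀ := by
    apply le_antisymm _ hH₀H
    rw [hH, ← hK₀map]
    exact Subgroup.map_mono hLK₀
  have hS3 : H = ⨆ A : {A : Subgroup (Hol W) // A ≤ H ∧ IsBestOffenderOn 2 (holV W) A},
      (A : Subgroup (Hol W)) := by
    rw [← hH₀]; exact hHeq
  have hff : FFHyp 2 (holV W) H := by
    have := ffHyp_map_holπ W hWe hsep hO L
    rw [← hπ, ← hH] at this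
    exact this
  by_cases hH1 : H = ⊥
  · left
    intro l hl
    have h1 : π l ∈ H := hH ▸ Subgroup.mem_map_of_mem π hl
    rw [hH1, Subgroup.mem_bot, hπ] at h1
    exact (holπ_eq_one_iff W).mp h1
  · right
    obtain ⟨-, h2, h3, h4, -, -⟩ := hff.ff_structure hS3 hH1
      (fun E => ∃ A, A ≤ H ∧ FFHyp.IsMinBO 2 (holV W) A ∧ E = ffE 2 H A) (fun E => Iff.rfl)
    haveI : Fintype {E : Subgroup (Hol W) //
        ∃ A, A ≤ H ∧ FFHyp.IsMinBO 2 (holV W) A ∧ E = ffE 2 H A} := Fintype.ofFinite _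
    obtain ⟨e0⟩ := sl2_two_equiv_perm'
    have hiso := exists_equiv_pi_of_iSupIndep
      (fun E : {E : Subgroup (Hol W) //
        ∃ A, A ≤ H ∧ FFHyp.IsMinBO 2 (holV W) A ∧ E = ffE 2 H A} => (E : Subgroup (Hol W))) H
      (fun i => (h2 i).1) h3 h4 (S := Equiv.Perm (Fin 3))
      (fun i => by
        obtain ⟨e⟩ := (h2 i).2.1
        exact ⟨e.trans e0⟩)
    subst hH
    subst hπ
    refine ⟨_, ?_, hiso⟩
    rw [Nat.succ_le_iff, Fintype.card_pos_iff]
    by_contra hemp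
    rw [not_nonempty_iff] at hemp
    apply hH1
    rw [← h4, iSup_of_empty]

/-- `L / (C ∩ L)` is isomorphic to the image of `L` in the holomorph, for `C = C_K(W)` -/
theorem quot_equiv_map_holπ (W : Subgroup K) [W.Normal] (L C : Subgroup K) [hCn : C.Normal]
    (hC : C = Subgroup.centralizer (W : Set K)) :
    Nonempty (↥L ⧸ C.subgroupOf L ≃* ↥(L.map (holπ W))) := by
  have hsurj := (holπ W).subgroupMap_surjective L
  have hker : C.subgroupOf L = ((holπ W).subgroupMap L).ker := by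
    ext l
    rw [Subgroup.mem_subgroupOf, MonoidHom.mem_ker, hC, ← holπ_eq_one_iff W]
    constructor
    · intro h
      apply Subtype.ext
      exact h
    · intro h
      exact congrArg Subtype.val h
  exact ⟨(QuotientGroup.quotientMulEquivOfEq hker).trans
    (QuotientGroup.quotientKerEquivOfSurjective _ hsurj)⟩

end Cfsg.Agent.Lib.Helper33.FFW
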