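import Mathlib

set_option autoImplicit false
set_option linter.style.haveILetI false
set_option linter.unusedSectionVars false

universe u

namespace Cfsg.Agent.Lib.Helper33

open Subgroup

/-- `X` is isomorphic to a section `K / R` of `G`. -/
def Sec (G : Type u) [Group G] (X : Type u) [Group X] : Prop :=
  ∃ (K R : Subgroup G) (_ : (R.subgroupOf K).Normal), Nonempty (X ≃* ↥K ⧸ R.subgroupOf K)

section quot

variable {A B : Type*} [Group A] [Group B]

/-- Generic isomorphism between section quotients along a homomorphism. -/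
theorem exists_quotient_equiv (f : A →* B) (K_A R_A : Subgroup A) (R_B : Subgroup B)
    [hA : (R_A.subgroupOf K_A).Normal] [hB : (R_B.subgroupOf (K_A.map f)).Normal]
    (hR : ∀ k ∈ K_A, k ∈ R_A ↔ f k ∈ R_B) :
    Nonempty (↥K_A ⧸ R_A.subgroupOf K_A ≃* ↥(K_A.map f) ⧸ R_B.subgroupOf (K_A.map f)) := by
  obtain ⟨ψ, hψ⟩ : ∃ ψ : ↥K_A →* ↥(K_A.map f) ⧸ R_B.subgroupOf (K_A.map f),
      ψ = (QuotientGroup.mk' (R_B.subgroupOf (K_A.map f))).comp (f.subgroupMap K_A) := ⟨_, rfl⟩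
  have hsurj : Function.Surjective ψ := by
    rw [hψ]
    exact (QuotientGroup.mk'_surjective _).comp (f.subgroupMap_surjective K_A)
  have hker : ψ.ker = R_A.subgroupOf K_A := by
    ext k
    rw [MonoidHom.mem_ker, hψ, MonoidHom.comp_apply, QuotientGroup.mk'_apply,
      QuotientGroup.eq_one_iff, Subgroup.mem_subgroupOf, Subgroup.mem_subgroupOf]
    exact (hR k k.2).symm
  haveI : ψ.ker.Normal := inferInstance
  exact ⟨(QuotientGroup.quotientMulEquivOfEq hker).symm.trans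
    (QuotientGroup.quotientKerEquivOfSurjective ψ hsurj)⟩

theorem normal_subgroupOf_map_of_injective (f : A →* B) (hf : Function.Injective f)
    (K R : Subgroup A) [h : (R.subgroupOf K).Normal] : ((R.map f).subgroupOf (K.map f)).Normal := by
  constructor
  rintro ⟨x, hx⟩ hxR ⟨y, hy⟩
  rw [Subgroup.mem_subgroupOf] at hxR ⊢
  obtain ⟨r, hr, hrx⟩ := hxR
  obtain ⟨k, hk, hky⟩ := hy
  obtain ⟨x', hx', hxx⟩ := hx
  have hrx' : r = x' := hf (hrx.trans hxx.symm)
  have hrK : r ∈ K := hrx' ▸ hx'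
  have := h.conj_mem ⟨r, hrK⟩ (Subgroup.mem_subgroupOf.mpr hr) ⟨k, hk⟩
  rw [Subgroup.mem_subgroupOf] at this
  refine ⟨k * r * k⁻¹, by simpa using this, ?_⟩
  simp only [map_mul, map_inv, hky, hrx, Subgroup.coe_mul, Subgroup.coe_inv]

theorem normal_subgroupOf_comap (f : A →* B) (K R : Subgroup B) [h : (R.subgroupOf K).Normal] :
    ((R.comap f).subgroupOf (K.comap f)).Normal := by
  constructor
  rintro ⟨x, hx⟩ hxR ⟨y, hy⟩
  rw [Subgroup.mem_subgroupOf, Subgroup.mem_comap] at hxR ⊢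
  rw [Subgroup.mem_comap] at hx hy
  have := h.conj_mem ⟨f x, hx⟩ (Subgroup.mem_subgroupOf.mpr hxR) ⟨f y, hy⟩
  rw [Subgroup.mem_subgroupOf] at this
  simpa using this

theorem quotient_equiv_of_eq {K K' : Subgroup B} (R : Subgroup B) [h : (R.subgroupOf K).Normal]
    [h' : (R.subgroupOf K').Normal] (hK : K = K') :
    Nonempty (↥K ⧸ R.subgroupOf K ≃* ↥K' ⧸ R.subgroupOf K') := by
  subst hK
  exact ⟨MulEquiv.refl _⟩

end quot

variable {G X Y : Type u} [Group G] [Group X] [Group Y]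

theorem Sec.trans (h1 : Sec G X) (h2 : Sec X Y) : Sec G Y := by
  obtain ⟨K, R, hR, ⟨e⟩⟩ := h1
  obtain ⟨K₁, R₁, hR₁, ⟨e₁⟩⟩ := h2
  -- step a
  haveI ha : ((R₁.map e.toMonoidHom).subgroupOf (K₁.map e.toMonoidHom)).Normal :=
    normal_subgroupOf_map_of_injective e.toMonoidHom e.injective K₁ R₁
  obtain ⟨ea⟩ := exists_quotient_equiv e.toMonoidHom K₁ R₁ (R₁.map e.toMonoidHom) (by
    intro k _
    constructor
    · intro hk; exact ⟨k, hk, rfl⟩
    · rintro ⟨r, hr, hrk⟩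
      have : r = k := e.injective hrk
      rw [← this]; exact hr)
  -- step b
  obtain ⟨π, hπ⟩ : ∃ π : ↥K →* ↥K ⧸ R.subgroupOf K, π = QuotientGroup.mk' (R.subgroupOf K) :=
    ⟨_, rfl⟩
  have hπs : Function.Surjective π := by rw [hπ]; exact QuotientGroup.mk'_surjective _
  obtain ⟨K₂, hK₂⟩ : ∃ K₂ : Subgroup ↥K, K₂ = (K₁.map e.toMonoidHom).comap π := ⟨_, rfl⟩
  obtain ⟨R₂, hR₂⟩ : ∃ R₂ : Subgroup ↥K, R₂ = (R₁.map e.toMonoidHom).comap π := ⟨_, rfl⟩
  haveI hb : (R₂.subgroupOf K₂).Normal := by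
    rw [hK₂, hR₂]; exact normal_subgroupOf_comap π _ _
  have hK₂map : K₂.map π = K₁.map e.toMonoidHom := by
    rw [hK₂]; exact Subgroup.map_comap_eq_self_of_surjective hπs _
  haveI hb' : ((R₁.map e.toMonoidHom).subgroupOf (K₂.map π)).Normal := by
    rw [hK₂map]; exact ha
  obtain ⟨eb⟩ := exists_quotient_equiv π K₂ R₂ (R₁.map e.toMonoidHom) (by
    intro k _
    rw [hR₂, Subgroup.mem_comap])
  -- step c
  haveI hc : ((R₂.map K.subtype).subgroupOf (K₂.map K.subtype)).Normal :=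
    normal_subgroupOf_map_of_injective K.subtype (Subgroup.subtype_injective K) K₂ R₂
  obtain ⟨ec⟩ := exists_quotient_equiv K.subtype K₂ R₂ (R₂.map K.subtype) (by
    intro k _
    constructor
    · intro hk; exact ⟨k, hk, rfl⟩
    · rintro ⟨r, hr, hrk⟩
      have : r = k := Subgroup.subtype_injective K hrk
      rw [← this]; exact hr)
  -- the equality of the middle groups
  have hmid := quotient_equiv_of_eq (R₁.map e.toMonoidHom) hK₂map
  obtain ⟨em⟩ := hmid
  exact ⟨K₂.map K.subtype, R₂.map K.subtype, hc,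
    ⟨e₁.trans (ea.trans (em.symm.trans (eb.symm.trans ec)))⟩⟩

theorem Sec.of_equiv (e : Y ≃* X) : Sec X Y := by
  haveI : ((⊥ : Subgroup X).subgroupOf ⊤).Normal := by
    rw [Subgroup.bot_subgroupOf]; infer_instance
  refine ⟨⊤, ⊥, inferInstance, ⟨?_⟩⟩
  have h1 : (⊥ : Subgroup X).subgroupOf ⊤ = ⊥ := Subgroup.bot_subgroupOf _
  exact e.trans (Subgroup.topEquiv.symm.trans
    (QuotientGroup.quotientBot.symm.trans (QuotientGroup.quotientMulEquivOfEq h1.symm)))

theorem Sec.refl (X : Type u) [Group X] : Sec X X := Sec.of_equiv (MulEquiv.refl X)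

theorem Sec.subgroup (H : Subgroup X) : Sec X ↥H := by
  haveI : ((⊥ : Subgroup X).subgroupOf H).Normal := by
    rw [Subgroup.bot_subgroupOf]; infer_instance
  refine ⟨H, ⊥, inferInstance, ⟨?_⟩⟩
  have h1 : (⊥ : Subgroup X).subgroupOf H = ⊥ := Subgroup.bot_subgroupOf _
  exact QuotientGroup.quotientBot.symm.trans (QuotientGroup.quotientMulEquivOfEq h1.symm)

theorem Sec.quotient (M : Subgroup X) [hM : M.Normal] : Sec X (X ⧸ M) := by
  haveI : (M.subgroupOf ⊤).Normal := inferInstance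
  refine ⟨⊤, M, inferInstance, ⟨?_⟩⟩
  refine QuotientGroup.congr M (M.subgroupOf ⊤) Subgroup.topEquiv.symm ?_
  ext x
  constructor
  · rintro ⟨m, hm, rfl⟩
    rw [Subgroup.mem_subgroupOf]
    exact hm
  · intro hx
    rw [Subgroup.mem_subgroupOf] at hx
    exact ⟨(x : X), hx, by ext; rfl⟩

theorem Sec.section_ (K R : Subgroup G) [hR : (R.subgroupOf K).Normal] :
    Sec G (↥K ⧸ R.subgroupOf K) := ⟨K, R, hR, ⟨MulEquiv.refl _⟩⟩

end Cfsg.Agent.Lib.Helper33
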