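import Cfsg.Agent.Lib.Helper33.SecBasic

set_option autoImplicit false
set_option linter.style.haveILetI false
set_option linter.unusedSectionVars false

namespace Cfsg.Agent.Lib.Helper33

open Cfsg Subgroup

variable {X : Type*} [Group X] [Finite X] {p : ℕ} [Fact p.Prime] (P : Sylow p X)
  (𝓦 : Set (Subgroup X → Subgroup X))

/-- The hypothesis "fusion is controlled in every proper subgroup containing `P`". -/
def SubGood : Prop :=
  ∀ H : Subgroup X, H ≠ ⊤ → (P : Subgroup X) ≤ H → ∀ (A : Set X) (g : X), g ∈ H →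
    A ⊆ (P : Subgroup X) → rc g A ⊆ (P : Subgroup X) → GoodF 𝓦 (P : Subgroup X) A g

variable {P 𝓦}

/-- `N_P(U) ∩ C ≤ U` forces `P ∩ C ≤ U` for a normal subgroup `C`. -/
theorem inf_le_of_normalizer_inf_le {U : Subgroup X} (hUP : U ≤ (P : Subgroup X)) (C : Subgroup X)
    [hC : C.Normal]
    (h : (P : Subgroup X) ⊓ normalizer (U : Set X) ⊓ C ≤ U) : (P : Subgroup X) ⊓ C ≤ U := by
  by_contra hWU
  obtain ⟨W, hW⟩ : ∃ W : Subgroup X, W = (P : Subgroup X) ⊓ C := ⟨_, rfl⟩
  rw [← hW] at hWU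
  have hWP : W ≤ (P : Subgroup X) := by rw [hW]; exact inf_le_left
  have hPW : (P : Subgroup X) ≤ normalizer (W : Set X) := by
    intro x hx
    rw [← cj_eq_self_iff, hW, cj_inf, cj_eq_self_of_mem hx]
    congr 1
    apply cj_eq_self_iff.mpr
    rw [Subgroup.normalizer_eq_top C]; exact Subgroup.mem_top _
  have hlt : U < U ⊔ W :=
    lt_of_le_of_ne le_sup_left (fun he => hWU (le_sup_right.trans he.symm.le))
  have hTp : IsPGroup p (U ⊔ W : Subgroup X) := P.isPGroup'.to_le (sup_le hUP hWP)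
  have hg := normalizer_growth hTp hlt
  obtain ⟨z, hz, hzU⟩ := SetLike.exists_of_lt hg
  have hUW : U ≤ normalizer (W : Set X) := hUP.trans hPW
  have hmul := Subgroup.coe_mul_of_left_le_normalizer_right U W hUW
  have hz1 : z ∈ ((U ⊔ W : Subgroup X) : Set X) := hz.1
  rw [hmul] at hz1
  obtain ⟨u, hu, w, hw, rfl⟩ := hz1
  have hu' : u ∈ U := hu
  have hw' : w ∈ W := hw
  have hwNU : w ∈ normalizer (U : Set X) := by
    have h1 : u⁻¹ * (u * w) ∈ normalizer (U : Set X) :=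
      Subgroup.mul_mem _ (Subgroup.inv_mem _ (Subgroup.le_normalizer hu')) hz.2
    simpa using h1
  have hwU : w ∉ U := fun h => hzU (U.mul_mem hu' h)
  apply hwU
  apply h
  rw [hW] at hw'
  exact ⟨⟨hw'.1, hwNU⟩, hw'.2⟩

/-- **Case 4**: a normal subgroup `C` with `P C ≠ X` and `P ∩ C` not normal. -/
theorem ctlAt_case4 (hsub : SubGood P 𝓦) (C : Subgroup X) [hC : C.Normal]
    (hne : (P : Subgroup X) ⊔ C ≠ ⊤)
    (hnn : normalizer ((((P : Subgroup X) ⊓ C : Subgroup X)) : Set X) ≠ ⊤) :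
    CtlAt 𝓦 (P : Subgroup X) := by
  intro A g hA hAg
  have hPP₁ : (P : Subgroup X) ≤ normalizer ((((P : Subgroup X) ⊓ C : Subgroup X)) : Set X) := by
    intro x hx
    rw [← cj_eq_self_iff, cj_inf, cj_eq_self_of_mem hx]
    congr 1
    apply cj_eq_self_iff.mpr
    rw [Subgroup.normalizer_eq_top C]; exact Subgroup.mem_top _
  apply ag_induction P (GoodF 𝓦 (P : Subgroup X)) (fun h hBA => h.mono hBA)
    (fun h1 h2 => h1.trans h2) (fun hc => GoodF.cent hc) ?_ A g hA hAg
  intro U hU x hx hbig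
  obtain ⟨hUP, hfn, -⟩ := hU
  -- Frattini decomposition inside `N(U)`
  obtain ⟨R₁, hR₁⟩ : ∃ R₁ : Subgroup X,
      R₁ = (P : Subgroup X) ⊓ normalizer (U : Set X) ⊓ (normalizer (U : Set X) ⊓ C) := ⟨_, rfl⟩
  have hMn : normalizer (U : Set X) ≤ normalizer ((normalizer (U : Set X) ⊓ C : Subgroup X) : Set X) := by
    intro n hn
    rw [← cj_eq_self_iff, cj_inf, cj_eq_self_of_mem hn]
    congr 1
    apply cj_eq_self_iff.mpr
    rw [Subgroup.normalizer_eq_top C]; exact Subgroup.mem_top _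
  have hR₁i : ¬ p ∣ R₁.relIndex (normalizer (U : Set X) ⊓ C) := by
    rw [hR₁]
    exact sylow_inf_normal (N := normalizer (U : Set X)) inf_le_right
      (P.isPGroup'.to_le inf_le_left) hfn inf_le_left hMn
  have hR₁p : IsPGroup p R₁ := by
    rw [hR₁]; exact P.isPGroup'.to_le (inf_le_left.trans inf_le_left)
  obtain ⟨x₁, hx₁, y, hy, rfl⟩ := frattini_gen (H := normalizer (U : Set X))
    (M := normalizer (U : Set X) ⊓ C) (R := R₁) hMn inf_le_left (by rw [hR₁]; exact inf_le_right)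
    hR₁p hR₁i hx
  have hrcU : ∀ n ∈ normalizer (U : Set X), rc n (U : Set X) = U := by
    intro n hn
    rw [rc_coe, cj_eq_self_iff.mpr (inv_mem hn)]
  -- first factor
  have hg1 : GoodF 𝓦 (P : Subgroup X) (U : Set X) x₁ := by
    apply hsub _ hne le_sup_left (U : Set X) x₁ (le_sup_right (a := (P : Subgroup X)) hx₁.2) hUP
    rw [hrcU x₁ hx₁.1]; exact hUP
  apply hg1.trans
  rw [hrcU x₁ hx₁.1]
  -- second factor
  have hR₁eq : R₁ = (P : Subgroup X) ⊓ normalizer (U : Set X) ⊓ C := by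
    rw [hR₁]
    apply le_antisymm
    · exact le_inf inf_le_left (inf_le_right.trans inf_le_right)
    · exact le_inf inf_le_left (le_inf (inf_le_left.trans inf_le_right) inf_le_right)
  by_cases hRU : R₁ ≤ U
  · -- `P ∩ C ≤ U`
    have hP₁U : (P : Subgroup X) ⊓ C ≤ U := inf_le_of_normalizer_inf_le hUP C (hR₁eq ▸ hRU)
    have hP₁eq : (P : Subgroup X) ⊓ C = U ⊓ C :=
      le_antisymm (le_inf hP₁U inf_le_right) (inf_le_inf_right _ hUP)
    have hyN : y ∈ normalizer ((((P : Subgroup X) ⊓ C : Subgroup X)) : Set X) := by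
      rw [hP₁eq, ← cj_eq_self_iff, cj_inf, cj_eq_self_iff.mpr hy.1]
      congr 1
      apply cj_eq_self_iff.mpr
      rw [Subgroup.normalizer_eq_top C]; exact Subgroup.mem_top _
    apply hsub _ hnn hPP₁ (U : Set X) y hyN hUP
    rw [hrcU y hy.1]; exact hUP
  · -- bigger set
    have hyUR : y ∈ normalizer ((U ⊔ R₁ : Subgroup X) : Set X) := by
      rw [← cj_eq_self_iff, cj_sup, cj_eq_self_iff.mpr hy.1, cj_eq_self_iff.mpr hy.2]
    have hURP : U ⊔ R₁ ≤ (P : Subgroup X) :=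
      sup_le hUP (by rw [hR₁]; exact inf_le_left.trans inf_le_left)
    have hlt : U < U ⊔ R₁ :=
      lt_of_le_of_ne le_sup_left (fun he => hRU (le_sup_right.trans he.symm.le))
    have hbigger : GoodF 𝓦 (P : Subgroup X) ((U ⊔ R₁ : Subgroup X) : Set X) y := by
      apply hbig _ y hURP
      · rw [rc_coe, cj_eq_self_iff.mpr (inv_mem hyUR)]; exact hURP
      · rw [Subgroup.closure_eq]
        exact card_lt_of_lt hlt
    exact hbigger.mono (by exact_mod_cast (le_sup_left : U ≤ U ⊔ R₁))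

end Cfsg.Agent.Lib.Helper33
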