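import Cfsg.Agent.Lib.Helper33.SecCase4

set_option autoImplicit false
set_option linter.style.haveILetI false
set_option linter.unusedSectionVars false

namespace Cfsg.Agent.Lib.Helper33

open Cfsg Subgroup

variable {X : Type*} [Group X]

/-- The elements of `N(U)` acting trivially on `U / Q`. -/
def stabMod (U Q : Subgroup X) [hQ : Q.Normal] : Subgroup X where
  carrier := {y | y ∈ normalizer (U : Set X) ∧ ∀ u ∈ U, y * u * y⁻¹ * u⁻¹ ∈ Q}
  one_mem' := ⟨Subgroup.one_mem _, fun u _ => by simp⟩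
  mul_mem' := by
    rintro y z ⟨hy, hy'⟩ ⟨hz, hz'⟩
    refine ⟨Subgroup.mul_mem _ hy hz, ?_⟩
    intro u hu
    have h1 : y * (z * u * z⁻¹ * u⁻¹) * y⁻¹ ∈ Q := hQ.conj_mem _ (hz' u hu) y
    have h2 := Q.mul_mem h1 (hy' u hu)
    have e : y * z * u * (y * z)⁻¹ * u⁻¹ = y * (z * u * z⁻¹ * u⁻¹) * y⁻¹ * (y * u * y⁻¹ * u⁻¹) := by
      group
    rw [e]; exact h2
  inv_mem' := by
    rintro y ⟨hy, hy'⟩
    refine ⟨Subgroup.inv_mem _ hy, ?_⟩
    intro u hu
    have hv : y⁻¹ * u * y ∈ U := by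
      have := (Subgroup.mem_normalizer_iff.mp (Subgroup.inv_mem _ hy) u).mp hu
      simpa using this
    have h1 := hy' _ hv
    have h2 := Q.inv_mem h1
    have e : y⁻¹ * u * y⁻¹⁻¹ * u⁻¹ = (y * (y⁻¹ * u * y) * y⁻¹ * (y⁻¹ * u * y)⁻¹)⁻¹ := by group
    rw [e]; exact h2

theorem mem_stabMod {U Q : Subgroup X} [hQ : Q.Normal] {y : X} :
    y ∈ stabMod U Q ↔ y ∈ normalizer (U : Set X) ∧ ∀ u ∈ U, y * u * y⁻¹ * u⁻¹ ∈ Q := Iff.rfl

theorem stabMod_le (U Q : Subgroup X) [hQ : Q.Normal] : stabMod U Q ≤ normalizer (U : Set X) :=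
  fun _ h => h.1

theorem normalizer_le_normalizer_stabMod (U Q : Subgroup X) [hQ : Q.Normal] :
    normalizer (U : Set X) ≤ normalizer ((stabMod U Q : Subgroup X) : Set X) := by
  have key : ∀ n ∈ normalizer (U : Set X), ∀ y ∈ stabMod U Q, n * y * n⁻¹ ∈ stabMod U Q := by
    rintro n hn y ⟨hy, hy'⟩
    refine ⟨Subgroup.mul_mem _ (Subgroup.mul_mem _ hn hy) (Subgroup.inv_mem _ hn), ?_⟩
    intro u hu
    have hv : n⁻¹ * u * n ∈ U := by
      have := (Subgroup.mem_normalizer_iff.mp (Subgroup.inv_mem _ hn) u).mp hu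
      simpa using this
    have h1 := hQ.conj_mem _ (hy' _ hv) n
    have e : n * y * n⁻¹ * u * (n * y * n⁻¹)⁻¹ * u⁻¹ =
        n * (y * (n⁻¹ * u * n) * y⁻¹ * (n⁻¹ * u * n)⁻¹) * n⁻¹ := by group
    rw [e]; exact h1
  intro n hn
  rw [Subgroup.mem_normalizer_iff]
  intro y
  constructor
  · exact key n hn y
  · intro h
    have := key n⁻¹ (Subgroup.inv_mem _ hn) _ h
    have e : n⁻¹ * (n * y * n⁻¹) * n⁻¹⁻¹ = y := by group
    rwa [e] at this

variable [Finite X] {p : ℕ} [Fact p.Prime] {P : Sylow p X} {𝓦 : Set (Subgroup X → Subgroup X)}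

/-- A normal `p`-subgroup lies in every member of the Alperin–Goldschmidt family. -/
theorem normal_le_of_mem_agFamily (Q : Subgroup X) [hQ : Q.Normal] (hQP : Q ≤ (P : Subgroup X))
    {U : Subgroup X} (hU : U ∈ agFamily P) : Q ≤ U := by
  have hUP : U ≤ (P : Subgroup X) := hU.1
  have hQp : IsPGroup p Q := P.isPGroup'.to_le hQP
  have hcjQ : ∀ n : X, cj n Q = Q := by
    intro n
    apply cj_eq_self_iff.mpr
    rw [Subgroup.normalizer_eq_top Q]; exact Subgroup.mem_top _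
  have hD : Q ⊓ normalizer (U : Set X) ≤ lG p U := by
    apply le_lG_of_subnormal P hU (normalizer (U : Set X)) _ le_rfl Subgroup.le_normalizer
      inf_le_right
    · intro n hn
      rw [← cj_eq_self_iff, cj_inf, hcjQ, cj_eq_self_of_mem hn]
    · intro d hd
      obtain ⟨k, hk⟩ := hQp ⟨d, hd.1⟩
      refine ⟨k, ?_⟩
      have : d ^ p ^ k = 1 := by
        have := congrArg Subtype.val hk
        simpa using this
      rw [this]; exact Subgroup.one_mem _
  have hD' : (P : Subgroup X) ⊓ normalizer (U : Set X) ⊓ Q ≤ U := by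
    intro d hd
    apply inf_lG_le P hU
    exact ⟨hd.1.1, hD ⟨hd.2, hd.1.2⟩⟩
  have := inf_le_of_normalizer_inf_le hUP Q hD'
  exact (le_inf hQP le_rfl).trans this

/-- **Case 5**: all `p'`-elements centralize the normal `p`-subgroup `Q`, and fusion is controlled
modulo `Q`. -/
theorem ctlAt_case5 (hsub : SubGood P 𝓦) (Q : Subgroup X) [hQ : Q.Normal]
    (hQP : Q ≤ (P : Subgroup X)) (hPne : (P : Subgroup X) ≠ ⊤)
    (hC : ∀ b : X, ∀ m : ℕ, m.Coprime p → b ^ m = 1 → b ∈ centralizer (Q : Set X))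
    (hquot : ∀ U : Subgroup X, U ≤ (P : Subgroup X) → Q ≤ U → ∀ x ∈ normalizer (U : Set X),
      ∃ g' : X, GoodF 𝓦 (P : Subgroup X) (U : Set X) g' ∧
        ∀ u ∈ U, (g'⁻¹ * u * g')⁻¹ * (x⁻¹ * u * x) ∈ Q) :
    CtlAt 𝓦 (P : Subgroup X) := by
  intro A g hA hAg
  apply ag_induction P (GoodF 𝓦 (P : Subgroup X)) (fun h hBA => h.mono hBA)
    (fun h1 h2 => h1.trans h2) (fun hc => GoodF.cent hc) ?_ A g hA hAg
  intro U hU x hx _
  have hUP : U ≤ (P : Subgroup X) := hU.1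
  have hUp : IsPGroup p U := P.isPGroup'.to_le hUP
  have hQp : IsPGroup p Q := P.isPGroup'.to_le hQP
  have hQU : Q ≤ U := normal_le_of_mem_agFamily Q hQP hU
  obtain ⟨g', hg', hagree⟩ := hquot U hUP hQU x hx
  -- `g'` normalizes `U`
  have hg'U : ∀ u ∈ U, g'⁻¹ * u * g' ∈ U := by
    intro u hu
    have h1 := hagree u hu
    have h2 : x⁻¹ * u * x ∈ U := by
      have := (Subgroup.mem_normalizer_iff.mp (Subgroup.inv_mem _ hx) u).mp hu
      simpa using this
    have h3 : g'⁻¹ * u * g' = (x⁻¹ * u * x) * ((g'⁻¹ * u * g')⁻¹ * (x⁻¹ * u * x))⁻¹ := by group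
    rw [h3]
    exact U.mul_mem h2 (U.inv_mem (hQU h1))
  have hg'N : g' ∈ normalizer (U : Set X) := by
    have h1 : cj g'⁻¹ U ≤ U := by
      intro y hy
      obtain ⟨u, hu, rfl⟩ := mem_cj'.mp hy
      have := hg'U u hu
      simpa using this
    have h2 := cj_eq_of_le h1
    have := cj_eq_self_iff.mp h2
    simpa using Subgroup.inv_mem _ this
  have hrcU : ∀ n ∈ normalizer (U : Set X), rc n (U : Set X) = U := by
    intro n hn
    rw [rc_coe, cj_eq_self_iff.mpr (inv_mem hn)]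
  -- the difference `d`
  obtain ⟨d, hd⟩ : ∃ d : X, d = g'⁻¹ * x := ⟨_, rfl⟩
  have hxe : x = g' * d := by rw [hd]; group
  have hdN : d ∈ normalizer (U : Set X) := by
    rw [hd]; exact Subgroup.mul_mem _ (Subgroup.inv_mem _ hg'N) hx
  have hdD : d ∈ stabMod U Q := by
    refine ⟨hdN, ?_⟩
    intro u hu
    have hv : x * u * x⁻¹ ∈ U := (Subgroup.mem_normalizer_iff.mp hx u).mp hu
    have h1 := hagree _ hv
    have e1 : (g'⁻¹ * (x * u * x⁻¹) * g')⁻¹ * (x⁻¹ * (x * u * x⁻¹) * x) = (d * u * d⁻¹)⁻¹ * u := by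
      rw [hd]; group
    rw [e1] at h1
    have h2 := hQ.conj_mem _ (Q.inv_mem h1) u
    have e2 : u * ((d * u * d⁻¹)⁻¹ * u)⁻¹ * u⁻¹ = d * u * d⁻¹ * u⁻¹ := by group
    rwa [e2] at h2
  rw [hxe]
  apply hg'.trans
  rw [hrcU g' hg'N]
  -- `D ≤ lG p U`
  have hDl : stabMod U Q ≤ lG p U := by
    apply le_lG_of_subnormal P hU (normalizer (U : Set X)) _ le_rfl Subgroup.le_normalizer
      (stabMod_le U Q) (normalizer_le_normalizer_stabMod U Q)
    intro d hd
    obtain ⟨a, m, hm, hord⟩ := Nat.exists_eq_pow_mul_and_not_dvd (orderOf_pos d).ne' p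
      (Fact.out : p.Prime).ne_one
    refine ⟨a, ?_⟩
    have hbm : (d ^ p ^ a) ^ m = 1 := by
      rw [← pow_mul, ← hord]; exact pow_orderOf_eq_one d
    have hmc : m.Coprime p :=
      (Nat.Coprime.symm ((Nat.Prime.coprime_iff_not_dvd Fact.out).mpr hm))
    have hbD : d ^ p ^ a ∈ stabMod U Q := Subgroup.pow_mem _ hd _
    have hbC := hC _ m hmc hbm
    apply centralizes_of_stab (U₀ := Q) hQp hmc hbm hbD.2
    intro z hz
    have := Subgroup.mem_centralizer_iff.mp hbC z hz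
    rw [← this, mul_inv_cancel_right]
  have hdl : d ∈ lG p U := hDl hdD
  obtain ⟨-, -, -, -, -, hcomm, -, hsup⟩ := hU
  have hUk : U ≤ normalizer ((kG p U : Subgroup X) : Set X) := by
    intro u hu
    rw [Subgroup.mem_normalizer_iff]
    intro k
    have key : ∀ k ∈ kG p U, u * k * u⁻¹ = k := by
      intro k hk
      rw [← hcomm k hk u hu, mul_inv_cancel_right]
    constructor
    · intro hk
      rw [key k hk]; exact hk
    · intro hk
      have h1 := key _ hk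
      have h2 : u * k * u⁻¹ = k := by
        have h3 : u * (u * k * u⁻¹) * u⁻¹ = u * k * u⁻¹ := h1
        have h4 : u * (u * k * u⁻¹) = u * k := by
          calc u * (u * k * u⁻¹) = (u * (u * k * u⁻¹) * u⁻¹) * u := by group
            _ = u * k * u⁻¹ * u := by rw [h3]
            _ = u * k := by group
        exact mul_left_cancel h4
      rw [h2] at hk; exact hk
  have hmul := Subgroup.coe_mul_of_left_le_normalizer_right U (kG p U) hUk
  have hd1 : d ∈ ((U ⊔ kG p U : Subgroup X) : Set X) := by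
    rw [sup_comm, hsup]; exact hdl
  rw [hmul] at hd1
  obtain ⟨u₀, hu₀, k, hk, hde⟩ := hd1
  have hu₀' : u₀ ∈ U := hu₀
  have hk' : k ∈ kG p U := hk
  have hgu₀ : GoodF 𝓦 (P : Subgroup X) (U : Set X) u₀ := by
    apply hsub _ hPne le_rfl (U : Set X) u₀ (hUP hu₀') hUP
    rw [hrcU u₀ (Subgroup.le_normalizer hu₀')]; exact hUP
  apply hgu₀.of_eq
  intro a ha
  have ha' : u₀⁻¹ * a * u₀ ∈ U := U.mul_mem (U.mul_mem (U.inv_mem hu₀') ha) hu₀'
  have h1 := hcomm k hk' _ ha'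
  rw [← hde]
  calc u₀⁻¹ * a * u₀ = k⁻¹ * (k * (u₀⁻¹ * a * u₀)) := by group
    _ = k⁻¹ * ((u₀⁻¹ * a * u₀) * k) := by rw [h1]
    _ = (u₀ * k)⁻¹ * a * (u₀ * k) := by group

end Cfsg.Agent.Lib.Helper33
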