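import Cfsg.Agent.Lib.Helper33.Induced
import Cfsg.Agent.Lib.Helper33.Sec

set_option autoImplicit false
set_option linter.style.haveILetI false
set_option linter.unusedSectionVars false

universe u

namespace Cfsg.Agent.Lib.Helper33

open Cfsg Subgroup

section general

variable {X : Type*} [Group X] {p : ℕ}

theorem Chain.mono_left {𝓦 : Set (Subgroup X → Subgroup X)} {H H' T0 : Subgroup X} (hH : H ≤ H')
    {A : Set X} {g : X} (h : Chain 𝓦 H T0 A g) : Chain 𝓦 H' T0 A g := by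
  induction h with
  | nil A => exact Chain.nil A
  | cons A y g hy hA _ ih =>
    obtain ⟨W, hW, hyW⟩ := hy
    exact Chain.cons A y g ⟨W, hW, ⟨hH hyW.1, hyW.2⟩⟩ hA ih

/-- Chain-form control of strong fusion in `X` with respect to `T`. -/
def CtlAt (𝓦 : Set (Subgroup X → Subgroup X)) (T : Subgroup X) : Prop :=
  ∀ (A : Set X) (g : X), A ⊆ T → rc g A ⊆ T → GoodF 𝓦 T A g

theorem ctlAt_of_fcsf [Finite X] [Fact p.Prime] {𝓦 : Set (Subgroup X → Subgroup X)}
    (h𝓦 : ∀ W ∈ 𝓦, IsConjugacyFunctor p W) (h : FamilyControlsStrongFusionIn p 𝓦 ⊤)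
    {T : Subgroup X} (hT : IsPGroup p T) (hTi : ¬ p ∣ T.index) : CtlAt 𝓦 T := by
  intro A g hA hAg
  exact fcsf_transport h𝓦 h le_top hT (by rwa [Subgroup.relIndex_top_right]) A g
    (Subgroup.mem_top g) hA hAg

/-- control inside a subgroup `H`, chain form -/
theorem goodF_of_fcsf_in [Finite X] [Fact p.Prime] {𝓦 : Set (Subgroup X → Subgroup X)}
    (h𝓦 : ∀ W ∈ 𝓦, IsConjugacyFunctor p W) {H : Subgroup X}
    (h : FamilyControlsStrongFusionIn p 𝓦 H)
    {T : Subgroup X} (hTH : T ≤ H) (hT : IsPGroup p T) (hTi : ¬ p ∣ T.relIndex H)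
    {A : Set X} {g : X} (hg : g ∈ H) (hA : A ⊆ T) (hAg : rc g A ⊆ T) : GoodF 𝓦 T A g := by
  obtain ⟨g', hc, he⟩ := fcsf_transport h𝓦 h hTH hT hTi A g hg hA hAg
  exact ⟨g', hc.mono_left le_top, he⟩

theorem fcsf_of_ctlAt {𝓦 : Set (Subgroup X → Subgroup X)} {T : Subgroup X} (hT : IsPGroup p T)
    (hTi : ¬ p ∣ T.index) (h : CtlAt 𝓦 T) : FamilyControlsStrongFusionIn p 𝓦 ⊤ := by
  refine ⟨T, le_top, hT, by rwa [Subgroup.relIndex_top_right], ?_⟩
  intro A h' _ hA hAh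
  have hAg : rc h'⁻¹ A ⊆ T := by
    rintro _ ⟨a, ha, rfl⟩
    apply hAh
    exact ⟨a, ha, by simp⟩
  obtain ⟨g', hc, he⟩ := h A h'⁻¹ hA hAg
  obtain ⟨n, c, h0, hstep, hsub, hlast⟩ := hc.toFin hA
  refine ⟨n, c, h0, hstep, hsub, ?_⟩
  intro a ha
  rw [hlast]
  have := he a ha
  simpa using this

end general

section transport

variable {p : ℕ} [Fact p.Prime] {𝓦 : Set (∀ (Q : Type u) [Group Q], Subgroup Q)}

/-- Transport of family control along an injective homomorphism. -/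
theorem fcsf_map_of_injective {Y X : Type u} [Group Y] [Group X] [Finite Y]
    (h𝓦 : ∀ W ∈ 𝓦, IsCharPFunctor.{u} p W) (f : Y →* X) (hf : Function.Injective f)
    (h : FamilyControlsStrongFusionIn p (indFam 𝓦 Y) ⊤) :
    FamilyControlsStrongFusionIn p (indFam 𝓦 X) f.range := by
  obtain ⟨T₀, -, hT₀p, hT₀i, hctl⟩ := h
  refine ⟨T₀.map f, ?_, hT₀p.map f, ?_, ?_⟩
  · rw [MonoidHom.range_eq_map]; exact Subgroup.map_mono le_top
  · rw [MonoidHom.range_eq_map, Subgroup.relIndex_map_map_of_injective _ _ hf]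
    exact hT₀i
  · intro A h' hh' hA hAh
    obtain ⟨y, rfl⟩ := hh'
    have hA' : f ⁻¹' A ⊆ (T₀ : Set Y) := by
      intro a ha
      obtain ⟨t, ht, hta⟩ := hA ha
      have : t = a := hf hta
      rw [← this]; exact ht
    have hAh' : (fun a => y * a * y⁻¹) '' (f ⁻¹' A) ⊆ (T₀ : Set Y) := by
      rintro _ ⟨a, ha, rfl⟩
      have h1 : f y * f a * (f y)⁻¹ ∈ T₀.map f := hAh ⟨f a, ha, rfl⟩
      obtain ⟨t, ht, hta⟩ := h1
      have : t = y * a * y⁻¹ := hf (by rw [hta]; simp)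
      show y * a * y⁻¹ ∈ T₀
      rw [← this]; exact ht
    obtain ⟨n, c, h0, hstep, hsub, hlast⟩ := hctl (f ⁻¹' A) y (Subgroup.mem_top y) hA' hAh'
    have hpre : ∀ a ∈ A, ∃ a' ∈ f ⁻¹' A, f a' = a := by
      intro a ha
      obtain ⟨t, _, hta⟩ := hA ha
      exact ⟨t, by rw [Set.mem_preimage, hta]; exact ha, hta⟩
    refine ⟨n, fun i => f (c i), by show f (c 0) = 1; rw [h0, map_one], ?_, ?_, ?_⟩
    · intro i
      obtain ⟨W', ⟨W, hW, rfl⟩, hm⟩ := hstep i
      refine ⟨inducedFunctor (G := X) W, ⟨W, hW, rfl⟩, ?_⟩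
      refine ⟨⟨_, by rw [← map_inv, ← map_mul]⟩, ?_⟩
      haveI : Finite ↥T₀ := inferInstance
      rw [← induced_map_of_injective (h𝓦 W hW) f hf T₀ hT₀p, ← map_inv, ← map_mul]
      exact Subgroup.le_normalizer_map f ⟨_, hm.2, rfl⟩
    · intro i
      rintro _ ⟨a, ha, rfl⟩
      obtain ⟨a', ha', rfl⟩ := hpre a ha
      have := hsub i ⟨a', ha', rfl⟩
      exact ⟨_, this, by simp⟩
    · intro a ha
      obtain ⟨a', ha', rfl⟩ := hpre a ha
      have := hlast a' ha'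
      rw [← map_inv, ← map_mul, ← map_mul, this]
      simp

theorem fcsf_of_equiv {Y X : Type u} [Group Y] [Group X] [Finite Y]
    (h𝓦 : ∀ W ∈ 𝓦, IsCharPFunctor.{u} p W) (e : Y ≃* X)
    (h : FamilyControlsStrongFusionIn p (indFam 𝓦 Y) ⊤) :
    FamilyControlsStrongFusionIn p (indFam 𝓦 X) ⊤ := by
  have := fcsf_map_of_injective h𝓦 e.toMonoidHom e.injective h
  have hr : e.toMonoidHom.range = ⊤ := MonoidHom.range_eq_top.mpr e.surjective
  rwa [hr] at this

theorem fcsf_subgroup {X : Type u} [Group X] [Finite X]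
    (h𝓦 : ∀ W ∈ 𝓦, IsCharPFunctor.{u} p W) (H : Subgroup X)
    (h : FamilyControlsStrongFusionIn p (indFam 𝓦 ↥H) ⊤) :
    FamilyControlsStrongFusionIn p (indFam 𝓦 X) H := by
  have := fcsf_map_of_injective h𝓦 H.subtype (Subgroup.subtype_injective H) h
  rwa [Subgroup.range_subtype] at this

end transport

end Cfsg.Agent.Lib.Helper33
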