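import Cfsg.Agent.Lib.Helper76.SlDefs
import Cfsg.Agent.Lib.Helper43.SlK2Defs

/-! SL-K2-AR (helper43's K2 sub-hive of helper76's Sl hive, S2332): the geometric sum. -/

set_option autoImplicit false

namespace Cfsg.Agent.Lib.Helper76.Sl

open Matrix Cfsg

/-- SL-K2-AR (E): geometric sum. -/
theorem k2_npt (q n : ℕ) (hq : 1 ≤ q) : Npt q n * (q - 1) = q ^ n - 1 := by
  obtain ⟨k, rfl⟩ : ∃ k, q = k + 1 := ⟨q - 1, by omega⟩
  rw [Nat.add_sub_cancel]
  unfold Npt
  induction n with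
  | zero => simp
  | succ n ih =>
    rw [Finset.sum_range_succ, add_mul, ih, pow_succ, Nat.mul_succ]
    have hX : 1 ≤ (k + 1) ^ n := Nat.one_le_pow _ _ (Nat.succ_pos k)
    generalize (k + 1) ^ n = X at hX
    generalize X * k = Y
    omega

end Cfsg.Agent.Lib.Helper76.Sl
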