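import Cfsg.Agent.Lib.Helper9.SlK3Defs
import Cfsg.Agent.Lib.Helper3.CharOps

/-! K3-CONJ (helper9's K3 sub-hive of helper76's Sl hive, S2332): `μ` is invariant under reindexing
`g ↦ x g x⁻¹` by an element `x` normalising `H`. -/

set_option autoImplicit false

namespace Cfsg.Agent.Lib.Helper76.Sl

open Matrix Cfsg
open scoped ComplexConjugate

variable (F : Type*) [Field F] [Fintype F] [DecidableEq F]

/-- K3-CONJ -/
theorem k3_mu_conj (m : ℕ) (e : AddChar F ℂ) (χ : Gm F (m + 1) → ℂ)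
    (hcf : IsClassFunction (Gm F (m + 1)) χ) (x : Gm F (m + 1))
    (hx : ∀ g ∈ K3H F m, x * g * x⁻¹ ∈ K3H F m) (hx' : ∀ g ∈ K3H F m, x⁻¹ * g * x ∈ K3H F m)
    (α β α' β' : Fin (m + 1) → F)
    (hab : ∀ g ∈ K3H F m,
      (∑ j, (α' j * (x * g * x⁻¹).1 0 (k3mid m j) +
          β' j * (x * g * x⁻¹).1 (k3mid m j) (Fin.last (m + 2)))) =
        ∑ j, (α j * g.1 0 (k3mid m j) + β j * g.1 (k3mid m j) (Fin.last (m + 2)))) :
    k3mu F m e χ α' β' = k3mu F m e χ α β := by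
  classical
  unfold k3mu
  congr 1
  have hxx : ∀ g : Gm F (m + 1), x * (x⁻¹ * g * x) * x⁻¹ = g := fun g => by group
  have hxx' : ∀ g : Gm F (m + 1), x⁻¹ * (x * g * x⁻¹) * x = g := fun g => by group
  refine Finset.sum_nbij' (fun g => x⁻¹ * g * x) (fun g => x * g * x⁻¹) ?_ ?_ ?_ ?_ ?_
  · intro g hg
    rw [Finset.mem_filter] at hg ⊢
    exact ⟨Finset.mem_univ _, hx' g hg.2⟩
  · intro g hg
    rw [Finset.mem_filter] at hg ⊢
    exact ⟨Finset.mem_univ _, hx g hg.2⟩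
  · intro g _
    exact hxx g
  · intro g _
    exact hxx' g
  · intro g hg
    rw [Finset.mem_filter] at hg
    have h1 := hab (x⁻¹ * g * x) (hx' g hg.2)
    rw [hxx g] at h1
    have h2 : χ (x⁻¹ * g * x) = χ g := by
      have := hcf g x⁻¹
      rwa [inv_inv] at this
    rw [h1, h2]

end Cfsg.Agent.Lib.Helper76.Sl
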