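import Cfsg.Agent.Lib.Helper61.SlK3MODBDefs

/-! K3-MODB-STAB + K3-MODB-IRR (helper61's K3-MODB sub-sub-hive of helper9's K3 sub-hive, Sl hive S2332). -/

set_option autoImplicit false

namespace Cfsg.Agent.Lib.Helper76.Sl

open Matrix Cfsg
open scoped ComplexConjugate

/-- MODB-STAB: an element normalising `A` stabilises `C_W(A)`: `ρ k (ρ x w) = ρ x (ρ (x⁻¹ k x) w) = ρ x w`. -/
theorem k3modb_fix_stable {G : Type*} [Group G] {W : Type*} [AddCommGroup W] [Module ℂ W]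
    (ρ : Representation ℂ G W) (A : Set G) (x : G) (hx : ∀ k ∈ A, x⁻¹ * k * x ∈ A)
    (w : W) (hw : w ∈ k3modbFix ρ A) : ρ x w ∈ k3modbFix ρ A := by
  rw [k3modb_mem_fix] at hw ⊢
  intro k hk
  have h1 : k * x = x * (x⁻¹ * k * x) := by group
  have h2 : ρ k (ρ x w) = ρ (k * x) w := by rw [map_mul]; rfl
  rw [h2, h1, map_mul]
  show ρ x (ρ (x⁻¹ * k * x) w) = ρ x w
  rw [hw _ (hx k hk)]

/-- MODB-IRR: an invariant subspace of an irreducible representation is `⊥` or `⊤`. -/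
theorem k3modb_irr {G : Type*} [Group G] {n : ℕ} (ρ : Representation ℂ G (Fin n → ℂ))
    (hirr : ρ.IsIrreducible) (U : Submodule ℂ (Fin n → ℂ)) (hU : ∀ g : G, ∀ w ∈ U, ρ g w ∈ U) :
    U = ⊥ ∨ U = ⊤ := by
  obtain ⟨S, hS⟩ : ∃ S : Subrepresentation ρ, S.toSubmodule = U := ⟨⟨U, fun g v hv => hU g v hv⟩, rfl⟩
  rcases hirr.eq_bot_or_eq_top S with h | h
  · left
    rw [← hS]
    exact congrArg Subrepresentation.toSubmodule h
  · right
    rw [← hS]
    exact congrArg Subrepresentation.toSubmodule h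

end Cfsg.Agent.Lib.Helper76.Sl
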