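import Cfsg.Agent.Lib.Helper39.SLPerfect

/-! Sm hive (S2086, owner helper39), PART TOP (helper41), leaf TOP-PERF2: `SL₂(F)` is perfect for `|F| ≥ 4`. -/

set_option autoImplicit false
set_option linter.unusedSimpArgs false
set_option linter.unnecessarySeqFocus false

namespace Cfsg.Agent.Lib.Helper39.Sm

open Matrix
open scoped commutatorElement

theorem topperf2_comm_eq_of_mul_eq {G : Type*} [Group G] {a b c : G} (h : a * b = c * b * a) :
    ⁅a, b⁆ = c := by
  rw [commutatorElement_def, h]
  group

/-- transvections of `SL₂(K)` are commutators as soon as some `l ≠ 0` has `l² ≠ 1`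
(same computation as `Helper44.Om4m.transvection_mem_commutator_SL2`) -/
theorem topperf2_transvection_mem {K : Type*} [Field K] {l : K} (hl0 : l ≠ 0) (hl1 : l ^ 2 ≠ 1)
    {i j : Fin 2} (hij : i ≠ j) (c : K) :
    Matrix.SpecialLinearGroup.transvection hij c ∈
      commutator (Matrix.SpecialLinearGroup (Fin 2) K) := by
  let h : Matrix.SpecialLinearGroup (Fin 2) K :=
    ⟨!![l, 0; 0, l⁻¹], by simp [Matrix.det_fin_two, hl0]⟩
  have hl1' : l ^ 2 - 1 ≠ 0 := sub_ne_zero.2 hl1
  have hl1'' : 1 - l ^ 2 ≠ 0 := sub_ne_zero.2 (Ne.symm hl1)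
  fin_cases i <;> fin_cases j
  · exact absurd rfl hij
  · have : ⁅h, Matrix.SpecialLinearGroup.transvection hij (c / (l ^ 2 - 1))⁆ =
        Matrix.SpecialLinearGroup.transvection hij c := by
      apply topperf2_comm_eq_of_mul_eq
      apply Subtype.ext
      simp only [Matrix.SpecialLinearGroup.coe_mul, Matrix.SpecialLinearGroup.transvection_coe]
      ext k m
      fin_cases k <;> fin_cases m <;>
        simp [h, Matrix.transvection, Matrix.mul_apply, Fin.sum_univ_two, Matrix.single_apply,
          Matrix.one_apply] <;> field_simp <;> ring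
    rw [← this]
    exact Subgroup.commutator_mem_commutator (Subgroup.mem_top _) (Subgroup.mem_top _)
  · have : ⁅h, Matrix.SpecialLinearGroup.transvection hij (c * l ^ 2 / (1 - l ^ 2))⁆ =
        Matrix.SpecialLinearGroup.transvection hij c := by
      apply topperf2_comm_eq_of_mul_eq
      apply Subtype.ext
      simp only [Matrix.SpecialLinearGroup.coe_mul, Matrix.SpecialLinearGroup.transvection_coe]
      ext k m
      fin_cases k <;> fin_cases m <;>
        simp [h, Matrix.transvection, Matrix.mul_apply, Fin.sum_univ_two, Matrix.single_apply,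
          Matrix.one_apply] <;> field_simp <;> ring
    rw [← this]
    exact Subgroup.commutator_mem_commutator (Subgroup.mem_top _) (Subgroup.mem_top _)
  · exact absurd rfl hij

/-- a field with at least four elements has an element `l ≠ 0` with `l² ≠ 1` -/
theorem topperf2_exists {F : Type*} [Field F] [Fintype F] (h4 : 4 ≤ Fintype.card F) :
    ∃ l : F, l ≠ 0 ∧ l ^ 2 ≠ 1 := by
  classical
  by_contra hne
  simp only [not_exists, not_and, not_not] at hne
  have hall : ∀ l : F, l ∈ ({0, 1, -1} : Finset F) := by
    intro l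
    simp only [Finset.mem_insert, Finset.mem_singleton]
    by_cases h0 : l = 0
    · exact Or.inl h0
    · have h1 := hne l h0
      have h2 : (l - 1) * (l + 1) = 0 := by
        have : (l - 1) * (l + 1) = l ^ 2 - 1 := by ring
        rw [this, h1, sub_self]
      rcases mul_eq_zero.1 h2 with h | h
      · exact Or.inr (Or.inl (sub_eq_zero.1 h))
      · exact Or.inr (Or.inr (eq_neg_of_add_eq_zero_left h))
  have huniv : ({0, 1, -1} : Finset F) = Finset.univ := Finset.eq_univ_iff_forall.2 hall
  have hcard : Fintype.card F ≤ 3 := by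
    rw [← Finset.card_univ, ← huniv]
    exact Finset.card_le_three
  omega

/-- TOP-PERF2 -/
theorem sl_two_perfect {F : Type*} [Field F] [Fintype F] (h4 : 4 ≤ Fintype.card F) :
    commutator (SpecialLinearGroup (Fin 2) F) = ⊤ := by
  obtain ⟨l, hl0, hl1⟩ := topperf2_exists h4
  exact Cfsg.Agent.Lib.Helper39.SLPerfect.eq_top_of_transvection_mem _
    (fun i j hij c => topperf2_transvection_mem hl0 hl1 hij c)

end Cfsg.Agent.Lib.Helper39.Sm
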