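import Cfsg.Agent.Lib.Helper41.StnDefs
import Cfsg.Agent.Lib.Helper73.StnBINJDefs

/-! Stn-BINJ-STARMUL core (helper73 sub-hive of helper41's Stn hive, S2401): `starElt_congr` (final) and
cores of `starElt_one` / `starElt_mul` with `hh_one` / `hh_mul` / `hh_comm` as hypotheses. -/

set_option autoImplicit false

namespace Cfsg.Agent.Lib.Helper41.Stn

open Matrix

variable {K : Type*} [Field K] {n : ℕ}

/-- BINJ-STARMUL (3) (E) -/
theorem starElt_congr (l : Fin n) {t t' : Fin n → K} (h : ∀ i, i ≠ l → t i = t' i) :
    starElt l t = starElt l t' := by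
  unfold starElt
  congr 1
  apply List.map_congr_left
  intro i _
  by_cases hi : i ≠ l
  · rw [if_pos hi, if_pos hi, h i hi]
  · rw [if_neg hi, if_neg hi]

/-- products of two commuting families along a list -/
theorem binjstarmul_prod {M : Type*} [Monoid M] {ι : Type*} (L : List ι) (a b : ι → M)
    (hcomm : ∀ i ∈ L, ∀ j ∈ L, Commute (b i) (a j)) :
    (L.map a).prod * (L.map b).prod = (L.map (fun i => a i * b i)).prod := by
  induction L with
  | nil => simp
  | cons x L ih =>
    rw [List.map_cons, List.map_cons, List.map_cons, List.prod_cons, List.prod_cons, List.prod_cons]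
    have h1 : Commute (b x) (L.map a).prod := by
      apply Commute.list_prod_right
      intro y hy
      obtain ⟨j, hj, rfl⟩ := List.mem_map.mp hy
      exact hcomm x List.mem_cons_self j (List.mem_cons_of_mem _ hj)
    have h2 := ih (fun i hi j hj => hcomm i (List.mem_cons_of_mem _ hi) j (List.mem_cons_of_mem _ hj))
    calc a x * (L.map a).prod * (b x * (L.map b).prod)
        = a x * ((L.map a).prod * b x) * (L.map b).prod := by simp only [mul_assoc]
      _ = a x * (b x * (L.map a).prod) * (L.map b).prod := by rw [h1.eq]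
      _ = a x * b x * ((L.map a).prod * (L.map b).prod) := by simp only [mul_assoc]
      _ = a x * b x * (L.map (fun i => a i * b i)).prod := by rw [h2]

/-- `starElt_one` with `hh_one` as a hypothesis -/
theorem binjstarmul_one_core (hone : ∀ i j : Fin n, hh i j (1 : K) = 1) (l : Fin n) :
    starElt l (1 : Fin n → K) = 1 := by
  unfold starElt
  apply List.prod_eq_one
  intro x hx
  obtain ⟨i, -, rfl⟩ := List.mem_map.mp hx
  by_cases hi : i ≠ l
  · rw [if_pos hi, Pi.one_apply, hone]
  · rw [if_neg hi]

/-- `starElt_mul` with `hh_mul`, `hh_comm` as hypotheses -/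
theorem binjstarmul_mul_core
    (hmul : ∀ {i j : Fin n}, i ≠ j → ∀ {t u : K}, t ≠ 0 → u ≠ 0 →
      hh i j t * hh i j u = hh i j (t * u))
    (hcomm : ∀ {i j k l : Fin n}, i ≠ j → k ≠ l → ∀ {t u : K}, t ≠ 0 → u ≠ 0 →
      Commute (hh i j t) (hh k l u))
    (l : Fin n) {t t' : Fin n → K} (ht : ∀ i, t i ≠ 0) (ht' : ∀ i, t' i ≠ 0) :
    starElt l t * starElt l t' = starElt l (t * t') := by
  unfold starElt
  rw [binjstarmul_prod]
  · congr 1
    apply List.map_congr_left
    intro i _
    by_cases hi : i ≠ l
    · simp only [if_pos hi, Pi.mul_apply]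
      exact hmul hi (ht i) (ht' i)
    · simp only [if_neg hi, mul_one]
  · intro i _ j _
    by_cases hi : i ≠ l
    · by_cases hj : j ≠ l
      · simp only [if_pos hi, if_pos hj]
        exact hcomm hi hj (ht' i) (ht j)
      · simp only [if_neg hj]
        exact Commute.one_right _
    · simp only [if_neg hi]
      exact Commute.one_left _

end Cfsg.Agent.Lib.Helper41.Stn
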