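import Cfsg.Agent.Lib.Helper33.Stn_BINJ_STARMULcore
import Cfsg.Agent.Lib.Helper13.Stn_HONE

/-! Stn-BINJ-STARMUL (2): `starElt_one` (helper73 sub-hive of helper41's Stn hive, S2401). -/

set_option autoImplicit false

namespace Cfsg.Agent.Lib.Helper41.Stn

open Matrix

variable {K : Type*} [Field K] {n : ℕ}

/-- BINJ-STARMUL (2): `hh_one`. -/
theorem starElt_one (l : Fin n) : starElt l (1 : Fin n → K) = 1 :=
  binjstarmul_one_core hh_one l

end Cfsg.Agent.Lib.Helper41.Stn
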