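import Cfsg.Agent.Lib.Helper41.StnDefs
import Cfsg.Agent.Lib.Helper73.StnBINJDefs

/-! Stn-BINJ-UTOP (helper73 sub-hive of helper41's Stn hive, S2401). -/

set_option autoImplicit false

namespace Cfsg.Agent.Lib.Helper41.Stn

open Matrix

variable {K : Type*} [Field K] {n : ℕ}

/-- BINJ-UTOP (E): every generator of `U` has `j.val < n`. -/
theorem UU_eq_Ulev : UU K n = Ulev K n n := by
  unfold UU Ulev
  congr 1
  ext g
  constructor
  · rintro ⟨i, j, t, hij, rfl⟩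
    exact ⟨i, j, t, hij, j.isLt, rfl⟩
  · rintro ⟨i, j, t, hij, -, rfl⟩
    exact ⟨i, j, t, hij, rfl⟩

/-- BINJ-ULEV0 (E): no generators. -/
theorem Ulev_zero : Ulev K n 0 = ⊥ := by
  unfold Ulev
  rw [Subgroup.closure_eq_bot_iff]
  rintro g ⟨i, j, t, -, hj, -⟩
  exact absurd hj (Nat.not_lt_zero _)

end Cfsg.Agent.Lib.Helper41.Stn
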