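import Cfsg.Agent.Lib.Helper33.Stn_NMONcore
import Cfsg.Agent.Lib.Helper43.Stn_WMAT

/-! Stn-NMON (helper41 Stn hive, S2401): images of `N` are monomial. -/

set_option autoImplicit false

namespace Cfsg.Agent.Lib.Helper41.Stn

open Matrix

variable {K : Type*} [Field K] {n : ℕ}

/-- STN-NMON -/
theorem std_NN_monomial (φ : St K n →* SpecialLinearGroup (Fin n) K) (hφ : IsStd φ) {ν : St K n}
    (hν : ν ∈ NN K n) : ∃ σ : Equiv.Perm (Fin n), ∀ i j : Fin n, (φ ν).1 i j ≠ 0 → i = σ j :=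
  nmon_core φ (fun hij _ ht a b => std_ww φ hφ hij ht a b) hν

end Cfsg.Agent.Lib.Helper41.Stn
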