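import Cfsg.Agent.Lib.Helper41.StnDefs

/-! Stn-NMON core (helper41 Stn hive, S2401): images of `N` are monomial; `std_ww` as a hypothesis. -/

set_option autoImplicit false

namespace Cfsg.Agent.Lib.Helper41.Stn

open Matrix

variable {K : Type*} [Field K] {n : ℕ}

/-- `A` is monomial with respect to `σ` -/
def nmon_Mono (A : Matrix (Fin n) (Fin n) K) (σ : Equiv.Perm (Fin n)) : Prop :=
  ∀ i j : Fin n, A i j ≠ 0 → i = σ j

theorem nmon_one : nmon_Mono (1 : Matrix (Fin n) (Fin n) K) 1 := by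
  intro i j h
  by_contra hij
  exact h (Matrix.one_apply_ne hij)

theorem nmon_mul {A B : Matrix (Fin n) (Fin n) K} {σ τ : Equiv.Perm (Fin n)}
    (hA : nmon_Mono A σ) (hB : nmon_Mono B τ) : nmon_Mono (A * B) (σ * τ) := by
  intro i j h
  rw [Matrix.mul_apply] at h
  obtain ⟨k, -, hk⟩ := Finset.exists_ne_zero_of_sum_ne_zero h
  have h1 : A i k ≠ 0 := left_ne_zero_of_mul hk
  have h2 : B k j ≠ 0 := right_ne_zero_of_mul hk
  rw [Equiv.Perm.mul_apply, ← hB k j h2]
  exact hA i k h1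

theorem nmon_inv {A B : Matrix (Fin n) (Fin n) K} {σ : Equiv.Perm (Fin n)}
    (hA : nmon_Mono A σ) (hBA : B * A = 1) : nmon_Mono B σ⁻¹ := by
  -- `(B A) i j = B i (σ j) * A (σ j) j`
  have key : ∀ i j : Fin n, (B * A) i j = B i (σ j) * A (σ j) j := by
    intro i j
    rw [Matrix.mul_apply]
    apply Finset.sum_eq_single (σ j)
    · intro k _ hk
      by_cases hAk : A k j = 0
      · rw [hAk, mul_zero]
      · exact absurd (hA k j hAk) hk
    · intro h
      exact absurd (Finset.mem_univ _) h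
  intro i k hik
  by_contra hne
  -- `k = σ j` with `j = σ⁻¹ k ≠ i`
  have hj : i ≠ σ⁻¹ k := hne
  have hs : σ (σ⁻¹ k) = k := by simp
  have h1 := key i (σ⁻¹ k)
  rw [hBA, Matrix.one_apply_ne hj, hs] at h1
  have h2 := key (σ⁻¹ k) (σ⁻¹ k)
  rw [hBA, Matrix.one_apply_eq, hs] at h2
  have h3 : A k (σ⁻¹ k) ≠ 0 := by
    intro h0
    rw [h0, mul_zero] at h2
    exact one_ne_zero h2
  rcases mul_eq_zero.mp h1.symm with h | h
  · exact hik h
  · exact h3 h

/-- Stn-NMON with `std_ww` as a hypothesis -/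
theorem nmon_core (φ : St K n →* SpecialLinearGroup (Fin n) K)
    (hww : ∀ {i j : Fin n}, i ≠ j → ∀ {t : K}, t ≠ 0 → ∀ a b : Fin n,
      (φ (ww i j t)).1 a b = if a = Equiv.swap i j b then mu i j t b else 0)
    {ν : St K n} (hν : ν ∈ NN K n) :
    ∃ σ : Equiv.Perm (Fin n), ∀ i j : Fin n, (φ ν).1 i j ≠ 0 → i = σ j := by
  unfold NN at hν
  induction hν using Subgroup.closure_induction with
  | mem x hx =>
    obtain ⟨i, j, t, hij, ht, rfl⟩ := hx
    refine ⟨Equiv.swap i j, ?_⟩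
    intro a b hab
    rw [hww hij ht] at hab
    by_contra hne
    rw [if_neg hne] at hab
    exact hab rfl
  | one =>
    refine ⟨1, ?_⟩
    rw [map_one]
    exact nmon_one
  | mul x y _ _ hx hy =>
    obtain ⟨σ, hσ⟩ := hx
    obtain ⟨τ, hτ⟩ := hy
    refine ⟨σ * τ, ?_⟩
    intro i j h
    rw [map_mul] at h
    exact nmon_mul hσ hτ i j h
  | inv x _ hx =>
    obtain ⟨σ, hσ⟩ := hx
    refine ⟨σ⁻¹, ?_⟩
    have h0 : φ x⁻¹ * φ x = 1 := by rw [← map_mul, inv_mul_cancel, map_one]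
    have h1 : (φ x⁻¹).1 * (φ x).1 = 1 := congrArg Subtype.val h0
    exact nmon_inv hσ h1

end Cfsg.Agent.Lib.Helper41.Stn
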