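import Cfsg.Agent.Lib.Helper33.WellPlaced

set_option autoImplicit false

namespace Cfsg.Agent.Lib.Helper33

variable {G : Type*} [Group G]

/-- Tame intersection criterion: if `U` is fully normalized in `P`, `n ∈ N(U)` and
`N_P(U) ∩ N_P(U)ⁿ = U`, then `P ∩ Pⁿ = U` and `U` is fully normalized in `Pⁿ`. -/
theorem tame_of_inf_eq [Finite G] {p : ℕ} [Fact p.Prime] (P : Sylow p G) {U : Subgroup G}
    (hUP : U ≤ (P : Subgroup G)) (hfn : FN p (P : Subgroup G) U) {n : G}
    (hn : n ∈ Subgroup.normalizer (U : Set G))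
    (h : ((P : Subgroup G) ⊓ Subgroup.normalizer (U : Set G)) ⊓
      cj n ((P : Subgroup G) ⊓ Subgroup.normalizer (U : Set G)) = U) :
    (P : Subgroup G) ⊓ cj n (P : Subgroup G) = U ∧ FN p (cj n (P : Subgroup G)) U := by
  have hnU : cj n U = U := cj_eq_self_iff.mpr hn
  have hnN : cj n (Subgroup.normalizer (U : Set G)) = Subgroup.normalizer (U : Set G) := by
    rw [← normalizer_cj, hnU]
  constructor
  · have hle : U ≤ (P : Subgroup G) ⊓ cj n (P : Subgroup G) := by
      refine le_inf hUP ?_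
      rw [← hnU]; exact cj_mono hUP
    by_contra hne
    have hlt : U < (P : Subgroup G) ⊓ cj n (P : Subgroup G) := lt_of_le_of_ne hle (Ne.symm hne)
    have hp : IsPGroup p ((P : Subgroup G) ⊓ cj n (P : Subgroup G) : Subgroup G) :=
      P.isPGroup'.to_le inf_le_left
    have hgrow := normalizer_growth hp hlt
    have : ((P : Subgroup G) ⊓ cj n (P : Subgroup G)) ⊓ Subgroup.normalizer (U : Set G) ≤ U := by
      intro x hx
      apply h.le
      rw [cj_inf, hnN]
      exact ⟨⟨hx.1.1, hx.2⟩, ⟨hx.1.2, hx.2⟩⟩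
    exact (not_le_of_gt hgrow) this
  · have := FN_cj n hfn
    rwa [hnU] at this

/-- If all the `N`-normalizers of subgroups strictly between `U` and `R` lie in `M`, then `M`
contains every `n ∈ N` for which `R ∩ Rⁿ` is strictly bigger than `U`. -/
theorem mem_of_inf_cj_gt [Finite G] {p : ℕ} [Fact p.Prime] {N R U M : Subgroup G} (hRN : R ≤ N)
    (hRp : IsPGroup p R) (hRi : ¬ p ∣ R.relIndex N) (hUR : U ≤ R)
    (hUN : N ≤ Subgroup.normalizer (U : Set G))
    (hM : ∀ T : Subgroup G, U < T → T ≤ R → N ⊓ Subgroup.normalizer (T : Set G) ≤ M)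
    (n : G) (hn : n ∈ N) (hlt : U < R ⊓ cj n R) : n ∈ M := by
  obtain ⟨d, hd⟩ : ∃ d, Nat.card R - Nat.card (R ⊓ cj n R : Subgroup G) = d := ⟨_, rfl⟩
  induction d using Nat.strong_induction_on generalizing n with
  | _ d ih =>
  obtain ⟨D, hD⟩ : ∃ D, D = R ⊓ cj n R := ⟨_, rfl⟩
  rw [← hD] at hlt hd
  have hDR : D ≤ R := hD ▸ inf_le_left
  have hDR' : D ≤ cj n R := hD ▸ inf_le_right
  have hnN : cj n N = N := cj_eq_self_of_mem hn
  by_cases hDeq : D = R
  · -- n normalizes R
    have h1 : R ≤ cj n R := hDeq ▸ hDR'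
    have h2 : cj n R = R := (Subgroup.eq_of_le_of_card_ge h1 (by rw [card_cj])).symm
    have h3 : n ∈ Subgroup.normalizer (R : Set G) := cj_eq_self_iff.mp h2
    exact hM R (hDeq ▸ hlt) le_rfl ⟨hn, h3⟩
  · have hDlt : D < R := lt_of_le_of_ne hDR hDeq
    have hcardlt : Nat.card D < Nat.card R := Set.Finite.card_lt_card (Set.toFinite _) hDlt
    have hDlt' : D < cj n R := by
      refine lt_of_le_of_ne hDR' ?_
      intro heq
      have : Nat.card D = Nat.card R := by rw [heq, card_cj]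
      omega
    have hR'p : IsPGroup p (cj n R : Subgroup G) := isPGroup_cj hRp
    have hg1 := normalizer_growth hRp hDlt
    have hg2 := normalizer_growth hR'p hDlt'
    have hc1 : Nat.card D < Nat.card (R ⊓ Subgroup.normalizer (D : Set G) : Subgroup G) :=
      Set.Finite.card_lt_card (Set.toFinite _) hg1
    have hc2 : Nat.card D < Nat.card (cj n R ⊓ Subgroup.normalizer (D : Set G) : Subgroup G) :=
      Set.Finite.card_lt_card (Set.toFinite _) hg2
    obtain ⟨L, hL⟩ : ∃ L, L = N ⊓ Subgroup.normalizer (D : Set G) := ⟨_, rfl⟩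
    have hL1 : R ⊓ Subgroup.normalizer (D : Set G) ≤ L := by
      rw [hL]; exact inf_le_inf_right _ hRN
    have hR'N : cj n R ≤ N := by rw [← hnN]; exact cj_mono hRN
    have hL2 : cj n R ⊓ Subgroup.normalizer (D : Set G) ≤ L := by
      rw [hL]; exact inf_le_inf_right _ hR'N
    have hLN : L ≤ N := hL ▸ inf_le_left
    obtain ⟨Sg, hS1, hS2, hSp, hSi⟩ := exists_sylow_ge (K := L) hL1 (hRp.to_le inf_le_left)
    obtain ⟨m₁, hm₁, hle₁⟩ := sylow_sub hS2 hSp hSi hL2 (hR'p.to_le inf_le_left)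
    obtain ⟨c, hc, hle₂⟩ := sylow_sub hRN hRp hRi (le_trans hS2 hLN) hSp
    have hULt : U < D := hlt
    have hcardU : Nat.card U < Nat.card D := Set.Finite.card_lt_card (Set.toFinite _) hULt
    -- first element: c⁻¹
    have h3 : R ⊓ Subgroup.normalizer (D : Set G) ≤ R ⊓ cj c⁻¹ R := by
      refine le_inf inf_le_left ?_
      rw [le_cj_iff, inv_inv]
      exact le_trans (cj_mono hS1) hle₂
    have hc3 : Nat.card D < Nat.card (R ⊓ cj c⁻¹ R : Subgroup G) :=
      lt_of_lt_of_le hc1 (Subgroup.card_le_of_le h3)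
    have hcR : Nat.card (R ⊓ cj c⁻¹ R : Subgroup G) ≤ Nat.card R := Subgroup.card_le_of_le inf_le_left
    have hmem3 : c⁻¹ ∈ M := by
      refine ih _ ?_ c⁻¹ (inv_mem hc) ?_ rfl
      · omega
      · exact lt_of_lt_of_le (lt_trans hULt hg1) h3
    -- second element: c * m₁ * n
    have hm₁N : m₁ ∈ N := hLN hm₁
    have hn₄ : c * m₁ * n ∈ N := mul_mem (mul_mem hc hm₁N) hn
    have h4 : cj c (cj m₁ (cj n R ⊓ Subgroup.normalizer (D : Set G))) ≤ R ⊓ cj (c * m₁ * n) R := by
      refine le_inf (le_trans (cj_mono hle₁) hle₂) ?_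
      rw [cj_mul, cj_mul]
      exact cj_mono (cj_mono inf_le_left)
    have hc4 : Nat.card D < Nat.card (R ⊓ cj (c * m₁ * n) R : Subgroup G) := by
      refine lt_of_lt_of_le hc2 ?_
      have := Subgroup.card_le_of_le h4
      rwa [card_cj, card_cj] at this
    have hcR4 : Nat.card (R ⊓ cj (c * m₁ * n) R : Subgroup G) ≤ Nat.card R :=
      Subgroup.card_le_of_le inf_le_left
    have hU4 : U ≤ R ⊓ cj (c * m₁ * n) R := by
      refine le_inf hUR ?_
      have : cj (c * m₁ * n) U = U := cj_eq_self_iff.mpr (hUN hn₄)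
      rw [← this]
      exact cj_mono hUR
    have hmem4 : c * m₁ * n ∈ M := by
      refine ih _ ?_ (c * m₁ * n) hn₄ ?_ rfl
      · omega
      · refine lt_of_le_of_ne hU4 ?_
        intro heq
        have : Nat.card U = Nat.card (R ⊓ cj (c * m₁ * n) R : Subgroup G) := by rw [← heq]
        omega
    have hmem1 : m₁ ∈ M := hM D hULt hDR (hL ▸ hm₁)
    have e : n = m₁⁻¹ * c⁻¹ * (c * m₁ * n) := by group
    rw [e]
    exact mul_mem (mul_mem (inv_mem hmem1) hmem3) hmem4

end Cfsg.Agent.Lib.Helper33
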