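import Mathlib
import Cfsg.Prelude.Def_ClassicalGeometry
import Cfsg.Agent.Lib.Helper2.BGLin
import Cfsg.Agent.Lib.Helper2.BGPoly
import Cfsg.Agent.Lib.Helper99.SympForm
import Cfsg.Agent.Lib.Helper48.TiDefs
import Cfsg.Agent.Lib.Helper36.AltEven

/-! TI-BASE (1), (2) of the S5955 hive (helper48): totally isotropic subspaces of a nondegenerate
alternating space; even dimension. -/

set_option autoImplicit false

namespace Cfsg.Agent.Lib.Helper48.Ti

open Polynomial Module
open Cfsg.Agent.Lib.Helper2.BG Cfsg.Agent.Lib.Helper99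

section abstract

variable {F V : Type*} [Field F] [AddCommGroup V] [Module F V] [FiniteDimensional F V]
variable {B : V →ₗ[F] V →ₗ[F] F}

/-- the restriction of an alternating form to a subspace on which it is `Nd` is nondegenerate -/
theorem base_restrict_nondegenerate (hB : ∀ v, B v v = 0) {Z : Submodule F V} (hZ : Nd B Z) :
    (LinearMap.BilinForm.restrict B Z).Nondegenerate := by
  have halt : LinearMap.BilinForm.IsAlt (B : LinearMap.BilinForm F V) := fun v => hB v
  have hsep : ∀ v : Z, (∀ w : Z, (LinearMap.BilinForm.restrict B Z) v w = 0) → v = 0 := by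
    intro v hv
    apply Subtype.ext
    exact hZ v v.2 (fun w hw => hv ⟨w, hw⟩)
  refine ⟨fun v hv => hsep v hv, fun v hv => hsep v (fun w => ?_)⟩
  have h2 := halt.neg_eq (v : V) (w : V)
  have h3 : B (w : V) (v : V) = 0 := hv w
  rw [h3] at h2
  exact neg_eq_zero.mp h2

/-- totally isotropic subspaces of every dimension up to half, in a nondegenerate alternating
space -/
theorem base_exists_ti {U : Type*} [AddCommGroup U] [Module F U] [FiniteDimensional F U]
    (ω : LinearMap.BilinForm F U) (halt : ω.IsAlt) (hnd : ω.Nondegenerate) (m₀ : ℕ)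
    (hm₀ : 2 * m₀ ≤ Module.finrank F U) :
    ∃ W : Submodule F U, (∀ u ∈ W, ∀ v ∈ W, ω u v = 0) ∧ Module.finrank F W = m₀ := by
  induction m₀ with
  | zero =>
    refine ⟨⊥, ?_, finrank_bot F U⟩
    intro u hu v _
    rw [(Submodule.mem_bot F).mp hu, map_zero, LinearMap.zero_apply]
  | succ n ih =>
    obtain ⟨W, hW, hWn⟩ := ih (by omega)
    have hiso : W ≤ ω.orthogonal W := by
      intro k hk
      rw [LinearMap.BilinForm.mem_orthogonal_iff]
      intro k' hk'
      exact hW _ hk' _ hk
    have horth := LinearMap.BilinForm.finrank_orthogonal hnd W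
    have hlt : Module.finrank F W < Module.finrank F (ω.orthogonal W) := by omega
    have hne : ¬ ω.orthogonal W ≤ W := by
      intro hle
      have := Submodule.finrank_mono hle
      omega
    obtain ⟨v, hvo, hvW⟩ := Set.not_subset.mp hne
    rw [SetLike.mem_coe, LinearMap.BilinForm.mem_orthogonal_iff] at hvo
    refine ⟨W ⊔ Submodule.span F {v}, ?_, ?_⟩
    · intro a ha b hb
      obtain ⟨a1, ha1, a2, ha2, rfl⟩ := Submodule.mem_sup.mp ha
      obtain ⟨b1, hb1, b2, hb2, rfl⟩ := Submodule.mem_sup.mp hb
      obtain ⟨c, rfl⟩ := Submodule.mem_span_singleton.mp ha2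
      obtain ⟨c', rfl⟩ := Submodule.mem_span_singleton.mp hb2
      have h1 : ω a1 v = 0 := hvo a1 ha1
      have h2 : ω v b1 = 0 := by
        have := halt.neg_eq v b1
        rw [hvo b1 hb1] at this
        exact neg_eq_zero.mp this
      simp only [map_add, map_smul, LinearMap.add_apply, LinearMap.smul_apply, hW a1 ha1 b1 hb1,
        h1, h2, halt v, smul_zero, add_zero]
    · have hdisj : Disjoint W (Submodule.span F {v}) := by
        rw [Submodule.disjoint_span_singleton']
        · exact hvW
        · rintro rfl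
          exact hvW W.zero_mem
      have hv0 : v ≠ 0 := by
        rintro rfl
        exact hvW W.zero_mem
      have := Submodule.finrank_sup_add_finrank_inf_eq W (Submodule.span F {v})
      rw [hdisj.eq_bot, finrank_bot, add_zero, finrank_span_singleton hv0] at this
      omega

/-- TI-BASE (1) -/
theorem exists_ti_of_nd (hB : ∀ v, B v v = 0) {Z : Submodule F V} (hZ : Nd B Z) {m : ℕ}
    (hm : 2 * m ≤ finrank F Z) :
    ∃ U : Submodule F V, U ≤ Z ∧ TI B U ∧ finrank F U = m := by
  obtain ⟨W, hW, hWm⟩ := base_exists_ti (LinearMap.BilinForm.restrict B Z)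
    (fun v => hB (v : V)) (base_restrict_nondegenerate hB hZ) m hm
  refine ⟨W.map Z.subtype, ?_, ?_, ?_⟩
  · rintro _ ⟨w, _, rfl⟩
    exact w.2
  · rintro _ ⟨a, ha, rfl⟩ _ ⟨b, hb, rfl⟩
    exact hW a ha b hb
  · rw [← hWm]
    exact (Submodule.equivMapOfInjective Z.subtype Z.injective_subtype W).finrank_eq.symm

/-- TI-BASE (2) -/
theorem even_finrank_of_nd (hB : ∀ v, B v v = 0) {Z : Submodule F V} (hZ : Nd B Z) :
    Even (finrank F Z) :=
  Cfsg.Agent.Lib.Helper36.even_finrank_of_isAlt_nondegenerate (LinearMap.BilinForm.restrict B Z)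
    (fun v => hB (v : V)) (base_restrict_nondegenerate hB hZ)

end abstract

end Cfsg.Agent.Lib.Helper48.Ti
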