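import Mathlib
import Cfsg.Prelude.Def_ClassicalGeometry
import Cfsg.Agent.Lib.Helper2.BGLin
import Cfsg.Agent.Lib.Helper2.BGPoly
import Cfsg.Agent.Lib.Helper99.SympForm
import Cfsg.Agent.Lib.Helper48.TiDefs

/-! TI-CW of the S5955 hive (helper48): Chevalley–Warning produces an irreducible invariant totally
isotropic subspace. -/

set_option autoImplicit false

namespace Cfsg.Agent.Lib.Helper48.Ti

open Polynomial Module
open Cfsg.Agent.Lib.Helper2.BG Cfsg.Agent.Lib.Helper99

section abstract

variable {F V : Type*} [Field F] [AddCommGroup V] [Module F V] [FiniteDimensional F V]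
variable {B : V →ₗ[F] V →ₗ[F] F}

/-- Chevalley–Warning: `s` quadrics `v ↦ B v (Y j v)` on a subspace of dimension `> 2 s` over a
finite field have a common non-zero zero. -/
theorem cw_vector [Fintype F] (B : V →ₗ[F] V →ₗ[F] F) (s : ℕ) (Y : Fin s → Module.End F V)
    (P : Submodule F V) (hP : 2 * s < finrank F P) :
    ∃ v ∈ P, v ≠ 0 ∧ ∀ j, B v (Y j v) = 0 := by
  classical
  let b : Basis (Fin (finrank F P)) F P := Module.finBasis F P
  let Q : Fin s → MvPolynomial (Fin (finrank F P)) F := fun j =>
    ∑ a, ∑ c, MvPolynomial.C (B (b a : V) (Y j (b c : V))) * MvPolynomial.X a * MvPolynomial.X c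
  have hdeg : ∀ j, (Q j).totalDegree ≤ 2 := by
    intro j
    apply MvPolynomial.totalDegree_finsetSum_le
    intro a _
    apply MvPolynomial.totalDegree_finsetSum_le
    intro c _
    refine le_trans (MvPolynomial.totalDegree_mul _ _) ?_
    have h1 := MvPolynomial.totalDegree_mul
      (MvPolynomial.C (B (b a : V) (Y j (b c : V))) : MvPolynomial (Fin (finrank F P)) F)
      (MvPolynomial.X a)
    rw [MvPolynomial.totalDegree_C, MvPolynomial.totalDegree_X] at h1
    rw [MvPolynomial.totalDegree_X]
    omega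
  have heval : ∀ j (x : Fin (finrank F P) → F), MvPolynomial.eval x (Q j) =
      B (∑ a, x a • (b a : V)) (Y j (∑ c, x c • (b c : V))) := by
    intro j x
    have hR : B (∑ a, x a • (b a : V)) (Y j (∑ c, x c • (b c : V))) =
        ∑ a, ∑ c, x a * (x c * B (b a : V) (Y j (b c : V))) := by
      rw [map_sum, LinearMap.sum_apply]
      apply Finset.sum_congr rfl
      intro a _
      rw [map_smul, LinearMap.smul_apply, map_sum, map_sum, smul_eq_mul, Finset.mul_sum]
      apply Finset.sum_congr rfl
      intro c _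
      rw [map_smul, map_smul, smul_eq_mul]
    rw [hR]
    simp only [Q, map_sum, map_mul, MvPolynomial.eval_C, MvPolynomial.eval_X]
    apply Finset.sum_congr rfl
    intro a _
    apply Finset.sum_congr rfl
    intro c _
    ring
  obtain ⟨p, hp⟩ := CharP.exists F
  have := hp
  have hprime : p.Prime := CharP.char_is_prime F p
  have hlt : (∑ j ∈ (Finset.univ : Finset (Fin s)), (Q j).totalDegree) <
      Fintype.card (Fin (finrank F P)) := by
    calc (∑ j ∈ (Finset.univ : Finset (Fin s)), (Q j).totalDegree)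
        ≤ ∑ _j ∈ (Finset.univ : Finset (Fin s)), 2 := Finset.sum_le_sum (fun j _ => hdeg j)
      _ = 2 * s := by simp [mul_comm]
      _ < Fintype.card (Fin (finrank F P)) := by rw [Fintype.card_fin]; exact hP
  have hdvd := char_dvd_card_solutions_of_sum_lt p hlt
  rw [Fintype.card_eq_nat_card] at hdvd
  let z : { x : Fin (finrank F P) → F // ∀ j ∈ (Finset.univ : Finset (Fin s)),
      MvPolynomial.eval x (Q j) = 0 } := ⟨0, fun j _ => by
    rw [heval]
    simp⟩
  have hpos : 0 < Nat.card { x : Fin (finrank F P) → F //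
      ∀ j ∈ (Finset.univ : Finset (Fin s)), MvPolynomial.eval x (Q j) = 0 } := by
    have : Nonempty { x : Fin (finrank F P) → F //
      ∀ j ∈ (Finset.univ : Finset (Fin s)), MvPolynomial.eval x (Q j) = 0 } := ⟨z⟩
    exact Nat.card_pos
  have h1lt : 1 < Nat.card { x : Fin (finrank F P) → F //
      ∀ j ∈ (Finset.univ : Finset (Fin s)), MvPolynomial.eval x (Q j) = 0 } :=
    lt_of_lt_of_le hprime.one_lt (Nat.le_of_dvd hpos hdvd)
  have hnt : Nontrivial { x : Fin (finrank F P) → F //
      ∀ j ∈ (Finset.univ : Finset (Fin s)), MvPolynomial.eval x (Q j) = 0 } :=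
    Finite.one_lt_card_iff_nontrivial.mp h1lt
  obtain ⟨⟨x, hx⟩, hxz⟩ := exists_ne z
  have hx0 : x ≠ 0 := by
    intro h
    apply hxz
    apply Subtype.ext
    exact h
  refine ⟨((∑ a, x a • b a : P) : V), (∑ a, x a • b a : P).2, ?_, ?_⟩
  · intro h0
    have h0' : (∑ a, x a • b a : P) = 0 := Subtype.ext h0
    have := (Fintype.linearIndependent_iff.mp b.linearIndependent) x h0'
    exact hx0 (funext this)
  · intro j
    have := hx j (Finset.mem_univ j)
    rw [heval] at this
    have hc : ((∑ a, x a • b a : P) : V) = ∑ a, x a • (b a : V) := by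
      simp
    rw [hc]
    exact this

/-- iterated isometry -/
theorem cw_isom_pow {f : Module.End F V} (hf : Isom B f) (a : ℕ) (x y : V) :
    B ((f ^ a) x) ((f ^ a) y) = B x y := by
  induction a with
  | zero => simp
  | succ n ih =>
    rw [pow_succ', Module.End.mul_apply, Module.End.mul_apply, hf, ih]

/-- a span of pairwise orthogonal isotropic vectors is totally isotropic -/
theorem cw_ti_span (S : Set V) (h : ∀ a ∈ S, ∀ c ∈ S, B a c = 0) : TI B (Submodule.span F S) := by
  intro u hu w hw
  induction hu using Submodule.span_induction with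
  | mem a ha =>
    induction hw using Submodule.span_induction with
    | mem c hc => exact h a ha c hc
    | zero => simp
    | add x y _ _ hx hy => rw [map_add, hx, hy, add_zero]
    | smul t x _ hx => rw [map_smul, hx, smul_zero]
  | zero => simp
  | add x y _ _ hx hy => rw [map_add, LinearMap.add_apply, hx, hy, add_zero]
  | smul t x _ hx => rw [map_smul, LinearMap.smul_apply, hx, smul_zero]

/-- TI-CW (Chevalley-Warning) -/
theorem exists_ti_irreducible_cw [Finite F] (hB : ∀ v, B v v = 0) {f : Module.End F V}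
    (hf : Isom B f) (hss : f.IsSemisimple) {φ : F[X]} (hφ : Irreducible φ)
    {Z₁ : Submodule F V} (hZ₁f : Inv f Z₁) (hZ₁φ : ∀ v ∈ Z₁, aeval f φ v = 0)
    (hdim : 2 * φ.natDegree ≤ finrank F Z₁ + 1) :
    ∃ Y : Submodule F V, Y ≤ Z₁ ∧ Inv f Y ∧ TI B Y ∧ finrank F Y = φ.natDegree := by
  classical
  have : Fintype F := Fintype.ofFinite F
  set i := φ.natDegree with hi
  have hipos : 0 < i := hφ.natDegree_pos
  have hskew : ∀ x y : V, B x y = - B y x := by
    intro x y
    have : B x y + B y x = 0 := by
      have h := hB (x + y)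
      simp only [map_add, LinearMap.add_apply, hB x, hB y] at h
      linear_combination h
    exact eq_neg_of_add_eq_zero_left this
  obtain ⟨v, hvZ, hv0, hvq⟩ := cw_vector B (i - 1) (fun j => f ^ ((j : ℕ) + 1)) Z₁ (by omega)
  have hvq' : ∀ k, k < i → B v ((f ^ k) v) = 0 := by
    intro k hk
    rcases Nat.eq_zero_or_pos k with h0 | hpos
    · subst h0
      simpa using hB v
    · have := hvq ⟨k - 1, by omega⟩
      simp only at this
      rwa [Nat.sub_add_cancel hpos] at this
  set Y : Submodule F V := Submodule.span F (Set.range (fun j : Fin i => (f ^ (j : ℕ)) v)) with hY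
  have hgen : ∀ k, k < i → (f ^ k) v ∈ Y := fun k hk =>
    Submodule.subset_span ⟨⟨k, hk⟩, rfl⟩
  have hvY : v ∈ Y := by
    have := hgen 0 hipos
    simpa using this
  have hYZ : Y ≤ Z₁ := by
    rw [hY, Submodule.span_le]
    rintro _ ⟨j, rfl⟩
    exact Inv.pow hZ₁f _ v hvZ
  -- `f ^ i v ∈ Y`
  have hlead : φ.coeff i ≠ 0 := by
    rw [hi]
    exact Polynomial.leadingCoeff_ne_zero.mpr hφ.ne_zero
  have htop : (f ^ i) v ∈ Y := by
    have h0 := hZ₁φ v hvZ
    rw [Polynomial.aeval_eq_sum_range, LinearMap.sum_apply, Finset.sum_range_succ] at h0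
    have h1 : φ.coeff i • (f ^ i) v = - ∑ k ∈ Finset.range i, (φ.coeff k • f ^ k) v := by
      rw [← hi] at h0
      have h2 : (φ.coeff i • f ^ i) v = φ.coeff i • (f ^ i) v := rfl
      rw [h2] at h0
      exact eq_neg_of_add_eq_zero_right h0
    have h3 : φ.coeff i • (f ^ i) v ∈ Y := by
      rw [h1]
      apply Y.neg_mem
      apply Y.sum_mem
      intro k hk
      have h4 : (φ.coeff k • f ^ k) v = φ.coeff k • (f ^ k) v := rfl
      rw [h4]
      exact Y.smul_mem _ (hgen k (Finset.mem_range.mp hk))
    have := Y.smul_mem (φ.coeff i)⁻¹ h3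
    rwa [smul_smul, inv_mul_cancel₀ hlead, one_smul] at this
  have hYf : Inv f Y := by
    intro y hy
    induction hy using Submodule.span_induction with
    | mem a ha =>
      obtain ⟨j, rfl⟩ := ha
      have : f ((f ^ (j : ℕ)) v) = (f ^ ((j : ℕ) + 1)) v := by
        rw [pow_succ', Module.End.mul_apply]
      rw [this]
      by_cases hj : (j : ℕ) + 1 < i
      · exact hgen _ hj
      · have : (j : ℕ) + 1 = i := by have := j.2; omega
        rw [this]
        exact htop
    | zero => rw [map_zero]; exact Y.zero_mem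
    | add x y _ _ hx hy => rw [map_add]; exact Y.add_mem hx hy
    | smul t x _ hx => rw [map_smul]; exact Y.smul_mem t hx
  have hTI : TI B Y := by
    apply cw_ti_span
    rintro _ ⟨a, rfl⟩ _ ⟨c, rfl⟩
    have key : ∀ a c : ℕ, a ≤ c → c < i → B ((f ^ a) v) ((f ^ c) v) = 0 := by
      intro a c hac hc
      have : (f ^ c) v = (f ^ a) ((f ^ (c - a)) v) := by
        rw [← Module.End.mul_apply, ← pow_add, Nat.add_sub_cancel' hac]
      rw [this, cw_isom_pow hf]
      exact hvq' _ (by omega)
    rcases le_total (a : ℕ) (c : ℕ) with h | h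
    · exact key _ _ h c.2
    · rw [hskew, key _ _ h a.2, neg_zero]
  refine ⟨Y, hYZ, hYf, hTI, ?_⟩
  have hle : finrank F Y ≤ i := by
    have := finrank_range_le_card (R := F) (fun j : Fin i => (f ^ (j : ℕ)) v)
    rw [Fintype.card_fin] at this
    exact this
  have hdvd : i ∣ finrank F Y :=
    dvd_finrank_of_inv hss hφ.ne_zero (allIrrDeg_of_irreducible hφ) (finrank F Y) Y rfl hYf
      (fun y hy => hZ₁φ y (hYZ hy))
  have hpos : 0 < finrank F Y := by
    rw [Module.finrank_pos_iff_exists_ne_zero]
    exact ⟨⟨v, hvY⟩, fun h => hv0 (congrArg Subtype.val h)⟩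
  exact le_antisymm hle (Nat.le_of_dvd hpos hdvd)

end abstract

end Cfsg.Agent.Lib.Helper48.Ti
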