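import Mathlib
import Cfsg.Prelude.Def_ClassicalGeometry
import Cfsg.Agent.Lib.Helper2.BGLin
import Cfsg.Agent.Lib.Helper2.BGPoly
import Cfsg.Agent.Lib.Helper99.SympForm
import Cfsg.Agent.Lib.Helper48.TiDefs

/-! TI-D3 of the S5955 hive (helper48): for `q ≡ 3 (mod 4)` the matrix `J` has only
even-dimensional invariant subspaces. -/

set_option autoImplicit false

namespace Cfsg.Agent.Lib.Helper48.Ti

open Polynomial Module
open Cfsg.Agent.Lib.Helper2.BG Cfsg.Agent.Lib.Helper99

section concrete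

variable {F : Type*} [Field F]

theorem d3_irreducible [Fintype F] (hq3 : Fintype.card F % 4 = 3) :
    Irreducible (X ^ 2 + 1 : F[X]) := by
  have hmonic : (X ^ 2 + 1 : F[X]).Monic := by
    have := monic_X_pow_add_C (R := F) (1 : F) (n := 2) (by norm_num)
    simpa using this
  have hdeg : (X ^ 2 + 1 : F[X]).natDegree = 2 := by
    have := natDegree_X_pow_add_C (R := F) (n := 2) (r := (1 : F))
    simpa using this
  rw [Polynomial.Monic.irreducible_iff_roots_eq_zero_of_degree_le_three hmonic (by omega)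
    (by omega)]
  rw [Multiset.eq_zero_iff_forall_notMem]
  intro a ha
  rw [mem_roots hmonic.ne_zero] at ha
  have h1 : a ^ 2 + 1 = 0 := by simpa using ha
  have hsq : IsSquare (-1 : F) := ⟨a, by linear_combination -h1⟩
  rw [FiniteField.isSquare_neg_one_iff] at hsq
  exact hsq hq3

/-- TI-D3: when `q ≡ 3 (mod 4)` the matrix `J` has only even-dimensional invariant subspaces -/
theorem exists_even_inv_elt [Fintype F] (d : ℕ) (hd : 1 ≤ d) (hq3 : Fintype.card F % 4 = 3) :
    ∃ x : ↥(Matrix.symplecticGroup (Fin d) F),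
      ((x ^ 2 : ↥(Matrix.symplecticGroup (Fin d) F)) :
        Matrix (Fin d ⊕ Fin d) (Fin d ⊕ Fin d) F) = (-1 : F) • 1 ∧
      (∀ z : F, (x : Matrix (Fin d ⊕ Fin d) (Fin d ⊕ Fin d) F) ≠
        z • (1 : Matrix (Fin d ⊕ Fin d) (Fin d ⊕ Fin d) F)) ∧
      ∀ U : Submodule F (Fin d ⊕ Fin d → F),
        U.map (Matrix.toLin' (x : Matrix (Fin d ⊕ Fin d) (Fin d ⊕ Fin d) F)) ≤ U →
        Even (finrank F U) := by
  classical
  have hJJ : Matrix.J (Fin d) F * Matrix.J (Fin d) F = -1 := Matrix.J_squared (Fin d) F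
  refine ⟨⟨Matrix.J (Fin d) F, SymplecticGroup.J_mem (Fin d) F⟩, ?_, ?_, ?_⟩
  · rw [pow_two]
    show Matrix.J (Fin d) F * Matrix.J (Fin d) F = (-1 : F) • 1
    rw [hJJ, neg_smul, one_smul]
  · intro z h
    have h' : Matrix.J (Fin d) F = z • (1 : Matrix (Fin d ⊕ Fin d) (Fin d ⊕ Fin d) F) := h
    have h2 := congrFun (congrFun h' (Sum.inr ⟨0, hd⟩)) (Sum.inl ⟨0, hd⟩)
    simp [Matrix.J] at h2
  · intro U hU
    set f : Module.End F (Fin d ⊕ Fin d → F) := Matrix.toLin' (Matrix.J (Fin d) F) with hf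
    have hff : f * f = -1 := by
      rw [hf, Module.End.mul_eq_comp, ← Matrix.toLin'_mul, hJJ, map_neg, Matrix.toLin'_one]
      rfl
    have hkill : aeval f (X ^ 2 + 1 : F[X]) = 0 := by
      simp only [map_add, map_pow, aeval_X, map_one]
      rw [pow_two, hff]
      simp
    have hirr := d3_irreducible (F := F) hq3
    have hss : f.IsSemisimple :=
      Module.End.isSemisimple_of_squarefree_aeval_eq_zero hirr.squarefree hkill
    have hdeg : (X ^ 2 + 1 : F[X]).natDegree = 2 := by
      have := natDegree_X_pow_add_C (R := F) (n := 2) (r := (1 : F))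
      simpa using this
    have hall : AllIrrDeg (X ^ 2 + 1 : F[X]) 2 := by
      intro g hg hgd
      have hassoc : Associated g (X ^ 2 + 1 : F[X]) := hg.associated_of_dvd hirr hgd
      rw [natDegree_eq_of_degree_eq (degree_eq_degree_of_associated hassoc), hdeg]
    have hInv : Inv f U := by
      intro v hv
      exact hU ⟨v, hv, rfl⟩
    have := dvd_finrank_of_inv hss hirr.ne_zero hall (finrank F U) U rfl hInv
      (fun v _ => by rw [hkill]; rfl)
    exact even_iff_two_dvd.mpr this

end concrete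

end Cfsg.Agent.Lib.Helper48.Ti
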