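import Mathlib
import Cfsg.Prelude.Def_ClassicalGeometry
import Cfsg.Agent.Lib.Helper2.BGLin
import Cfsg.Agent.Lib.Helper2.BGPoly
import Cfsg.Agent.Lib.Helper99.SympForm
import Cfsg.Agent.Lib.Helper48.TiDefs
import Cfsg.Agent.Lib.Helper33.TiBASE

/-! TI-ODDIRR of the S5955 hive (helper48): an irreducible invariant subspace of odd dimension is
totally isotropic. -/

set_option autoImplicit false

namespace Cfsg.Agent.Lib.Helper48.Ti

open Polynomial Module
open Cfsg.Agent.Lib.Helper2.BG Cfsg.Agent.Lib.Helper99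

section abstract

variable {F V : Type*} [Field F] [AddCommGroup V] [Module F V] [FiniteDimensional F V]
variable {B : V →ₗ[F] V →ₗ[F] F}

/-- the radical of `B` on `Y` -/
def oddirr_rad (B : V →ₗ[F] V →ₗ[F] F) (Y : Submodule F V) : Submodule F V where
  carrier := {u | u ∈ Y ∧ ∀ v ∈ Y, B u v = 0}
  add_mem' := by
    rintro a b ⟨ha, ha'⟩ ⟨hb, hb'⟩
    refine ⟨Y.add_mem ha hb, fun v hv => ?_⟩
    rw [map_add, LinearMap.add_apply, ha' v hv, hb' v hv, add_zero]
  zero_mem' := ⟨Y.zero_mem, fun v _ => by rw [map_zero, LinearMap.zero_apply]⟩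
  smul_mem' := by
    rintro c a ⟨ha, ha'⟩
    refine ⟨Y.smul_mem c ha, fun v hv => ?_⟩
    rw [map_smul, LinearMap.smul_apply, ha' v hv, smul_zero]

/-- an injective endomorphism maps a finite-dimensional invariant subspace onto itself -/
theorem oddirr_surj {f : Module.End F V} (hinj : Function.Injective f) {Y : Submodule F V}
    (hYf : Inv f Y) (v : V) (hv : v ∈ Y) : ∃ v' ∈ Y, f v' = v := by
  have hinj' : Function.Injective (f.restrict hYf) := by
    intro a b hab
    apply Subtype.ext
    apply hinj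
    exact congrArg Subtype.val hab
  have hsurj : Function.Surjective (f.restrict hYf) :=
    LinearMap.injective_iff_surjective.mp hinj'
  obtain ⟨w, hw⟩ := hsurj ⟨v, hv⟩
  exact ⟨w, w.2, congrArg Subtype.val hw⟩

/-- TI-ODDIRR -/
theorem ti_of_odd_irreducible (hB : ∀ v, B v v = 0) {f : Module.End F V} (hf : Isom B f)
    (hinj : Function.Injective f) {Y : Submodule F V} (hYf : Inv f Y)
    (hirr : ∀ W : Submodule F V, W ≤ Y → Inv f W → W = ⊥ ∨ W = Y)
    (hodd : Odd (finrank F Y)) : TI B Y := by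
  have hle : oddirr_rad B Y ≤ Y := fun u hu => hu.1
  have hinv : Inv f (oddirr_rad B Y) := by
    rintro u ⟨hu, hu'⟩
    refine ⟨hYf u hu, fun v hv => ?_⟩
    obtain ⟨v', hv', rfl⟩ := oddirr_surj hinj hYf v hv
    rw [hf]
    exact hu' v' hv'
  rcases hirr _ hle hinv with h | h
  · exfalso
    have hnd : Nd B Y := by
      intro u hu hu'
      have : u ∈ oddirr_rad B Y := ⟨hu, hu'⟩
      rw [h] at this
      exact (Submodule.mem_bot F).mp this
    have := even_finrank_of_nd hB hnd
    exact (Nat.not_even_iff_odd.mpr hodd) this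
  · intro u hu v hv
    have : u ∈ oddirr_rad B Y := by rw [h]; exact hu
    exact this.2 v hv

end abstract

end Cfsg.Agent.Lib.Helper48.Ti
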