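import Mathlib
import Cfsg.Agent.S0071

/-! TP-CU core (helper66's Tp hive, S4017): generic lemmas.
(1) a `p`-element `g` commuting with `u` and mapping `w` into `Q` under all its powers fixes `w`, if `|Q| = p + 1`, `1 ≠ u ∈ Q`;
(2) a group `C` of `{2,p}`-order with such a Sylow `2`-subgroup has a normal `2`-complement which is a `p`-group containing
all `p`-elements. -/

set_option autoImplicit false

namespace Cfsg.Agent.Lib.Helper66.Tp

/-- if `g` has `p`-power order and `g ^ d` (`0 < d < p`) commutes with `w`, then `g` commutes with `w` -/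
theorem tpcu_comm_of_pow_comm {G : Type*} [Group G] {p : ℕ} (hp : p.Prime) {g w : G} {k : ℕ}
    (hg : orderOf g = p ^ k) {d : ℕ} (hd0 : 0 < d) (hdp : d < p) (hc : g ^ d * w = w * g ^ d) :
    g * w = w * g := by
  have hcop : d.Coprime (orderOf g) := by
    rw [hg]
    apply Nat.Coprime.pow_right
    exact (Nat.coprime_comm.1 ((Nat.Prime.coprime_iff_not_dvd hp).2 (Nat.not_dvd_of_pos_of_lt hd0 hdp)))
  obtain ⟨m, hm⟩ := exists_pow_eq_self_of_coprime hcop
  have h1 : Commute (g ^ d) w := hc
  have h2 : Commute ((g ^ d) ^ m) w := h1.pow_left m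
  rw [hm] at h2
  exact h2

/-- the `p + 2` elements argument -/
theorem tpcu_conj_fixed {G : Type*} [Group G] {p : ℕ} (hp : p.Prime) (Q : Subgroup G) [Finite Q]
    (hQcard : Nat.card Q ≤ p + 1) {u : G} (hu : u ∈ Q) (hu1 : u ≠ 1) {g : G} {k : ℕ}
    (hg : orderOf g = p ^ k) (hgu : g * u = u * g) {w : G}
    (hwQ : ∀ i : ℕ, g ^ i * w * (g ^ i)⁻¹ ∈ Q) : g * w = w * g := by
  by_contra hne
  have hpow_u : ∀ i : ℕ, g ^ i * u = u * g ^ i := fun i => (Commute.pow_left (show Commute g u from hgu) i)
  let f : Option (Option (Fin p)) → Q := fun o =>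
    match o with
    | none => ⟨1, Q.one_mem⟩
    | some none => ⟨u, hu⟩
    | some (some i) => ⟨g ^ (i : ℕ) * w * (g ^ (i : ℕ))⁻¹, hwQ i⟩
  have hw1 : ∀ i : ℕ, g ^ i * w * (g ^ i)⁻¹ ≠ 1 := by
    intro i h
    apply hne
    have : w = 1 := by
      have h2 : w = (g ^ i)⁻¹ * (g ^ i * w * (g ^ i)⁻¹) * g ^ i := by group
      rw [h2, h]
      group
    rw [this, mul_one, one_mul]
  have hwu : ∀ i : ℕ, g ^ i * w * (g ^ i)⁻¹ ≠ u := by
    intro i h
    apply hne
    have : w = u := by
      have h2 : w = (g ^ i)⁻¹ * (g ^ i * w * (g ^ i)⁻¹) * g ^ i := by group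
      rw [h2, h, mul_assoc, ← hpow_u i, ← mul_assoc, inv_mul_cancel, one_mul]
    rw [this]
    exact hgu
  have hinj : Function.Injective f := by
    intro a b hab
    have hab' : (f a : G) = (f b : G) := congrArg Subtype.val hab
    match a, b with
    | none, none => rfl
    | none, some none => exact absurd hab'.symm hu1
    | none, some (some i) => exact absurd hab'.symm (hw1 i)
    | some none, none => exact absurd hab' hu1
    | some none, some none => rfl
    | some none, some (some i) => exact absurd hab'.symm (hwu i)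
    | some (some i), none => exact absurd hab' (hw1 i)
    | some (some i), some none => exact absurd hab' (hwu i)
    | some (some i), some (some j) =>
      have hij : (i : ℕ) = (j : ℕ) := by
        by_contra hij
        -- wlog `i < j`
        have key : ∀ a b : ℕ, a < b → b < p → g ^ a * w * (g ^ a)⁻¹ = g ^ b * w * (g ^ b)⁻¹ → False := by
          intro a b hab hbp heq
          apply hne
          apply tpcu_comm_of_pow_comm hp hg (d := b - a) (by omega) (by omega)
          have hb : g ^ b = g ^ a * g ^ (b - a) := by rw [← pow_add]; congr 1; omega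
          rw [hb] at heq
          have h3 : w = g ^ (b - a) * w * (g ^ (b - a))⁻¹ := by
            have h5 : (g ^ a)⁻¹ * (g ^ a * w * (g ^ a)⁻¹) * g ^ a =
                (g ^ a)⁻¹ * (g ^ a * g ^ (b - a) * w * (g ^ a * g ^ (b - a))⁻¹) * g ^ a := by rw [heq]
            have e1 : (g ^ a)⁻¹ * (g ^ a * w * (g ^ a)⁻¹) * g ^ a = w := by group
            have e2 : (g ^ a)⁻¹ * (g ^ a * g ^ (b - a) * w * (g ^ a * g ^ (b - a))⁻¹) * g ^ a =
                g ^ (b - a) * w * (g ^ (b - a))⁻¹ := by group
            rw [e1, e2] at h5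
            exact h5
          calc g ^ (b - a) * w = g ^ (b - a) * w * (g ^ (b - a))⁻¹ * g ^ (b - a) := by group
            _ = w * g ^ (b - a) := by rw [← h3]
        rcases Nat.lt_or_gt_of_ne hij with h | h
        · exact key i j h j.2 hab'
        · exact key j i h i.2 hab'.symm
      have : i = j := Fin.ext hij
      rw [this]
  have hcard := Nat.card_le_card_of_injective f hinj
  have hc2 : Nat.card (Option (Option (Fin p))) = p + 2 := by
    rw [Nat.card_eq_fintype_card, Fintype.card_option, Fintype.card_option, Fintype.card_fin]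
  omega

end Cfsg.Agent.Lib.Helper66.Tp
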