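import Mathlib
import Cfsg.Agent.S0071
import Cfsg.Agent.Lib.Helper33.TpCUcore

/-! TP-CU, second core (helper66's Tp hive, S4017): a group `C` of `{2,p}`-order whose Sylow `2`-subgroup has order `p + 1`
and contains a central element `u ≠ 1` has a normal `2`-complement, a `p`-group containing all `p`-elements. -/

set_option autoImplicit false
set_option linter.style.haveILetI false

namespace Cfsg.Agent.Lib.Helper66.Tp

theorem tpcu_complement {C : Type*} [Group C] [Finite C] {p : ℕ} (hp : p.Prime) (hp2 : p ≠ 2)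
    (hprimes : ∀ r : ℕ, r.Prime → r ∣ Nat.card C → r = 2 ∨ r = p)
    (P : Sylow 2 C) (hPcard : Nat.card (P : Subgroup C) = p + 1) (u : C) (huP : u ∈ (P : Subgroup C))
    (hu1 : u ≠ 1) (hucent : ∀ g : C, g * u = u * g) :
    ∃ N : Subgroup C, N.Normal ∧ IsPGroup p N ∧ Nat.card C = Nat.card N * (p + 1) ∧
      ∀ g : C, (∃ k : ℕ, orderOf g = p ^ k) → g ∈ N := by
  haveI : Fact (Nat.Prime 2) := ⟨Nat.prime_two⟩
  have hcrit : ∀ Q : Subgroup C, Q ≤ (P : Subgroup C) → ∀ g ∈ Subgroup.normalizer (Q : Set C),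
      Nat.Coprime (orderOf g) 2 → g ∈ Subgroup.centralizer (Q : Set C) := by
    intro Q₁ hQ₁ g hgN hgo
    have hgpk : orderOf g = p ^ (orderOf g).primeFactorsList.length := by
      apply Nat.eq_prime_pow_of_unique_prime_dvd (orderOf_pos g).ne'
      intro d hd hdg
      rcases hprimes d hd (dvd_trans hdg (orderOf_dvd_natCard g)) with h | h
      · exfalso
        rw [h] at hdg
        have : (2 : ℕ) ∣ Nat.gcd (orderOf g) 2 := Nat.dvd_gcd hdg (dvd_refl 2)
        rw [hgo] at this
        omega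
      · exact h
    rw [Subgroup.mem_centralizer_iff]
    intro w hw
    have hwQ : ∀ i : ℕ, g ^ i * w * (g ^ i)⁻¹ ∈ (P : Subgroup C) := by
      intro i
      have hgi : g ^ i ∈ Subgroup.normalizer (Q₁ : Set C) := pow_mem hgN i
      exact hQ₁ ((Subgroup.mem_normalizer_iff.1 hgi w).1 hw)
    exact (tpcu_conj_fixed hp (P : Subgroup C) (le_of_eq hPcard) huP hu1 hgpk (hucent g) hwQ).symm
  obtain ⟨N, hNn, hc⟩ := (Cfsg.Agent.S0071.result P).2 hcrit
  haveI := hNn
  have hcard : Nat.card N * Nat.card (P : Subgroup C) = Nat.card C := hc.card_mul_card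
  rw [hPcard] at hcard
  have hidx : N.index = p + 1 := by
    rw [← hPcard]
    exact hc.symm.index_eq_card
  have hCpos : Nat.card C ≠ 0 := Nat.card_pos.ne'
  have hNpos : Nat.card N ≠ 0 := Nat.card_pos.ne'
  have hNprimes : ∀ {d : ℕ}, d.Prime → d ∣ Nat.card N → d = p := by
    intro d hd hdN
    have hdC : d ∣ Nat.card C := by rw [← hcard]; exact dvd_mul_of_dvd_left hdN _
    rcases hprimes d hd hdC with h | h
    · exfalso
      rw [h] at hdN
      have hmult := P.card_eq_multiplicity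
      rw [hPcard] at hmult
      have h2 : 2 ^ ((Nat.card C).factorization 2 + 1) ∣ Nat.card C := by
        rw [pow_succ, ← hmult, ← hcard, mul_comm]
        exact mul_dvd_mul_right hdN _
      exact Nat.pow_succ_factorization_not_dvd hCpos Nat.prime_two h2
    · exact h
  have hNcard : Nat.card N = p ^ (Nat.card N).primeFactorsList.length :=
    Nat.eq_prime_pow_of_unique_prime_dvd hNpos hNprimes
  haveI : Fact p.Prime := ⟨hp⟩
  refine ⟨N, hNn, IsPGroup.of_card hNcard, hcard.symm, ?_⟩
  rintro g ⟨k, hk⟩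
  rw [← QuotientGroup.eq_one_iff]
  have h1 : orderOf (g : C ⧸ N) ∣ p ^ k := by
    apply orderOf_dvd_of_pow_eq_one
    rw [← QuotientGroup.mk_pow, ← hk, pow_orderOf_eq_one]
    rfl
  have h2 : orderOf (g : C ⧸ N) ∣ p + 1 := by
    have := orderOf_dvd_natCard (g : C ⧸ N)
    rwa [← Subgroup.index_eq_card, hidx] at this
  have hmult := P.card_eq_multiplicity
  rw [hPcard] at hmult
  have hcop : Nat.Coprime (p ^ k) (p + 1) := by
    rw [hmult]
    apply Nat.Coprime.pow
    exact (Nat.coprime_primes hp Nat.prime_two).2 hp2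
  have h3 : orderOf (g : C ⧸ N) = 1 := Nat.eq_one_of_dvd_coprimes hcop h1 h2
  exact orderOf_eq_one_iff.1 h3

end Cfsg.Agent.Lib.Helper66.Tp
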