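import Cfsg.Agent.Lib.Helper66.TpDefs
import Cfsg.Agent.Lib.Helper33.TpCUcompl

/-! TP-CU (helper66's Tp hive, S4017): `C(u) = Y_u ⋊ Q`: `Y_u` is a `p`-group and `|C(u)| = |Y_u| (p + 1)`. -/

set_option autoImplicit false
set_option linter.style.haveILetI false

namespace Cfsg.Agent.Lib.Helper66.Tp

universe u

section ctx

variable {p : ℕ} {G : Type*} [Group G] [Finite G]

variable (s : Setup p G)
include s

/-- TP-CU -/
theorem card_centralizer_eq {u : G} (hu : u ∈ (s.Q : Subgroup G)) (hu1 : u ≠ 1) :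
    IsPGroup p (Yof p u) ∧
      Nat.card (Subgroup.centralizer ({u} : Set G)) = Nat.card (Yof p u) * (p + 1) := by
  have hp := s.ctx.hp
  have hp2 := s.ctx.hp2
  haveI : Fact (Nat.Prime 2) := ⟨Nat.prime_two⟩
  haveI : Fact p.Prime := ⟨hp⟩
  have huu : u * u = 1 := s.hexp u hu
  have hou : orderOf u = 2 := orderOf_eq_prime (by rw [pow_two]; exact huu) hu1
  -- `C(u) ≠ ⊤`
  have hCtop : Subgroup.centralizer ({u} : Set G) ≠ ⊤ := by
    intro h
    have hcentral : ∀ g : G, g * u = u * g := fun g =>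
      Subgroup.mem_centralizer_singleton_iff.1 (h ▸ Subgroup.mem_top g)
    have hN : (Subgroup.zpowers u).Normal := by
      refine ⟨fun n hn g => ?_⟩
      obtain ⟨k, rfl⟩ := Subgroup.mem_zpowers_iff.1 hn
      have hc : Commute g (u ^ k) := (show Commute g u from hcentral g).zpow_right k
      have : g * u ^ k * g⁻¹ = u ^ k := by rw [hc.eq, mul_assoc, mul_inv_cancel, mul_one]
      rw [this]
      exact hn
    haveI := s.ctx.simple
    rcases hN.eq_bot_or_eq_top with h0 | h1
    · exact hu1 (Subgroup.zpowers_eq_bot.1 h0)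
    · have hc : Nat.card G = 2 := by
        rw [← Subgroup.card_top (G := G), ← h1, Nat.card_zpowers, hou]
      have hpd := s.ctx.pdvd
      rw [hc] at hpd
      exact hp2 ((Nat.prime_dvd_prime_iff_eq hp Nat.prime_two).1 hpd)
  have h2C : 2 ∣ Nat.card (Subgroup.centralizer ({u} : Set G)) := by
    have hle : Subgroup.zpowers u ≤ Subgroup.centralizer ({u} : Set G) := by
      rw [Subgroup.zpowers_le]
      exact Subgroup.mem_centralizer_singleton_iff.2 rfl
    have := Subgroup.card_dvd_of_le hle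
    rwa [Nat.card_zpowers, hou] at this
  have hprimes := s.ctx.star _ hCtop h2C
  -- `Q ≤ C(u)`
  have hQC : (s.Q : Subgroup G) ≤ Subgroup.centralizer ({u} : Set G) := by
    intro v hv
    rw [Subgroup.mem_centralizer_singleton_iff]
    have hvv : v * v = 1 := s.hexp v hv
    have hvu : v * u * (v * u) = 1 := s.hexp (v * u) (mul_mem hv hu)
    calc v * u = v * (v * u * (v * u)) * u := by rw [hvu, mul_one]
      _ = (v * v) * u * v * (u * u) := by group
      _ = u * v := by rw [hvv, huu, one_mul, mul_one]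
  have hQcard : Nat.card (s.Q : Subgroup G) = p + 1 := by
    rw [Sylow.card_eq_multiplicity, s.ctx.two_part]
  -- the Sylow `2`-subgroup of `C(u)`
  have hP'card : Nat.card ((s.Q.subtype hQC : Sylow 2 (Subgroup.centralizer ({u} : Set G))) :
      Subgroup (Subgroup.centralizer ({u} : Set G))) = p + 1 := by
    rw [Sylow.coe_subtype, ← hQcard]
    exact Nat.card_congr (Subgroup.subgroupOfEquivOfLe hQC).toEquiv
  have humem : u ∈ Subgroup.centralizer ({u} : Set G) := Subgroup.mem_centralizer_singleton_iff.2 rfl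
  have hu'P : (⟨u, humem⟩ : Subgroup.centralizer ({u} : Set G)) ∈
      ((s.Q.subtype hQC : Sylow 2 (Subgroup.centralizer ({u} : Set G))) :
        Subgroup (Subgroup.centralizer ({u} : Set G))) := by
    rw [Sylow.coe_subtype, Subgroup.mem_subgroupOf]
    exact hu
  have hu'1 : (⟨u, humem⟩ : Subgroup.centralizer ({u} : Set G)) ≠ 1 := by
    intro h
    exact hu1 (congrArg Subtype.val h)
  have hucent : ∀ g : Subgroup.centralizer ({u} : Set G), g * ⟨u, humem⟩ = ⟨u, humem⟩ * g := by
    intro g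
    apply Subtype.ext
    exact Subgroup.mem_centralizer_singleton_iff.1 g.2
  obtain ⟨N, hNn, hNp, hcardC, hNall⟩ :=
    tpcu_complement hp hp2 hprimes (s.Q.subtype hQC) hP'card ⟨u, humem⟩ hu'P hu'1 hucent
  -- `Y_u` is the image of `N`
  have hY : Yof p u = N.map (Subgroup.centralizer ({u} : Set G)).subtype := by
    apply le_antisymm
    · unfold Yof
      rw [Subgroup.closure_le]
      rintro g ⟨hgC, k, hk⟩
      refine Subgroup.mem_map.2 ⟨⟨g, hgC⟩, hNall ⟨g, hgC⟩ ⟨k, ?_⟩, rfl⟩
      rw [← hk]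
      exact (Subgroup.orderOf_mk g hgC)
    · rintro _ ⟨n, hn, rfl⟩
      apply mem_Yof n.2
      obtain ⟨k, hk⟩ := hNp ⟨n, hn⟩
      have h1 : n ^ p ^ k = 1 := by
        have := congrArg Subtype.val hk
        simpa using this
      have h2 : orderOf n ∣ p ^ k := orderOf_dvd_of_pow_eq_one h1
      obtain ⟨j, _, hj⟩ := (Nat.dvd_prime_pow hp).1 h2
      refine ⟨j, ?_⟩
      rw [← hj]
      exact (Subgroup.orderOf_coe n)
  refine ⟨?_, ?_⟩
  · rw [hY]
    exact hNp.map _
  · rw [hcardC, hY, Subgroup.card_map_of_injective (Subgroup.subtype_injective _)]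

end ctx

end Cfsg.Agent.Lib.Helper66.Tp
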