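import Cfsg.Agent.Lib.Helper33.TransBasic
import Cfsg.Agent.Lib.Helper21.TransferPow

set_option autoImplicit false
set_option linter.style.haveILetI false
set_option linter.unusedSectionVars false

universe u

namespace Cfsg.Agent.Lib.Helper33

open Cfsg Subgroup
open scoped commutatorElement

section abstract_

variable {X : Type*} [Group X] [Finite X] {p : ℕ} [Fact p.Prime] {P : Sylow p X}

/-- **Case 4** for an abstract notion of good conjugation. -/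
theorem case4_gen (Good : Set X → X → Prop)
    (hmono : ∀ {A B : Set X} {g : X}, Good A g → B ⊆ A → Good B g)
    (htrans : ∀ {A : Set X} {g h : X}, Good A g → Good (rc g A) h → Good A (g * h))
    (hcent : ∀ {A : Set X} {c : X}, c ∈ centralizer A → Good A c)
    (hsub : ∀ H : Subgroup X, H ≠ ⊤ → (P : Subgroup X) ≤ H → ∀ (A : Set X) (g : X), g ∈ H →
      A ⊆ (P : Subgroup X) → rc g A ⊆ (P : Subgroup X) → Good A g)
    (C : Subgroup X) [hC : C.Normal] (hne : (P : Subgroup X) ⊔ C ≠ ⊤)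
    (hnn : normalizer ((((P : Subgroup X) ⊓ C : Subgroup X)) : Set X) ≠ ⊤) :
    ∀ (A : Set X) (g : X), A ⊆ (P : Subgroup X) → rc g A ⊆ (P : Subgroup X) → Good A g := by
  intro A g hA hAg
  have hPP₁ : (P : Subgroup X) ≤ normalizer ((((P : Subgroup X) ⊓ C : Subgroup X)) : Set X) := by
    intro x hx
    rw [← cj_eq_self_iff, cj_inf, cj_eq_self_of_mem hx]
    congr 1
    apply cj_eq_self_iff.mpr
    rw [Subgroup.normalizer_eq_top C]; exact Subgroup.mem_top _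
  apply ag_induction P Good hmono htrans hcent ?_ A g hA hAg
  intro U hU x hx hbig
  obtain ⟨hUP, hfn, -⟩ := hU
  obtain ⟨R₁, hR₁⟩ : ∃ R₁ : Subgroup X,
      R₁ = (P : Subgroup X) ⊓ normalizer (U : Set X) ⊓ (normalizer (U : Set X) ⊓ C) := ⟨_, rfl⟩
  have hMn : normalizer (U : Set X) ≤ normalizer ((normalizer (U : Set X) ⊓ C : Subgroup X) : Set X) := by
    intro n hn
    rw [← cj_eq_self_iff, cj_inf, cj_eq_self_of_mem hn]
    congr 1
    apply cj_eq_self_iff.mpr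
    rw [Subgroup.normalizer_eq_top C]; exact Subgroup.mem_top _
  have hR₁i : ¬ p ∣ R₁.relIndex (normalizer (U : Set X) ⊓ C) := by
    rw [hR₁]
    exact sylow_inf_normal (N := normalizer (U : Set X)) inf_le_right
      (P.isPGroup'.to_le inf_le_left) hfn inf_le_left hMn
  have hR₁p : IsPGroup p R₁ := by
    rw [hR₁]; exact P.isPGroup'.to_le (inf_le_left.trans inf_le_left)
  obtain ⟨x₁, hx₁, y, hy, rfl⟩ := frattini_gen (H := normalizer (U : Set X))
    (M := normalizer (U : Set X) ⊓ C) (R := R₁) hMn inf_le_left (by rw [hR₁]; exact inf_le_right)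
    hR₁p hR₁i hx
  have hrcU : ∀ n ∈ normalizer (U : Set X), rc n (U : Set X) = U := by
    intro n hn
    rw [rc_coe, cj_eq_self_iff.mpr (inv_mem hn)]
  have hg1 : Good (U : Set X) x₁ := by
    apply hsub _ hne le_sup_left (U : Set X) x₁ (le_sup_right (a := (P : Subgroup X)) hx₁.2) hUP
    rw [hrcU x₁ hx₁.1]; exact hUP
  apply htrans hg1
  rw [hrcU x₁ hx₁.1]
  have hR₁eq : R₁ = (P : Subgroup X) ⊓ normalizer (U : Set X) ⊓ C := by
    rw [hR₁]
    apply le_antisymm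
    · exact le_inf inf_le_left (inf_le_right.trans inf_le_right)
    · exact le_inf inf_le_left (le_inf (inf_le_left.trans inf_le_right) inf_le_right)
  by_cases hRU : R₁ ≤ U
  · have hP₁U : (P : Subgroup X) ⊓ C ≤ U := inf_le_of_normalizer_inf_le hUP C (hR₁eq ▸ hRU)
    have hP₁eq : (P : Subgroup X) ⊓ C = U ⊓ C :=
      le_antisymm (le_inf hP₁U inf_le_right) (inf_le_inf_right _ hUP)
    have hyN : y ∈ normalizer ((((P : Subgroup X) ⊓ C : Subgroup X)) : Set X) := by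
      rw [hP₁eq, ← cj_eq_self_iff, cj_inf, cj_eq_self_iff.mpr hy.1]
      congr 1
      apply cj_eq_self_iff.mpr
      rw [Subgroup.normalizer_eq_top C]; exact Subgroup.mem_top _
    apply hsub _ hnn hPP₁ (U : Set X) y hyN hUP
    rw [hrcU y hy.1]; exact hUP
  · have hyUR : y ∈ normalizer ((U ⊔ R₁ : Subgroup X) : Set X) := by
      rw [← cj_eq_self_iff, cj_sup, cj_eq_self_iff.mpr hy.1, cj_eq_self_iff.mpr hy.2]
    have hURP : U ⊔ R₁ ≤ (P : Subgroup X) :=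
      sup_le hUP (by rw [hR₁]; exact inf_le_left.trans inf_le_left)
    have hlt : U < U ⊔ R₁ :=
      lt_of_le_of_ne le_sup_left (fun he => hRU (le_sup_right.trans he.symm.le))
    have hbigger : Good ((U ⊔ R₁ : Subgroup X) : Set X) y := by
      apply hbig _ y hURP
      · rw [rc_coe, cj_eq_self_iff.mpr (inv_mem hyUR)]; exact hURP
      · rw [Subgroup.closure_eq]
        exact card_lt_of_lt hlt
    exact hmono hbigger (by exact_mod_cast (le_sup_left : U ≤ U ⊔ R₁))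

/-- Images of `P ∩ N'` modulo a normal `p'`-subgroup. -/
theorem map_inf_commutator_le {Y : Type*} [Group Y] (π : X →* Y)
    (hker : (Nat.card π.ker).Coprime p) {N : Subgroup X} (hPN : (P : Subgroup X) ≤ N) :
    (P : Subgroup X).map π ⊓ ⁅N.map π, N.map π⁆ ≤ ((P : Subgroup X) ⊓ ⁅N, N⁆).map π := by
  obtain ⟨K, hK⟩ : ∃ K : Subgroup X, K = π.ker := ⟨_, rfl⟩
  haveI hKn : K.Normal := by rw [hK]; exact MonoidHom.normal_ker π
  rw [← hK] at hker
  obtain ⟨N', hN'⟩ : ∃ N' : Subgroup X, N' = ⁅N, N⁆ := ⟨_, rfl⟩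
  have hN'N : N' ≤ N := by rw [hN']; exact Subgroup.commutator_le_self N
  have hNN' : N ≤ normalizer (N' : Set X) := by
    intro n hn
    rw [← cj_eq_self_iff, hN', cj_commutator, cj_eq_self_of_mem hn]
  obtain ⟨S₁, hS₁⟩ : ∃ S₁ : Subgroup X, S₁ = (P : Subgroup X) ⊓ N' := ⟨_, rfl⟩
  have hS₁i : ¬ p ∣ S₁.relIndex N' := by
    rw [hS₁]
    exact sylow_inf_normal hPN P.isPGroup' (sylow_not_dvd_relIndex P hPN) hN'N hNN'
  obtain ⟨M, hM⟩ : ∃ M : Subgroup X, M = N' ⊔ K := ⟨_, rfl⟩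
  have hS₁N' : S₁ ≤ N' := by rw [hS₁]; exact inf_le_right
  have hN'M : N' ≤ M := by rw [hM]; exact le_sup_left
  have hS₁M : ¬ p ∣ S₁.relIndex M := by
    intro hdvd
    have e1 : Nat.card S₁ * S₁.relIndex M = Nat.card M :=
      Cfsg.Agent.Lib.Helper55.card_mul_relIndex_eq (hS₁N'.trans hN'M)
    have e2 : Nat.card S₁ * S₁.relIndex N' = Nat.card N' :=
      Cfsg.Agent.Lib.Helper55.card_mul_relIndex_eq hS₁N'
    have e3 : Nat.card M ∣ Nat.card N' * Nat.card K := by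
      rw [hM]; exact Cfsg.Agent.Lib.Helper55.card_sup_dvd_mul N' K
    rw [← e1, ← e2, mul_assoc] at e3
    have hpos : 0 < Nat.card S₁ := Nat.card_pos
    have e4 : S₁.relIndex M ∣ S₁.relIndex N' * Nat.card K := Nat.dvd_of_mul_dvd_mul_left hpos e3
    have e5 := dvd_trans hdvd e4
    rcases (Nat.Prime.dvd_mul Fact.out).mp e5 with h | h
    · exact hS₁i h
    · have := (Nat.Prime.coprime_iff_not_dvd (Fact.out : p.Prime)).mp hker.symm
      exact this h
  have hR : (P : Subgroup X) ⊓ M = S₁ :=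
    Cfsg.Agent.Lib.Helper32.eq_of_isPGroup_of_not_dvd_relIndex (H := S₁)
      (K := (P : Subgroup X) ⊓ M) (R := M)
      (by rw [hS₁]; exact inf_le_inf_left _ hN'M) inf_le_right (P.isPGroup'.to_le inf_le_left) hS₁M
  rintro z ⟨⟨x, hx, rfl⟩, hz⟩
  rw [← Subgroup.map_commutator, ← hN'] at hz
  obtain ⟨y, hy, hyx⟩ := hz
  have hxM : x ∈ M := by
    rw [hM]
    have h1 : y⁻¹ * x ∈ K := by
      rw [hK, MonoidHom.mem_ker, map_mul, map_inv, hyx, inv_mul_cancel]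
    have : x = y * (y⁻¹ * x) := by group
    rw [this]
    exact Subgroup.mul_mem _ (Subgroup.mem_sup_left hy) (Subgroup.mem_sup_right h1)
  have hxS₁ : x ∈ S₁ := by rw [← hR]; exact ⟨hx, hxM⟩
  rw [hS₁, hN'] at hxS₁
  exact ⟨x, hxS₁, rfl⟩

/-- **Transfer lemma**: if `X = P C_X(Q)` for a normal `p`-subgroup `Q`, then `Q ∩ X' ≤ P'`. -/
theorem inf_commutator_le_of_factor (Q : Subgroup X) [hQ : Q.Normal]
    (hQP : Q ≤ (P : Subgroup X))
    (hfac : ∀ x : X, ∃ t ∈ (P : Subgroup X), ∃ c ∈ centralizer (Q : Set X), x = t * c) :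
    Q ⊓ ⁅(⊤ : Subgroup X), ⊤⁆ ≤ ⁅(P : Subgroup X), (P : Subgroup X)⁆ := by
  rintro z ⟨hzQ, hzc⟩
  have hzP : z ∈ (P : Subgroup X) := hQP hzQ
  obtain ⟨ϕ, hϕ⟩ : ∃ ϕ : ↥(P : Subgroup X) →* Abelianization ↥(P : Subgroup X),
      ϕ = Abelianization.of := ⟨_, rfl⟩
  have key : ∀ (k : ℕ) (g₀ : X) (hk : g₀⁻¹ * z ^ k * g₀ ∈ (P : Subgroup X)),
      ϕ ⟨g₀⁻¹ * z ^ k * g₀, hk⟩ = ϕ ⟨z, hzP⟩ ^ k := by
    intro k g₀ hk
    obtain ⟨t, ht, c, hc, hg₀⟩ := hfac g₀
    have h1 : t⁻¹ * z ^ k * t ∈ Q := by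
      have := hQ.conj_mem _ (Q.pow_mem hzQ k) t⁻¹
      simpa using this
    have h2 : g₀⁻¹ * z ^ k * g₀ = t⁻¹ * z ^ k * t := by
      have h3 := Subgroup.mem_centralizer_iff.mp hc _ h1
      rw [hg₀]
      calc (t * c)⁻¹ * z ^ k * (t * c) = c⁻¹ * ((t⁻¹ * z ^ k * t) * c) := by group
        _ = c⁻¹ * (c * (t⁻¹ * z ^ k * t)) := by rw [h3]
        _ = t⁻¹ * z ^ k * t := by group
    have h3 : (⟨g₀⁻¹ * z ^ k * g₀, hk⟩ : ↥(P : Subgroup X)) =
        (⟨t, ht⟩ : ↥(P : Subgroup X))⁻¹ * (⟨z, hzP⟩ : ↥(P : Subgroup X)) ^ k * ⟨t, ht⟩ := by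
      apply Subtype.ext
      simp only [Subgroup.coe_mul, Subgroup.coe_inv, Subgroup.coe_pow]
      exact h2
    rw [h3, map_mul, map_mul, map_inv, map_pow, mul_comm (ϕ ⟨t, ht⟩)⁻¹, mul_assoc,
      inv_mul_cancel, mul_one]
  have htr := Cfsg.Agent.Lib.Helper21.transfer_eq_pow_of_key ϕ z hzP key
  have h1 : MonoidHom.transfer ϕ z = 1 := by
    have h2 : commutator X ≤ (MonoidHom.transfer ϕ).ker :=
      Abelianization.commutator_subset_ker _
    exact h2 hzc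
  rw [h1] at htr
  have hϕz : ϕ ⟨z, hzP⟩ = 1 := by
    obtain ⟨k, hk⟩ := P.isPGroup' ⟨z, hzP⟩
    have h2 : ϕ ⟨z, hzP⟩ ^ p ^ k = 1 := by rw [← map_pow, hk, map_one]
    have h3 : orderOf (ϕ ⟨z, hzP⟩) ∣ p ^ k := orderOf_dvd_of_pow_eq_one h2
    have h4 : orderOf (ϕ ⟨z, hzP⟩) ∣ (P : Subgroup X).index := orderOf_dvd_of_pow_eq_one htr.symm
    have hcop : Nat.Coprime (P : Subgroup X).index (p ^ k) := by
      apply Nat.Coprime.pow_right
      exact ((Nat.Prime.coprime_iff_not_dvd (Fact.out : p.Prime)).mpr P.not_dvd_index).symm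
    have h5 : orderOf (ϕ ⟨z, hzP⟩) = 1 := Nat.eq_one_of_dvd_coprimes hcop h4 h3
    exact orderOf_eq_one_iff.mp h5
  have h3 : (⟨z, hzP⟩ : ↥(P : Subgroup X)) ∈ commutator ↥(P : Subgroup X) := by
    rw [← Abelianization.ker_of, MonoidHom.mem_ker, ← hϕ]
    exact hϕz
  rw [← Subgroup.map_subtype_commutator]
  exact ⟨⟨z, hzP⟩, h3, rfl⟩

end abstract_

end Cfsg.Agent.Lib.Helper33
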