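import Cfsg.Agent.Lib.Helper33.NormArg
import Cfsg.Agent.Lib.Helper33.KInf
import Cfsg.Agent.Lib.Helper33.ChiefElem
import Cfsg.Agent.Lib.Helper33.CentralTransfer
import Cfsg.Prelude.Def_LocalEven
import Cfsg.Prelude.Def_PLocal

set_option autoImplicit false
set_option linter.style.haveILetI false
set_option linter.unusedSectionVars false

namespace Cfsg.Agent.Lib.Helper33

open Cfsg Subgroup

open scoped commutatorElement

section iter

variable {Y : Type*} [Group Y]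

/-- the iterates of `w ↦ [g, w]` stay in the iterated commutators -/
theorem iterate_comm_mem_iterCommutator (U : Subgroup Y) (g : Y) (k : ℕ) {u : Y} (hu : u ∈ U) :
    (fun w : Y => g * w * g⁻¹ * w⁻¹)^[k] u ∈ iterCommutator U (Subgroup.zpowers g) k := by
  induction k with
  | zero => exact hu
  | succ k ih =>
    rw [Function.iterate_succ_apply']
    obtain ⟨w, hw⟩ : ∃ w, w = (fun w : Y => g * w * g⁻¹ * w⁻¹)^[k] u := ⟨_, rfl⟩
    rw [← hw] at ih ⊢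
    have h1 : ⁅w, g⁆ ∈ ⁅iterCommutator U (Subgroup.zpowers g) k, Subgroup.zpowers g⁆ :=
      Subgroup.commutator_mem_commutator ih (Subgroup.mem_zpowers g)
    have h2 : g * w * g⁻¹ * w⁻¹ = ⁅w, g⁆⁻¹ := by rw [commutatorElement_def]; group
    change g * w * g⁻¹ * w⁻¹ ∈ ⁅iterCommutator U (Subgroup.zpowers g) k, Subgroup.zpowers g⁆
    rw [h2]
    exact Subgroup.inv_mem _ h1

theorem cj_iterCommutator (s : Y) (U Z : Subgroup Y) (k : ℕ) :
    cj s (iterCommutator U Z k) = iterCommutator (cj s U) (cj s Z) k := by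
  induction k with
  | zero => rfl
  | succ k ih =>
    show cj s ⁅iterCommutator U Z k, Z⁆ = ⁅iterCommutator (cj s U) (cj s Z) k, cj s Z⁆
    rw [← ih, cj_def, cj_def, cj_def, Subgroup.map_commutator]

theorem cj_zpowers (s g : Y) : cj s (Subgroup.zpowers g) = Subgroup.zpowers (s * g * s⁻¹) := by
  rw [cj_def, MonoidHom.map_zpowers]
  rfl

theorem iterCommutator_conj_le {U V : Subgroup Y} [hU : U.Normal] [hV : V.Normal] {g : Y} {k : ℕ}
    (h : iterCommutator U (Subgroup.zpowers g) k ≤ V) (s : Y) :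
    iterCommutator U (Subgroup.zpowers (s * g * s⁻¹)) k ≤ V := by
  have hUs : cj s U = U := cj_eq_self_iff.mpr (by
    rw [Subgroup.normalizer_eq_top_iff.mpr hU]; exact Subgroup.mem_top s)
  have hVs : cj s V = V := cj_eq_self_iff.mpr (by
    rw [Subgroup.normalizer_eq_top_iff.mpr hV]; exact Subgroup.mem_top s)
  rw [← cj_zpowers, ← hUs, ← cj_iterCommutator, ← hVs]
  exact cj_mono h

/-- Engel condition in elementwise form, for a conjugate of `g` or its inverse. -/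
theorem engel_elementwise {U V : Subgroup Y} [hU : U.Normal] [hV : V.Normal] {g : Y} {k : ℕ}
    (h : iterCommutator U (Subgroup.zpowers g) k ≤ V) (s : Y) {u : Y} (hu : u ∈ U) :
    (fun w : Y => (s * g * s⁻¹)⁻¹ * w * (s * g * s⁻¹)⁻¹⁻¹ * w⁻¹)^[k] u ∈ V := by
  have h1 := iterCommutator_conj_le h s
  rw [← Subgroup.zpowers_inv] at h1
  exact h1 (iterate_comm_mem_iterCommutator U _ k hu)

end iter

section core

variable {Y : Type*} [Group Y] [Finite Y] {p : ℕ} [hp : Fact p.Prime]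

open Classical in
/-- The transfer-like map `Θ(q) = ∏_{tC} μ(t⁻¹ q t)` kills `[Q, Y]`, and on an Engel chief factor it
coincides with `μ`. -/
theorem te_core (P : Sylow p Y) (C : Subgroup Y) (hPC : (P : Subgroup Y) ≤ C)
    (hmax : ∀ H : Subgroup Y, (P : Subgroup Y) ≤ H → H ≠ ⊤ → H ≤ C)
    (Q : Subgroup Y) [hQ : Q.Normal] {A : Type*} [CommGroup A] (μ : ↥Q →* A)
    (hμC : ∀ c ∈ C, ∀ q : ↥Q, μ (MulAut.conjNormal c q) = μ q)
    (g : Y) (hgP : g ∈ (P : Subgroup Y))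
    (hgQ : ∀ N : Subgroup Y, N.Normal → IsPGroup p N → g ∉ N)
    (U V : Subgroup Y) [hU : U.Normal] [hV : V.Normal]
    (hVμ : ∀ x : ↥Q, (x : Y) ∈ V → μ x = 1)
    (hcomm : ∀ a ∈ U, ∀ b ∈ U, a * b * a⁻¹ * b⁻¹ ∈ V) (hexp : ∀ a ∈ U, a ^ p ∈ V)
    (hEngel : ∀ s : Y, ∀ u ∈ U,
      (fun w : Y => (s * g * s⁻¹)⁻¹ * w * (s * g * s⁻¹)⁻¹⁻¹ * w⁻¹)^[p - 1] u ∈ V) :
    ∀ d : ↥Q, (d : Y) ∈ U → (d : Y) ∈ ⁅Q, (⊤ : Subgroup Y)⁆ → μ d = 1 := by
  classical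
  haveI : Fintype (Y ⧸ C) := Fintype.ofFinite _
  obtain ⟨κ, hκ⟩ : ∃ κ : Y →* MulAut ↥Q, κ = MulAut.conjNormal := ⟨_, rfl⟩
  have hκv : ∀ (t : Y) (q : ↥Q), ((κ t q : ↥Q) : Y) = t * q * t⁻¹ := by
    intro t q; rw [hκ]; exact MulAut.conjNormal_apply t q
  have hμC' : ∀ c ∈ C, ∀ q : ↥Q, μ (κ c q) = μ q := by rw [hκ]; exact hμC
  have hwd : ∀ (q : ↥Q) (t₁ t₂ : Y), QuotientGroup.leftRel C t₁ t₂ →
      μ (κ t₁⁻¹ q) = μ (κ t₂⁻¹ q) := by
    intro q t₁ t₂ h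
    rw [QuotientGroup.leftRel_apply] at h
    have h1 : κ t₂⁻¹ q = κ (t₁⁻¹ * t₂)⁻¹ (κ t₁⁻¹ q) := by
      rw [← MulAut.mul_apply, ← map_mul]
      congr 2
      group
    rw [h1, hμC' _ (C.inv_mem h)]
  obtain ⟨F, hF⟩ : ∃ F : ↥Q → Y ⧸ C → A, ∀ q (t : Y), F q (t : Y ⧸ C) = μ (κ t⁻¹ q) :=
    ⟨fun q ω => Quotient.liftOn' ω (fun t => μ (κ t⁻¹ q)) (hwd q), fun q t => rfl⟩
  have hFmul : ∀ q₁ q₂ ω, F (q₁ * q₂) ω = F q₁ ω * F q₂ ω := by
    intro q₁ q₂ ω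
    obtain ⟨t, rfl⟩ := QuotientGroup.mk_surjective ω
    rw [hF, hF, hF, map_mul, map_mul]
  have hFone : ∀ ω, F 1 ω = 1 := by
    intro ω
    obtain ⟨t, rfl⟩ := QuotientGroup.mk_surjective ω
    rw [hF, map_one, map_one]
  obtain ⟨Θ, hΘ⟩ : ∃ Θ : ↥Q →* A, ∀ q, Θ q = ∏ ω : Y ⧸ C, F q ω :=
    ⟨{ toFun := fun q => ∏ ω : Y ⧸ C, F q ω
       map_one' := Finset.prod_eq_one (fun ω _ => hFone ω)
       map_mul' := fun q₁ q₂ => by
        rw [← Finset.prod_mul_distrib]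
        exact Finset.prod_congr rfl (fun ω _ => hFmul q₁ q₂ ω) }, fun q => rfl⟩
  have hΘc : ∀ (y : Y) (q : ↥Q), Θ (κ y q) = Θ q := by
    intro y q
    rw [hΘ, hΘ]
    have h1 : ∀ ω, F (κ y q) ω = F q (y⁻¹ • ω) := by
      intro ω
      obtain ⟨t, rfl⟩ := QuotientGroup.mk_surjective ω
      have h2 : (y⁻¹ • (t : Y ⧸ C)) = ((y⁻¹ * t : Y) : Y ⧸ C) := rfl
      rw [h2, hF, hF, ← MulAut.mul_apply, ← map_mul]
      congr 3
      group
    rw [Finset.prod_congr rfl (fun ω _ => h1 ω)]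
    exact Fintype.prod_equiv (MulAction.toPerm y⁻¹) _ _ (fun ω => rfl)
  have hΘD : ∀ d : ↥Q, (d : Y) ∈ ⁅Q, (⊤ : Subgroup Y)⁆ → Θ d = 1 := by
    have hle : ⁅Q, (⊤ : Subgroup Y)⁆ ≤ (Θ.ker).map Q.subtype := by
      rw [Subgroup.commutator_le]
      intro q hq y _
      refine ⟨⟨q, hq⟩ * κ y (⟨q, hq⟩⁻¹), ?_, ?_⟩
      · show _ ∈ Θ.ker
        rw [MonoidHom.mem_ker, map_mul, hΘc, map_inv, mul_inv_cancel]
      · rw [map_mul, Subgroup.subtype_apply, Subgroup.subtype_apply, hκv, commutatorElement_def]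
        simp only [Subgroup.coe_inv]
        group
    intro d hd
    obtain ⟨d', hd', hdd⟩ := hle hd
    have h1 : d' = d := Subtype.ext hdd
    rw [← h1]
    exact hd'
  intro d hdU hdD
  have hcore := core_lemma P C hPC hmax {x | ∃ s : Y, x = s * g * s⁻¹} (by
      rintro x ⟨s, rfl⟩ s'
      exact ⟨s' * s, by group⟩) g ⟨1, by group⟩ hgP hgQ (F d) (by
      rintro h ⟨s, rfl⟩ _ ω
      obtain ⟨t, rfl⟩ := QuotientGroup.mk_surjective ω
      obtain ⟨h, hh⟩ : ∃ h : Y, h = s * g * s⁻¹ := ⟨_, rfl⟩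
      rw [← hh]
      have h1 : ∀ a : ℕ, F d (h ^ a • (t : Y ⧸ C)) = μ (κ t⁻¹ (κ (h ^ a)⁻¹ d)) := by
        intro a
        have h2 : (h ^ a • (t : Y ⧸ C)) = ((h ^ a * t : Y) : Y ⧸ C) := rfl
        rw [h2, hF, ← MulAut.mul_apply, ← map_mul]
        congr 3
        group
      rw [Finset.prod_congr rfl (fun a _ => h1 a), ← list_map_range_prod]
      obtain ⟨x, hx⟩ : ∃ x : ↥Q, x = ((List.range p).map (fun a => κ (h ^ a)⁻¹ d)).prod :=
        ⟨_, rfl⟩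
      have h3 : ((List.range p).map (fun a => μ (κ t⁻¹ (κ (h ^ a)⁻¹ d)))).prod =
          μ (κ t⁻¹ x) := by
        rw [hx, map_list_prod, map_list_prod, List.map_map, List.map_map]
        rfl
      rw [h3]
      apply hVμ
      rw [hκv]
      have h4 : (x : Y) ∈ V := by
        have h5 : (x : Y) =
            ((List.range p).map (fun a => h⁻¹ ^ a * (d : Y) * (h⁻¹ ^ a)⁻¹)).prod := by
          rw [hx]
          have h6 := map_list_prod Q.subtype ((List.range p).map (fun a => κ (h ^ a)⁻¹ d))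
          rw [Subgroup.subtype_apply] at h6
          rw [h6, List.map_map]
          congr 1
          apply List.map_congr_left
          intro a _
          show ((κ (h ^ a)⁻¹ d : ↥Q) : Y) = _
          rw [hκv, inv_pow]
        rw [h5]
        have h7 := hEngel s
        rw [← hh] at h7
        exact list_prod_conj_mem U V hcomm hexp h⁻¹ h7 (d : Y) hdU
      have h8 := hV.conj_mem _ h4 t⁻¹
      exact h8)
  have h1 : Θ d = μ d := by
    rw [hΘ, hcore, hF, inv_one, map_one, MulAut.one_apply]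
  rw [← h1]
  exact hΘD d hdD

/-- **Lemma TE.** If `C` is the unique maximal subgroup over the Sylow subgroup `P`, `Q` is a normal
`p`-subgroup, `[Q, C] ≤ Q₀ ≤ Q`, and some element `g ∈ P` outside every normal `p`-subgroup satisfies
the `(p-1)`-Engel condition on the chief factors inside `Q`, then `[Q, Y] ≤ Q₀`. -/
theorem lemma_TE (P : Sylow p Y) (C : Subgroup Y) (hPC : (P : Subgroup Y) ≤ C)
    (hmax : ∀ H : Subgroup Y, (P : Subgroup Y) ≤ H → H ≠ ⊤ → H ≤ C)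
    (Q : Subgroup Y) [hQ : Q.Normal] (hQp : IsPGroup p Q) (hQC : Q ≤ C)
    (Q₀ : Subgroup Y) (hQ₀ : Q₀ ≤ Q) (hQC₀ : ⁅Q, C⁆ ≤ Q₀)
    (g : Y) (hgP : g ∈ (P : Subgroup Y))
    (hgQ : ∀ N : Subgroup Y, N.Normal → IsPGroup p N → g ∉ N)
    (hEngel : ∀ U V : Subgroup Y, IsChiefFactor U V → U ≤ Q →
      iterCommutator U (Subgroup.zpowers g) (p - 1) ≤ V) :
    ⁅Q, (⊤ : Subgroup Y)⁆ ≤ Q₀ := by
  by_contra hnot
  obtain ⟨D, hD⟩ : ∃ D : Subgroup Y, D = ⁅Q, (⊤ : Subgroup Y)⁆ := ⟨_, rfl⟩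
  rw [← hD] at hnot
  haveI hDn : D.Normal := by rw [hD]; infer_instance
  have hDQ : D ≤ Q := by rw [hD]; exact Subgroup.commutator_le_left Q ⊤
  -- maximal `V`
  obtain ⟨V, ⟨hVn, hVQ, hVD⟩, -, hVmax⟩ := exists_max_member
    {V : Subgroup Y | V.Normal ∧ V ≤ Q ∧ ¬ D ≤ V ⊔ Q₀} (B₀ := ⊥)
    ⟨inferInstance, bot_le, by rw [bot_sup_eq]; exact hnot⟩
  haveI := hVn
  have hDV : ¬ D ≤ V := fun h => hVD (h.trans le_sup_left)
  -- minimal `U`
  obtain ⟨U, ⟨hUn, hVU, hUVD⟩, hUmin⟩ :=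
    (Set.toFinite {U : Subgroup Y | U.Normal ∧ V < U ∧ U ≤ V ⊔ D}).exists_minimal
      ⟨V ⊔ D, inferInstance, lt_of_le_of_ne le_sup_left (fun h => hDV (h ▸ le_sup_right)),
        le_refl _⟩
  haveI := hUn
  have hUQ : U ≤ Q := hUVD.trans (sup_le hVQ hDQ)
  have hchief : IsChiefFactor U V := by
    refine ⟨hVU, hUn, hVn, ?_⟩
    intro N hN hVN hNU
    by_cases h : N = V
    · exact Or.inl h
    · right
      have h1 : V < N := lt_of_le_of_ne hVN (fun h' => h h'.symm)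
      exact le_antisymm hNU (hUmin ⟨hN, h1, hNU.trans hUVD⟩ hNU)
  have hDU : D ≤ U ⊔ Q₀ := by
    by_contra h
    have := hVmax U ⟨hUn, hUQ, h⟩ hVU.le
    exact (ne_of_lt hVU) this.symm
  -- the quotient `A`
  obtain ⟨M, hM⟩ : ∃ M : Subgroup Y, M = V ⊔ Q₀ := ⟨_, rfl⟩
  have hQ₀M : Q₀ ≤ M := by rw [hM]; exact le_sup_right
  have hVM : V ≤ M := by rw [hM]; exact le_sup_left
  have hcQ₀ : ∀ q ∈ Q, cj q Q₀ ≤ Q₀ := by
    intro q hq x hx
    rw [mem_cj] at hx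
    have h1 : ⁅q, q⁻¹ * x * q⁆ ∈ Q₀ :=
      hQC₀ (Subgroup.commutator_mem_commutator hq (hQC (hQ₀ hx)))
    have h2 := Q₀.mul_mem h1 hx
    have e : ⁅q, q⁻¹ * x * q⁆ * (q⁻¹ * x * q) = x := by rw [commutatorElement_def]; group
    rwa [e] at h2
  have hcM : ∀ q ∈ Q, cj q M ≤ M := by
    intro q hq
    rw [hM, cj_def, Subgroup.map_sup, ← cj_def, ← cj_def]
    have h1 : cj q V = V := cj_eq_self_iff.mpr (by
      rw [Subgroup.normalizer_eq_top_iff.mpr hVn]; exact Subgroup.mem_top q)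
    rw [h1]
    exact sup_le_sup_left (hcQ₀ q hq) V
  obtain ⟨N₀, hN₀⟩ : ∃ N₀ : Subgroup ↥Q, N₀ = M.subgroupOf Q := ⟨_, rfl⟩
  have hN₀mem : ∀ x : ↥Q, x ∈ N₀ ↔ (x : Y) ∈ M := by
    intro x; rw [hN₀, Subgroup.mem_subgroupOf]
  haveI hN₀n : N₀.Normal := by
    constructor
    intro n hn q
    rw [hN₀mem] at hn ⊢
    exact hcM q q.2 (conj_mem_cj hn)
  have hAcomm : ∀ a b : ↥Q ⧸ N₀, a * b = b * a := by
    intro a b
    obtain ⟨a, rfl⟩ := QuotientGroup.mk_surjective a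
    obtain ⟨b, rfl⟩ := QuotientGroup.mk_surjective b
    rw [← QuotientGroup.mk_mul, ← QuotientGroup.mk_mul, QuotientGroup.eq, hN₀mem]
    apply hQ₀M
    apply hQC₀
    have h1 : ⁅(b : Y)⁻¹, (a : Y)⁻¹⁆ ∈ ⁅Q, C⁆ :=
      Subgroup.commutator_mem_commutator (Q.inv_mem b.2) (hQC (Q.inv_mem a.2))
    have e : (((a * b)⁻¹ * (b * a) : ↥Q) : Y) = ⁅(b : Y)⁻¹, (a : Y)⁻¹⁆ := by
      rw [commutatorElement_def]
      simp only [Subgroup.coe_mul, Subgroup.coe_inv]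
      group
    rw [e]
    exact h1
  letI : CommGroup (↥Q ⧸ N₀) :=
    { (inferInstance : Group (↥Q ⧸ N₀)) with mul_comm := hAcomm }
  obtain ⟨hab, hexp⟩ := chief_elemAb hchief (hQp.to_le hUQ)
  have hμC : ∀ c ∈ C, ∀ q : ↥Q, (QuotientGroup.mk' N₀) (MulAut.conjNormal c q) =
      (QuotientGroup.mk' N₀) q := by
    intro c hc q
    rw [QuotientGroup.mk'_apply, QuotientGroup.mk'_apply, QuotientGroup.eq, hN₀mem]
    apply hQ₀M
    apply hQC₀
    rw [Subgroup.commutator_comm]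
    have h1 : ⁅c, (q : Y)⁻¹⁆ ∈ ⁅C, Q⁆ :=
      Subgroup.commutator_mem_commutator hc (Q.inv_mem q.2)
    have e : ((((MulAut.conjNormal c q : ↥Q))⁻¹ * q : ↥Q) : Y) = ⁅c, (q : Y)⁻¹⁆ := by
      rw [commutatorElement_def]
      simp only [Subgroup.coe_mul, Subgroup.coe_inv, MulAut.conjNormal_apply]
      group
    rw [e]
    exact h1
  have hVμ : ∀ x : ↥Q, (x : Y) ∈ V → (QuotientGroup.mk' N₀) x = 1 := by
    intro x hx
    rw [QuotientGroup.mk'_apply, QuotientGroup.eq_one_iff, hN₀mem]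
    exact hVM hx
  have hte := te_core P C hPC hmax Q (QuotientGroup.mk' N₀) hμC g hgP hgQ U V hVμ hab hexp
    (fun s u hu => engel_elementwise (hEngel U V hchief hUQ) s hu)
  have hUM : U ≤ M := by
    intro u hu
    obtain ⟨v, hv, d, hd, rfl⟩ := Subgroup.mem_sup_of_normal_left.mp (hUVD hu)
    have hdU : d ∈ U := by
      have := U.mul_mem (U.inv_mem (hVU.le hv)) hu
      rwa [inv_mul_cancel_left] at this
    have h1 := hte ⟨d, hDQ hd⟩ hdU (hD ▸ hd)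
    rw [QuotientGroup.mk'_apply, QuotientGroup.eq_one_iff, hN₀mem] at h1
    exact M.mul_mem (hVM hv) h1
  apply hVD
  rw [← hM]
  exact hDU.trans (sup_le hUM hQ₀M)

/-- **Engel step.** If every proper subgroup `H ≥ P` has `P ∩ H' ≤ Tf`, `P ≠ ⊤`, and some `g ∈ P`
outside every normal `p`-subgroup is `(p-1)`-Engel on the chief factors inside the normal
`p`-subgroup `Q ≤ P`, then `Q ∩ Y' ≤ Tf`. -/
theorem engel_step (P : Sylow p Y) (Q : Subgroup Y) [hQ : Q.Normal] (hQp : IsPGroup p Q)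
    (hQP : Q ≤ (P : Subgroup Y)) (Tf : Subgroup Y)
    (hsub : ∀ H : Subgroup Y, H ≠ ⊤ → (P : Subgroup Y) ≤ H → (P : Subgroup Y) ⊓ ⁅H, H⁆ ≤ Tf)
    (hPtop : (P : Subgroup Y) ≠ ⊤)
    (g : Y) (hgP : g ∈ (P : Subgroup Y))
    (hgQ : ∀ N : Subgroup Y, N.Normal → IsPGroup p N → g ∉ N)
    (hEngel : ∀ U V : Subgroup Y, IsChiefFactor U V → U ≤ Q →
      iterCommutator U (Subgroup.zpowers g) (p - 1) ≤ V) :
    Q ⊓ ⁅(⊤ : Subgroup Y), ⊤⁆ ≤ Tf := by
  obtain ⟨Q₀, hQ₀⟩ : ∃ Q₀ : Subgroup Y, Q₀ = Q ⊓ Tf := ⟨_, rfl⟩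
  have hQ₀Q : Q₀ ≤ Q := by rw [hQ₀]; exact inf_le_left
  have hQ₀T : Q₀ ≤ Tf := by rw [hQ₀]; exact inf_le_right
  have hQH : ∀ H : Subgroup Y, H ≠ ⊤ → (P : Subgroup Y) ≤ H → ⁅Q, H⁆ ≤ Q₀ := by
    intro H hH hPH
    rw [hQ₀]
    apply le_inf (Subgroup.commutator_le_left Q H)
    refine le_trans (le_inf ((Subgroup.commutator_le_left Q H).trans hQP) ?_) (hsub H hH hPH)
    exact Subgroup.commutator_mono (hQP.trans hPH) le_rfl
  have hconj : ∀ y : Y, (∀ q ∈ Q, ⁅q, y⁆ ∈ Q₀) → ∀ z ∈ Q₀, y * z * y⁻¹ ∈ Q₀ := by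
    intro y hy z hz
    have h1 := hy z (hQ₀Q hz)
    have h2 := Q₀.mul_mem (Q₀.inv_mem h1) hz
    have e : ⁅z, y⁆⁻¹ * z = y * z * y⁻¹ := by rw [commutatorElement_def]; group
    rwa [e] at h2
  have hmulc : ∀ y₁ y₂ : Y, (∀ q ∈ Q, ⁅q, y₁⁆ ∈ Q₀) → (∀ q ∈ Q, ⁅q, y₂⁆ ∈ Q₀) →
      ∀ q ∈ Q, ⁅q, y₁ * y₂⁆ ∈ Q₀ := by
    intro y₁ y₂ h1 h2 q hq
    have e : ⁅q, y₁ * y₂⁆ = ⁅q, y₁⁆ * (y₁ * ⁅q, y₂⁆ * y₁⁻¹) := by
      simp only [commutatorElement_def]; group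
    rw [e]
    exact Q₀.mul_mem (h1 q hq) (hconj y₁ h1 _ (h2 q hq))
  obtain ⟨L, hL⟩ : ∃ L : Subgroup Y, ∀ y, y ∈ L ↔
      ((∀ q ∈ Q, ⁅q, y⁆ ∈ Q₀) ∧ ∀ q ∈ Q, ⁅q, y⁻¹⁆ ∈ Q₀) :=
    ⟨{ carrier := {y | (∀ q ∈ Q, ⁅q, y⁆ ∈ Q₀) ∧ ∀ q ∈ Q, ⁅q, y⁻¹⁆ ∈ Q₀}
       one_mem' := by
        constructor
        · intro q _
          rw [commutatorElement_def, mul_one, inv_one, mul_one, mul_inv_cancel]
          exact Q₀.one_mem
        · intro q _
          rw [commutatorElement_def, inv_one, mul_one, inv_one, mul_one, mul_inv_cancel]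
          exact Q₀.one_mem
       mul_mem' := fun {a b} ha hb => by
        constructor
        · exact hmulc a b ha.1 hb.1
        · rw [mul_inv_rev]
          exact hmulc b⁻¹ a⁻¹ hb.2 ha.2
       inv_mem' := fun {a} ha => by
        refine ⟨ha.2, ?_⟩
        rw [inv_inv]
        exact ha.1 }, fun y => Iff.rfl⟩
  have hHL : ∀ H : Subgroup Y, H ≠ ⊤ → (P : Subgroup Y) ≤ H → H ≤ L := by
    intro H hH hPH h hh
    rw [hL]
    constructor
    · intro q hq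
      exact hQH H hH hPH (Subgroup.commutator_mem_commutator hq hh)
    · intro q hq
      exact hQH H hH hPH (Subgroup.commutator_mem_commutator hq (H.inv_mem hh))
  have hQL : ⁅Q, L⁆ ≤ Q₀ := by
    rw [Subgroup.commutator_le]
    intro q hq y hy
    exact ((hL y).mp hy).1 q hq
  have hPL : (P : Subgroup Y) ≤ L := hHL _ hPtop le_rfl
  have hD : ⁅Q, (⊤ : Subgroup Y)⁆ ≤ Q₀ := by
    by_cases hLtop : L = ⊤
    · rw [← hLtop]; exact hQL
    · exact lemma_TE P L hPL (fun H hPH hH => hHL H hH hPH) Q hQp (hQP.trans hPL) Q₀ hQ₀Q hQL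
        g hgP hgQ hEngel
  refine (central_transfer P Q hQP).trans (sup_le ?_ (hD.trans hQ₀T))
  have := hsub _ hPtop le_rfl
  have hPP : ⁅(P : Subgroup Y), (P : Subgroup Y)⁆ ≤ (P : Subgroup Y) := by
    rw [Subgroup.commutator_le]
    intro a ha b hb
    rw [commutatorElement_def]
    exact Subgroup.mul_mem _ (Subgroup.mul_mem _ (Subgroup.mul_mem _ ha hb)
      (Subgroup.inv_mem _ ha)) (Subgroup.inv_mem _ hb)
  exact le_trans (le_inf hPP le_rfl) this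

end core

end Cfsg.Agent.Lib.Helper33
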