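import Cfsg.Agent.Lib.Helper33.TransCases

set_option autoImplicit false
set_option linter.style.haveILetI false
set_option linter.unusedSectionVars false

universe u

namespace Cfsg.Agent.Lib.Helper33

open Cfsg Subgroup
open scoped commutatorElement

variable {p : ℕ} [Fact p.Prime] {𝓦 : Set (∀ (Q : Type u) [Group Q], Subgroup Q)}

/-- **Case 1** (transfer): lifting from the quotient by a normal `p'`-subgroup. -/
theorem focLe_case1 {X : Type u} [Group X] [Finite X] (h𝓦 : ∀ W ∈ 𝓦, IsCharPFunctor.{u} p W)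
    (P : Sylow p X) (K : Subgroup X) [hKn : K.Normal] (hK : (Nat.card K).Coprime p)
    (hq : (P : Subgroup X).map (QuotientGroup.mk' K) ⊓ ⁅(⊤ : Subgroup (X ⧸ K)), ⊤⁆ ≤
      FocW (indFam 𝓦 (X ⧸ K)) ((P : Subgroup X).map (QuotientGroup.mk' K))) :
    (P : Subgroup X) ⊓ ⁅(⊤ : Subgroup X), ⊤⁆ ≤ FocW (indFam 𝓦 X) (P : Subgroup X) := by
  obtain ⟨π, hπ⟩ : ∃ π : X →* X ⧸ K, π = QuotientGroup.mk' K := ⟨_, rfl⟩
  have hπs : Function.Surjective π := by rw [hπ]; exact QuotientGroup.mk'_surjective K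
  have hker : π.ker = K := by rw [hπ]; exact QuotientGroup.ker_mk' K
  have hkerc : (Nat.card π.ker).Coprime p := by rw [hker]; exact hK
  rw [← hπ] at hq
  have hinj : ∀ q ∈ (P : Subgroup X), π q = 1 → q = 1 := by
    intro q hq hq1
    exact eq_one_of_mem_sylow_of_mem_coprime P K hK hq (by rw [← hker]; exact hq1)
  have hclaim : FocW (indFam 𝓦 (X ⧸ K)) ((P : Subgroup X).map π) ≤
      (FocW (indFam 𝓦 X) (P : Subgroup X)).map π := by
    unfold FocW
    refine iSup₂_le ?_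
    rintro W' ⟨W, hW, rfl⟩
    rw [top_inf_eq]
    have hV : inducedFunctor W ((P : Subgroup X).map π) =
        (inducedFunctor W (P : Subgroup X)).map π :=
      (induced_map_of_injOn (h𝓦 W hW) π (P : Subgroup X) P.isPGroup' hinj).symm
    have hWP : inducedFunctor W (P : Subgroup X) ≤ (P : Subgroup X) := induced_le _
    have hWc : IsConjugacyFunctor p (inducedFunctor (G := X) W) :=
      isConjugacyFunctor_induced (h𝓦 W hW)
    have hPN : (P : Subgroup X) ≤
        normalizer ((inducedFunctor W (P : Subgroup X) : Subgroup X) : Set X) :=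
      Subgroup.le_normalizer.trans (normalizer_le_normalizer_functor hWc P.isPGroup')
    have hN : normalizer ((inducedFunctor W ((P : Subgroup X).map π) : Subgroup (X ⧸ K)) : Set (X ⧸ K)) ≤
        (normalizer ((inducedFunctor W (P : Subgroup X) : Subgroup X) : Set X)).map π := by
      intro n hn
      rw [hV] at hn
      obtain ⟨n₀, hn₀, rfl⟩ := Cfsg.Agent.Lib.Helper54.exists_mem_normalizer_map_eq p π hπs hkerc
        (inducedFunctor W (P : Subgroup X)) (P.isPGroup'.to_le hWP) n hn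
      exact ⟨n₀, hn₀, rfl⟩
    refine le_trans (inf_le_inf_left _ (Subgroup.commutator_mono hN hN)) ?_
    refine le_trans (map_inf_commutator_le π hkerc hPN) ?_
    apply Subgroup.map_mono
    exact le_focW (𝓦 := indFam 𝓦 X) (W := inducedFunctor W) ⟨W, hW, rfl⟩ (P : Subgroup X)
  rintro z ⟨hzP, hzc⟩
  have h1 : π z ∈ (P : Subgroup X).map π ⊓ ⁅(⊤ : Subgroup (X ⧸ K)), ⊤⁆ := by
    refine ⟨⟨z, hzP, rfl⟩, ?_⟩
    have : Subgroup.map π ⁅(⊤ : Subgroup X), ⊤⁆ ≤ ⁅(⊤ : Subgroup (X ⧸ K)), ⊤⁆ := by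
      rw [Subgroup.map_commutator]
      exact Subgroup.commutator_mono le_top le_top
    exact this ⟨z, hzc, rfl⟩
  obtain ⟨f, hf, hfz⟩ := hclaim (hq h1)
  have hfP : f ∈ (P : Subgroup X) := focW_le _ _ hf
  have h2 : f⁻¹ * z = 1 := by
    apply hinj _ ((P : Subgroup X).mul_mem ((P : Subgroup X).inv_mem hfP) hzP)
    rw [map_mul, map_inv, hfz, inv_mul_cancel]
  have : z = f := (inv_mul_eq_one.mp h2).symm
  rw [this]; exact hf

/-- **Case 5** (transfer). -/
theorem focLe_case5 {X : Type u} [Group X] [Finite X] (h𝓦 : ∀ W ∈ 𝓦, IsCharPFunctor.{u} p W)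
    (P : Sylow p X) (Q : Subgroup X) [hQ : Q.Normal] (hQP : Q ≤ (P : Subgroup X))
    (hfac : ∀ x : X, ∃ t ∈ (P : Subgroup X), ∃ c ∈ centralizer (Q : Set X), x = t * c)
    (hsubT : ∀ H : Subgroup X, H ≠ ⊤ → (P : Subgroup X) ≤ H →
      (P : Subgroup X) ⊓ ⁅H, H⁆ ≤ FocW (indFam 𝓦 X) (P : Subgroup X))
    (hPne : (P : Subgroup X) ≠ ⊤) (hPQ : ¬ (P : Subgroup X) ≤ Q)
    (hnorm : ∀ V : Subgroup X, Q < V → V ≤ (P : Subgroup X) → normalizer (V : Set X) ≠ ⊤)
    (hq : (P : Subgroup X).map (QuotientGroup.mk' Q) ⊓ ⁅(⊤ : Subgroup (X ⧸ Q)), ⊤⁆ ≤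
      FocW (indFam 𝓦 (X ⧸ Q)) ((P : Subgroup X).map (QuotientGroup.mk' Q))) :
    (P : Subgroup X) ⊓ ⁅(⊤ : Subgroup X), ⊤⁆ ≤ FocW (indFam 𝓦 X) (P : Subgroup X) := by
  obtain ⟨π, hπ⟩ : ∃ π : X →* X ⧸ Q, π = QuotientGroup.mk' Q := ⟨_, rfl⟩
  have hπs : Function.Surjective π := by rw [hπ]; exact QuotientGroup.mk'_surjective Q
  have hker : π.ker = Q := by rw [hπ]; exact QuotientGroup.ker_mk' Q
  rw [← hπ] at hq
  have hcomap : ((P : Subgroup X).map π).comap π = (P : Subgroup X) := by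
    rw [Subgroup.comap_map_eq, hker, sup_eq_left.mpr hQP]
  have hP'p : IsPGroup p ((P : Subgroup X).map π) := P.isPGroup'.map π
  have hP'ne : (P : Subgroup X).map π ≠ ⊥ := by
    intro h
    apply hPQ
    rw [← hcomap, h]
    intro x hx
    exact hker.le hx
  have hclaim : FocW (indFam 𝓦 (X ⧸ Q)) ((P : Subgroup X).map π) ≤
      (FocW (indFam 𝓦 X) (P : Subgroup X)).map π := by
    unfold FocW
    refine iSup₂_le ?_
    rintro W' ⟨W, hW, rfl⟩
    rw [top_inf_eq]
    have hWc : IsConjugacyFunctor p (inducedFunctor (G := X ⧸ Q) W) :=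
      isConjugacyFunctor_induced (h𝓦 W hW)
    obtain ⟨V, hV⟩ : ∃ V : Subgroup X, V = (inducedFunctor W ((P : Subgroup X).map π)).comap π :=
      ⟨_, rfl⟩
    have hVP : V ≤ (P : Subgroup X) := by
      have h1 : V ≤ ((P : Subgroup X).map π).comap π := by
        rw [hV]; exact Subgroup.comap_mono (functor_le hWc hP'p)
      rwa [hcomap] at h1
    have hkV : Q < V := by
      refine lt_of_le_of_ne (by rw [hV]; exact hker.ge.trans (Subgroup.ker_le_comap π _)) ?_
      intro he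
      have h1 := (hWc _ hP'p).2.1 hP'ne
      apply h1
      rw [eq_bot_iff]
      intro z hz
      obtain ⟨x, rfl⟩ := hπs z
      have : x ∈ V := by rw [hV]; exact hz
      rw [← he] at this
      exact Subgroup.mem_bot.mpr (MonoidHom.mem_ker.mp (hker.ge this))
    have hPV : (P : Subgroup X) ≤ normalizer (V : Set X) := by
      have h1 : ((P : Subgroup X).map π).comap π ≤
          (normalizer ((inducedFunctor W ((P : Subgroup X).map π) : Subgroup (X ⧸ Q)) :
            Set (X ⧸ Q))).comap π :=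
        Subgroup.comap_mono
          (Subgroup.le_normalizer.trans (normalizer_le_normalizer_functor hWc hP'p))
      have h2 := h1.trans (Subgroup.le_normalizer_comap π)
      rw [hcomap] at h2
      rw [hV]; exact h2
    have hNV : normalizer ((inducedFunctor W ((P : Subgroup X).map π) : Subgroup (X ⧸ Q)) :
        Set (X ⧸ Q)) ≤ (normalizer (V : Set X)).map π := by
      intro n hn
      obtain ⟨x, rfl⟩ := hπs n
      refine ⟨x, ?_, rfl⟩
      rw [hV]
      exact Subgroup.le_normalizer_comap π hn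
    refine le_trans (inf_le_inf_left _ (Subgroup.commutator_mono hNV hNV)) ?_
    rintro z ⟨⟨x, hx, rfl⟩, hz⟩
    rw [← Subgroup.map_commutator] at hz
    obtain ⟨y, hy, hyx⟩ := hz
    have hyP : y ∈ (P : Subgroup X) := by
      have h1 : x⁻¹ * y ∈ Q := by
        apply hker.le
        rw [MonoidHom.mem_ker, map_mul, map_inv, hyx, inv_mul_cancel]
      have : y = x * (x⁻¹ * y) := by group
      rw [this]
      exact (P : Subgroup X).mul_mem hx (hQP h1)
    refine ⟨y, ?_, hyx⟩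
    exact hsubT _ (hnorm V hkV hVP) hPV ⟨hyP, hy⟩
  rintro z ⟨hzP, hzc⟩
  have h1 : π z ∈ (P : Subgroup X).map π ⊓ ⁅(⊤ : Subgroup (X ⧸ Q)), ⊤⁆ := by
    refine ⟨⟨z, hzP, rfl⟩, ?_⟩
    have : Subgroup.map π ⁅(⊤ : Subgroup X), ⊤⁆ ≤ ⁅(⊤ : Subgroup (X ⧸ Q)), ⊤⁆ := by
      rw [Subgroup.map_commutator]
      exact Subgroup.commutator_mono le_top le_top
    exact this ⟨z, hzc, rfl⟩
  obtain ⟨f, hf, hfz⟩ := hclaim (hq h1)
  have hfc : f ∈ ⁅(⊤ : Subgroup X), ⊤⁆ := focW_le_commutator _ _ hf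
  have hqQ : f⁻¹ * z ∈ Q := by
    apply hker.le
    rw [MonoidHom.mem_ker, map_mul, map_inv, hfz, inv_mul_cancel]
  have hqc : f⁻¹ * z ∈ ⁅(⊤ : Subgroup X), ⊤⁆ := Subgroup.mul_mem _ (Subgroup.inv_mem _ hfc) hzc
  have hqP' : f⁻¹ * z ∈ ⁅(P : Subgroup X), (P : Subgroup X)⁆ :=
    inf_commutator_le_of_factor Q hQP hfac ⟨hqQ, hqc⟩
  have hqF : f⁻¹ * z ∈ FocW (indFam 𝓦 X) (P : Subgroup X) :=
    hsubT _ hPne le_rfl ⟨Subgroup.commutator_le_self _ hqP', hqP'⟩
  have : z = f * (f⁻¹ * z) := by group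
  rw [this]
  exact Subgroup.mul_mem _ hf hqF

/-- **Master theorem for transfer.** -/
theorem sec_master_T {G : Type u} [Group G] (h𝓦 : ∀ W ∈ 𝓦, IsCharPFunctor.{u} p W)
    (hloc : ∀ (X : Type u) [Group X] [Finite X], Sec G X →
      centralizer ((pCore p X : Subgroup X) : Set X) ≤ pCore p X →
      (∀ (Y : Type u) [Group Y] [Finite Y], Sec G Y → Nat.card Y < Nat.card X →
        FamilyControlsTransferIn p (indFam 𝓦 Y) ⊤) →
      FamilyControlsTransferIn p (indFam 𝓦 X) ⊤) :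
    ∀ (n : ℕ) (X : Type u) [Group X] [Finite X], Nat.card X = n → Sec G X →
      FamilyControlsTransferIn p (indFam 𝓦 X) ⊤ := by
  intro n
  induction n using Nat.strong_induction_on with
  | _ n ih =>
  intro X _ _ hn hX
  obtain ⟨P⟩ : Nonempty (Sylow p X) := inferInstance
  apply fct_of_focLe P.isPGroup' P.not_dvd_index
  have h𝓦X := indFam_conj h𝓦 X
  have hfc : ∀ H : Subgroup X, H ≠ ⊤ → FamilyControlsTransferIn p (indFam 𝓦 X) H := by
    intro H hH
    apply fct_subgroup h𝓦 H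
    exact ih (Nat.card H) (hn ▸ card_subgroup_lt H hH) ↥H rfl (hX.trans (Sec.subgroup H))
  have hsubT : ∀ H : Subgroup X, H ≠ ⊤ → (P : Subgroup X) ≤ H →
      (P : Subgroup X) ⊓ ⁅H, H⁆ ≤ FocW (indFam 𝓦 X) (P : Subgroup X) := by
    intro H hH hPH
    exact focLe_of_fct h𝓦X (hfc H hH) hPH P.isPGroup' (sylow_not_dvd_relIndex P hPH)
  have hquo : ∀ (M : Subgroup X) [M.Normal], M ≠ ⊥ →
      (P : Subgroup X).map (QuotientGroup.mk' M) ⊓ ⁅(⊤ : Subgroup (X ⧸ M)), ⊤⁆ ≤
        FocW (indFam 𝓦 (X ⧸ M)) ((P : Subgroup X).map (QuotientGroup.mk' M)) := by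
    intro M _ hM
    have h1 := ih (Nat.card (X ⧸ M)) (hn ▸ card_quotient_lt M hM) (X ⧸ M) rfl
      (hX.trans (Sec.quotient M))
    exact focLe_of_fct (indFam_conj h𝓦 _) h1 le_top (P.isPGroup'.map _)
      (by rw [Subgroup.relIndex_top_right]
          exact not_dvd_index_map P _ (QuotientGroup.mk'_surjective M))
  -- Case 3
  by_cases h3 : centralizer ((pCore p X : Subgroup X) : Set X) ≤ pCore p X
  · have h1 := hloc X hX h3 (fun Y _ _ hY hlt => ih (Nat.card Y) (hn ▸ hlt) Y rfl hY)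
    have := focLe_of_fct h𝓦X h1 le_top P.isPGroup'
      (by rw [Subgroup.relIndex_top_right]; exact P.not_dvd_index)
    exact this
  -- Case 1
  by_cases h1 : pPrimeCore p X = ⊥
  swap
  · haveI := Cfsg.Agent.Lib.Helper55.pPrimeCore_normal' (G := X) p
    exact focLe_case1 h𝓦 P (pPrimeCore p X) (Cfsg.Agent.Lib.Helper55.pPrimeCore_card_coprime p)
      (hquo _ h1)
  have hQmax : ∀ V : Subgroup X, V ≤ (P : Subgroup X) → normalizer (V : Set X) = ⊤ →
      V ≤ pCore p X := by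
    intro V hVP hV
    haveI : V.Normal := Subgroup.normalizer_eq_top_iff.mp hV
    exact Cfsg.Agent.Lib.Helper55.le_pCore p V (P.isPGroup'.to_le hVP)
  -- Case 2
  by_cases h2 : pCore p X = ⊥
  · have hres := Cfsg.Agent.S1960.result P (indFam 𝓦 X) h𝓦X (by
      intro T hTP hTne _
      apply hfc
      intro htop
      have := hQmax T hTP htop
      rw [h2] at this
      exact hTne (eq_bot_iff.mpr this))
    exact focLe_of_fct h𝓦X hres le_top P.isPGroup'
      (by rw [Subgroup.relIndex_top_right]; exact P.not_dvd_index)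
  obtain ⟨Q, hQ⟩ : ∃ Q : Subgroup X, Q = pCore p X := ⟨_, rfl⟩
  haveI hQn : Q.Normal := by rw [hQ]; exact Cfsg.Agent.Lib.Helper55.pCore_normal' p
  have hQP : Q ≤ (P : Subgroup X) := by rw [hQ]; exact Cfsg.Agent.Lib.Helper11.pCore_le_sylow P
  rw [← hQ] at h3 h2 hQmax
  obtain ⟨C, hC⟩ : ∃ C : Subgroup X, C = centralizer (Q : Set X) := ⟨_, rfl⟩
  haveI hCn : C.Normal := by rw [hC]; infer_instance
  rw [← hC] at h3
  have hPC : ¬ (P : Subgroup X) ⊓ C ≤ Q := by
    intro h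
    apply h3
    have := le_sylow_of_central_sylow P h1 C (by
      intro z hz c hc
      rw [hC] at hc
      exact (Subgroup.mem_centralizer_iff.mp hc z (h hz)).symm)
    exact (le_inf this le_rfl).trans h
  have hnn : normalizer ((((P : Subgroup X) ⊓ C : Subgroup X)) : Set X) ≠ ⊤ :=
    fun htop => hPC (hQmax _ inf_le_left htop)
  -- Case 4
  by_cases h4 : (P : Subgroup X) ⊔ C = ⊤
  swap
  · apply focLe_of_goodT P
    apply case4_gen (GoodT (FocW (indFam 𝓦 X) (P : Subgroup X))) (fun h hBA => h.mono hBA)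
      (fun h1 h2 => h1.trans h2) (fun hc => GoodT.cent hc) ?_ C h4 hnn
    intro H hH hPH A g hg hA hAg
    exact goodT_of_le hPH (hsubT H hH hPH) hg hA hAg
  -- Case 5
  have hPQ : ¬ (P : Subgroup X) ≤ Q := fun h => hPC (inf_le_left.trans h)
  have hPne : (P : Subgroup X) ≠ ⊤ := by
    intro htop
    apply hPQ
    apply hQmax _ le_rfl
    rw [htop]
    exact Subgroup.normalizer_eq_top_iff.mpr inferInstance
  apply focLe_case5 h𝓦 P Q hQP ?_ hsubT hPne hPQ ?_ (hquo Q h2)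
  · intro x
    have hx : x ∈ (P : Subgroup X) ⊔ C := by rw [h4]; exact Subgroup.mem_top _
    obtain ⟨t, ht, c, hc, rfl⟩ := Subgroup.mem_sup_of_normal_right.mp hx
    exact ⟨t, ht, c, hC ▸ hc, rfl⟩
  · intro V hV hVP htop
    exact (not_le_of_gt hV) (hQmax V hVP htop)

end Cfsg.Agent.Lib.Helper33
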