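import Cfsg.Agent.Lib.Helper33.TransMaster

set_option autoImplicit false
set_option linter.style.haveILetI false
set_option linter.unusedSectionVars false

universe u

namespace Cfsg.Agent.Lib.Helper33

open Cfsg Subgroup
open scoped commutatorElement

variable {p : ℕ} [Fact p.Prime] {𝓦 : Set (∀ (Q : Type u) [Group Q], Subgroup Q)}

/-- Reduction modulo a normal `p`-subgroup `Q`: an element of `P ∩ X'` lies in `F₀ (Q ∩ X')`. -/
theorem exists_focW_mul_of_quot {X : Type u} [Group X] [Finite X]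
    (h𝓦 : ∀ W ∈ 𝓦, IsCharPFunctor.{u} p W)
    (P : Sylow p X) (Q : Subgroup X) [hQ : Q.Normal] (hQP : Q ≤ (P : Subgroup X))
    (hsubT : ∀ H : Subgroup X, H ≠ ⊤ → (P : Subgroup X) ≤ H →
      (P : Subgroup X) ⊓ ⁅H, H⁆ ≤ FocW (indFam 𝓦 X) (P : Subgroup X))
    (hPQ : ¬ (P : Subgroup X) ≤ Q)
    (hnorm : ∀ V : Subgroup X, Q < V → V ≤ (P : Subgroup X) → normalizer (V : Set X) ≠ ⊤)
    (hq : (P : Subgroup X).map (QuotientGroup.mk' Q) ⊓ ⁅(⊤ : Subgroup (X ⧸ Q)), ⊤⁆ ≤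
      FocW (indFam 𝓦 (X ⧸ Q)) ((P : Subgroup X).map (QuotientGroup.mk' Q))) :
    ∀ z ∈ (P : Subgroup X) ⊓ ⁅(⊤ : Subgroup X), ⊤⁆,
      ∃ f ∈ FocW (indFam 𝓦 X) (P : Subgroup X), f⁻¹ * z ∈ Q ⊓ ⁅(⊤ : Subgroup X), ⊤⁆ := by
  obtain ⟨π, hπ⟩ : ∃ π : X →* X ⧸ Q, π = QuotientGroup.mk' Q := ⟨_, rfl⟩
  have hπs : Function.Surjective π := by rw [hπ]; exact QuotientGroup.mk'_surjective Q
  have hker : π.ker = Q := by rw [hπ]; exact QuotientGroup.ker_mk' Q
  rw [← hπ] at hq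
  have hcomap : ((P : Subgroup X).map π).comap π = (P : Subgroup X) := by
    rw [Subgroup.comap_map_eq, hker, sup_eq_left.mpr hQP]
  have hP'p : IsPGroup p ((P : Subgroup X).map π) := P.isPGroup'.map π
  have hP'ne : (P : Subgroup X).map π ≠ ⊥ := by
    intro h
    apply hPQ
    rw [← hcomap, h]
    intro x hx
    exact hker.le hx
  have hclaim : FocW (indFam 𝓦 (X ⧸ Q)) ((P : Subgroup X).map π) ≤
      (FocW (indFam 𝓦 X) (P : Subgroup X)).map π := by
    unfold FocW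
    refine iSup₂_le ?_
    rintro W' ⟨W, hW, rfl⟩
    rw [top_inf_eq]
    have hWc : IsConjugacyFunctor p (inducedFunctor (G := X ⧸ Q) W) :=
      isConjugacyFunctor_induced (h𝓦 W hW)
    obtain ⟨V, hV⟩ : ∃ V : Subgroup X, V = (inducedFunctor W ((P : Subgroup X).map π)).comap π :=
      ⟨_, rfl⟩
    have hVP : V ≤ (P : Subgroup X) := by
      have h1 : V ≤ ((P : Subgroup X).map π).comap π := by
        rw [hV]; exact Subgroup.comap_mono (functor_le hWc hP'p)
      rwa [hcomap] at h1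
    have hkV : Q < V := by
      refine lt_of_le_of_ne (by rw [hV]; exact hker.ge.trans (Subgroup.ker_le_comap π _)) ?_
      intro he
      have h1 := (hWc _ hP'p).2.1 hP'ne
      apply h1
      rw [eq_bot_iff]
      intro z hz
      obtain ⟨x, rfl⟩ := hπs z
      have : x ∈ V := by rw [hV]; exact hz
      rw [← he] at this
      exact Subgroup.mem_bot.mpr (MonoidHom.mem_ker.mp (hker.ge this))
    have hPV : (P : Subgroup X) ≤ normalizer (V : Set X) := by
      have h1 : ((P : Subgroup X).map π).comap π ≤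
          (normalizer ((inducedFunctor W ((P : Subgroup X).map π) : Subgroup (X ⧸ Q)) :
            Set (X ⧸ Q))).comap π :=
        Subgroup.comap_mono
          (Subgroup.le_normalizer.trans (normalizer_le_normalizer_functor hWc hP'p))
      have h2 := h1.trans (Subgroup.le_normalizer_comap π)
      rw [hcomap] at h2
      rw [hV]; exact h2
    have hNV : normalizer ((inducedFunctor W ((P : Subgroup X).map π) : Subgroup (X ⧸ Q)) :
        Set (X ⧸ Q)) ≤ (normalizer (V : Set X)).map π := by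
      intro n hn
      obtain ⟨x, rfl⟩ := hπs n
      refine ⟨x, ?_, rfl⟩
      rw [hV]
      exact Subgroup.le_normalizer_comap π hn
    refine le_trans (inf_le_inf_left _ (Subgroup.commutator_mono hNV hNV)) ?_
    rintro z ⟨⟨x, hx, rfl⟩, hz⟩
    rw [← Subgroup.map_commutator] at hz
    obtain ⟨y, hy, hyx⟩ := hz
    have hyP : y ∈ (P : Subgroup X) := by
      have h1 : x⁻¹ * y ∈ Q := by
        apply hker.le
        rw [MonoidHom.mem_ker, map_mul, map_inv, hyx, inv_mul_cancel]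
      have : y = x * (x⁻¹ * y) := by group
      rw [this]
      exact (P : Subgroup X).mul_mem hx (hQP h1)
    refine ⟨y, ?_, hyx⟩
    exact hsubT _ (hnorm V hkV hVP) hPV ⟨hyP, hy⟩
  rintro z ⟨hzP, hzc⟩
  have h1 : π z ∈ (P : Subgroup X).map π ⊓ ⁅(⊤ : Subgroup (X ⧸ Q)), ⊤⁆ := by
    refine ⟨⟨z, hzP, rfl⟩, ?_⟩
    have : Subgroup.map π ⁅(⊤ : Subgroup X), ⊤⁆ ≤ ⁅(⊤ : Subgroup (X ⧸ Q)), ⊤⁆ := by
      rw [Subgroup.map_commutator]
      exact Subgroup.commutator_mono le_top le_top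
    exact this ⟨z, hzc, rfl⟩
  obtain ⟨f, hf, hfz⟩ := hclaim (hq h1)
  have hfc : f ∈ ⁅(⊤ : Subgroup X), ⊤⁆ := focW_le_commutator _ _ hf
  have hqQ : f⁻¹ * z ∈ Q := by
    apply hker.le
    rw [MonoidHom.mem_ker, map_mul, map_inv, hfz, inv_mul_cancel]
  have hqc : f⁻¹ * z ∈ ⁅(⊤ : Subgroup X), ⊤⁆ := Subgroup.mul_mem _ (Subgroup.inv_mem _ hfc) hzc
  exact ⟨f, hf, hqQ, hqc⟩

end Cfsg.Agent.Lib.Helper33
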